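import Cfsg.Agent.Lib.Helper3.J3b.L1B0
import Cfsg.Agent.Lib.Helper3.J3b.L1B1
import Cfsg.Agent.Lib.Helper3.J3b.L1B2
import Cfsg.Agent.Lib.Helper3.J3b.L1B3
import Cfsg.Agent.Lib.Helper3.J3b.L1B4
import Cfsg.Agent.Lib.Helper3.J3b.L1B5
import Cfsg.Agent.Lib.Helper3.J3b.L1B6
import Cfsg.Agent.Lib.Helper3.J3b.L1B7
import Cfsg.Agent.Lib.Helper3.J3b.L1C0
import Cfsg.Agent.Lib.Helper3.J3b.L1C1
import Cfsg.Agent.Lib.Helper3.J3b.L1C2
import Cfsg.Agent.Lib.Helper3.J3b.L1C3
import Cfsg.Agent.Lib.Helper3.J3b.L1C4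
import Cfsg.Agent.Lib.Helper3.J3b.L1C5
import Cfsg.Agent.Lib.Helper3.J3b.L1C6
import Cfsg.Agent.Lib.Helper3.J3b.L1C7
import Cfsg.Agent.Lib.Helper3.J3b.L1C8
import Cfsg.Agent.Lib.Helper3.J3b.L1C9
import Cfsg.Agent.Lib.Helper3.J3b.L1C10
import Cfsg.Agent.Lib.Helper3.J3b.L1H0
import Cfsg.Agent.Lib.Helper3.J3b.L1H1
import Cfsg.Agent.Lib.Helper3.J3b.L1H2
import Cfsg.Agent.Lib.Helper3.J3b.L1H3
import Cfsg.Agent.Lib.Helper3.J3b.L1H4
import Cfsg.Agent.Lib.Helper3.J3b.L1H5
import Cfsg.Agent.Lib.Helper3.J3b.L1H6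
import Cfsg.Agent.Lib.Helper3.J3b.L1H7
import Cfsg.Agent.Lib.Helper3.J3b.L1H8
import Cfsg.Agent.Lib.Helper3.J3b.L1H9

set_option autoImplicit false
set_option maxRecDepth 100000

namespace Cfsg.Agent.Lib.Helper3.J3b.L1

open Cfsg.Agent.Lib.Helper11 Cfsg.Agent.Lib.Helper3

set_option maxHeartbeats 0
set_option Elab.async false

theorem chkAll : ∀ j < 305, blk fc sc rt.get Cfsg.Agent.Lib.Helper3.J3b.INV isH j = true :=
  guardB_spec (D := 9) (allR_join (allR_join (allR_join (allR_join b0 b1 (by norm_num)) (allR_join b2 b3 (by norm_num)) (by norm_num)) (allR_join (allR_join b4 b5 (by norm_num)) (allR_join b6 b7 (by norm_num)) (by norm_num)) (by norm_num)) (allR_join (allR_join (allR_join b8 b9 (by norm_num)) (allR_join b10 b11 (by norm_num)) (by norm_num)) (allR_join (allR_join b12 b13 (by norm_num)) (allR_join b14 b15 (by norm_num)) (by norm_num)) (by norm_num)) (by norm_num)) (by norm_num)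

theorem clAll : ∀ jb < 642, cblk fc nc cc (256 * 305) 20520 79228162514264337593543950336 gens jb = true :=
  guardB_spec (D := 10) (allR_join (allR_join (allR_join (allR_join (allR_join c0 c1 (by norm_num)) (allR_join c2 c3 (by norm_num)) (by norm_num)) (allR_join (allR_join c4 c5 (by norm_num)) (allR_join c6 c7 (by norm_num)) (by norm_num)) (by norm_num)) (allR_join (allR_join (allR_join c8 c9 (by norm_num)) (allR_join c10 c11 (by norm_num)) (by norm_num)) (allR_join (allR_join c12 c13 (by norm_num)) (allR_join c14 c15 (by norm_num)) (by norm_num)) (by norm_num)) (by norm_num)) (allR_join (allR_join (allR_join (allR_join c16 c17 (by norm_num)) (allR_join c18 c19 (by norm_num)) (by norm_num)) (allR_join (allR_join c20 c21 (by norm_num)) (allR_join c22 c23 (by norm_num)) (by norm_num)) (by norm_num)) (allR_join (allR_join (allR_join c24 c25 (by norm_num)) (allR_join c26 c27 (by norm_num)) (by norm_num)) (allR_join (allR_join c28 c29 (by norm_num)) (allR_join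 c30 c31 (by norm_num)) (by norm_num)) (by norm_num)) (by norm_num)) (by norm_num)) (by norm_num)

theorem hid : BR.all (wordId (ntOf Cfsg.Agent.Lib.Helper3.J3b.ntl) 15) = true := by
  simp only [BR, List.all_append, hidg_0, hidg_1, hidg_2, hidg_3, hidg_4, hidg_5, hidg_6, hidg_7, hidg_8, hidg_9, Bool.and_self]

theorem card_eq : Nat.card (lgrp (vL Cfsg.Agent.Lib.Helper3.J3b.ntl Cfsg.Agent.Lib.Helper3.J3b.deg) gens) = 20520 * Nat.card (lgrp (vL Cfsg.Agent.Lib.Helper3.J3b.ntl Cfsg.Agent.Lib.Helper3.J3b.deg) hl) :=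
  Cfsg.Agent.Lib.Helper3.J3b.setup.level gens hl dl BR (by decide +kernel) (by decide +kernel) hid (by decide +kernel)
    (by decide +kernel) rt (by decide +kernel) isH (fun l h => of_decide_eq_true h) fc sc nc cc 305 642 20520 79228162514264337593543950336
    (by norm_num) (by norm_num) (by decide +kernel) (by decide) chkAll clAll
    0 0 18 (by norm_num [Cfsg.Agent.Lib.Helper3.J3b.deg]) (by norm_num [Cfsg.Agent.Lib.Helper3.J3b.deg]) (by decide +kernel) (by decide +kernel)

theorem ub {M : Type*} [Group M] (w : ℕ → M) (h0 : w 0 = 1) (hinv : ∀ l, w (invL Cfsg.Agent.Lib.Helper3.J3b.INV l) = (w l)⁻¹)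
    (hBR : ∀ r ∈ BR, (r.map w).prod = 1)
    (hdlr : ∀ r ∈ dl.map (fun p => p.1 ++ [p.2]), (r.map w).prod = 1) (N : ℕ) (hN : Bd w hl N) :
    Bd w gens (20520 * N) :=
  level_bd w Cfsg.Agent.Lib.Helper3.J3b.INV h0 hinv gens hl dl BR (by decide +kernel) hdlr hBR (by decide +kernel) (by decide +kernel)
    rt (by decide +kernel) isH (fun l h => of_decide_eq_true h) fc sc nc cc 305 642 20520 79228162514264337593543950336
    (by norm_num) (by norm_num) (by decide +kernel) (by decide) chkAll clAll N hN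

end Cfsg.Agent.Lib.Helper3.J3b.L1
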