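import Cfsg.Agent.Lib.Helper3.J3b.L1D
import Cfsg.Agent.Lib.Helper3.J3b.Net

set_option autoImplicit false
set_option maxRecDepth 100000

namespace Cfsg.Agent.Lib.Helper3.J3b.L1

open Cfsg.Agent.Lib.Helper11 Cfsg.Agent.Lib.Helper3

set_option maxHeartbeats 0
set_option Elab.async false

noncomputable def fc (i : ℕ) : ℕ := (Bool.rec (Bool.rec (Bool.rec (Bool.rec (fc0_0 i) (fc0_1 i) (Nat.ble 16 i)) (Bool.rec (fc0_2 i) (Bool.rec (fc0_3 i) (fc0_4 i) (Nat.ble 64 i)) (Nat.ble 48 i)) (Nat.ble 32 i)) (Bool.rec (Bool.rec (fc0_5 i) (fc0_6 i) (Nat.ble 96 i)) (Bool.rec (fc0_7 i) (Bool.rec (fc0_8 i) (fc0_9 i) (Nat.ble 144 i)) (Nat.ble 128 i)) (Nat.ble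 112 i)) (Nat.ble 80 i)) (Bool.rec (Bool.rec (Bool.rec (fc0_10 i) (fc0_11 i) (Nat.ble 176 i)) (Bool.rec (fc0_12 i) (Bool.rec (fc0_13 i) (fc0_14 i) (Nat.ble 224 i)) (Nat.ble 208 i)) (Nat.ble 192 i)) (Bool.rec (Bool.rec (fc0_15 i) (fc0_16 i) (Nat.ble 256 i)) (Bool.rec (fc0_17 i) (Bool.rec (fc0_18 i) (fc0_19 i) (Nat.ble 304 i)) (Nat.ble 288 i)) (Nat.ble 272 i)) (Nat.ble 240 i)) (Nat.ble 160 i))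
noncomputable def sc (i : ℕ) : ℕ := (Bool.rec (Bool.rec (Bool.rec (Bool.rec (sc0_0 i) (sc0_1 i) (Nat.ble 16 i)) (Bool.rec (sc0_2 i) (Bool.rec (sc0_3 i) (sc0_4 i) (Nat.ble 64 i)) (Nat.ble 48 i)) (Nat.ble 32 i)) (Bool.rec (Bool.rec (sc0_5 i) (sc0_6 i) (Nat.ble 96 i)) (Bool.rec (sc0_7 i) (Bool.rec (sc0_8 i) (sc0_9 i) (Nat.ble 144 i)) (Nat.ble 128 i)) (Nat.ble 112 i)) (Nat.ble 80 i)) (Bool.rec (Bool.rec (Bool.rec (sc0_10 i) (sc0_11 i) (Nat.ble 176 i)) (Bool.rec (sc0_12 i) (Bool.rec (sc0_13 i) (sc0_14 i) (Nat.ble 224 i)) (Nat.ble 208 i)) (Nat.ble 192 i)) (Bool.rec (Bool.rec (sc0_15 i) (sc0_16 i) (Nat.ble 256 i)) (Bool.rec (sc0_17 i) (Bool.rec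 (sc0_18 i) (sc0_19 i) (Nat.ble 304 i)) (Nat.ble 288 i)) (Nat.ble 272 i)) (Nat.ble 240 i)) (Nat.ble 160 i))
noncomputable def nc (i : ℕ) : ℕ := (Bool.rec (nc0_0 i) (Bool.rec (nc0_1 i) (nc0_2 i) (Nat.ble 32 i)) (Nat.ble 16 i))
noncomputable def cc (i : ℕ) : ℕ := (Bool.rec (Bool.rec (Bool.rec (Bool.rec (Bool.rec (cc0_0 i) (cc0_1 i) (Nat.ble 16 i)) (Bool.rec (cc0_2 i) (Bool.rec (cc0_3 i) (cc0_4 i) (Nat.ble 64 i)) (Nat.ble 48 i)) (Nat.ble 32 i)) (Bool.rec (Bool.rec (cc0_5 i) (cc0_6 i) (Nat.ble 96 i)) (Bool.rec (cc0_7 i) (Bool.rec (cc0_8 i) (cc0_9 i) (Nat.ble 144 i)) (Nat.ble 128 i)) (Nat.ble 112 i)) (Nat.ble 80 i)) (Bool.rec (Bool.rec (Bool.rec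 (cc0_10 i) (cc0_11 i) (Nat.ble 176 i)) (Bool.rec (cc0_12 i) (Bool.rec (cc0_13 i) (cc0_14 i) (Nat.ble 224 i)) (Nat.ble 208 i)) (Nat.ble 192 i)) (Bool.rec (Bool.rec (cc0_15 i) (cc0_16 i) (Nat.ble 256 i)) (Bool.rec (cc0_17 i) (Bool.rec (cc0_18 i) (cc0_19 i) (Nat.ble 304 i)) (Nat.ble 288 i)) (Nat.ble 272 i)) (Nat.ble 240 i)) (Nat.ble 160 i)) (Bool.rec (Bool.rec (Bool.rec (Bool.rec (cc0_20 i) (cc0_21 i) (Nat.ble 336 i)) (Bool.rec (cc0_22 i) (Bool.rec (cc0_23 i) (cc0_24 i) (Nat.ble 384 i)) (Nat.ble 368 i)) (Nat.ble 352 i)) (Bool.rec (Bool.rec (cc0_25 i) (cc0_26 i) (Nat.ble 416 i)) (Bool.rec (cc0_27 i) (Bool.rec (cc0_28 i) (cc0_29 i) (Nat.ble 464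 i)) (Nat.ble 448 i)) (Nat.ble 432 i)) (Nat.ble 400 i)) (Bool.rec (Bool.rec (Bool.rec (cc0_30 i) (cc0_31 i) (Nat.ble 496 i)) (Bool.rec (cc0_32 i) (Bool.rec (cc0_33 i) (cc0_34 i) (Nat.ble 544 i)) (Nat.ble 528 i)) (Nat.ble 512 i)) (Bool.rec (Bool.rec (cc0_35 i) (Bool.rec (cc0_36 i) (cc0_37 i) (Nat.ble 592 i)) (Nat.ble 576 i)) (Bool.rec (cc0_38 i) (Bool.rec (cc0_39 i) (cc0_40 i) (Nat.ble 640 i)) (Nat.ble 624 i)) (Nat.ble 608 i)) (Nat.ble 560 i)) (Nat.ble 480 i)) (Nat.ble 320 i))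

def isH (l : ℕ) : Bool := decide (l ∈ [4, 5])
def gens : List ℕ := [1, 2]
def hl : List ℕ := [4, 5]
def dl : List (List ℕ × ℕ) := [([2], 3), ([3, 1, 2], 4), ([1, 2, 1, 2, 2, 1, 2, 1, 2, 1, 3, 1, 3, 1, 2, 2, 1], 6), ([6], 5)]
def BR_0 : List (List ℕ) := [[], [3, 1, 2, 4], [1, 2, 1, 2, 2, 1, 2, 1, 2, 1, 3, 1, 3, 1, 2, 2, 1, 6], [2, 2, 2, 2, 2], [3, 3, 3, 3, 3], [1, 2, 1, 2, 1, 2, 1, 2, 1, 2, 1, 2, 1, 2, 1, 2, 1, 2, 1, 2, 1, 2, 1, 2, 1, 2, 1, 2, 1, 2, 1, 2, 1, 2, 1, 2, 1, 2]]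
def BR_1 : List (List ℕ) := [[1, 3, 1, 3, 1, 3, 1, 3, 1, 3, 1, 3, 1, 3, 1, 3, 1, 3, 1, 3, 1, 3, 1, 3, 1, 3, 1, 3, 1, 3, 1, 3, 1, 3, 1, 3, 1, 3], [1, 2, 2, 1, 2, 2, 1, 2, 2, 1, 2, 2, 1, 2, 2, 1, 2, 2, 1, 2, 2, 1, 2, 2, 1, 2, 2, 1, 2, 2]]
def BR_2 : List (List ℕ) := [[1, 3, 3, 1, 3, 3, 1, 3, 3, 1, 3, 3, 1, 3, 3, 1, 3, 3, 1, 3, 3, 1, 3, 3, 1, 3, 3, 1, 3, 3], [1, 2, 2, 2, 1, 2, 2, 2, 1, 2, 2, 2, 1, 2, 2, 2, 1, 2, 2, 2, 1, 2, 2, 2, 1, 2, 2, 2, 1, 2, 2, 2, 1, 2, 2, 2, 1, 2, 2, 2]]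
def BR_3 : List (List ℕ) := [[1, 3, 3, 3, 1, 3, 3, 3, 1, 3, 3, 3, 1, 3, 3, 3, 1, 3, 3, 3, 1, 3, 3, 3, 1, 3, 3, 3, 1, 3, 3, 3, 1, 3, 3, 3, 1, 3, 3, 3], [2, 2, 1, 3, 1, 2, 1, 2, 2, 1, 2, 2, 1, 2, 2, 1, 5, 5, 4, 6, 4, 5, 5, 5, 4, 6, 4, 5, 5, 4, 6, 6, 4, 5]]
def BR_4 : List (List ℕ) := [[3, 3, 1, 2, 1, 2, 2, 1, 2, 2, 1, 3, 3, 1, 2, 1, 3, 4, 6, 6, 4, 5, 4, 6, 6, 6, 4, 5, 4, 6, 6], [1, 3, 3, 1, 2, 1, 2, 1, 2, 1, 2, 2, 1, 3, 3, 1, 2, 1, 4, 6, 4, 5, 4, 6, 6, 4, 5, 4, 5]]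
def BR_5 : List (List ℕ) := [[1, 3, 3, 1, 2, 2, 1, 2, 1, 2, 2, 1, 2, 2, 1, 2, 1, 2, 2, 5, 4, 5, 5, 5, 5, 4, 6, 4, 5, 5, 5, 4, 6, 6], [1, 3, 3, 1, 2, 1, 3, 1, 2, 2, 1, 2, 1, 2, 1, 2, 1, 2, 2, 6, 4, 5], [1, 2, 1, 3, 1, 2, 1, 3, 1, 2, 2, 1, 2, 1, 2, 1, 2, 2, 1, 6, 4, 5, 4, 6, 6, 4, 5, 4, 6, 4, 5, 4, 6, 6]]
def BR_6 : List (List ℕ) := [[1, 2, 1, 3, 3, 1, 2, 2, 1, 2, 1, 3, 1, 3, 3, 1, 3, 1, 2, 2, 1, 4, 5, 5, 4, 6, 6, 4, 5, 4, 6, 6, 6, 4, 5, 5], [2, 1, 3, 1, 2, 2, 1, 3, 1, 3, 1, 3, 1, 2, 1, 2, 2, 1, 3, 1, 3, 6, 6, 6, 4, 5, 5, 5, 4]]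
def BR_7 : List (List ℕ) := [[1, 3, 1, 2, 1, 2, 1, 3, 1, 2, 1, 3, 1, 2, 1, 3, 1, 3, 1, 2, 1, 4, 5, 4, 6, 6, 6, 4, 5, 5, 5, 4, 6, 4, 5, 5], [2, 2, 1, 3, 1, 3, 1, 3, 3, 1, 2, 2, 1, 3, 1, 2, 2, 1, 3, 3, 1, 3, 4, 5, 4, 6, 6, 4, 5, 4, 6, 6, 6, 4]]
def BR_8 : List (List ℕ) := [[2, 1, 2, 1, 2, 1, 3, 3, 1, 2, 2, 1, 2, 2, 1, 2, 1, 3, 3, 1, 2, 2, 4, 5, 4, 6, 6, 4, 5, 4, 6, 6, 6, 4, 6], [3, 3, 1, 2, 1, 2, 1, 2, 1, 2, 2, 1, 3, 1, 2, 2, 1, 2, 2, 1, 3, 1, 5, 5, 4, 6, 4, 5, 4]]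
def BR_9 : List (List ℕ) := [[1, 2, 1, 3, 1, 3, 3, 1, 3, 1, 2, 1, 3, 3, 1, 2, 1, 3, 1, 2, 1, 3, 4, 5, 4, 5, 5, 5, 4, 6, 4, 5], [1, 2, 1, 3, 1, 3, 3, 1, 3, 3, 1, 3, 1, 2, 1, 2, 1, 3, 3, 1, 3, 1, 5, 5, 5, 5, 4, 6, 4, 5, 5]]
def BR_10 : List (List ℕ) := [[2, 2, 1, 2, 2, 1, 3, 3, 1, 2, 1, 2, 2, 1, 3, 1, 2, 1, 2, 1, 2, 2, 4, 5, 4, 6, 4, 5, 4, 6, 4, 5, 4, 6, 6, 6, 4], [2, 2, 1, 2, 2, 1, 2, 1, 3, 1, 2, 1, 3, 1, 3, 1, 2, 2, 1, 3, 1, 3, 4, 5, 4, 6, 4, 5, 5, 4, 6, 4, 5, 5, 5, 4, 6, 4, 5]]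
def BR_11 : List (List ℕ) := [[1, 2, 1, 2, 2, 1, 3, 3, 1, 3, 1, 2, 1, 3, 1, 2, 2, 1, 2, 1, 2, 2, 4, 6, 4, 5, 5, 4, 6, 4, 5, 5, 4], [3, 3, 1, 2, 1, 2, 1, 3, 3, 1, 2, 2, 1, 3, 1, 3, 3, 1, 2, 1, 2, 1, 4, 5, 4, 6, 4, 5, 5, 4, 6, 4, 5, 5, 5]]
def BR_12 : List (List ℕ) := [[1, 3, 1, 2, 1, 3, 3, 1, 2, 1, 3, 1, 2, 2, 1, 3, 1, 3, 3, 1, 2, 1, 4, 5, 4, 6, 6, 4, 5, 4, 6, 4, 5, 4, 6, 6, 4], [2, 2, 1, 2, 1, 3, 3, 1, 3, 1, 2, 1, 3, 3, 1, 2, 1, 3, 3, 1, 2, 1, 4, 5, 5, 5, 4, 6, 6, 6, 4, 5, 4, 6, 6, 6, 4, 5]]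
def BR_13 : List (List ℕ) := [[2, 1, 2, 1, 2, 2, 1, 2, 2, 1, 2, 1, 2, 2, 1, 2, 2, 1, 3, 3, 1, 3, 4, 6, 4, 5, 5, 5, 4, 6, 4, 5, 4], [1, 3, 3, 1, 3, 1, 2, 2, 1, 3, 3, 1, 2, 2, 1, 2, 1, 2, 1, 2, 1, 3, 1, 4, 6, 4, 5, 5, 5, 4, 6, 6, 4, 5, 4]]
def BR_14 : List (List ℕ) := [[2, 2, 1, 3, 1, 3, 1, 3, 1, 3, 1, 2, 1, 2, 1, 3, 1, 2, 1, 3, 1, 3, 3, 4, 6, 6, 4, 5, 4, 6, 6, 6, 4, 5, 4, 6], [2, 2, 1, 2, 2, 1, 3, 1, 3, 1, 2, 1, 2, 1, 2, 2, 1, 2, 1, 3, 1, 2, 2, 4, 5, 5, 5, 4, 6, 4, 5, 4]]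
def BR_15 : List (List ℕ) := [[2, 2, 1, 3, 3, 1, 3, 1, 2, 2, 1, 2, 1, 2, 1, 2, 1, 2, 1, 2, 2, 1, 3, 5, 4, 6, 4, 5, 5, 4, 6, 6, 4, 5], [3, 3, 1, 3, 1, 2, 1, 3, 1, 3, 1, 2, 2, 1, 3, 1, 2, 1, 3, 3, 1, 3, 3, 4, 5, 5, 5, 4, 6, 6, 6, 4, 5, 4, 6]]
def BR_16 : List (List ℕ) := [[3, 3, 1, 2, 1, 3, 3, 1, 3, 1, 2, 1, 3, 3, 1, 3, 1, 3, 3, 1, 2, 1, 3, 5, 5, 4, 6, 4, 5, 4, 6, 4, 5, 4, 6, 4, 5, 4, 6], [1, 3, 1, 3, 1, 2, 1, 2, 1, 3, 1, 2, 2, 1, 3, 1, 2, 2, 1, 3, 1, 3, 3, 4, 5, 5, 5, 4, 6, 6, 4, 5, 5, 4]]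
def BR_17 : List (List ℕ) := [[1, 3, 3, 1, 2, 2, 1, 2, 2, 1, 3, 1, 2, 1, 3, 3, 1, 3, 3, 1, 2, 2, 1, 4, 5, 5, 4, 6, 4, 5, 5, 4, 6, 6, 4, 5, 5], [3, 3, 1, 2, 1, 3, 3, 1, 2, 1, 3, 1, 2, 1, 3, 3, 1, 3, 1, 2, 2, 1, 3, 5, 4, 6, 4, 5, 4, 6, 4, 5, 5, 4]]
def BR_18 : List (List ℕ) := [[1, 2, 2, 1, 2, 2, 1, 2, 1, 3, 1, 2, 1, 3, 1, 2, 1, 3, 1, 2, 2, 1, 3, 5, 4, 6, 6, 4, 5, 4, 6, 6, 6, 4, 5, 4, 6, 6, 4, 5, 5], [2, 1, 2, 1, 2, 1, 2, 2, 1, 2, 2, 1, 3, 3, 1, 3, 3, 1, 3, 1, 3, 1, 3, 6, 4, 5, 4, 6, 4, 5, 4, 6, 4, 5, 4, 6, 4, 5]]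
def BR_19 : List (List ℕ) := [[2, 2, 1, 2, 1, 3, 1, 2, 2, 1, 3, 1, 3, 3, 1, 2, 2, 1, 2, 1, 3, 1, 3, 4, 5, 5, 4, 6, 6, 4, 5, 4, 6, 6, 6, 4, 5, 5, 5, 4], [3, 3, 1, 3, 3, 1, 2, 2, 1, 2, 1, 2, 1, 3, 1, 3, 3, 1, 2, 1, 2, 2, 1, 4, 6, 4, 5, 4, 6, 6, 4, 5, 5, 5, 4]]
def BR_20 : List (List ℕ) := [[1, 2, 2, 1, 3, 1, 3, 3, 1, 2, 1, 2, 2, 1, 2, 1, 2, 2, 1, 2, 1, 2, 2, 4, 6, 6, 6, 4, 5, 5, 5, 4, 6, 4, 5, 5, 5, 4, 6, 6], [1, 3, 1, 3, 3, 1, 2, 2, 1, 3, 3, 1, 2, 1, 2, 2, 1, 2, 1, 3, 1, 2, 1, 4, 5, 5, 5, 5, 4, 6, 6, 6]]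
def BR_21 : List (List ℕ) := [[2, 2, 1, 2, 1, 3, 1, 2, 2, 1, 2, 2, 1, 3, 3, 1, 3, 1, 2, 1, 2, 2, 1, 5, 5, 5, 4, 6, 6, 4], [1, 3, 3, 1, 2, 1, 3, 1, 3, 1, 2, 2, 1, 2, 2, 1, 2, 1, 2, 2, 1, 3, 1, 4, 6, 6, 6, 4, 5, 5, 5, 4, 6, 4, 5, 5, 4, 6, 6]]
def BR_22 : List (List ℕ) := [[2, 1, 2, 1, 3, 3, 1, 2, 2, 1, 3, 3, 1, 3, 1, 3, 1, 2, 1, 2, 1, 2, 1, 3, 5, 5, 4, 6, 4, 5, 4, 6, 4, 5, 4, 6, 4], [1, 3, 3, 1, 2, 1, 3, 3, 1, 2, 2, 1, 2, 1, 3, 3, 1, 3, 3, 1, 2, 2, 1, 3, 4, 6, 4, 5, 5, 5, 5]]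
def BR_23 : List (List ℕ) := [[1, 2, 1, 3, 1, 3, 3, 1, 2, 2, 1, 3, 1, 2, 1, 3, 1, 3, 1, 3, 3, 1, 2, 2, 5, 4, 6, 6, 6, 6, 4, 6], [1, 2, 1, 2, 1, 3, 3, 1, 3, 1, 2, 2, 1, 3, 1, 2, 1, 2, 1, 2, 1, 3, 1, 3, 4, 5], [1, 2, 2, 1, 2, 1, 2, 2, 1, 2, 1, 2, 2, 1, 3, 1, 3, 1, 2, 1, 3, 3, 1, 3, 5, 4, 5, 5, 5, 4, 6, 6, 4, 5, 4]]
def BR_24 : List (List ℕ) := [[1, 2, 2, 1, 3, 3, 1, 2, 1, 2, 1, 2, 2, 1, 2, 1, 3, 1, 2, 1, 2, 1, 3, 3, 5, 5, 4, 6, 4, 5, 4, 6, 4, 5, 5, 4, 6, 4], [2, 1, 2, 1, 3, 3, 1, 2, 1, 3, 1, 3, 1, 2, 1, 2, 1, 3, 1, 3, 3, 1, 2, 2, 4, 6, 6, 4, 5, 4, 6, 6, 4, 5, 4, 6, 6]]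
def BR_25 : List (List ℕ) := [[2, 1, 2, 1, 2, 1, 3, 1, 3, 1, 2, 1, 3, 1, 3, 1, 3, 1, 3, 1, 2, 1, 3, 1, 4, 5, 5, 5, 4, 6, 4, 5, 5, 5, 4, 6, 6, 6, 4, 5], [2, 2, 1, 3, 3, 1, 3, 1, 3, 1, 3, 1, 2, 1, 3, 1, 3, 1, 3, 3, 1, 3, 3, 1, 6, 6, 6, 4, 5, 4, 6, 6, 4, 5, 5]]
def BR_26 : List (List ℕ) := [[1, 3, 1, 3, 1, 2, 1, 3, 3, 1, 2, 2, 1, 2, 2, 1, 3, 1, 3, 3, 1, 3, 3, 1, 4, 6, 4, 5, 5, 5, 4, 6, 6, 4], [2, 1, 2, 1, 3, 1, 3, 3, 1, 3, 3, 1, 2, 1, 3, 3, 1, 2, 2, 1, 2, 1, 3, 3, 5, 5, 4, 6, 6, 6, 4]]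
def BR_27 : List (List ℕ) := [[1, 3, 1, 3, 1, 2, 2, 1, 3, 3, 1, 2, 1, 2, 2, 1, 2, 2, 1, 2, 2, 1, 2, 1, 4, 5, 4, 5, 5, 5, 5, 4, 6, 4, 5, 5, 5, 4, 6, 4, 5, 5], [2, 1, 3, 1, 3, 3, 1, 2, 2, 1, 3, 1, 2, 1, 2, 1, 2, 2, 1, 3, 3, 1, 2, 2, 4, 6, 6, 6, 4, 5, 4, 6, 6, 6, 4, 5, 4, 6]]
def BR_28 : List (List ℕ) := [[2, 1, 3, 3, 1, 3, 3, 1, 2, 2, 1, 2, 1, 2, 2, 1, 2, 1, 3, 1, 3, 1, 3, 1, 4, 5, 4, 6, 6, 4, 5, 4, 6, 4, 5, 4, 6, 6, 4], [1, 3, 1, 3, 1, 3, 1, 2, 2, 1, 2, 1, 2, 2, 1, 3, 1, 3, 1, 3, 3, 1, 3, 3, 4, 5, 4, 5, 5, 5, 4, 6, 4, 5, 5, 4, 6, 4, 5]]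
def BR_29 : List (List ℕ) := [[2, 2, 1, 2, 1, 2, 1, 3, 1, 2, 1, 2, 2, 1, 3, 3, 1, 2, 1, 3, 3, 1, 3, 3, 4, 6, 4, 5, 5, 4, 6, 6, 6, 4, 5, 4], [2, 2, 1, 3, 3, 1, 2, 1, 2, 1, 2, 1, 2, 1, 2, 1, 2, 1, 2, 1, 3, 1, 2, 1, 6, 6, 4, 5, 5, 4, 6, 4, 5, 4, 6, 4, 5, 5, 5]]
def BR_30 : List (List ℕ) := [[1, 3, 3, 1, 2, 1, 3, 1, 3, 3, 1, 2, 2, 1, 2, 1, 3, 3, 1, 2, 2, 1, 2, 2, 5, 5, 4, 6, 4, 5, 4, 6, 6, 4, 5, 5], [1, 2, 1, 3, 3, 1, 3, 1, 3, 1, 3, 1, 2, 1, 2, 1, 3, 3, 1, 3, 3, 1, 3, 3, 4, 6, 6, 6, 4, 5, 4, 6, 6, 6, 4, 5, 4, 6, 6, 4, 5, 4]]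
def BR_31 : List (List ℕ) := [[1, 2, 1, 2, 1, 2, 1, 3, 3, 1, 3, 1, 2, 2, 1, 3, 1, 2, 1, 2, 2, 1, 3, 3, 4, 5, 4, 5, 5, 5, 5, 4, 5], [3, 3, 1, 2, 1, 3, 1, 3, 3, 1, 2, 2, 1, 2, 1, 3, 1, 3, 1, 3, 3, 1, 3, 3, 5, 5, 4, 6, 4, 5, 4, 6, 4, 5, 4, 6, 6, 4, 5, 4]]
def BR_32 : List (List ℕ) := [[1, 2, 1, 2, 1, 3, 1, 2, 1, 3, 1, 3, 1, 2, 1, 3, 1, 2, 1, 3, 1, 2, 1, 2, 1, 6, 4, 5, 5, 5, 4, 5], [2, 1, 2, 1, 2, 1, 3, 1, 2, 1, 2, 2, 1, 3, 3, 1, 3, 3, 1, 2, 2, 1, 3, 1, 3, 6, 6, 6, 4, 5, 4, 6, 6, 4, 5, 5, 5]]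
def BR_33 : List (List ℕ) := [[2, 2, 1, 2, 1, 3, 1, 2, 1, 2, 2, 1, 2, 1, 2, 1, 2, 1, 2, 1, 2, 2, 1, 3, 1, 6, 6, 6, 4, 5, 4, 6, 6, 4, 5], [2, 2, 1, 2, 1, 3, 3, 1, 3, 3, 1, 3, 1, 3, 1, 3, 3, 1, 2, 1, 3, 3, 1, 3, 3, 4, 6, 6, 6, 4, 5, 4, 6, 6, 6, 4, 5, 4, 6, 6, 4]]
def BR_34 : List (List ℕ) := [[2, 1, 3, 3, 1, 2, 1, 3, 1, 2, 1, 2, 1, 3, 1, 2, 1, 2, 2, 1, 3, 3, 1, 3, 3, 5, 5, 4, 6, 6, 4], [1, 2, 1, 3, 1, 2, 1, 3, 3, 1, 3, 3, 1, 2, 2, 1, 3, 3, 1, 2, 1, 2, 1, 3, 3, 6, 6, 4, 5, 5, 5, 4, 6, 4, 5, 5, 5, 4]]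
def BR_35 : List (List ℕ) := [[1, 2, 1, 3, 1, 2, 1, 2, 1, 3, 3, 1, 2, 2, 1, 3, 1, 2, 2, 1, 2, 2, 1, 2, 2, 6, 4, 5, 4, 6, 6, 4, 5, 5, 4, 6], [2, 2, 1, 2, 2, 1, 2, 2, 1, 3, 1, 2, 1, 2, 1, 3, 1, 3, 3, 1, 2, 1, 3, 1, 3, 6]]
def BR_36 : List (List ℕ) := [[2, 2, 1, 3, 1, 3, 1, 2, 2, 1, 2, 2, 1, 2, 1, 2, 2, 1, 3, 1, 2, 1, 2, 2, 1, 5, 5, 4, 6, 6, 4, 5, 4, 6, 6, 6, 4, 5, 5, 5, 4], [1, 2, 1, 3, 3, 1, 2, 1, 2, 1, 2, 1, 2, 1, 3, 1, 3, 1, 3, 3, 1, 3, 1, 3, 3, 4, 5, 5, 5, 4, 6, 4, 5, 5, 4, 6, 6, 6]]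
def BR_37 : List (List ℕ) := [[3, 3, 1, 2, 1, 3, 1, 3, 1, 2, 1, 2, 2, 1, 2, 1, 3, 1, 2, 1, 3, 1, 2, 2, 1, 5, 4, 6, 4, 5, 5, 4, 6], [2, 1, 2, 1, 3, 1, 3, 3, 1, 2, 1, 3, 1, 2, 1, 3, 1, 2, 2, 1, 2, 1, 3, 1, 3, 5, 4, 5, 5, 5, 4, 6, 6, 4, 5, 5, 4, 6]]
def BR_38 : List (List ℕ) := [[2, 2, 1, 2, 2, 1, 2, 1, 2, 1, 2, 1, 2, 2, 1, 2, 1, 2, 1, 3, 1, 3, 3, 1, 3, 6, 4, 5, 5, 5, 5, 4, 6, 4, 5, 5, 4, 6, 6, 4, 5], [1, 2, 1, 2, 1, 3, 1, 3, 1, 3, 3, 1, 2, 1, 2, 1, 3, 1, 2, 1, 2, 1, 2, 2, 1, 6, 6, 6, 4, 5, 5, 5, 4, 6]]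
def BR_39 : List (List ℕ) := [[2, 2, 1, 3, 3, 1, 2, 2, 1, 3, 1, 2, 1, 3, 1, 3, 1, 2, 1, 2, 2, 1, 2, 1, 3, 5, 4, 5, 5, 5, 5, 4, 6, 6, 6, 4], [2, 2, 1, 2, 1, 3, 1, 3, 1, 3, 1, 3, 1, 3, 1, 2, 1, 3, 3, 1, 2, 2, 1, 2, 1, 6, 6, 6, 4, 5, 4, 6, 6, 6, 4, 5, 4, 6, 6, 6]]
def BR_40 : List (List ℕ) := [[1, 3, 1, 3, 1, 3, 3, 1, 2, 2, 1, 2, 1, 3, 3, 1, 2, 2, 1, 2, 1, 2, 1, 2, 2, 4, 5, 5, 4, 6, 4, 5, 5, 5, 4, 6, 6], [1, 3, 3, 1, 2, 2, 1, 2, 2, 1, 3, 3, 1, 3, 1, 2, 2, 1, 2, 1, 3, 1, 2, 2, 1, 5, 5, 4, 6, 4, 5, 5, 5, 4, 6, 4, 5, 5, 5]]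
def BR_41 : List (List ℕ) := [[2, 2, 1, 2, 2, 1, 3, 3, 1, 3, 1, 2, 2, 1, 3, 1, 3, 1, 3, 1, 3, 3, 1, 2, 1, 5, 4, 6, 4, 5, 5, 4, 6, 6, 4, 5, 4], [1, 3, 1, 3, 1, 3, 3, 1, 3, 3, 1, 3, 1, 3, 1, 2, 2, 1, 2, 1, 2, 1, 3, 1, 3, 6, 6, 4, 5, 5, 5, 4, 6, 4, 5, 5, 5, 4, 6, 6, 6]]
def BR_42 : List (List ℕ) := [[1, 2, 2, 1, 2, 1, 3, 1, 2, 2, 1, 2, 1, 2, 2, 1, 3, 1, 3, 1, 2, 1, 2, 2, 1, 6, 6, 4, 5, 4, 6, 6, 4, 5, 5, 4, 6, 4, 5], [3, 3, 1, 2, 1, 2, 1, 3, 1, 3, 1, 2, 2, 1, 2, 2, 1, 3, 3, 1, 2, 2, 1, 2, 2, 4, 6, 4, 5, 5, 5, 4, 6, 4, 5, 5, 4, 6, 4, 5]]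
def BR_43 : List (List ℕ) := [[2, 1, 2, 1, 3, 1, 2, 1, 2, 1, 2, 1, 2, 1, 3, 1, 2, 2, 1, 2, 1, 3, 1, 3, 3, 6, 4, 6, 6, 6, 6, 4], [2, 1, 2, 2, 1, 2, 1, 3, 3, 1, 3, 1, 2, 1, 2, 1, 2, 1, 3, 3, 1, 2, 1, 2, 2, 5, 5, 5, 4, 6, 4, 5, 4, 6, 4, 5, 4, 6, 6, 6]]
def BR_44 : List (List ℕ) := [[2, 2, 1, 3, 1, 3, 1, 2, 1, 2, 2, 1, 2, 1, 2, 1, 3, 1, 3, 3, 1, 3, 1, 3, 3, 4, 5, 5, 5, 5, 4, 6, 6, 6, 4, 6], [1, 2, 2, 1, 2, 1, 2, 1, 2, 2, 1, 2, 1, 3, 1, 3, 3, 1, 3, 1, 3, 1, 3, 3, 1, 6, 6, 4, 5, 4, 6, 4, 5, 5]]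
def BR_45 : List (List ℕ) := [[3, 3, 1, 3, 1, 2, 1, 2, 2, 1, 2, 2, 1, 3, 1, 2, 1, 3, 1, 3, 3, 1, 2, 1, 3, 5, 5, 4, 6, 6, 4, 5, 4, 6, 4, 5, 5, 5, 4, 5], [2, 1, 3, 1, 3, 1, 2, 1, 2, 2, 1, 3, 1, 2, 1, 3, 3, 1, 3, 1, 2, 1, 2, 1, 3, 4, 6, 4, 5, 5, 4, 6, 6, 4, 5, 4, 6, 6, 6, 4, 6]]
def BR_46 : List (List ℕ) := [[3, 3, 1, 3, 3, 1, 3, 3, 1, 3, 1, 2, 2, 1, 3, 1, 3, 3, 1, 2, 1, 2, 1, 3, 1, 6, 6, 4, 5, 4, 6, 6, 6, 4, 5, 4, 6, 6, 4], [1, 2, 2, 1, 2, 2, 1, 3, 1, 3, 3, 1, 2, 1, 2, 1, 3, 1, 3, 1, 2, 1, 3, 1, 3, 6, 4, 5, 5, 4, 6, 4, 5, 4, 6, 4, 5, 5, 5, 4]]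
def BR_47 : List (List ℕ) := [[2, 1, 2, 1, 2, 1, 3, 3, 1, 3, 3, 1, 2, 2, 1, 2, 2, 1, 2, 1, 3, 3, 1, 2, 1, 5, 4, 5, 5, 5, 4, 6, 6, 4, 5, 5], [1, 3, 1, 2, 1, 2, 1, 2, 2, 1, 2, 1, 2, 2, 1, 2, 2, 1, 2, 1, 2, 2, 1, 2, 1, 4, 6, 4, 5, 4, 6, 6, 4, 5]]
def BR_48 : List (List ℕ) := [[2, 1, 3, 3, 1, 3, 1, 2, 1, 2, 1, 3, 1, 2, 1, 3, 1, 3, 1, 2, 1, 2, 2, 1, 3, 5, 5, 4, 6, 4, 5, 5, 4, 6, 6, 4, 5, 4, 6, 6], [2, 1, 2, 1, 2, 1, 3, 1, 3, 3, 1, 2, 2, 1, 3, 3, 1, 3, 1, 3, 1, 2, 2, 1, 3, 4, 6, 6, 4, 5, 4, 6, 6, 6, 4, 5, 5, 5, 4, 6]]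
def BR_49 : List (List ℕ) := [[1, 3, 1, 2, 1, 2, 1, 3, 1, 3, 3, 1, 2, 2, 1, 3, 3, 1, 3, 1, 2, 2, 1, 2, 1, 6, 6, 4, 5, 4, 6, 4, 5, 5, 4, 6, 4], [3, 3, 1, 2, 1, 3, 1, 2, 1, 2, 1, 2, 1, 3, 1, 3, 1, 3, 1, 2, 1, 3, 1, 2, 2, 4, 6, 6, 4, 5, 4, 6, 4, 5, 4, 6, 4, 5, 5, 4]]
def BR_50 : List (List ℕ) := [[2, 1, 3, 3, 1, 3, 1, 2, 1, 2, 2, 1, 2, 1, 3, 1, 3, 1, 3, 1, 2, 2, 1, 2, 2, 5, 4, 6, 6, 6, 6, 4], [2, 1, 2, 1, 3, 3, 1, 3, 3, 1, 2, 1, 2, 2, 1, 3, 1, 3, 3, 1, 3, 3, 1, 3, 3, 5, 5, 5, 4, 6, 4, 5, 5, 4, 6]]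
def BR_51 : List (List ℕ) := [[2, 2, 1, 3, 1, 3, 3, 1, 2, 2, 1, 2, 2, 1, 2, 1, 3, 3, 1, 3, 1, 2, 1, 2, 2, 4, 5, 4, 6, 4, 5, 5, 4, 6, 4, 5, 5, 5, 4], [2, 2, 1, 2, 1, 2, 1, 3, 3, 1, 3, 1, 2, 2, 1, 2, 1, 3, 1, 2, 1, 2, 1, 2, 2, 6, 4, 5, 5, 5]]
def BR_52 : List (List ℕ) := [[2, 2, 1, 2, 1, 2, 1, 2, 1, 3, 1, 2, 2, 1, 2, 1, 2, 2, 1, 2, 1, 3, 1, 3, 1, 5, 5, 5, 5, 4, 6, 6, 6, 4, 5, 4, 6], [1, 2, 2, 1, 2, 1, 2, 1, 3, 1, 3, 1, 2, 1, 2, 1, 3, 1, 3, 3, 1, 3, 3, 1, 2, 1, 4, 6, 4, 5, 5, 5, 5, 4, 6, 4, 5, 5, 5, 4, 6]]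
def BR_53 : List (List ℕ) := [[1, 2, 2, 1, 2, 1, 2, 1, 3, 1, 3, 1, 2, 2, 1, 3, 1, 2, 1, 2, 1, 2, 2, 1, 3, 3, 4, 6, 6, 4, 5, 4, 6, 6, 4, 5, 5, 4, 6, 4], [2, 2, 1, 3, 1, 2, 1, 3, 1, 2, 1, 3, 1, 2, 2, 1, 2, 2, 1, 3, 3, 1, 3, 3, 1, 3, 4, 6, 4, 5, 5, 5, 4, 6, 6, 6, 4, 5, 5, 5]]
def BR_54 : List (List ℕ) := [[1, 3, 3, 1, 3, 3, 1, 2, 1, 3, 1, 3, 1, 3, 1, 2, 1, 2, 1, 2, 1, 2, 1, 2, 2, 1, 4, 5, 4, 6, 6, 4, 5, 4, 6, 4, 5, 5, 5, 4, 6, 4], [2, 2, 1, 2, 1, 2, 1, 2, 1, 3, 3, 1, 2, 1, 2, 1, 3, 1, 3, 3, 1, 2, 2, 1, 2, 1, 5, 4, 6, 4, 5, 5, 4, 6, 4, 5, 4, 6, 6, 4, 5, 4, 6]]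
def BR_55 : List (List ℕ) := [[2, 2, 1, 2, 1, 2, 1, 2, 2, 1, 2, 2, 1, 2, 1, 3, 1, 3, 1, 3, 1, 2, 2, 1, 2, 1, 5, 4], [3, 3, 1, 2, 2, 1, 2, 1, 3, 1, 3, 3, 1, 2, 1, 3, 1, 2, 1, 3, 3, 1, 3, 3, 1, 3, 5, 5, 5, 5, 4, 6]]
def BR_56 : List (List ℕ) := [[1, 3, 3, 1, 2, 1, 2, 2, 1, 2, 2, 1, 2, 1, 2, 1, 3, 1, 3, 3, 1, 3, 1, 2, 1, 3, 4, 5, 4, 6, 4, 5, 5, 4, 6, 4, 5, 5, 4, 6], [1, 3, 3, 1, 3, 1, 2, 2, 1, 2, 1, 2, 2, 1, 3, 3, 1, 3, 1, 3, 1, 3, 1, 3, 3, 1, 4, 6, 6, 4, 5, 5, 5, 4, 5]]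
def BR_57 : List (List ℕ) := [[1, 3, 1, 3, 1, 3, 3, 1, 3, 1, 3, 1, 2, 1, 3, 1, 3, 1, 3, 1, 3, 3, 1, 2, 1, 3, 4, 6, 4, 6, 6, 6, 4, 5, 5], [2, 1, 2, 1, 2, 2, 1, 2, 1, 3, 1, 3, 1, 2, 2, 1, 2, 1, 3, 1, 3, 3, 1, 3, 3, 1, 6, 4, 5, 5, 5, 4, 6, 4, 5, 4, 6, 4, 5]]
def BR_58 : List (List ℕ) := [[1, 2, 1, 3, 3, 1, 2, 1, 2, 2, 1, 3, 3, 1, 3, 1, 2, 2, 1, 2, 2, 1, 3, 1, 2, 2, 4, 5, 5, 5, 4, 6, 4, 5, 5, 5, 4, 5], [2, 2, 1, 3, 1, 3, 3, 1, 2, 1, 2, 2, 1, 3, 1, 2, 1, 3, 1, 2, 2, 1, 2, 1, 3, 1, 5, 4, 6, 4, 5, 4, 6, 6, 4, 5, 4, 6, 6, 6, 4, 6]]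
def BR_59 : List (List ℕ) := [[2, 1, 3, 3, 1, 2, 1, 2, 1, 3, 1, 2, 2, 1, 3, 3, 1, 2, 1, 3, 1, 2, 1, 3, 3, 1, 5, 4, 6, 6, 4, 5, 5, 4, 6, 4, 5, 5, 5, 4, 6], [2, 1, 3, 3, 1, 2, 2, 1, 3, 1, 2, 1, 2, 2, 1, 2, 1, 2, 1, 3, 3, 1, 2, 1, 2, 1, 4, 6, 6, 4, 5, 4, 6, 6, 4, 5, 4, 6, 4, 5]]
def BR_60 : List (List ℕ) := [[1, 3, 1, 2, 1, 2, 2, 1, 3, 3, 1, 2, 1, 3, 1, 2, 1, 2, 1, 2, 1, 3, 3, 1, 3, 1, 6, 4, 5, 5, 4, 6, 4, 5, 5, 4, 6], [3, 3, 1, 3, 1, 2, 2, 1, 3, 1, 2, 1, 2, 2, 1, 2, 1, 3, 1, 2, 1, 2, 2, 1, 2, 1, 4, 6, 4, 5, 5, 4, 6, 4, 5, 5, 5, 4, 6, 4, 5, 5, 5]]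
def BR_61 : List (List ℕ) := [[2, 1, 3, 3, 1, 2, 1, 2, 1, 2, 1, 3, 1, 2, 1, 3, 1, 2, 1, 3, 3, 1, 2, 1, 2, 2, 5, 4, 5, 5, 5, 4, 6, 4, 5, 5, 5, 4, 6, 4, 5], [1, 2, 1, 3, 1, 2, 1, 2, 2, 1, 3, 1, 2, 2, 1, 3, 1, 2, 1, 2, 2, 1, 2, 1, 3, 3, 5, 5, 5, 4, 6, 6, 6, 4, 5, 5]]
def BR_62 : List (List ℕ) := [[2, 2, 1, 2, 1, 2, 1, 3, 3, 1, 2, 1, 2, 1, 3, 1, 3, 1, 3, 1, 2, 1, 3, 1, 3, 1, 6, 6, 4, 5, 5, 5, 4], [2, 1, 3, 1, 2, 1, 3, 1, 3, 1, 2, 1, 2, 1, 2, 2, 1, 3, 3, 1, 3, 1, 3, 1, 2, 2, 5, 4, 6, 6, 4, 5, 4, 6, 6, 6, 4, 5, 4]]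
def BR_63 : List (List ℕ) := [[1, 3, 1, 3, 1, 2, 1, 2, 1, 2, 2, 1, 2, 1, 3, 1, 2, 1, 2, 1, 2, 1, 2, 1, 3, 1, 6, 6, 4, 5, 4, 6, 4, 5, 4, 6, 4], [2, 1, 2, 1, 2, 2, 1, 2, 1, 3, 1, 2, 1, 2, 1, 2, 2, 1, 2, 1, 2, 2, 1, 2, 1, 3, 4, 5, 5, 4, 6, 4, 5, 5, 4, 6, 4, 5, 5]]
def BR_64 : List (List ℕ) := [[1, 2, 1, 2, 1, 3, 1, 3, 3, 1, 3, 1, 2, 1, 3, 1, 2, 1, 3, 3, 1, 2, 2, 1, 2, 2, 5, 4, 6, 4, 5, 4, 6, 4, 5, 4, 6, 4], [1, 3, 1, 2, 2, 1, 2, 1, 3, 1, 2, 2, 1, 2, 1, 2, 1, 2, 1, 2, 2, 1, 2, 1, 2, 1, 4, 6, 4, 5, 5, 5, 4, 6, 6, 6, 4, 5, 4]]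
def BR_65 : List (List ℕ) := [[2, 1, 2, 1, 3, 1, 2, 1, 3, 3, 1, 2, 1, 2, 1, 2, 2, 1, 2, 2, 1, 3, 3, 1, 3, 3, 4, 5, 4, 6, 6, 4, 5, 5, 4, 6, 4, 5, 5, 5, 4, 6, 6], [1, 3, 3, 1, 2, 2, 1, 3, 1, 3, 1, 3, 3, 1, 3, 3, 1, 2, 2, 1, 2, 2, 1, 3, 1, 3, 6, 6, 4, 5, 4, 6, 6, 4, 5, 4, 6, 4, 5, 5, 5, 4]]
def BR_66 : List (List ℕ) := [[1, 3, 1, 3, 1, 2, 2, 1, 3, 3, 1, 3, 3, 1, 3, 1, 3, 3, 1, 2, 1, 2, 2, 1, 2, 2, 6, 4, 5, 5, 4, 6, 4], [3, 3, 1, 2, 2, 1, 2, 2, 1, 2, 1, 3, 1, 2, 2, 1, 2, 2, 1, 3, 3, 1, 3, 1, 3, 3, 4, 5, 4, 6, 6, 6, 4, 5, 4, 6, 6, 4, 5, 4, 6, 4]]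
def BR_67 : List (List ℕ) := [[1, 2, 1, 3, 1, 3, 1, 3, 3, 1, 3, 1, 2, 2, 1, 2, 1, 3, 1, 3, 3, 1, 2, 2, 1, 3, 5, 4, 5, 5, 5, 4, 6, 4, 5, 5, 4, 6, 4, 5, 4, 6], [2, 2, 1, 2, 1, 3, 3, 1, 3, 1, 3, 1, 2, 1, 2, 1, 3, 1, 2, 1, 2, 1, 3, 3, 1, 3, 5, 5, 4, 6, 4, 5, 4, 6, 4, 5, 4, 6, 4, 5, 4]]
def BR_68 : List (List ℕ) := [[2, 1, 3, 3, 1, 2, 1, 3, 1, 3, 1, 2, 2, 1, 3, 3, 1, 3, 1, 3, 1, 2, 1, 3, 1, 3, 4, 5, 4, 5, 5, 5, 5, 4], [3, 3, 1, 2, 2, 1, 2, 2, 1, 3, 3, 1, 2, 1, 3, 3, 1, 3, 3, 1, 3, 3, 1, 3, 1, 3, 4, 6, 4, 5, 5, 5, 5, 4]]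
def BR_69 : List (List ℕ) := [[3, 3, 1, 3, 1, 2, 1, 3, 3, 1, 2, 2, 1, 3, 3, 1, 3, 1, 2, 1, 2, 1, 3, 1, 3, 1, 5, 4, 6, 4, 5, 5, 4, 6, 4, 5, 4, 6, 6, 4], [2, 1, 3, 3, 1, 2, 2, 1, 3, 1, 3, 1, 2, 1, 3, 3, 1, 3, 3, 1, 3, 1, 3, 1, 2, 1, 5, 4, 5, 5, 5, 4, 6, 4, 5, 4, 6]]
def BR_70 : List (List ℕ) := [[1, 3, 3, 1, 2, 2, 1, 3, 1, 3, 1, 2, 1, 2, 1, 3, 3, 1, 3, 3, 1, 2, 2, 1, 3, 3, 5, 5, 5, 4, 6, 4, 5, 4, 6, 4, 5, 4, 6, 6, 6], [2, 2, 1, 3, 1, 3, 3, 1, 3, 3, 1, 2, 2, 1, 3, 1, 3, 1, 2, 1, 2, 1, 2, 1, 3, 3, 5, 5, 4, 6, 4, 5, 5, 4, 6, 6, 4, 5]]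
def BR_71 : List (List ℕ) := [[2, 1, 3, 3, 1, 2, 2, 1, 3, 3, 1, 2, 1, 2, 2, 1, 2, 1, 3, 1, 2, 1, 3, 1, 2, 2, 4, 5, 5, 5, 5, 4, 6, 6, 6, 4, 5, 4, 6, 6, 6, 4], [1, 2, 2, 1, 3, 1, 2, 2, 1, 2, 2, 1, 2, 1, 2, 1, 2, 1, 2, 1, 3, 1, 3, 1, 3, 1, 6, 4, 5, 5, 4, 6, 4, 5, 4, 6, 4, 5, 5, 5, 4]]
def BR_72 : List (List ℕ) := [[1, 2, 1, 3, 1, 2, 1, 2, 2, 1, 2, 2, 1, 2, 1, 2, 2, 1, 2, 1, 3, 3, 1, 2, 1, 3, 4, 6, 6, 4, 5, 4, 6, 6, 6, 4, 5, 4, 6, 6, 4, 5], [2, 1, 3, 3, 1, 3, 3, 1, 3, 1, 2, 2, 1, 2, 2, 1, 2, 2, 1, 3, 1, 2, 2, 1, 2, 2, 5, 5, 4, 6, 6, 4, 5]]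
def BR_73 : List (List ℕ) := [[1, 2, 2, 1, 3, 1, 3, 1, 2, 1, 3, 3, 1, 2, 1, 3, 3, 1, 2, 1, 2, 1, 2, 2, 1, 3, 5, 5, 5, 4, 6, 4, 5, 4, 6, 4, 5, 4, 6, 4, 5, 5], [1, 3, 1, 3, 1, 2, 2, 1, 2, 1, 2, 1, 2, 2, 1, 2, 1, 2, 2, 1, 2, 1, 3, 3, 1, 3, 4, 6, 6, 6, 4, 5, 5, 5, 4, 5]]
def BR_74 : List (List ℕ) := [[2, 1, 2, 2, 1, 3, 1, 2, 1, 2, 1, 2, 1, 2, 2, 1, 3, 1, 3, 1, 2, 1, 3, 1, 2, 2, 4, 5, 4, 5, 5, 5, 4, 6, 4, 5, 5, 5, 4, 6, 6, 6], [1, 2, 1, 3, 1, 2, 2, 1, 3, 1, 2, 2, 1, 2, 2, 1, 3, 1, 2, 1, 3, 3, 1, 3, 1, 2, 1, 6, 4, 5, 5, 4, 6, 4, 5, 5, 5, 4, 6, 4, 5, 5, 4]]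
def BR_75 : List (List ℕ) := [[1, 2, 1, 2, 1, 3, 3, 1, 3, 3, 1, 2, 1, 2, 2, 1, 3, 1, 3, 1, 2, 1, 3, 3, 1, 3, 3, 5, 5, 4, 6, 6, 6, 4, 5, 4, 6, 6, 4, 5, 5, 4, 6, 4], [1, 2, 2, 1, 3, 1, 2, 2, 1, 2, 1, 2, 2, 1, 2, 1, 3, 1, 3, 1, 2, 1, 3, 3, 1, 2, 1, 4, 6, 6, 6, 4, 5, 4, 6, 6, 6, 4, 6]]
def BR_76 : List (List ℕ) := [[1, 2, 2, 1, 2, 1, 2, 1, 2, 1, 3, 1, 3, 1, 2, 1, 3, 1, 3, 3, 1, 3, 1, 2, 1, 2, 1, 6, 4, 5, 5, 5, 4, 6, 4, 5, 4, 6, 6, 4, 5], [3, 3, 1, 3, 1, 3, 1, 3, 3, 1, 3, 1, 2, 1, 2, 2, 1, 2, 2, 1, 3, 3, 1, 3, 1, 3, 1, 4, 5, 4, 5, 5, 5, 4, 6, 4, 5, 4, 6, 6]]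
def BR_77 : List (List ℕ) := [[1, 2, 2, 1, 2, 1, 2, 1, 3, 3, 1, 3, 3, 1, 2, 1, 3, 1, 3, 1, 2, 1, 3, 3, 1, 2, 2, 5, 4, 6, 6, 6, 4, 5, 5, 5, 4, 6, 4, 5, 5], [1, 2, 1, 2, 1, 2, 2, 1, 3, 3, 1, 3, 1, 2, 1, 3, 3, 1, 3, 3, 1, 2, 1, 3, 3, 1, 3, 5, 5, 5, 4, 6, 4, 5, 4, 6, 6, 4, 5]]
def BR_78 : List (List ℕ) := [[1, 2, 2, 1, 2, 2, 1, 3, 1, 3, 1, 3, 1, 2, 2, 1, 2, 2, 1, 2, 1, 2, 1, 3, 1, 2, 2, 5, 4, 5, 5, 5, 4, 6, 4, 5, 5, 4, 6, 4, 5], [3, 3, 1, 3, 3, 1, 3, 1, 2, 1, 2, 1, 2, 2, 1, 3, 1, 3, 1, 2, 1, 2, 1, 3, 3, 1, 3, 4, 6, 6, 4, 5, 5, 4, 6, 4, 5, 5, 5, 4, 6, 4, 5]]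
def BR_79 : List (List ℕ) := [[3, 3, 1, 3, 3, 1, 2, 1, 2, 2, 1, 3, 3, 1, 3, 1, 3, 1, 2, 1, 2, 2, 1, 3, 1, 2, 1, 6, 6, 4, 5, 4, 6, 6, 6, 4, 5, 4, 6, 6, 4, 5, 4], [2, 1, 3, 1, 3, 1, 3, 3, 1, 3, 1, 3, 3, 1, 2, 1, 2, 2, 1, 2, 1, 2, 2, 1, 2, 2, 1, 4, 5, 5, 4, 6, 4, 5, 5, 4, 6, 4, 5, 4, 6, 6]]
def BR_80 : List (List ℕ) := [[2, 1, 2, 1, 2, 1, 2, 2, 1, 3, 1, 2, 1, 2, 1, 3, 3, 1, 2, 2, 1, 3, 1, 2, 2, 1, 3, 5, 5, 4, 6, 6, 4, 5, 5], [1, 3, 1, 3, 1, 3, 1, 2, 1, 3, 1, 2, 1, 2, 1, 2, 1, 2, 2, 1, 3, 1, 3, 3, 1, 3, 1, 5, 4, 6, 6, 4, 5, 5, 5]]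
def BR_81 : List (List ℕ) := [[1, 2, 1, 3, 3, 1, 3, 1, 2, 1, 3, 1, 3, 1, 3, 1, 2, 1, 3, 3, 1, 3, 1, 3, 1, 3, 1, 5, 4, 6, 4, 5, 5, 5, 4, 6, 4, 5, 5, 4], [2, 2, 1, 3, 1, 3, 1, 2, 2, 1, 2, 1, 3, 1, 2, 1, 2, 1, 3, 1, 3, 3, 1, 2, 1, 3, 3, 4, 6, 4, 5, 5, 4, 6, 4, 5, 5]]
def BR_82 : List (List ℕ) := [[1, 2, 1, 2, 1, 3, 1, 3, 1, 3, 3, 1, 3, 1, 2, 1, 2, 2, 1, 2, 2, 1, 3, 3, 1, 2, 2, 5, 5, 4, 6, 4, 5, 4, 6, 6, 4, 5, 4, 5], [1, 3, 1, 3, 3, 1, 3, 3, 1, 2, 1, 3, 3, 1, 2, 2, 1, 3, 1, 2, 2, 1, 2, 2, 1, 2, 1, 4, 5, 5, 5, 4, 6, 4, 5, 4, 6, 4, 5, 4, 6, 6]]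
def BR_83 : List (List ℕ) := [[1, 3, 3, 1, 3, 1, 2, 1, 2, 2, 1, 2, 1, 2, 2, 1, 2, 1, 2, 1, 2, 2, 1, 3, 3, 1, 3, 4, 6, 6, 4, 5, 4, 6, 4], [2, 1, 2, 2, 1, 2, 1, 2, 2, 1, 3, 1, 2, 2, 1, 3, 1, 3, 3, 1, 2, 2, 1, 2, 1, 3, 1, 5, 4, 6, 4, 5, 4, 6, 4, 5, 4, 6, 4, 5, 4, 6, 6]]
def BR_84 : List (List ℕ) := [[3, 3, 1, 3, 1, 2, 2, 1, 3, 3, 1, 2, 2, 1, 3, 3, 1, 2, 1, 2, 1, 2, 1, 2, 1, 3, 1, 5, 5, 5, 5, 4], [1, 3, 1, 3, 1, 2, 2, 1, 3, 1, 2, 1, 3, 1, 3, 3, 1, 3, 1, 3, 1, 2, 1, 3, 1, 2, 2, 6, 6, 4, 5, 5, 5, 4, 6, 6, 6, 4, 5, 5]]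
def BR_85 : List (List ℕ) := [[2, 1, 2, 2, 1, 3, 3, 1, 2, 2, 1, 2, 1, 2, 1, 2, 2, 1, 2, 2, 1, 2, 2, 1, 2, 1, 3, 4, 5, 5, 4, 6, 4, 5, 4, 6, 4, 5, 4, 6, 4, 5, 4], [1, 3, 3, 1, 3, 1, 3, 1, 2, 1, 2, 1, 2, 1, 3, 1, 3, 1, 2, 2, 1, 2, 1, 2, 1, 3, 1, 5, 5, 4, 6, 6, 6, 4, 5, 4, 6, 6, 4, 5, 5, 4, 6, 4]]
def BR_86 : List (List ℕ) := [[1, 3, 3, 1, 2, 1, 3, 3, 1, 2, 1, 2, 2, 1, 2, 1, 2, 1, 2, 1, 3, 1, 3, 3, 1, 3, 1, 5, 5, 5, 4, 6, 4, 5, 5, 4, 6, 4, 5, 5, 5, 4, 5], [3, 3, 1, 2, 1, 2, 1, 3, 1, 2, 1, 2, 2, 1, 3, 3, 1, 2, 2, 1, 3, 3, 1, 3, 1, 2, 1, 5, 4, 5, 5, 5, 4, 6, 6, 6, 4]]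
def BR_87 : List (List ℕ) := [[2, 1, 2, 1, 3, 1, 2, 1, 3, 1, 3, 1, 2, 2, 1, 3, 1, 3, 1, 3, 1, 2, 1, 2, 1, 2, 1, 6, 4, 6, 6, 6, 4, 5, 4, 6, 6, 6, 4, 5], [1, 3, 1, 2, 2, 1, 3, 1, 2, 1, 3, 3, 1, 2, 1, 3, 3, 1, 2, 1, 3, 1, 3, 1, 3, 1, 3, 4, 5, 5, 4, 6, 4]]
def BR_88 : List (List ℕ) := [[2, 1, 3, 1, 2, 2, 1, 2, 2, 1, 2, 1, 3, 1, 2, 1, 3, 1, 3, 3, 1, 3, 3, 1, 2, 1, 3, 4, 5, 4, 5, 5, 5, 4, 6, 4, 6], [2, 2, 1, 2, 1, 2, 1, 3, 3, 1, 2, 1, 3, 1, 2, 1, 3, 1, 2, 2, 1, 3, 1, 3, 1, 3, 3, 4, 5, 5, 4, 6, 4, 5, 4, 6, 4, 5, 4, 6, 6, 4, 5, 4]]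
def BR_89 : List (List ℕ) := [[2, 1, 3, 1, 3, 1, 3, 1, 2, 1, 2, 2, 1, 2, 2, 1, 3, 3, 1, 3, 1, 2, 2, 1, 3, 3, 1, 6, 6, 6, 4, 5, 5, 5, 4, 6, 4, 5, 5, 4, 6, 6, 6], [1, 3, 3, 1, 3, 3, 1, 2, 1, 2, 2, 1, 2, 2, 1, 2, 1, 3, 1, 3, 1, 2, 1, 3, 1, 3, 1, 5, 5, 4, 6, 4, 5, 5, 4, 6, 4, 5, 5, 5, 4]]
def BR_90 : List (List ℕ) := [[2, 1, 3, 1, 3, 3, 1, 2, 1, 3, 1, 2, 2, 1, 2, 1, 2, 2, 1, 3, 1, 2, 1, 2, 2, 1, 3, 6, 4, 5, 5, 4, 6, 6, 4, 5, 5, 5, 4], [3, 3, 1, 2, 2, 1, 2, 2, 1, 3, 1, 3, 3, 1, 3, 1, 3, 3, 1, 2, 2, 1, 2, 1, 3, 3, 1, 5, 5, 5, 4, 6, 6, 6, 4, 5, 4, 6, 6, 6, 4, 5]]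
def BR_91 : List (List ℕ) := [[2, 1, 3, 3, 1, 3, 1, 3, 1, 3, 3, 1, 3, 1, 2, 1, 2, 2, 1, 2, 1, 2, 1, 2, 2, 1, 3, 4, 5, 4, 6, 4, 5, 4, 6, 4, 5, 4, 6, 4, 5, 4, 6], [1, 3, 1, 2, 1, 3, 3, 1, 3, 1, 3, 1, 2, 1, 3, 3, 1, 3, 3, 1, 2, 2, 1, 3, 3, 1, 3, 4, 5, 5, 5, 4, 6, 6, 6, 4, 5]]
def BR_92 : List (List ℕ) := [[1, 3, 1, 2, 1, 2, 2, 1, 2, 2, 1, 3, 1, 2, 2, 1, 2, 1, 2, 1, 3, 1, 3, 1, 2, 1, 3, 4, 5, 5, 4, 6, 4, 5, 5, 4, 6, 4, 5, 4, 6], [2, 2, 1, 3, 3, 1, 3, 3, 1, 3, 1, 2, 1, 2, 1, 3, 3, 1, 3, 1, 3, 1, 3, 1, 3, 1, 3, 6, 4, 5, 5, 5, 4, 6, 4, 5, 5, 5, 4, 6, 6, 6]]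
def BR_93 : List (List ℕ) := [[2, 2, 1, 3, 3, 1, 3, 3, 1, 3, 1, 3, 3, 1, 3, 1, 3, 1, 2, 1, 3, 1, 2, 1, 3, 3, 1, 5, 5, 4, 6, 6, 4, 5, 4, 6, 4, 5, 5, 5, 4, 6], [1, 2, 1, 3, 3, 1, 3, 3, 1, 3, 1, 2, 1, 2, 1, 2, 1, 2, 1, 3, 1, 3, 3, 1, 2, 2, 1, 4, 6, 4, 5, 4, 6, 6, 4, 5, 5, 5, 4]]
def BR_94 : List (List ℕ) := [[1, 3, 1, 2, 1, 2, 2, 1, 3, 1, 3, 1, 2, 1, 3, 3, 1, 2, 1, 2, 1, 3, 3, 1, 3, 1, 3, 5, 4, 6, 4, 5, 4, 6, 6, 4, 5, 4, 6, 6, 6, 4, 5], [1, 2, 1, 3, 1, 2, 2, 1, 2, 1, 3, 1, 3, 1, 3, 3, 1, 3, 1, 2, 1, 2, 1, 2, 1, 2, 1, 6, 4, 5, 4, 6, 6, 4, 5, 4, 6, 4, 5]]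
def BR_95 : List (List ℕ) := [[3, 3, 1, 2, 1, 3, 1, 2, 1, 3, 3, 1, 2, 2, 1, 3, 1, 2, 1, 2, 2, 1, 2, 1, 2, 1, 3, 5, 4, 5, 5, 5, 4, 6, 4, 5, 5, 4, 6], [1, 2, 1, 3, 1, 3, 3, 1, 2, 1, 2, 1, 3, 1, 3, 1, 3, 3, 1, 2, 1, 3, 3, 1, 3, 3, 1, 4, 6, 4, 5, 5, 4, 6, 4, 5, 4, 6, 4, 5, 5]]
def BR_96 : List (List ℕ) := [[1, 2, 2, 1, 2, 1, 3, 3, 1, 2, 2, 1, 2, 1, 3, 1, 2, 2, 1, 3, 1, 3, 1, 3, 3, 1, 3, 6, 6, 4, 5, 5, 4, 6, 4, 5, 5, 5, 4], [2, 2, 1, 2, 1, 3, 1, 3, 1, 2, 2, 1, 3, 1, 2, 2, 1, 2, 2, 1, 3, 1, 2, 2, 1, 2, 1, 5, 4, 6, 6, 6, 4, 5, 5, 5, 4, 6]]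
def BR_97 : List (List ℕ) := [[1, 2, 2, 1, 3, 1, 3, 1, 2, 2, 1, 2, 1, 2, 2, 1, 2, 1, 2, 1, 3, 3, 1, 3, 3, 1, 3, 5, 4, 6, 4, 5, 5, 5, 4, 6, 4, 5, 5, 4], [2, 2, 1, 3, 1, 3, 3, 1, 3, 1, 3, 1, 2, 2, 1, 3, 1, 3, 1, 3, 1, 3, 1, 2, 2, 1, 3, 4, 5, 5, 5, 4, 6, 4, 5, 5, 4, 6, 4, 5, 5]]
def BR_98 : List (List ℕ) := [[1, 3, 1, 2, 2, 1, 2, 1, 2, 2, 1, 2, 2, 1, 3, 3, 1, 2, 1, 2, 2, 1, 2, 1, 2, 2, 1, 5, 5, 5, 5, 4, 6, 4, 5, 5, 5, 4, 6, 4, 5, 5, 5], [2, 2, 1, 3, 3, 1, 2, 1, 3, 1, 2, 1, 2, 2, 1, 3, 1, 3, 1, 3, 1, 2, 2, 1, 2, 1, 3, 5, 5, 4, 6, 6, 4, 5, 4, 6, 4, 5, 4, 6, 6, 4, 5, 5]]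
def BR_99 : List (List ℕ) := [[1, 2, 1, 3, 1, 2, 1, 2, 2, 1, 2, 1, 2, 1, 3, 1, 3, 1, 3, 1, 3, 1, 2, 1, 2, 1, 3, 5, 5, 4, 6, 4, 5, 4, 6, 4, 5, 4, 6, 4, 5, 5, 5], [2, 1, 2, 1, 3, 3, 1, 2, 1, 3, 3, 1, 2, 2, 1, 2, 2, 1, 2, 2, 1, 3, 1, 2, 1, 2, 1, 4, 6, 4, 5, 4, 6, 4, 5, 4, 6, 4, 5, 5, 4, 6, 4]]
def BR_100 : List (List ℕ) := [[2, 1, 3, 1, 3, 1, 3, 3, 1, 2, 1, 3, 1, 2, 1, 2, 2, 1, 3, 1, 3, 3, 1, 3, 1, 3, 3, 6, 4, 5, 5, 4, 6, 4, 6], [2, 2, 1, 2, 1, 3, 1, 2, 1, 2, 1, 3, 1, 2, 2, 1, 3, 3, 1, 3, 1, 3, 1, 2, 1, 2, 1, 4, 6, 4, 5, 5, 4, 6, 4, 5, 5, 5, 4, 6, 4, 5, 5, 5]]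
def BR_101 : List (List ℕ) := [[3, 3, 1, 3, 3, 1, 3, 1, 3, 3, 1, 2, 2, 1, 2, 2, 1, 2, 1, 2, 2, 1, 2, 1, 3, 1, 3, 5, 5, 4, 6, 4, 5, 5, 4, 6, 4, 5, 5, 5, 4, 5], [2, 1, 2, 1, 3, 3, 1, 2, 1, 2, 2, 1, 2, 1, 2, 2, 1, 2, 2, 1, 2, 1, 3, 1, 3, 1, 3, 4, 5, 5, 4, 6, 4, 5, 5, 4, 6, 4, 5, 5]]
def BR_102 : List (List ℕ) := [[1, 2, 2, 1, 3, 1, 2, 2, 1, 3, 1, 2, 2, 1, 2, 1, 2, 1, 3, 1, 2, 1, 3, 3, 1, 2, 1, 6, 4, 5, 4, 6, 4, 5, 4, 6, 6, 4, 5, 4], [1, 3, 1, 2, 1, 3, 3, 1, 3, 1, 2, 1, 2, 2, 1, 2, 2, 1, 2, 2, 1, 2, 1, 2, 1, 3, 1, 5, 5, 4, 6, 4, 5, 5, 4, 6, 4, 5, 4, 6, 4, 5]]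
def BR_103 : List (List ℕ) := [[2, 1, 3, 1, 2, 1, 3, 1, 2, 1, 3, 1, 3, 1, 3, 1, 2, 2, 1, 3, 1, 3, 1, 3, 1, 3, 1, 6, 4, 6, 6, 6, 4, 5, 4, 6, 6, 6, 4, 5], [1, 3, 1, 3, 3, 1, 3, 3, 1, 3, 1, 3, 1, 2, 1, 3, 1, 3, 1, 3, 3, 1, 3, 1, 3, 1, 3, 5, 4, 5, 5, 5, 5, 4, 5]]
def BR_104 : List (List ℕ) := [[1, 3, 1, 3, 3, 1, 2, 1, 3, 3, 1, 2, 1, 2, 1, 3, 3, 1, 3, 3, 1, 2, 1, 3, 1, 2, 1, 6, 4, 5, 5, 5, 4, 6, 6, 6, 4, 5, 5, 5], [1, 3, 1, 3, 1, 2, 1, 3, 1, 3, 1, 2, 1, 2, 2, 1, 2, 2, 1, 2, 1, 3, 1, 2, 1, 2, 2, 4, 5, 5, 5, 5, 4, 6, 4, 5, 5, 4, 6, 4]]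
def BR_105 : List (List ℕ) := [[2, 2, 1, 2, 1, 3, 3, 1, 3, 1, 3, 3, 1, 2, 2, 1, 3, 1, 3, 1, 2, 1, 3, 3, 1, 3, 1, 6, 4, 5, 5, 4, 6], [1, 2, 1, 3, 1, 2, 2, 1, 3, 1, 3, 3, 1, 2, 1, 3, 1, 3, 1, 3, 1, 3, 1, 2, 1, 2, 2, 4, 5, 5, 5, 4, 6, 4, 5, 4, 6, 4, 5, 4, 6, 4, 5]]
def BR_106 : List (List ℕ) := [[2, 2, 1, 3, 1, 3, 1, 2, 2, 1, 3, 1, 3, 1, 2, 1, 2, 2, 1, 2, 2, 1, 2, 1, 2, 1, 3, 4, 6, 4, 5, 5, 5, 4, 6, 4, 5, 4, 6, 6, 4, 5, 4], [2, 1, 2, 2, 1, 2, 1, 3, 1, 2, 1, 2, 1, 2, 2, 1, 2, 2, 1, 3, 3, 1, 3, 1, 3, 3, 1, 5, 4, 5, 5, 5, 4, 6, 4, 5, 5, 5, 4]]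
def BR_107 : List (List ℕ) := [[3, 3, 1, 2, 1, 3, 3, 1, 2, 1, 2, 2, 1, 2, 1, 2, 1, 2, 1, 2, 2, 1, 2, 1, 3, 1, 3, 4, 6, 4, 5, 5, 5, 4, 6, 4, 5, 5, 4, 6, 6, 4, 5], [2, 1, 2, 1, 2, 1, 3, 3, 1, 2, 1, 3, 1, 2, 1, 3, 1, 2, 2, 1, 3, 1, 2, 2, 1, 3, 1, 4, 6, 4, 5, 5, 5, 4, 6, 6, 6, 4, 5, 5]]
def BR_108 : List (List ℕ) := [[1, 2, 1, 3, 3, 1, 2, 2, 1, 3, 1, 3, 1, 2, 2, 1, 3, 1, 2, 1, 3, 3, 1, 2, 1, 3, 1, 4, 5, 5, 5, 5, 4, 6, 4, 5, 5, 4, 6, 6, 4], [2, 1, 3, 1, 3, 1, 3, 1, 3, 3, 1, 3, 1, 2, 1, 2, 2, 1, 2, 2, 1, 2, 2, 1, 3, 1, 3, 4, 5, 5, 4, 6, 4, 5, 5, 5, 4, 6, 4, 5, 5, 4]]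
def BR_109 : List (List ℕ) := [[2, 2, 1, 3, 3, 1, 3, 1, 3, 1, 2, 2, 1, 2, 2, 1, 3, 1, 3, 1, 2, 1, 3, 1, 3, 1, 3, 5, 5, 4, 6, 6, 4, 5, 4, 6, 6, 6], [1, 2, 2, 1, 3, 1, 2, 2, 1, 3, 3, 1, 2, 2, 1, 3, 1, 2, 1, 3, 1, 2, 1, 3, 1, 3, 3, 4, 6, 4, 5, 4, 6, 4, 5, 4, 6, 4, 5, 4, 6]]
def BR_110 : List (List ℕ) := [[2, 2, 1, 2, 2, 1, 3, 1, 3, 3, 1, 3, 1, 2, 1, 2, 1, 2, 2, 1, 2, 2, 1, 2, 1, 3, 3, 6, 4, 5, 4, 6, 4, 5, 5, 5], [2, 2, 1, 2, 2, 1, 3, 1, 3, 1, 3, 1, 2, 2, 1, 3, 1, 2, 1, 2, 1, 3, 1, 3, 1, 3, 1, 4, 5, 5, 5, 4, 6, 6, 4]]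
def BR_111 : List (List ℕ) := [[1, 3, 3, 1, 3, 3, 1, 2, 1, 2, 1, 3, 1, 2, 1, 2, 1, 2, 1, 2, 1, 2, 2, 1, 2, 1, 3, 6, 4, 6, 6, 6, 4, 5, 4, 6, 6, 4, 5, 4, 5], [2, 1, 2, 2, 1, 2, 1, 3, 1, 3, 1, 2, 1, 2, 1, 3, 1, 2, 1, 2, 1, 2, 2, 1, 2, 2, 1, 4, 6, 6, 4, 5, 4, 6, 4, 5, 5, 4, 6, 4, 5, 5, 5]]
def BR_112 : List (List ℕ) := [[1, 2, 1, 3, 1, 3, 1, 3, 1, 2, 2, 1, 2, 1, 2, 2, 1, 2, 1, 3, 1, 2, 1, 2, 2, 1, 3, 4, 5, 4, 6, 6, 4, 5, 5, 5, 4], [3, 3, 1, 3, 1, 2, 2, 1, 2, 1, 2, 1, 3, 1, 2, 1, 2, 1, 2, 2, 1, 3, 3, 1, 3, 1, 3, 4, 5, 5, 5, 4, 6, 4, 5, 4, 6, 6, 4, 5, 5]]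
def BR_113 : List (List ℕ) := [[1, 3, 1, 3, 3, 1, 2, 1, 3, 1, 2, 2, 1, 2, 1, 3, 1, 2, 1, 2, 2, 1, 3, 1, 3, 3, 1, 6, 6, 4, 5, 5, 5, 4, 6, 6, 6, 4, 5, 5, 5], [2, 1, 2, 1, 3, 1, 3, 1, 2, 1, 3, 1, 2, 1, 2, 2, 1, 2, 1, 2, 1, 2, 2, 1, 2, 1, 3, 5, 4, 6, 6, 4, 5, 4, 6, 6]]
def BR_114 : List (List ℕ) := [[2, 1, 2, 1, 2, 2, 1, 3, 1, 2, 1, 3, 1, 2, 1, 3, 3, 1, 3, 1, 2, 1, 3, 3, 1, 3, 3, 5, 5, 4, 6, 4, 5, 4, 6, 4, 5, 4, 6, 6, 4, 5, 4], [2, 2, 1, 3, 1, 3, 1, 2, 1, 2, 1, 2, 1, 2, 1, 3, 1, 2, 2, 1, 3, 1, 3, 1, 2, 1, 3, 4, 6, 6, 6, 4, 5, 5, 5, 4, 5]]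
def BR_115 : List (List ℕ) := [[1, 3, 1, 3, 3, 1, 2, 1, 3, 1, 3, 3, 1, 2, 1, 2, 1, 3, 3, 1, 3, 1, 2, 1, 3, 3, 1, 4, 6, 6, 4, 5, 4, 6, 6, 6, 4, 5, 5], [1, 3, 1, 2, 2, 1, 2, 2, 1, 2, 2, 1, 3, 1, 2, 1, 2, 2, 1, 2, 2, 1, 2, 2, 1, 3, 3, 6, 4, 5, 5, 4, 6]]
def BR_116 : List (List ℕ) := [[2, 1, 2, 1, 3, 1, 3, 3, 1, 3, 1, 3, 1, 2, 1, 2, 1, 2, 2, 1, 2, 1, 3, 1, 3, 3, 1, 4, 5, 4, 6, 6, 4, 5, 5, 4, 6, 6], [1, 3, 1, 2, 1, 2, 2, 1, 2, 1, 2, 1, 2, 1, 3, 1, 3, 1, 3, 1, 3, 3, 1, 3, 1, 2, 1, 5, 4, 6, 4, 5, 4, 6, 4, 5, 4, 6, 4, 5, 4, 6]]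
def BR_117 : List (List ℕ) := [[2, 2, 1, 2, 1, 2, 2, 1, 3, 1, 3, 3, 1, 2, 1, 3, 1, 3, 1, 3, 1, 2, 2, 1, 3, 1, 3, 6, 6, 4, 5, 5, 4, 6, 4, 5, 4, 6, 6, 4, 5, 5, 5], [3, 3, 1, 2, 2, 1, 3, 1, 3, 1, 2, 1, 2, 2, 1, 2, 1, 3, 3, 1, 3, 3, 1, 2, 1, 3, 1, 4, 5, 4, 6, 4, 5, 4, 6, 4, 5, 4, 6, 4, 5, 5]]
def BR_118 : List (List ℕ) := [[1, 3, 3, 1, 2, 1, 2, 2, 1, 3, 3, 1, 3, 1, 3, 3, 1, 3, 1, 3, 3, 1, 3, 1, 2, 1, 3, 5, 5, 5, 4, 6, 6, 6, 4, 5, 5, 5, 4, 6, 6], [2, 2, 1, 2, 1, 3, 1, 3, 3, 1, 2, 2, 1, 2, 1, 2, 2, 1, 2, 1, 3, 3, 1, 2, 1, 2, 1, 4, 6, 4, 5, 5, 5, 4, 6, 4, 5, 5, 4, 6]]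
def BR_119 : List (List ℕ) := [[1, 2, 2, 1, 2, 1, 2, 1, 2, 1, 3, 1, 2, 2, 1, 3, 3, 1, 3, 1, 3, 1, 2, 1, 2, 1, 3, 5, 4, 6, 4, 5, 5, 4, 6, 4, 5, 5, 4, 6, 4], [2, 2, 1, 3, 3, 1, 2, 2, 1, 3, 1, 2, 2, 1, 3, 1, 3, 1, 2, 1, 2, 2, 1, 2, 1, 3, 3, 5, 5, 4, 6, 6, 4, 5, 4, 6, 4, 5, 4, 6, 4]]
def BR_120 : List (List ℕ) := [[1, 2, 1, 2, 2, 1, 2, 2, 1, 2, 1, 2, 1, 2, 1, 3, 3, 1, 3, 1, 3, 3, 1, 3, 1, 3, 3, 6, 6, 6, 4, 5, 4, 6, 6, 4, 5, 4, 6, 4], [1, 2, 2, 1, 2, 2, 1, 3, 1, 2, 2, 1, 2, 2, 1, 2, 2, 1, 2, 1, 2, 1, 3, 1, 3, 3, 1, 6, 4, 5, 4, 6, 6, 6, 4, 5, 4, 6, 6, 4, 5, 4]]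
def BR_121 : List (List ℕ) := [[2, 2, 1, 3, 3, 1, 2, 1, 2, 1, 3, 3, 1, 2, 1, 3, 3, 1, 2, 1, 2, 2, 1, 2, 1, 2, 1, 5, 5, 5, 5, 4, 6, 4, 5, 5, 5, 4, 6, 4, 5, 5, 4], [1, 2, 2, 1, 2, 2, 1, 2, 2, 1, 2, 1, 2, 1, 2, 2, 1, 3, 3, 1, 3, 3, 1, 2, 1, 2, 1, 6, 4, 5, 4, 6, 6, 4, 5, 4, 6, 6, 4]]
def BR_122 : List (List ℕ) := [[3, 3, 1, 3, 1, 2, 1, 2, 1, 2, 1, 2, 1, 2, 1, 3, 1, 2, 2, 1, 3, 1, 3, 1, 3, 3, 1, 6, 4, 6, 6, 6, 4, 5, 4, 6, 6, 6, 4, 5, 4], [2, 1, 2, 1, 2, 1, 3, 1, 2, 1, 3, 3, 1, 2, 2, 1, 2, 1, 3, 3, 1, 2, 1, 2, 1, 3, 1, 5, 5, 4, 6, 4, 5, 5, 5, 4, 6, 4, 5, 5, 4, 6, 6]]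
def BR_123 : List (List ℕ) := [[1, 2, 1, 2, 1, 2, 2, 1, 3, 3, 1, 2, 2, 1, 3, 3, 1, 2, 2, 1, 3, 3, 1, 3, 1, 3, 1, 4, 5, 5, 5, 4, 6, 6, 4, 5, 4, 6, 4, 5, 5, 5, 4, 6], [2, 1, 3, 1, 3, 3, 1, 2, 1, 3, 1, 2, 1, 2, 2, 1, 2, 1, 3, 1, 3, 3, 1, 2, 1, 3, 1, 6, 6, 4, 5, 5, 4, 6, 4, 5, 5, 5, 4, 6]]
def BR_124 : List (List ℕ) := [[3, 3, 1, 3, 1, 3, 1, 2, 1, 3, 1, 2, 1, 2, 1, 2, 1, 2, 2, 1, 3, 1, 3, 3, 1, 2, 2, 4, 5, 5, 5, 4, 6, 4, 5, 4, 6, 6, 4, 5, 5, 5], [1, 2, 2, 1, 3, 3, 1, 2, 1, 2, 2, 1, 2, 1, 2, 1, 3, 3, 1, 3, 1, 2, 2, 1, 2, 1, 3, 5, 4, 6, 6, 4, 5, 4, 6, 4, 5, 4, 6, 6, 4]]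
def BR_125 : List (List ℕ) := [[1, 2, 2, 1, 3, 1, 3, 1, 3, 3, 1, 2, 1, 2, 2, 1, 2, 2, 1, 3, 1, 2, 1, 2, 1, 3, 1, 4, 5, 5, 4, 6, 4, 5, 4, 6, 4, 5, 4], [1, 2, 2, 1, 3, 1, 3, 1, 3, 3, 1, 3, 1, 2, 2, 1, 2, 1, 2, 1, 2, 1, 3, 1, 3, 3, 1, 6, 6, 4, 5, 4]]
def BR_126 : List (List ℕ) := [[2, 1, 3, 3, 1, 3, 1, 2, 1, 2, 1, 2, 1, 2, 1, 2, 1, 3, 1, 3, 3, 1, 3, 1, 3, 1, 3, 3, 6, 4, 5, 5, 5, 5, 4, 6, 4, 5, 5, 5, 4, 6], [1, 2, 1, 2, 1, 2, 2, 1, 3, 1, 3, 1, 2, 2, 1, 2, 1, 3, 3, 1, 3, 1, 3, 1, 3, 1, 2, 1, 6, 4, 5, 4, 6, 6, 6, 4, 6]]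
def BR_127 : List (List ℕ) := [[3, 3, 1, 3, 1, 3, 3, 1, 2, 1, 2, 1, 2, 2, 1, 3, 3, 1, 2, 1, 2, 1, 3, 1, 3, 1, 3, 3, 4, 5, 4, 6, 6, 4, 5, 4, 6, 4], [1, 3, 1, 3, 1, 2, 2, 1, 2, 1, 2, 1, 2, 1, 2, 1, 2, 2, 1, 2, 1, 3, 1, 2, 1, 2, 1, 3, 4, 6, 4, 5, 5, 5, 4, 6, 6, 6, 4, 6]]
def BR_128 : List (List ℕ) := [[2, 1, 3, 3, 1, 3, 3, 1, 2, 2, 1, 3, 3, 1, 3, 1, 3, 1, 2, 1, 2, 1, 2, 2, 1, 2, 1, 3, 5, 4, 6, 6, 4, 5, 4, 6, 4], [3, 3, 1, 3, 3, 1, 3, 1, 3, 1, 3, 1, 2, 2, 1, 2, 1, 3, 1, 2, 1, 2, 1, 2, 2, 1, 2, 1, 4, 5, 5, 5, 4, 6, 6, 4, 5, 5, 4, 6]]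
def BR_129 : List (List ℕ) := [[2, 1, 3, 1, 3, 1, 2, 2, 1, 3, 1, 2, 1, 2, 1, 2, 1, 3, 1, 2, 2, 1, 3, 1, 2, 1, 2, 2, 4, 6, 4, 5, 5, 5, 4, 6, 4, 5, 5, 4, 6], [3, 3, 1, 2, 2, 1, 2, 1, 3, 1, 2, 1, 2, 2, 1, 2, 1, 3, 3, 1, 2, 1, 3, 3, 1, 2, 1, 3, 5, 4, 6, 4, 5, 4, 6, 4, 5, 5, 4, 6, 6]]
def BR_130 : List (List ℕ) := [[2, 1, 2, 1, 2, 1, 3, 1, 2, 1, 2, 1, 2, 2, 1, 3, 1, 3, 3, 1, 2, 1, 2, 1, 3, 1, 3, 3, 6, 6, 4, 5, 5, 5, 4, 6, 6], [1, 3, 1, 2, 1, 2, 1, 3, 3, 1, 2, 2, 1, 2, 2, 1, 2, 1, 2, 2, 1, 2, 2, 1, 2, 2, 1, 3, 4, 5, 5, 4, 6]]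
def BR_131 : List (List ℕ) := [[1, 3, 3, 1, 3, 1, 3, 3, 1, 2, 1, 3, 3, 1, 2, 1, 3, 3, 1, 2, 1, 2, 1, 2, 2, 1, 2, 2, 4, 6, 4, 5, 5, 5, 4, 6, 4, 5, 4, 6, 6, 4, 5, 4], [2, 1, 3, 1, 2, 1, 2, 2, 1, 3, 1, 3, 1, 2, 1, 2, 2, 1, 3, 1, 2, 1, 3, 3, 1, 2, 1, 3, 5, 5, 4, 6, 6, 4, 5, 4, 6, 4, 5, 5, 4, 6, 4]]
def BR_132 : List (List ℕ) := [[2, 1, 3, 1, 3, 1, 2, 2, 1, 2, 1, 2, 1, 3, 1, 3, 1, 2, 1, 2, 2, 1, 2, 1, 2, 2, 1, 3, 5, 5, 5, 5, 4, 6, 4, 5], [2, 2, 1, 2, 1, 2, 1, 2, 1, 3, 1, 2, 1, 2, 1, 3, 1, 2, 1, 2, 2, 1, 3, 1, 2, 1, 3, 1, 4, 5, 4, 6, 4, 5, 4, 6, 4, 5, 4, 6, 6, 4, 5, 4]]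
def BR_133 : List (List ℕ) := [[3, 3, 1, 3, 3, 1, 3, 3, 1, 3, 3, 1, 2, 1, 2, 1, 3, 3, 1, 2, 1, 2, 2, 1, 2, 1, 3, 3, 5, 5, 4, 6, 6, 4, 5, 4, 6, 6, 6, 4, 5, 5, 5], [1, 3, 3, 1, 2, 1, 3, 1, 2, 1, 3, 1, 2, 1, 2, 2, 1, 2, 1, 2, 1, 2, 2, 1, 2, 1, 2, 2, 5, 5, 5, 5, 4, 6, 4, 5, 5, 5, 4, 6, 6]]
def BR_134 : List (List ℕ) := [[1, 2, 1, 2, 1, 2, 1, 2, 1, 3, 1, 2, 1, 2, 1, 2, 1, 3, 1, 3, 1, 2, 1, 2, 2, 1, 2, 1, 4, 5, 5, 4, 6, 6, 4, 5, 4, 6, 6, 6, 4, 5, 5, 5, 4], [3, 3, 1, 3, 3, 1, 2, 1, 3, 1, 2, 1, 2, 1, 2, 2, 1, 2, 2, 1, 2, 2, 1, 3, 1, 2, 1, 3, 4, 5, 4, 6, 4, 5, 4, 6, 6, 6, 4, 6]]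
def BR_135 : List (List ℕ) := [[1, 2, 1, 2, 2, 1, 3, 3, 1, 2, 2, 1, 2, 2, 1, 2, 2, 1, 2, 2, 1, 3, 1, 3, 3, 1, 3, 1, 6, 6, 6, 4, 5, 5, 5, 4, 6, 6, 6, 4, 5, 5, 5], [1, 2, 2, 1, 2, 2, 1, 2, 1, 2, 1, 2, 1, 3, 1, 2, 1, 3, 1, 2, 1, 2, 1, 3, 3, 1, 2, 2, 5, 5, 4, 6, 6, 4, 5, 5]]
def BR_136 : List (List ℕ) := [[2, 1, 3, 1, 2, 1, 3, 3, 1, 3, 1, 3, 1, 2, 1, 2, 1, 2, 1, 2, 1, 2, 2, 1, 2, 1, 3, 1, 4, 5, 4, 6, 6, 6, 4, 5, 4, 6, 6, 4, 5, 4, 6, 4, 5], [1, 3, 1, 3, 1, 2, 2, 1, 2, 2, 1, 3, 1, 2, 1, 2, 2, 1, 2, 1, 2, 1, 3, 1, 2, 1, 3, 1, 5, 5, 4, 6, 6, 6, 4, 5, 4, 6, 6, 6, 4, 5, 4, 6]]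
def BR_137 : List (List ℕ) := [[2, 1, 3, 3, 1, 2, 2, 1, 2, 1, 2, 1, 3, 1, 3, 1, 2, 1, 3, 1, 2, 2, 1, 3, 1, 2, 1, 3, 6, 4, 5, 4, 6, 6, 4, 5, 5, 4, 6, 4, 5, 5, 5], [2, 1, 3, 3, 1, 3, 3, 1, 3, 3, 1, 3, 3, 1, 2, 1, 3, 3, 1, 2, 2, 1, 2, 1, 3, 1, 3, 1, 6, 6, 4, 5, 5, 4, 6, 4, 5, 5, 5, 4, 6, 6, 6, 4]]
def BR_138 : List (List ℕ) := [[1, 2, 1, 2, 1, 3, 3, 1, 2, 1, 3, 3, 1, 3, 1, 3, 3, 1, 2, 1, 3, 3, 1, 2, 1, 3, 1, 3, 6, 6, 6, 4, 5, 5, 5, 4, 6], [1, 2, 1, 2, 1, 2, 1, 3, 1, 3, 1, 2, 2, 1, 2, 2, 1, 3, 1, 2, 1, 3, 1, 3, 1, 3, 1, 3, 4, 5, 5, 5, 5, 4, 6, 4, 5, 5, 4, 6, 4, 5, 4]]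
def BR_139 : List (List ℕ) := [[1, 3, 1, 3, 1, 2, 1, 3, 1, 2, 2, 1, 3, 1, 2, 2, 1, 3, 3, 1, 2, 1, 3, 3, 1, 3, 1, 3, 4, 6, 4, 5, 5, 5, 4, 6, 6], [1, 3, 1, 3, 3, 1, 3, 1, 2, 1, 2, 2, 1, 2, 2, 1, 3, 3, 1, 2, 2, 1, 3, 1, 2, 1, 3, 1, 4, 5, 5, 5, 4, 6, 4, 5, 5, 4, 6, 6, 4, 5, 4, 6, 6]]
def BR_140 : List (List ℕ) := [[2, 2, 1, 3, 3, 1, 3, 1, 2, 1, 2, 1, 2, 1, 2, 1, 3, 3, 1, 3, 3, 1, 3, 1, 3, 1, 3, 1, 5, 4, 6, 4, 5, 4, 6, 4, 5, 4, 6, 4, 5, 4], [2, 1, 3, 1, 3, 1, 3, 1, 3, 3, 1, 2, 1, 2, 1, 2, 1, 3, 1, 3, 3, 1, 2, 1, 3, 1, 2, 2, 4, 6, 4, 5, 5, 4, 6, 6, 4, 5, 4, 6, 6, 6, 4, 5]]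
def BR_141 : List (List ℕ) := [[3, 3, 1, 2, 1, 3, 1, 3, 3, 1, 2, 1, 3, 1, 3, 1, 2, 2, 1, 3, 3, 1, 3, 3, 1, 3, 1, 3, 4, 6, 4, 5, 4, 6, 4, 5, 4, 6, 4, 5, 4, 6, 4, 5], [1, 3, 1, 3, 1, 3, 3, 1, 3, 1, 2, 1, 2, 2, 1, 3, 1, 2, 1, 2, 2, 1, 3, 3, 1, 3, 1, 3, 6, 4, 6, 6, 6, 6, 4, 5, 4]]
def BR_142 : List (List ℕ) := [[1, 2, 1, 2, 2, 1, 3, 1, 3, 3, 1, 3, 1, 2, 2, 1, 2, 2, 1, 3, 3, 1, 3, 1, 3, 1, 3, 3, 5, 4, 6, 6, 6, 4, 5, 5, 5, 4], [3, 3, 1, 3, 3, 1, 3, 1, 3, 3, 1, 3, 3, 1, 3, 1, 2, 2, 1, 2, 1, 3, 1, 3, 3, 1, 2, 1, 4, 6, 4, 6, 6, 6, 4, 5, 4, 6, 6, 4, 5, 4, 5]]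
def BR_143 : List (List ℕ) := [[1, 2, 1, 3, 1, 2, 2, 1, 2, 1, 3, 3, 1, 3, 1, 3, 1, 2, 2, 1, 3, 1, 2, 1, 3, 3, 1, 3, 5, 5, 4, 6, 4, 5, 5, 5, 4, 6, 6, 6, 4, 5, 5, 5], [1, 3, 3, 1, 3, 1, 2, 1, 3, 1, 2, 2, 1, 3, 1, 3, 3, 1, 3, 1, 3, 1, 2, 1, 3, 1, 3, 3, 6, 6, 4, 5, 4, 6, 6, 6, 4, 5, 4, 6, 6, 4, 5]]
def BR_144 : List (List ℕ) := [[2, 2, 1, 3, 3, 1, 2, 1, 3, 3, 1, 3, 1, 3, 1, 3, 1, 3, 1, 3, 3, 1, 3, 1, 2, 1, 2, 2, 6, 6, 6, 4, 5, 4, 6, 6, 4, 5], [1, 2, 2, 1, 2, 1, 3, 1, 3, 3, 1, 3, 1, 2, 1, 3, 3, 1, 2, 1, 3, 1, 2, 1, 3, 1, 2, 2, 6, 4, 5, 4, 6, 6, 4, 5, 4, 5]]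
def BR_145 : List (List ℕ) := [[1, 2, 1, 3, 3, 1, 2, 1, 2, 2, 1, 3, 1, 3, 1, 2, 1, 3, 1, 3, 3, 1, 2, 1, 3, 1, 2, 1, 6, 4, 5, 4, 6, 4, 5, 4, 6, 4, 5, 5, 4, 6], [1, 3, 3, 1, 2, 2, 1, 3, 1, 2, 1, 2, 1, 3, 1, 2, 1, 3, 3, 1, 2, 1, 2, 1, 3, 3, 1, 3, 4, 6, 6, 4, 5, 4, 6, 6, 6, 4, 5, 4, 6, 6, 4, 5, 5]]
def BR_146 : List (List ℕ) := [[1, 3, 3, 1, 3, 1, 3, 3, 1, 3, 3, 1, 2, 1, 3, 3, 1, 2, 1, 3, 1, 3, 1, 2, 1, 3, 3, 1, 4, 5, 5, 5, 4, 6, 6, 4, 5], [1, 3, 1, 2, 1, 3, 1, 3, 3, 1, 2, 2, 1, 2, 2, 1, 3, 1, 2, 1, 3, 1, 2, 1, 2, 1, 2, 2, 6, 6, 4, 5, 4, 6, 4, 5, 5, 5, 4, 5]]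
def BR_147 : List (List ℕ) := [[1, 3, 1, 3, 3, 1, 2, 2, 1, 2, 1, 3, 3, 1, 2, 1, 3, 3, 1, 3, 1, 2, 1, 3, 3, 1, 3, 1, 5, 5, 5, 4, 6, 6, 6, 4, 5, 4, 6, 6, 4, 5, 5], [1, 3, 1, 3, 1, 3, 1, 2, 1, 3, 1, 2, 2, 1, 2, 2, 1, 3, 1, 3, 3, 1, 2, 1, 3, 3, 1, 3, 5, 4, 6, 4, 5, 4, 6, 4, 5, 4, 6, 6, 4, 5, 5]]
def BR_148 : List (List ℕ) := [[1, 3, 1, 3, 3, 1, 2, 2, 1, 2, 2, 1, 3, 1, 2, 2, 1, 2, 2, 1, 2, 1, 2, 1, 3, 1, 3, 3, 4, 5, 4, 6, 4, 5, 4, 6, 4, 5, 4, 6, 6, 6, 4, 5, 4], [2, 1, 3, 3, 1, 3, 1, 3, 1, 3, 1, 2, 1, 2, 2, 1, 3, 3, 1, 3, 1, 3, 1, 3, 3, 1, 2, 1, 6, 6, 6, 4, 5, 5, 5, 4, 6, 4, 5]]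
def BR_149 : List (List ℕ) := [[2, 1, 2, 1, 2, 2, 1, 3, 1, 3, 3, 1, 2, 2, 1, 3, 1, 2, 1, 3, 1, 2, 1, 3, 1, 3, 1, 3, 6, 4, 5, 5, 5, 4, 6, 4, 5, 4, 6, 6, 4, 5, 4], [1, 3, 1, 3, 3, 1, 2, 2, 1, 3, 1, 3, 3, 1, 2, 1, 2, 1, 2, 1, 2, 1, 2, 2, 1, 3, 3, 1, 4, 6, 4, 5, 5, 4, 6, 4, 5, 5, 4, 6]]
def BR_150 : List (List ℕ) := [[1, 2, 1, 2, 1, 3, 3, 1, 2, 1, 2, 1, 2, 1, 2, 1, 2, 1, 2, 1, 2, 1, 3, 1, 2, 2, 1, 3, 5, 5, 5, 5, 4, 6, 4, 5, 5, 4, 6, 6, 4, 5, 5], [1, 2, 1, 3, 1, 3, 3, 1, 3, 1, 2, 2, 1, 2, 1, 3, 3, 1, 3, 3, 1, 2, 1, 3, 3, 1, 3, 1, 6, 6, 4, 5, 5, 5, 4, 6, 6, 6, 4, 5, 5, 5, 4]]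
def BR_151 : List (List ℕ) := [[1, 2, 2, 1, 2, 2, 1, 3, 1, 3, 1, 2, 1, 3, 1, 2, 1, 3, 1, 3, 1, 2, 1, 2, 1, 3, 3, 1, 4, 6, 4, 5, 5, 4, 6, 6, 6, 4, 6], [3, 3, 1, 2, 2, 1, 3, 1, 2, 1, 2, 2, 1, 2, 1, 2, 2, 1, 3, 3, 1, 2, 2, 1, 3, 3, 1, 3, 6, 4, 5, 4, 6, 4, 5, 4, 6, 6, 6, 4, 6]]
def BR_152 : List (List ℕ) := [[2, 1, 3, 1, 3, 1, 2, 1, 2, 1, 3, 1, 3, 1, 2, 1, 2, 1, 2, 1, 3, 3, 1, 3, 1, 2, 2, 1, 5, 4, 5, 5, 5, 4, 6, 4, 5, 4, 6, 6, 4, 5], [2, 1, 3, 1, 2, 1, 3, 1, 2, 1, 3, 3, 1, 2, 2, 1, 2, 1, 2, 2, 1, 3, 3, 1, 2, 1, 2, 2, 5, 4, 5, 5, 5, 4, 6, 4, 5, 5, 4]]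
def BR_153 : List (List ℕ) := [[2, 1, 2, 1, 3, 3, 1, 3, 3, 1, 3, 1, 2, 2, 1, 2, 1, 2, 1, 2, 2, 1, 3, 1, 2, 2, 1, 3, 5, 4, 6, 4, 5, 4, 6, 4, 5, 5, 4, 6, 4], [3, 3, 1, 2, 2, 1, 3, 1, 2, 2, 1, 3, 3, 1, 3, 1, 3, 3, 1, 3, 1, 2, 2, 1, 3, 1, 3, 1, 5, 5, 5, 4, 6, 4, 5, 5, 4, 6, 6, 4, 5]]
def BR_154 : List (List ℕ) := [[1, 3, 3, 1, 2, 1, 3, 1, 2, 1, 2, 1, 3, 1, 3, 1, 2, 2, 1, 2, 2, 1, 3, 1, 2, 1, 2, 1, 4, 5, 5, 5, 4, 6, 6, 6, 4, 5, 4, 6, 6, 6, 4, 5], [2, 2, 1, 3, 1, 3, 1, 2, 1, 3, 3, 1, 3, 1, 2, 1, 2, 1, 2, 1, 2, 2, 1, 2, 1, 2, 1, 3, 6, 4, 5, 5, 4, 6, 4, 5, 5, 4, 6, 4, 6]]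
def BR_155 : List (List ℕ) := [[2, 1, 3, 3, 1, 2, 1, 2, 2, 1, 2, 1, 3, 1, 2, 1, 3, 1, 2, 1, 2, 2, 1, 3, 3, 1, 2, 2, 6, 4, 5, 5, 4, 6, 4, 5, 5, 4, 6, 4, 5, 4], [1, 3, 1, 2, 1, 2, 1, 2, 1, 3, 3, 1, 3, 1, 2, 1, 3, 3, 1, 2, 1, 2, 2, 1, 3, 3, 1, 3, 4, 6, 6, 4, 5, 4, 6, 6, 6, 4, 5, 5]]
def BR_156 : List (List ℕ) := [[2, 1, 3, 1, 2, 1, 2, 2, 1, 3, 1, 3, 3, 1, 2, 1, 3, 3, 1, 3, 1, 2, 1, 2, 2, 1, 3, 1, 4, 5, 4, 6, 6, 4, 5, 4, 6, 4, 5, 5, 4, 6], [1, 2, 2, 1, 3, 1, 2, 1, 3, 1, 2, 1, 3, 3, 1, 3, 1, 2, 2, 1, 3, 1, 2, 1, 3, 1, 3, 3, 4, 6, 6, 6, 4, 5, 5, 5, 4, 6, 4, 5, 5, 4, 6, 6]]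
def BR_157 : List (List ℕ) := [[1, 3, 3, 1, 3, 3, 1, 3, 1, 2, 2, 1, 3, 3, 1, 3, 1, 3, 1, 2, 1, 2, 2, 1, 2, 2, 1, 3, 6, 4, 5, 5, 5, 5, 4, 6, 4, 5, 5, 5, 4, 6], [2, 1, 3, 1, 2, 2, 1, 2, 1, 3, 3, 1, 2, 1, 2, 1, 3, 1, 3, 1, 2, 1, 2, 1, 3, 1, 2, 1, 4, 6, 4, 5, 4, 6, 6, 4, 5, 4, 6, 6, 6, 4, 6]]
def BR_158 : List (List ℕ) := [[1, 3, 1, 2, 2, 1, 3, 1, 3, 1, 3, 3, 1, 3, 1, 2, 1, 2, 1, 3, 1, 3, 3, 1, 3, 3, 1, 3, 6, 6, 4, 5, 5], [1, 3, 3, 1, 2, 1, 3, 3, 1, 3, 3, 1, 3, 1, 2, 1, 3, 1, 2, 1, 3, 1, 3, 1, 3, 1, 3, 3, 6, 6, 4, 5, 4, 6, 4, 5, 4, 6, 4, 5, 4, 6]]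
def BR_159 : List (List ℕ) := [[2, 2, 1, 2, 2, 1, 2, 1, 2, 1, 2, 2, 1, 3, 1, 3, 1, 3, 1, 2, 2, 1, 2, 1, 2, 1, 2, 2, 5, 5, 5, 5, 4, 6, 4, 5, 5, 5, 4], [1, 3, 3, 1, 2, 1, 3, 1, 3, 1, 3, 1, 2, 2, 1, 3, 1, 3, 1, 3, 1, 3, 3, 1, 2, 2, 1, 3, 4, 6, 4, 5, 5, 4, 6, 6, 6]]
def BR_160 : List (List ℕ) := [[2, 1, 2, 1, 2, 1, 2, 1, 3, 1, 2, 1, 2, 2, 1, 2, 1, 3, 3, 1, 3, 1, 2, 1, 3, 1, 3, 1, 5, 5, 4, 6, 6, 6, 4, 5, 4, 6, 6, 6, 4, 5, 5, 5], [2, 2, 1, 2, 1, 2, 2, 1, 2, 1, 3, 1, 2, 1, 3, 3, 1, 2, 1, 2, 1, 3, 1, 2, 2, 1, 3, 1, 4, 6, 4, 5, 5, 5, 5, 4, 6, 4, 5, 5, 5, 4, 6, 4]]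
def BR_161 : List (List ℕ) := [[2, 1, 3, 1, 2, 1, 2, 1, 3, 3, 1, 2, 2, 1, 3, 1, 3, 3, 1, 3, 1, 3, 3, 1, 3, 1, 3, 1, 6, 6, 4, 5, 4, 6, 4, 5, 4, 6, 6, 6, 4], [1, 3, 1, 2, 2, 1, 2, 1, 2, 1, 3, 1, 2, 2, 1, 2, 1, 2, 1, 3, 3, 1, 3, 1, 3, 3, 1, 3, 4, 6, 6, 6, 4, 5, 4, 6, 6, 6]]
def BR_162 : List (List ℕ) := [[2, 1, 2, 1, 3, 1, 2, 1, 3, 1, 2, 1, 3, 1, 3, 1, 3, 3, 1, 3, 1, 2, 1, 2, 1, 3, 3, 1, 6, 4, 5, 5, 5, 4, 6, 4, 5, 5, 5], [2, 1, 2, 1, 2, 2, 1, 3, 3, 1, 2, 1, 2, 2, 1, 3, 1, 2, 1, 3, 3, 1, 3, 1, 2, 1, 3, 1, 4, 5, 5, 4, 6, 4, 5, 4, 6, 6, 6, 4]]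
def BR_163 : List (List ℕ) := [[2, 2, 1, 3, 1, 2, 1, 3, 1, 3, 1, 3, 1, 2, 2, 1, 3, 1, 3, 1, 2, 1, 3, 1, 2, 1, 2, 2, 4, 6, 4, 5, 4, 6, 4, 5, 4, 6, 6, 6, 4, 5, 4], [2, 1, 2, 2, 1, 2, 1, 3, 3, 1, 2, 2, 1, 2, 1, 3, 3, 1, 3, 3, 1, 2, 2, 1, 3, 1, 3, 3, 4, 6, 4, 5, 5, 5, 4, 6, 6, 6, 4, 5, 4]]
def BR_164 : List (List ℕ) := [[3, 3, 1, 2, 1, 2, 1, 2, 1, 3, 3, 1, 2, 2, 1, 3, 3, 1, 2, 1, 2, 1, 2, 2, 1, 3, 1, 3, 4, 5, 5, 4, 6, 4, 5, 4, 6, 4, 5, 4], [3, 3, 1, 2, 1, 3, 3, 1, 2, 1, 3, 3, 1, 2, 1, 3, 1, 2, 2, 1, 3, 1, 2, 1, 3, 1, 2, 2, 6, 6, 6, 4, 5, 5, 5, 4, 6, 6, 6, 4]]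
def BR_165 : List (List ℕ) := [[2, 1, 3, 1, 2, 1, 2, 1, 3, 1, 2, 1, 3, 1, 3, 1, 3, 1, 2, 2, 1, 3, 3, 1, 3, 3, 1, 3, 5, 4, 6, 6, 6, 4, 5, 4, 6, 6, 4, 5, 5, 5], [3, 3, 1, 2, 2, 1, 2, 1, 3, 1, 2, 2, 1, 2, 1, 2, 1, 2, 2, 1, 3, 3, 1, 3, 3, 1, 3, 1, 5, 5, 4, 6, 4, 5, 4, 6, 4, 5, 5, 4, 6, 4, 5]]
def BR_166 : List (List ℕ) := [[2, 1, 3, 1, 2, 2, 1, 2, 1, 3, 3, 1, 3, 1, 2, 1, 3, 3, 1, 2, 1, 3, 1, 3, 3, 1, 2, 2, 6, 6, 6, 4, 5, 4, 6, 6, 6, 4, 5, 4, 6, 6, 6], [2, 1, 3, 3, 1, 2, 1, 3, 1, 2, 2, 1, 3, 1, 2, 2, 1, 3, 1, 2, 2, 1, 2, 1, 3, 1, 2, 2, 6, 6, 6, 4, 5, 5, 5, 4, 6, 6, 6, 4]]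
def BR_167 : List (List ℕ) := [[1, 3, 1, 3, 3, 1, 3, 3, 1, 2, 2, 1, 3, 3, 1, 2, 2, 1, 3, 1, 2, 1, 2, 1, 3, 1, 3, 3, 6, 6, 4, 5, 5, 4, 6, 4, 5, 5, 5, 4, 6], [3, 3, 1, 2, 2, 1, 2, 1, 2, 2, 1, 2, 2, 1, 3, 1, 3, 3, 1, 3, 1, 2, 1, 3, 3, 1, 3, 1, 4, 5, 4, 6, 4, 5, 4, 6, 4, 5, 4, 6, 4, 5, 5]]
def BR_168 : List (List ℕ) := [[2, 1, 3, 3, 1, 3, 3, 1, 2, 1, 2, 1, 2, 2, 1, 3, 1, 2, 2, 1, 2, 1, 3, 1, 3, 1, 2, 2, 4, 6, 4, 5, 4, 6, 4, 5, 4, 6, 6, 6, 4, 6], [1, 2, 1, 2, 2, 1, 3, 3, 1, 2, 1, 2, 1, 2, 2, 1, 2, 1, 3, 3, 1, 3, 3, 1, 3, 3, 1, 3, 6, 6, 6, 4, 5, 5, 5, 4, 6, 6, 6, 4, 5, 5, 5]]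
def BR_169 : List (List ℕ) := [[2, 2, 1, 3, 3, 1, 2, 1, 3, 3, 1, 3, 3, 1, 2, 1, 2, 1, 3, 1, 3, 3, 1, 3, 3, 1, 3, 3, 4, 6, 6, 4, 5, 5, 4, 6, 6], [2, 1, 2, 1, 2, 1, 3, 1, 3, 1, 3, 1, 3, 1, 2, 1, 2, 1, 2, 1, 2, 1, 3, 3, 1, 3, 1, 3, 6, 4, 5, 5, 5, 5, 4, 6, 6, 6, 4, 6]]
def BR_170 : List (List ℕ) := [[1, 2, 1, 3, 1, 3, 1, 3, 1, 2, 1, 2, 2, 1, 2, 1, 3, 3, 1, 3, 1, 3, 3, 1, 3, 3, 1, 3, 5], [1, 3, 3, 1, 2, 1, 2, 2, 1, 3, 1, 2, 1, 2, 1, 2, 1, 3, 3, 1, 3, 1, 2, 2, 1, 3, 3, 1, 5, 4, 6, 6, 6, 4, 5, 5, 5, 4, 5]]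
def BR_171 : List (List ℕ) := [[1, 3, 1, 3, 1, 3, 1, 2, 2, 1, 3, 3, 1, 2, 1, 3, 1, 2, 1, 3, 1, 3, 3, 1, 2, 1, 3, 1, 6, 6, 4, 5, 4, 6, 6, 6, 4, 5, 4, 6, 6, 6], [1, 2, 1, 3, 1, 3, 3, 1, 2, 1, 2, 2, 1, 2, 2, 1, 2, 1, 2, 2, 1, 3, 1, 2, 2, 1, 3, 1, 5, 4, 5, 5, 5, 4, 6, 4, 5, 4, 6, 4, 5, 4, 6, 4]]
def BR_172 : List (List ℕ) := [[2, 2, 1, 2, 1, 2, 1, 2, 2, 1, 3, 1, 2, 1, 2, 1, 3, 1, 3, 1, 2, 1, 2, 1, 2, 1, 3, 1, 5, 5, 5, 4, 6, 6, 6, 4, 5, 5, 5, 4, 6, 6, 6], [2, 2, 1, 3, 3, 1, 3, 3, 1, 2, 1, 3, 1, 2, 1, 3, 3, 1, 3, 3, 1, 2, 1, 2, 2, 1, 3, 1, 5, 5, 5, 4, 6, 4, 5, 4, 6, 4, 5, 4]]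
def BR_173 : List (List ℕ) := [[1, 3, 1, 3, 1, 3, 1, 2, 2, 1, 3, 1, 3, 3, 1, 3, 1, 2, 1, 3, 1, 2, 1, 2, 2, 1, 3, 3, 4, 6, 4, 5, 5, 4, 6, 4, 5, 5, 4, 6, 4, 5], [2, 1, 2, 2, 1, 3, 1, 3, 3, 1, 3, 1, 2, 1, 2, 2, 1, 2, 2, 1, 2, 2, 1, 2, 1, 2, 2, 1, 5, 4, 5, 5, 5, 4, 6, 4, 5, 5, 4, 6, 4, 5, 4, 6, 6, 6]]
def BR_174 : List (List ℕ) := [[1, 2, 1, 2, 1, 3, 3, 1, 2, 2, 1, 2, 1, 2, 1, 3, 1, 3, 1, 3, 3, 1, 2, 2, 1, 3, 3, 1, 6, 6, 6], [2, 1, 3, 3, 1, 2, 1, 3, 3, 1, 2, 1, 2, 2, 1, 2, 2, 1, 2, 1, 3, 3, 1, 2, 1, 3, 3, 1, 5, 4, 6, 6, 4, 5, 4, 6, 6, 6, 4, 5, 4, 6]]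
def BR_175 : List (List ℕ) := [[1, 2, 2, 1, 3, 1, 3, 1, 3, 1, 2, 1, 3, 3, 1, 3, 3, 1, 2, 1, 3, 1, 3, 1, 2, 1, 2, 2, 6, 4, 5, 4, 6, 4, 5, 4, 6, 6, 6], [2, 1, 2, 2, 1, 2, 1, 3, 1, 2, 2, 1, 2, 2, 1, 2, 2, 1, 3, 1, 2, 1, 2, 2, 1, 2, 1, 3, 6, 6, 6, 4, 5, 4, 6, 6, 6, 4, 5, 4, 6, 6, 4, 5]]
def BR_176 : List (List ℕ) := [[1, 3, 1, 3, 3, 1, 3, 1, 2, 2, 1, 2, 1, 2, 1, 3, 3, 1, 2, 1, 3, 1, 3, 1, 2, 1, 3, 1, 4, 5, 5, 4, 6, 4, 5, 5, 4, 6, 4, 5, 4, 6, 6, 6], [3, 3, 1, 3, 1, 2, 1, 3, 1, 2, 1, 2, 1, 2, 1, 2, 1, 3, 1, 3, 3, 1, 2, 2, 1, 2, 1, 3, 6, 6, 6, 4, 5, 4, 6, 6, 4, 5, 4, 6, 4, 5]]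
def BR_177 : List (List ℕ) := [[2, 1, 2, 1, 2, 1, 3, 3, 1, 3, 1, 3, 3, 1, 2, 2, 1, 3, 1, 2, 2, 1, 2, 1, 3, 3, 1, 3, 6, 4, 5, 4, 6, 6, 4, 5, 4, 6, 6, 6, 4, 5, 4, 6], [2, 1, 3, 1, 3, 3, 1, 2, 2, 1, 2, 1, 2, 2, 1, 2, 2, 1, 2, 1, 3, 1, 2, 2, 1, 2, 2, 1, 6, 6, 4, 5, 5, 4, 6, 4, 5, 5, 5, 4, 6, 6, 6, 4]]
def BR_178 : List (List ℕ) := [[1, 3, 1, 2, 1, 2, 2, 1, 2, 1, 2, 1, 3, 1, 2, 2, 1, 3, 1, 2, 1, 2, 2, 1, 3, 3, 1, 3, 5, 5, 5, 4, 6, 6, 4, 5, 4, 6, 4, 5, 5], [1, 3, 1, 3, 3, 1, 2, 2, 1, 2, 2, 1, 3, 3, 1, 3, 3, 1, 3, 1, 3, 3, 1, 2, 1, 3, 1, 3, 4, 6, 6, 4, 5, 4, 6, 4, 5, 4, 6, 4, 5, 4, 6, 4]]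
def BR_179 : List (List ℕ) := [[1, 2, 2, 1, 3, 1, 3, 3, 1, 3, 1, 2, 1, 2, 1, 3, 1, 3, 1, 2, 2, 1, 2, 1, 2, 1, 2, 1, 4, 5, 5, 5, 4, 6, 6, 6, 4, 5, 4, 6, 6, 4, 5, 5, 4, 6], [2, 2, 1, 2, 1, 2, 2, 1, 2, 2, 1, 2, 1, 2, 2, 1, 2, 2, 1, 2, 2, 1, 3, 1, 3, 1, 3, 1, 5, 4, 5, 5, 5, 5, 4, 6, 6, 6, 4, 5, 4]]
def BR_180 : List (List ℕ) := [[2, 1, 2, 1, 3, 1, 2, 2, 1, 3, 3, 1, 2, 2, 1, 3, 3, 1, 2, 2, 1, 3, 1, 3, 1, 3, 3, 1, 4, 6, 4, 5, 4, 6, 6, 4, 5, 4, 6, 6, 4], [1, 2, 1, 3, 3, 1, 2, 2, 1, 3, 3, 1, 2, 1, 2, 1, 2, 1, 3, 1, 3, 1, 3, 1, 3, 1, 2, 1, 4, 6, 4, 5, 5, 4, 6, 4, 5, 4, 6, 4, 5, 4]]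
def BR_181 : List (List ℕ) := [[2, 2, 1, 3, 3, 1, 3, 3, 1, 2, 1, 3, 3, 1, 2, 2, 1, 3, 3, 1, 3, 1, 2, 1, 2, 1, 2, 2, 4, 5, 5, 5, 4, 6, 6, 6, 4, 5, 5, 5, 4, 6], [2, 1, 2, 2, 1, 2, 1, 2, 1, 2, 1, 2, 2, 1, 2, 1, 3, 1, 3, 3, 1, 3, 3, 1, 3, 1, 3, 3, 4, 5, 5, 4, 6, 4]]
def BR_182 : List (List ℕ) := [[2, 2, 1, 3, 3, 1, 3, 1, 2, 2, 1, 3, 1, 3, 1, 3, 1, 3, 1, 3, 1, 3, 1, 3, 3, 1, 2, 2, 4, 5, 4, 6, 6, 4, 5, 5, 5], [3, 3, 1, 2, 1, 3, 3, 1, 2, 1, 2, 1, 3, 1, 3, 1, 3, 1, 3, 1, 2, 1, 2, 1, 3, 1, 2, 1, 5, 4, 6, 6, 4, 5, 4, 6, 4, 5, 5, 4]]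
def BR_183 : List (List ℕ) := [[1, 2, 2, 1, 3, 3, 1, 2, 1, 3, 3, 1, 3, 1, 2, 1, 3, 3, 1, 2, 1, 3, 1, 3, 3, 1, 2, 1, 6, 4, 6, 6, 6, 4, 6], [1, 3, 3, 1, 3, 1, 3, 1, 3, 1, 2, 1, 2, 1, 3, 1, 2, 2, 1, 2, 2, 1, 3, 3, 1, 3, 3, 1, 4, 6, 6, 6, 4, 5, 5, 5, 4, 6, 4, 5, 5, 5, 4]]
def BR_184 : List (List ℕ) := [[2, 1, 3, 1, 2, 1, 2, 1, 2, 1, 3, 1, 2, 1, 2, 2, 1, 3, 3, 1, 3, 3, 1, 2, 2, 1, 3, 1, 4, 5, 4, 6, 6, 4, 5, 4, 6, 4, 5, 4, 6, 6, 4, 5], [2, 2, 1, 3, 1, 2, 2, 1, 3, 1, 2, 2, 1, 2, 2, 1, 3, 1, 3, 3, 1, 3, 3, 1, 2, 1, 3, 1, 4, 5, 4, 5, 5, 5, 4, 6, 4, 5, 4, 6, 4, 5, 4, 6, 6]]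
def BR_185 : List (List ℕ) := [[1, 3, 1, 3, 1, 3, 1, 3, 3, 1, 2, 2, 1, 2, 1, 3, 1, 3, 1, 3, 3, 1, 2, 1, 3, 1, 2, 1, 6, 4, 5, 5, 4, 6, 6, 6], [1, 2, 2, 1, 3, 1, 2, 1, 3, 3, 1, 3, 3, 1, 2, 1, 2, 2, 1, 2, 1, 3, 1, 2, 1, 2, 2, 1, 5, 4, 6, 6, 4, 5, 4, 6, 4, 5, 5, 4, 6, 6]]
def BR_186 : List (List ℕ) := [[3, 3, 1, 3, 3, 1, 3, 3, 1, 3, 1, 2, 1, 2, 1, 3, 1, 3, 3, 1, 2, 1, 2, 1, 2, 1, 3, 3, 4, 6, 4, 5, 5, 5, 4, 6, 6, 6, 4, 5, 4, 6], [3, 3, 1, 2, 1, 2, 1, 3, 1, 2, 1, 3, 1, 2, 2, 1, 2, 1, 2, 1, 2, 1, 2, 1, 2, 1, 3, 1, 4, 6, 4, 5, 5, 5, 4, 6]]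
def BR_187 : List (List ℕ) := [[1, 3, 3, 1, 3, 1, 2, 1, 3, 3, 1, 3, 3, 1, 2, 1, 3, 3, 1, 2, 1, 2, 1, 3, 1, 3, 1, 3, 4, 6, 4, 5, 5, 4, 6, 4, 5, 4, 6, 4], [2, 2, 1, 2, 1, 2, 1, 3, 1, 3, 3, 1, 3, 1, 2, 1, 3, 3, 1, 2, 2, 1, 2, 1, 3, 1, 3, 3, 4, 5, 5, 4, 6, 4, 5, 5, 4, 6, 6, 4]]
def BR_188 : List (List ℕ) := [[1, 3, 1, 2, 2, 1, 3, 1, 2, 1, 3, 1, 2, 2, 1, 3, 3, 1, 3, 3, 1, 3, 3, 1, 3, 1, 2, 1, 4, 5, 5, 5, 5, 4, 6, 4, 5, 5, 4, 6], [3, 3, 1, 2, 2, 1, 2, 1, 2, 2, 1, 3, 1, 2, 2, 1, 2, 1, 2, 1, 2, 1, 2, 1, 2, 1, 2, 1, 6, 4, 5, 5, 5, 5, 4, 6, 6, 6, 4, 5, 4, 6]]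
def BR_189 : List (List ℕ) := [[2, 1, 3, 1, 2, 1, 3, 1, 2, 1, 3, 1, 2, 1, 3, 1, 2, 1, 2, 1, 3, 3, 1, 3, 1, 2, 2, 1, 6, 6, 6, 4, 5, 5, 5, 4, 6, 4], [2, 2, 1, 3, 3, 1, 3, 3, 1, 2, 2, 1, 3, 1, 3, 3, 1, 3, 1, 2, 1, 2, 1, 2, 1, 3, 3, 1, 6, 6, 4, 5, 5, 4]]
def BR_190 : List (List ℕ) := [[2, 2, 1, 2, 2, 1, 2, 2, 1, 3, 3, 1, 2, 1, 2, 1, 2, 1, 3, 1, 3, 3, 1, 2, 2, 1, 2, 2, 4, 5, 4, 6, 4, 5, 4, 6, 4, 5, 4, 6, 4, 5, 5, 4], [2, 1, 2, 1, 3, 3, 1, 2, 2, 1, 2, 1, 2, 2, 1, 3, 1, 3, 1, 2, 2, 1, 3, 3, 1, 2, 2, 1, 4, 6, 4, 6, 6, 6, 6, 4, 5, 4]]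
def BR_191 : List (List ℕ) := [[1, 3, 3, 1, 3, 1, 3, 3, 1, 2, 1, 2, 1, 2, 1, 3, 1, 3, 1, 3, 1, 3, 1, 3, 1, 3, 3, 1, 5, 4, 6, 4, 5, 4, 6, 4, 5, 5, 4, 6, 4], [2, 1, 3, 3, 1, 3, 1, 2, 1, 3, 1, 3, 1, 2, 1, 2, 2, 1, 2, 1, 3, 1, 3, 3, 1, 2, 1, 3, 4, 5, 4, 6, 6, 4, 5, 4, 6, 4, 5, 4, 6, 4]]
def BR_192 : List (List ℕ) := [[2, 1, 3, 1, 2, 2, 1, 3, 1, 2, 2, 1, 2, 1, 2, 1, 3, 3, 1, 2, 1, 3, 3, 1, 2, 1, 2, 2, 1, 5, 4, 6, 6, 6], [1, 3, 3, 1, 2, 1, 3, 1, 3, 3, 1, 3, 1, 2, 1, 3, 1, 3, 3, 1, 2, 1, 2, 2, 1, 3, 1, 2, 1, 5, 5, 4, 6, 6, 6, 4, 5, 4, 6, 6, 4, 5, 5, 4, 6, 6]]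
def BR_193 : List (List ℕ) := [[2, 1, 2, 2, 1, 2, 2, 1, 2, 1, 3, 1, 2, 2, 1, 3, 3, 1, 2, 1, 3, 1, 3, 3, 1, 3, 3, 1, 3, 6, 6, 4, 5, 5, 5, 4, 6, 6, 6, 4, 5, 5], [1, 3, 3, 1, 3, 1, 3, 1, 3, 1, 3, 3, 1, 3, 1, 3, 1, 2, 1, 3, 1, 3, 3, 1, 3, 3, 1, 3, 1, 4, 6, 4, 5, 5, 5, 4, 6, 4, 5, 5, 5, 4, 6, 4, 5]]
def BR_194 : List (List ℕ) := [[2, 2, 1, 3, 1, 2, 2, 1, 2, 2, 1, 2, 2, 1, 2, 1, 2, 2, 1, 3, 1, 3, 1, 3, 1, 3, 3, 1, 3, 5, 4, 5, 5, 5, 4, 6, 4, 5, 5, 5, 4, 6, 4, 5], [1, 3, 1, 3, 1, 2, 1, 3, 3, 1, 3, 1, 3, 3, 1, 2, 1, 2, 2, 1, 2, 1, 2, 2, 1, 2, 1, 3, 3, 6, 6, 6, 4, 5, 5, 5, 4, 6, 4, 5, 5, 4, 6, 4]]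
def BR_195 : List (List ℕ) := [[1, 2, 1, 2, 1, 2, 1, 3, 1, 2, 1, 2, 1, 3, 1, 3, 1, 2, 1, 3, 3, 1, 2, 2, 1, 3, 1, 2, 2, 4, 5, 5, 5, 4, 6, 4, 5, 5, 5, 4, 6, 4, 5, 5, 4, 6, 4]]
def BRg_0 : List (List ℕ) := BR_0 ++ BR_1 ++ BR_2 ++ BR_3 ++ BR_4 ++ BR_5 ++ BR_6 ++ BR_7 ++ BR_8 ++ BR_9 ++ BR_10 ++ BR_11 ++ BR_12 ++ BR_13 ++ BR_14 ++ BR_15 ++ BR_16 ++ BR_17 ++ BR_18 ++ BR_19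
def BRg_1 : List (List ℕ) := BR_20 ++ BR_21 ++ BR_22 ++ BR_23 ++ BR_24 ++ BR_25 ++ BR_26 ++ BR_27 ++ BR_28 ++ BR_29 ++ BR_30 ++ BR_31 ++ BR_32 ++ BR_33 ++ BR_34 ++ BR_35 ++ BR_36 ++ BR_37 ++ BR_38 ++ BR_39
def BRg_2 : List (List ℕ) := BR_40 ++ BR_41 ++ BR_42 ++ BR_43 ++ BR_44 ++ BR_45 ++ BR_46 ++ BR_47 ++ BR_48 ++ BR_49 ++ BR_50 ++ BR_51 ++ BR_52 ++ BR_53 ++ BR_54 ++ BR_55 ++ BR_56 ++ BR_57 ++ BR_58 ++ BR_59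
def BRg_3 : List (List ℕ) := BR_60 ++ BR_61 ++ BR_62 ++ BR_63 ++ BR_64 ++ BR_65 ++ BR_66 ++ BR_67 ++ BR_68 ++ BR_69 ++ BR_70 ++ BR_71 ++ BR_72 ++ BR_73 ++ BR_74 ++ BR_75 ++ BR_76 ++ BR_77 ++ BR_78 ++ BR_79
def BRg_4 : List (List ℕ) := BR_80 ++ BR_81 ++ BR_82 ++ BR_83 ++ BR_84 ++ BR_85 ++ BR_86 ++ BR_87 ++ BR_88 ++ BR_89 ++ BR_90 ++ BR_91 ++ BR_92 ++ BR_93 ++ BR_94 ++ BR_95 ++ BR_96 ++ BR_97 ++ BR_98 ++ BR_99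
def BRg_5 : List (List ℕ) := BR_100 ++ BR_101 ++ BR_102 ++ BR_103 ++ BR_104 ++ BR_105 ++ BR_106 ++ BR_107 ++ BR_108 ++ BR_109 ++ BR_110 ++ BR_111 ++ BR_112 ++ BR_113 ++ BR_114 ++ BR_115 ++ BR_116 ++ BR_117 ++ BR_118 ++ BR_119
def BRg_6 : List (List ℕ) := BR_120 ++ BR_121 ++ BR_122 ++ BR_123 ++ BR_124 ++ BR_125 ++ BR_126 ++ BR_127 ++ BR_128 ++ BR_129 ++ BR_130 ++ BR_131 ++ BR_132 ++ BR_133 ++ BR_134 ++ BR_135 ++ BR_136 ++ BR_137 ++ BR_138 ++ BR_139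
def BRg_7 : List (List ℕ) := BR_140 ++ BR_141 ++ BR_142 ++ BR_143 ++ BR_144 ++ BR_145 ++ BR_146 ++ BR_147 ++ BR_148 ++ BR_149 ++ BR_150 ++ BR_151 ++ BR_152 ++ BR_153 ++ BR_154 ++ BR_155 ++ BR_156 ++ BR_157 ++ BR_158 ++ BR_159
def BRg_8 : List (List ℕ) := BR_160 ++ BR_161 ++ BR_162 ++ BR_163 ++ BR_164 ++ BR_165 ++ BR_166 ++ BR_167 ++ BR_168 ++ BR_169 ++ BR_170 ++ BR_171 ++ BR_172 ++ BR_173 ++ BR_174 ++ BR_175 ++ BR_176 ++ BR_177 ++ BR_178 ++ BR_179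
def BRg_9 : List (List ℕ) := BR_180 ++ BR_181 ++ BR_182 ++ BR_183 ++ BR_184 ++ BR_185 ++ BR_186 ++ BR_187 ++ BR_188 ++ BR_189 ++ BR_190 ++ BR_191 ++ BR_192 ++ BR_193 ++ BR_194 ++ BR_195
def BR : List (List ℕ) := BRg_0 ++ BRg_1 ++ BRg_2 ++ BRg_3 ++ BRg_4 ++ BRg_5 ++ BRg_6 ++ BRg_7 ++ BRg_8 ++ BRg_9
set_option maxRecDepth 10000000 in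
noncomputable def rt : RT := (.node 2796 (.node 1398 (.node 699 (.node 349 (.node 174 (.node 87 (.node 43 (.node 21 (.node 10 (.node 5 (.node 2 (.node 1 (.leaf 0 0 []) (.leaf 1 3 [4, 3, 1, 2])) (.node 3 (.leaf 2 8 [2, 1, 3, 1, 3, 1, 2, 2, 1, 6, 1, 2, 1, 2, 2, 1, 2, 1]) (.node 4 (.leaf 2 17 [6, 1, 2, 1, 2, 2, 1, 2, 1, 2, 1, 3, 1, 3, 1, 2, 2, 1]) (.leaf 7 15 [1, 2, 2, 1, 2, 2, 1, 2, 2, 1, 2, 2, 1, 2, 2, 1, 2, 2, 1, 2, 2, 1, 2, 2, 1, 2, 2, 1, 2, 2])))) (.node 7 (.node 6 (.leaf 3 2 [2, 2, 2, 2, 2]) (.leaf 1 1 [1, 2, 4, 3])) (.node 8 (.leaf 8 17 [3, 1, 3, 3, 1, 3, 3, 1, 3, 3, 1, 3, 3, 1, 3, 3, 1, 3, 3, 1, 3, 3, 1, 3, 3, 1, 3, 3, 1, 3]) (.node 9 (.leaf 8 14 [3, 1, 3, 3, 1, 3, 3, 1, 3, 3, 1, 3, 3, 1, 3, 3, 1, 3, 3, 1, 3, 3, 1, 3, 3, 1, 3, 3, 1, 3]) (.leaf 7 14 [2, 1, 2, 2, 1, 2, 2, 1, 2, 2, 1, 2, 2, 1, 2, 2, 1, 2, 2, 1, 2, 2, 1, 2, 2, 1, 2, 2, 1, 2]))))) (.node 15 (.node 12 (.node 11 (.leaf 10 5 [3, 3, 3, 1, 3, 3, 3, 1, 3, 3, 3, 1, 3, 3, 3, 1, 3, 3, 3, 1, 3, 3, 3, 1, 3, 3, 3, 1, 3, 3, 3, 1, 3, 3, 3, 1, 3, 3, 3, 1]) (.leaf 9 5 [2, 2, 2, 1, 2, 2, 2, 1, 2, 2, 2, 1, 2, 2, 2, 1, 2, 2, 2, 1, 2, 2, 2, 1, 2, 2, 2, 1, 2, 2, 2, 1, 2, 2, 2, 1, 2, 2, 2, 1])) (.node 13 (.leaf 11 7 [2, 2, 1, 2, 2, 1, 2, 2, 1, 5, 5, 4, 6, 4, 5, 5, 5, 4, 6, 4, 5, 5, 4, 6, 6, 4, 5, 2, 2, 1, 3, 1, 2, 1]) (.node 14 (.leaf 3 3 [2, 2, 2, 2, 2]) (.leaf 12 8 [2, 2, 1, 3, 3, 1, 2, 1, 3, 4, 6, 6, 4, 5, 4, 6, 6, 6, 4, 5, 4, 6, 6, 3, 3, 1, 2, 1, 2, 2, 1])))) (.node 18 (.node 16 (.leaf 3 4 [2, 2, 2, 2, 2]) (.node 17 (.leaf 13 8 [2, 1, 2, 2, 1, 3, 3, 1, 2, 1, 4, 6, 4, 5, 4, 6, 6, 4, 5, 4, 5, 1, 3, 3, 1, 2, 1, 2, 1]) (.leaf 3 1 [2, 2, 2, 2, 2]))) (.node 19 (.leaf 7 19 [2, 2, 1, 2, 2, 1, 2, 2, 1, 2, 2, 1, 2, 2, 1, 2, 2, 1, 2, 2, 1, 2, 2, 1, 2, 2, 1, 2, 2, 1]) (.node 20 (.leaf 9 18 [2, 2, 1, 2, 2, 2, 1, 2, 2, 2, 1, 2, 2, 2, 1, 2, 2, 2, 1, 2, 2, 2, 1, 2, 2, 2, 1, 2, 2, 2, 1, 2, 2, 2, 1, 2, 2, 2, 1, 2]) (.leaf 14 9 [2, 2, 1, 2, 2, 1, 2, 1, 2, 2, 5, 4, 5, 5, 5, 5, 4, 6, 4, 5, 5, 5, 4, 6, 6, 1, 3, 3, 1, 2, 2, 1, 2, 1])))))) (.node 32 (.node 26 (.node 23 (.node 22 (.leaf 7 24 [1, 2, 2, 1, 2, 2, 1, 2, 2, 1, 2, 2, 1, 2, 2, 1, 2, 2, 1, 2, 2, 1, 2, 2, 1, 2, 2, 1, 2, 2]) (.leaf 15 9 [2, 1, 2, 1, 2, 1, 2, 1, 2, 2, 6, 4, 5, 1, 3, 3, 1, 2, 1, 3, 1, 2])) (.node 24 (.leaf 15 19 [6, 4, 5, 1, 3, 3, 1, 2, 1, 3, 1, 2, 2, 1, 2, 1, 2, 1, 2, 1, 2, 2]) (.node 25 (.leaf 15 21 [5, 1, 3, 3, 1, 2, 1, 3, 1, 2, 2, 1, 2, 1, 2, 1, 2, 1, 2, 2, 6, 4]) (.leaf 15 18 [2, 6, 4, 5, 1, 3, 3, 1, 2, 1, 3, 1, 2, 2, 1, 2, 1, 2, 1, 2, 1, 2])))) (.node 29 (.node 27 (.leaf 2 0 [1, 2, 1, 2, 2, 1, 2, 1, 2, 1, 3, 1, 3, 1, 2, 2, 1, 6]) (.node 28 (.leaf 16 9 [2, 2, 1, 2, 1, 2, 1, 2, 2, 1, 6, 4, 5, 4, 6, 6, 4, 5, 4, 6, 4, 5, 4, 6, 6, 1, 2, 1, 3, 1, 2, 1, 3, 1]) (.leaf 17 10 [1, 3, 1, 3, 3, 1, 3, 1, 2, 2, 1, 4, 5, 5, 4, 6, 6, 4, 5, 4, 6, 6, 6, 4, 5, 5, 1, 2, 1, 3, 3, 1, 2, 2, 1, 2]))) (.node 30 (.leaf 18 10 [1, 3, 1, 2, 1, 2, 2, 1, 3, 1, 3, 6, 6, 6, 4, 5, 5, 5, 4, 2, 1, 3, 1, 2, 2, 1, 3, 1, 3]) (.node 31 (.leaf 19 10 [1, 3, 1, 2, 1, 3, 1, 3, 1, 2, 1, 4, 5, 4, 6, 6, 6, 4, 5, 5, 5, 4, 6, 4, 5, 5, 1, 3, 1, 2, 1, 2, 1, 3, 1, 2]) (.leaf 20 10 [2, 2, 1, 3, 1, 2, 2, 1, 3, 3, 1, 3, 4, 5, 4, 6, 6, 4, 5, 4, 6, 6, 6, 4, 2, 2, 1, 3, 1, 3, 1, 3, 3, 1]))))) (.node 37 (.node 34 (.node 33 (.leaf 9 4 [1, 2, 2, 2, 1, 2, 2, 2, 1, 2, 2, 2, 1, 2, 2, 2, 1, 2, 2, 2, 1, 2, 2, 2, 1, 2, 2, 2, 1, 2, 2, 2, 1, 2, 2, 2, 1, 2, 2, 2]) (.leaf 21 11 [1, 2, 2, 1, 2, 1, 3, 3, 1, 2, 2, 4, 5, 4, 6, 6, 4, 5, 4, 6, 6, 6, 4, 6, 2, 1, 2, 1, 2, 1, 3, 3, 1, 2, 2])) (.node 35 (.leaf 22 10 [2, 1, 3, 1, 2, 2, 1, 2, 2, 1, 3, 1, 5, 5, 4, 6, 4, 5, 4, 3, 3, 1, 2, 1, 2, 1, 2, 1, 2]) (.node 36 (.leaf 23 11 [1, 3, 3, 1, 2, 1, 3, 1, 2, 1, 3, 4, 5, 4, 5, 5, 5, 4, 6, 4, 5, 1, 2, 1, 3, 1, 3, 3, 1, 3, 1, 2]) (.leaf 24 10 [1, 3, 1, 2, 1, 2, 1, 3, 3, 1, 3, 1, 5, 5, 5, 5, 4, 6, 4, 5, 5, 1, 2, 1, 3, 1, 3, 3, 1, 3, 3])))) (.node 40 (.node 38 (.leaf 25 11 [2, 2, 1, 3, 1, 2, 1, 2, 1, 2, 2, 4, 5, 4, 6, 4, 5, 4, 6, 4, 5, 4, 6, 6, 6, 4, 2, 2, 1, 2, 2, 1, 3, 3, 1, 2, 1]) (.node 39 (.leaf 26 10 [2, 1, 3, 1, 3, 1, 2, 2, 1, 3, 1, 3, 4, 5, 4, 6, 4, 5, 5, 4, 6, 4, 5, 5, 5, 4, 6, 4, 5, 2, 2, 1, 2, 2, 1, 2, 1, 3, 1]) (.leaf 27 11 [2, 1, 3, 1, 2, 2, 1, 2, 1, 2, 2, 4, 6, 4, 5, 5, 4, 6, 4, 5, 5, 4, 1, 2, 1, 2, 2, 1, 3, 3, 1, 3, 1]))) (.node 41 (.leaf 28 10 [2, 2, 1, 3, 1, 3, 3, 1, 2, 1, 2, 1, 4, 5, 4, 6, 4, 5, 5, 4, 6, 4, 5, 5, 5, 3, 3, 1, 2, 1, 2, 1, 3, 3, 1]) (.node 42 (.leaf 29 11 [1, 2, 2, 1, 3, 1, 3, 3, 1, 2, 1, 4, 5, 4, 6, 6, 4, 5, 4, 6, 4, 5, 4, 6, 6, 4, 1, 3, 1, 2, 1, 3, 3, 1, 2, 1, 3]) (.leaf 30 10 [2, 1, 3, 3, 1, 2, 1, 3, 3, 1, 2, 1, 4, 5, 5, 5, 4, 6, 6, 6, 4, 5, 4, 6, 6, 6, 4, 5, 2, 2, 1, 2, 1, 3, 3, 1, 3, 1]))))))) (.node 65 (.node 54 (.node 48 (.node 45 (.node 44 (.leaf 31 11 [1, 2, 2, 1, 2, 2, 1, 3, 3, 1, 3, 4, 6, 4, 5, 5, 5, 4, 6, 4, 5, 4, 2, 1, 2, 1, 2, 2, 1, 2, 2, 1, 2]) (.leaf 7 22 [2, 2, 1, 2, 2, 1, 2, 2, 1, 2, 2, 1, 2, 2, 1, 2, 2, 1, 2, 2, 1, 2, 2, 1, 2, 2, 1, 2, 2, 1])) (.node 46 (.leaf 32 11 [1, 2, 2, 1, 2, 1, 2, 1, 2, 1, 3, 1, 4, 6, 4, 5, 5, 5, 4, 6, 6, 4, 5, 4, 1, 3, 3, 1, 3, 1, 2, 2, 1, 3, 3]) (.node 47 (.leaf 33 11 [2, 1, 2, 1, 3, 1, 2, 1, 3, 1, 3, 3, 4, 6, 6, 4, 5, 4, 6, 6, 6, 4, 5, 4, 6, 2, 2, 1, 3, 1, 3, 1, 3, 1, 3, 1]) (.leaf 34 11 [1, 2, 1, 2, 2, 1, 2, 1, 3, 1, 2, 2, 4, 5, 5, 5, 4, 6, 4, 5, 4, 2, 2, 1, 2, 2, 1, 3, 1, 3, 1, 2])))) (.node 51 (.node 49 (.leaf 35 11 [2, 1, 2, 1, 2, 1, 2, 1, 2, 2, 1, 3, 5, 4, 6, 4, 5, 5, 4, 6, 6, 4, 5, 2, 2, 1, 3, 3, 1, 3, 1, 2, 2, 1]) (.node 50 (.leaf 36 11 [2, 2, 1, 3, 1, 2, 1, 3, 3, 1, 3, 3, 4, 5, 5, 5, 4, 6, 6, 6, 4, 5, 4, 6, 3, 3, 1, 3, 1, 2, 1, 3, 1, 3, 1]) (.leaf 37 11 [1, 3, 3, 1, 3, 1, 3, 3, 1, 2, 1, 3, 5, 5, 4, 6, 4, 5, 4, 6, 4, 5, 4, 6, 4, 5, 4, 6, 3, 3, 1, 2, 1, 3, 3, 1, 3, 1, 2]))) (.node 52 (.leaf 38 11 [2, 2, 1, 3, 1, 2, 2, 1, 3, 1, 3, 3, 4, 5, 5, 5, 4, 6, 6, 4, 5, 5, 4, 1, 3, 1, 3, 1, 2, 1, 2, 1, 3, 1]) (.node 53 (.leaf 39 11 [1, 2, 1, 3, 3, 1, 3, 3, 1, 2, 2, 1, 4, 5, 5, 4, 6, 4, 5, 5, 4, 6, 6, 4, 5, 5, 1, 3, 3, 1, 2, 2, 1, 2, 2, 1, 3]) (.leaf 40 11 [1, 2, 1, 3, 3, 1, 3, 1, 2, 2, 1, 3, 5, 4, 6, 4, 5, 4, 6, 4, 5, 5, 4, 3, 3, 1, 2, 1, 3, 3, 1, 2, 1, 3]))))) (.node 59 (.node 56 (.node 55 (.leaf 41 11 [2, 1, 3, 1, 2, 1, 3, 1, 2, 2, 1, 3, 5, 4, 6, 6, 4, 5, 4, 6, 6, 6, 4, 5, 4, 6, 6, 4, 5, 5, 1, 2, 2, 1, 2, 2, 1, 2, 1, 3, 1]) (.leaf 42 11 [1, 3, 3, 1, 3, 3, 1, 3, 1, 3, 1, 3, 6, 4, 5, 4, 6, 4, 5, 4, 6, 4, 5, 4, 6, 4, 5, 2, 1, 2, 1, 2, 1, 2, 2, 1, 2, 2])) (.node 57 (.leaf 43 11 [1, 3, 3, 1, 2, 2, 1, 2, 1, 3, 1, 3, 4, 5, 5, 4, 6, 6, 4, 5, 4, 6, 6, 6, 4, 5, 5, 5, 4, 2, 2, 1, 2, 1, 3, 1, 2, 2, 1, 3]) (.node 58 (.leaf 44 11 [2, 1, 3, 1, 3, 3, 1, 2, 1, 2, 2, 1, 4, 6, 4, 5, 4, 6, 6, 4, 5, 5, 5, 4, 3, 3, 1, 3, 3, 1, 2, 2, 1, 2, 1]) (.leaf 45 11 [2, 2, 1, 2, 1, 2, 2, 1, 2, 1, 2, 2, 4, 6, 6, 6, 4, 5, 5, 5, 4, 6, 4, 5, 5, 5, 4, 6, 6, 1, 2, 2, 1, 3, 1, 3, 3, 1, 2, 1])))) (.node 62 (.node 60 (.leaf 46 11 [1, 2, 1, 2, 2, 1, 2, 1, 3, 1, 2, 1, 4, 5, 5, 5, 5, 4, 6, 6, 6, 1, 3, 1, 3, 3, 1, 2, 2, 1, 3, 3]) (.node 61 (.leaf 47 11 [2, 1, 3, 3, 1, 3, 1, 2, 1, 2, 2, 1, 5, 5, 5, 4, 6, 6, 4, 2, 2, 1, 2, 1, 3, 1, 2, 2, 1, 2]) (.leaf 7 11 [2, 1, 2, 2, 1, 2, 2, 1, 2, 2, 1, 2, 2, 1, 2, 2, 1, 2, 2, 1, 2, 2, 1, 2, 2, 1, 2, 2, 1, 2]))) (.node 63 (.leaf 48 11 [2, 1, 2, 2, 1, 2, 1, 2, 2, 1, 3, 1, 4, 6, 6, 6, 4, 5, 5, 5, 4, 6, 4, 5, 5, 4, 6, 6, 1, 3, 3, 1, 2, 1, 3, 1, 3, 1, 2]) (.node 64 (.leaf 7 18 [1, 2, 2, 1, 2, 2, 1, 2, 2, 1, 2, 2, 1, 2, 2, 1, 2, 2, 1, 2, 2, 1, 2, 2, 1, 2, 2, 1, 2, 2]) (.leaf 49 12 [1, 3, 1, 3, 1, 2, 1, 2, 1, 2, 1, 3, 5, 5, 4, 6, 4, 5, 4, 6, 4, 5, 4, 6, 4, 2, 1, 2, 1, 3, 3, 1, 2, 2, 1, 3, 3])))))) (.node 76 (.node 70 (.node 67 (.node 66 (.leaf 50 12 [2, 1, 3, 3, 1, 3, 3, 1, 2, 2, 1, 3, 4, 6, 4, 5, 5, 5, 5, 1, 3, 3, 1, 2, 1, 3, 3, 1, 2, 2, 1]) (.leaf 51 12 [1, 2, 1, 3, 1, 3, 1, 3, 3, 1, 2, 2, 5, 4, 6, 6, 6, 6, 4, 6, 1, 2, 1, 3, 1, 3, 3, 1, 2, 2, 1, 3])) (.node 68 (.leaf 52 12 [1, 3, 1, 2, 1, 2, 1, 2, 1, 3, 1, 3, 4, 5, 1, 2, 1, 2, 1, 3, 3, 1, 3, 1, 2, 2]) (.node 69 (.leaf 52 25 [5, 1, 2, 1, 2, 1, 3, 3, 1, 3, 1, 2, 2, 1, 3, 1, 2, 1, 2, 1, 2, 1, 3, 1, 3, 4]) (.leaf 2 1 [2, 1, 2, 2, 1, 2, 1, 2, 1, 3, 1, 3, 1, 2, 2, 1, 6, 1])))) (.node 73 (.node 71 (.leaf 53 12 [2, 1, 3, 1, 3, 1, 2, 1, 3, 3, 1, 3, 5, 4, 5, 5, 5, 4, 6, 6, 4, 5, 4, 1, 2, 2, 1, 2, 1, 2, 2, 1, 2, 1, 2]) (.node 72 (.leaf 54 12 [2, 1, 2, 1, 3, 1, 2, 1, 2, 1, 3, 3, 5, 5, 4, 6, 4, 5, 4, 6, 4, 5, 5, 4, 6, 4, 1, 2, 2, 1, 3, 3, 1, 2, 1, 2, 1, 2]) (.leaf 55 12 [1, 2, 1, 2, 1, 3, 1, 3, 3, 1, 2, 2, 4, 6, 6, 4, 5, 4, 6, 6, 4, 5, 4, 6, 6, 2, 1, 2, 1, 3, 3, 1, 2, 1, 3, 1, 3]))) (.node 74 (.leaf 56 11 [1, 3, 1, 3, 1, 3, 1, 3, 1, 2, 1, 3, 1, 4, 5, 5, 5, 4, 6, 4, 5, 5, 5, 4, 6, 6, 6, 4, 5, 2, 1, 2, 1, 2, 1, 3, 1, 3, 1, 2]) (.node 75 (.leaf 57 11 [1, 2, 1, 3, 1, 3, 1, 3, 3, 1, 3, 3, 1, 6, 6, 6, 4, 5, 4, 6, 6, 4, 5, 5, 2, 2, 1, 3, 3, 1, 3, 1, 3, 1, 3]) (.leaf 58 11 [2, 1, 2, 2, 1, 3, 1, 3, 3, 1, 3, 3, 1, 4, 6, 4, 5, 5, 5, 4, 6, 6, 4, 1, 3, 1, 3, 1, 2, 1, 3, 3, 1, 2]))))) (.node 81 (.node 78 (.node 77 (.leaf 59 12 [2, 1, 3, 3, 1, 2, 2, 1, 2, 1, 3, 3, 5, 5, 4, 6, 6, 6, 4, 2, 1, 2, 1, 3, 1, 3, 3, 1, 3, 3, 1]) (.leaf 60 12 [1, 2, 2, 1, 2, 2, 1, 2, 2, 1, 2, 1, 4, 5, 4, 5, 5, 5, 5, 4, 6, 4, 5, 5, 5, 4, 6, 4, 5, 5, 1, 3, 1, 3, 1, 2, 2, 1, 3, 3, 1, 2])) (.node 79 (.leaf 7 25 [2, 2, 1, 2, 2, 1, 2, 2, 1, 2, 2, 1, 2, 2, 1, 2, 2, 1, 2, 2, 1, 2, 2, 1, 2, 2, 1, 2, 2, 1]) (.node 80 (.leaf 10 33 [3, 3, 3, 1, 3, 3, 3, 1, 3, 3, 3, 1, 3, 3, 3, 1, 3, 3, 3, 1, 3, 3, 3, 1, 3, 3, 3, 1, 3, 3, 3, 1, 3, 3, 3, 1, 3, 3, 3, 1]) (.leaf 61 12 [2, 1, 2, 1, 2, 2, 1, 3, 3, 1, 2, 2, 4, 6, 6, 6, 4, 5, 4, 6, 6, 6, 4, 5, 4, 6, 2, 1, 3, 1, 3, 3, 1, 2, 2, 1, 3, 1])))) (.node 84 (.node 82 (.leaf 62 11 [2, 1, 2, 2, 1, 2, 1, 3, 1, 3, 1, 3, 1, 4, 5, 4, 6, 6, 4, 5, 4, 6, 4, 5, 4, 6, 6, 4, 2, 1, 3, 3, 1, 3, 3, 1, 2, 2, 1]) (.node 83 (.leaf 63 12 [2, 2, 1, 3, 1, 3, 1, 3, 3, 1, 3, 3, 4, 5, 4, 5, 5, 5, 4, 6, 4, 5, 5, 4, 6, 4, 5, 1, 3, 1, 3, 1, 3, 1, 2, 2, 1, 2, 1]) (.leaf 64 12 [2, 1, 3, 3, 1, 2, 1, 3, 3, 1, 3, 3, 4, 6, 4, 5, 5, 4, 6, 6, 6, 4, 5, 4, 2, 2, 1, 2, 1, 2, 1, 3, 1, 2, 1, 2]))) (.node 85 (.leaf 65 11 [1, 2, 1, 2, 1, 2, 1, 2, 1, 3, 1, 2, 1, 6, 6, 4, 5, 5, 4, 6, 4, 5, 4, 6, 4, 5, 5, 5, 2, 2, 1, 3, 3, 1, 2, 1, 2, 1, 2]) (.node 86 (.leaf 66 12 [2, 1, 2, 1, 3, 3, 1, 2, 2, 1, 2, 2, 5, 5, 4, 6, 4, 5, 4, 6, 6, 4, 5, 5, 1, 3, 3, 1, 2, 1, 3, 1, 3, 3, 1, 2]) (.leaf 67 12 [2, 1, 2, 1, 3, 3, 1, 3, 3, 1, 3, 3, 4, 6, 6, 6, 4, 5, 4, 6, 6, 6, 4, 5, 4, 6, 6, 4, 5, 4, 1, 2, 1, 3, 3, 1, 3, 1, 3, 1, 3, 1])))))))) (.node 130 (.node 108 (.node 97 (.node 92 (.node 89 (.node 88 (.leaf 68 12 [2, 2, 1, 3, 1, 2, 1, 2, 2, 1, 3, 3, 4, 5, 4, 5, 5, 5, 5, 4, 5, 1, 2, 1, 2, 1, 2, 1, 3, 3, 1, 3, 1]) (.leaf 2 2 [1, 2, 2, 1, 2, 1, 2, 1, 3, 1, 3, 1, 2, 2, 1, 6, 1, 2])) (.node 90 (.leaf 69 11 [2, 1, 2, 1, 3, 1, 3, 1, 3, 3, 1, 3, 3, 5, 5, 4, 6, 4, 5, 4, 6, 4, 5, 4, 6, 6, 4, 5, 4, 3, 3, 1, 2, 1, 3, 1, 3, 3, 1, 2]) (.node 91 (.leaf 70 12 [1, 2, 1, 3, 1, 2, 1, 3, 1, 2, 1, 2, 1, 6, 4, 5, 5, 5, 4, 5, 1, 2, 1, 2, 1, 3, 1, 2, 1, 3, 1, 3]) (.leaf 71 12 [1, 3, 3, 1, 3, 3, 1, 2, 2, 1, 3, 1, 3, 6, 6, 6, 4, 5, 4, 6, 6, 4, 5, 5, 5, 2, 1, 2, 1, 2, 1, 3, 1, 2, 1, 2, 2])))) (.node 94 (.node 93 (.leaf 72 12 [2, 1, 2, 1, 2, 1, 2, 1, 2, 2, 1, 3, 1, 6, 6, 6, 4, 5, 4, 6, 6, 4, 5, 2, 2, 1, 2, 1, 3, 1, 2, 1, 2, 2, 1]) (.leaf 73 12 [1, 3, 1, 3, 3, 1, 2, 1, 3, 3, 1, 3, 3, 4, 6, 6, 6, 4, 5, 4, 6, 6, 6, 4, 5, 4, 6, 6, 4, 2, 2, 1, 2, 1, 3, 3, 1, 3, 3, 1, 3])) (.node 95 (.leaf 74 12 [1, 3, 1, 2, 1, 2, 2, 1, 3, 3, 1, 3, 3, 5, 5, 4, 6, 6, 4, 2, 1, 3, 3, 1, 2, 1, 3, 1, 2, 1, 2]) (.node 96 (.leaf 75 12 [1, 2, 2, 1, 3, 3, 1, 2, 1, 2, 1, 3, 3, 6, 6, 4, 5, 5, 5, 4, 6, 4, 5, 5, 5, 4, 1, 2, 1, 3, 1, 2, 1, 3, 3, 1, 3, 3]) (.leaf 76 12 [2, 2, 1, 3, 1, 2, 2, 1, 2, 2, 1, 2, 2, 6, 4, 5, 4, 6, 6, 4, 5, 5, 4, 6, 1, 2, 1, 3, 1, 2, 1, 2, 1, 3, 3, 1]))))) (.node 102 (.node 99 (.node 98 (.leaf 77 12 [1, 2, 1, 3, 1, 3, 3, 1, 2, 1, 3, 1, 3, 6, 2, 2, 1, 2, 2, 1, 2, 2, 1, 3, 1, 2]) (.leaf 77 25 [6, 2, 2, 1, 2, 2, 1, 2, 2, 1, 3, 1, 2, 1, 2, 1, 3, 1, 3, 3, 1, 2, 1, 3, 1, 3])) (.node 100 (.leaf 2 5 [1, 2, 1, 2, 1, 3, 1, 3, 1, 2, 2, 1, 6, 1, 2, 1, 2, 2]) (.node 101 (.leaf 2 13 [1, 2, 2, 1, 6, 1, 2, 1, 2, 2, 1, 2, 1, 2, 1, 3, 1, 3]) (.leaf 78 12 [1, 2, 1, 2, 2, 1, 3, 1, 2, 1, 2, 2, 1, 5, 5, 4, 6, 6, 4, 5, 4, 6, 6, 6, 4, 5, 5, 5, 4, 2, 2, 1, 3, 1, 3, 1, 2, 2, 1, 2, 2])))) (.node 105 (.node 103 (.leaf 79 12 [2, 1, 3, 1, 3, 1, 3, 3, 1, 3, 1, 3, 3, 4, 5, 5, 5, 4, 6, 4, 5, 5, 4, 6, 6, 6, 1, 2, 1, 3, 3, 1, 2, 1, 2, 1, 2, 1]) (.node 104 (.leaf 77 19 [1, 2, 1, 3, 1, 3, 6, 2, 2, 1, 2, 2, 1, 2, 2, 1, 3, 1, 2, 1, 2, 1, 3, 1, 3, 3]) (.leaf 80 12 [2, 1, 2, 1, 3, 1, 2, 1, 3, 1, 2, 2, 1, 5, 4, 6, 4, 5, 5, 4, 6, 3, 3, 1, 2, 1, 3, 1, 3, 1, 2, 1, 2]))) (.node 106 (.leaf 81 12 [1, 2, 1, 3, 1, 2, 2, 1, 2, 1, 3, 1, 3, 5, 4, 5, 5, 5, 4, 6, 6, 4, 5, 5, 4, 6, 2, 1, 2, 1, 3, 1, 3, 3, 1, 2, 1, 3]) (.node 107 (.leaf 82 12 [2, 2, 1, 2, 1, 2, 1, 3, 1, 3, 3, 1, 3, 6, 4, 5, 5, 5, 5, 4, 6, 4, 5, 5, 4, 6, 6, 4, 5, 2, 2, 1, 2, 2, 1, 2, 1, 2, 1, 2, 1]) (.leaf 52 13 [3, 1, 2, 1, 2, 1, 2, 1, 3, 1, 3, 4, 5, 1, 2, 1, 2, 1, 3, 3, 1, 3, 1, 2, 2, 1])))))) (.node 119 (.node 113 (.node 110 (.node 109 (.leaf 83 12 [2, 1, 2, 1, 3, 1, 2, 1, 2, 1, 2, 2, 1, 6, 6, 6, 4, 5, 5, 5, 4, 6, 1, 2, 1, 2, 1, 3, 1, 3, 1, 3, 3, 1]) (.leaf 77 2 [1, 2, 2, 1, 2, 2, 1, 3, 1, 2, 1, 2, 1, 3, 1, 3, 3, 1, 2, 1, 3, 1, 3, 6, 2, 2])) (.node 111 (.leaf 84 12 [1, 3, 1, 3, 1, 2, 1, 2, 2, 1, 2, 1, 3, 5, 4, 5, 5, 5, 5, 4, 6, 6, 6, 4, 2, 2, 1, 3, 3, 1, 2, 2, 1, 3, 1, 2]) (.node 112 (.leaf 85 12 [1, 3, 1, 2, 1, 3, 3, 1, 2, 2, 1, 2, 1, 6, 6, 6, 4, 5, 4, 6, 6, 6, 4, 5, 4, 6, 6, 6, 2, 2, 1, 2, 1, 3, 1, 3, 1, 3, 1, 3]) (.leaf 86 12 [1, 3, 3, 1, 2, 2, 1, 2, 1, 2, 1, 2, 2, 4, 5, 5, 4, 6, 4, 5, 5, 5, 4, 6, 6, 1, 3, 1, 3, 1, 3, 3, 1, 2, 2, 1, 2])))) (.node 116 (.node 114 (.leaf 87 12 [1, 3, 1, 2, 2, 1, 2, 1, 3, 1, 2, 2, 1, 5, 5, 4, 6, 4, 5, 5, 5, 4, 6, 4, 5, 5, 5, 1, 3, 3, 1, 2, 2, 1, 2, 2, 1, 3, 3]) (.node 115 (.leaf 88 12 [2, 1, 3, 1, 3, 1, 3, 1, 3, 3, 1, 2, 1, 5, 4, 6, 4, 5, 5, 4, 6, 6, 4, 5, 4, 2, 2, 1, 2, 2, 1, 3, 3, 1, 3, 1, 2]) (.leaf 52 22 [1, 3, 4, 5, 1, 2, 1, 2, 1, 3, 3, 1, 3, 1, 2, 2, 1, 3, 1, 2, 1, 2, 1, 2, 1, 3]))) (.node 117 (.leaf 89 12 [1, 3, 1, 2, 2, 1, 2, 1, 2, 1, 3, 1, 3, 6, 6, 4, 5, 5, 5, 4, 6, 4, 5, 5, 5, 4, 6, 6, 6, 1, 3, 1, 3, 1, 3, 3, 1, 3, 3, 1, 3]) (.node 118 (.leaf 90 12 [1, 2, 2, 1, 3, 1, 3, 1, 2, 1, 2, 2, 1, 6, 6, 4, 5, 4, 6, 6, 4, 5, 5, 4, 6, 4, 5, 1, 2, 2, 1, 2, 1, 3, 1, 2, 2, 1, 2]) (.leaf 91 12 [2, 1, 2, 2, 1, 3, 3, 1, 2, 2, 1, 2, 2, 4, 6, 4, 5, 5, 5, 4, 6, 4, 5, 5, 4, 6, 4, 5, 3, 3, 1, 2, 1, 2, 1, 3, 1, 3, 1, 2]))))) (.node 124 (.node 121 (.node 120 (.leaf 92 12 [2, 1, 3, 1, 2, 2, 1, 2, 1, 3, 1, 3, 3, 6, 4, 6, 6, 6, 6, 4, 2, 1, 2, 1, 3, 1, 2, 1, 2, 1, 2, 1]) (.leaf 93 12 [2, 1, 2, 1, 2, 1, 3, 3, 1, 2, 1, 2, 2, 5, 5, 5, 4, 6, 4, 5, 4, 6, 4, 5, 4, 6, 6, 6, 2, 1, 2, 2, 1, 2, 1, 3, 3, 1, 3, 1])) (.node 122 (.leaf 94 12 [2, 1, 2, 1, 3, 1, 3, 3, 1, 3, 1, 3, 3, 4, 5, 5, 5, 5, 4, 6, 6, 6, 4, 6, 2, 2, 1, 3, 1, 3, 1, 2, 1, 2, 2, 1]) (.node 123 (.leaf 77 21 [1, 3, 1, 3, 6, 2, 2, 1, 2, 2, 1, 2, 2, 1, 3, 1, 2, 1, 2, 1, 3, 1, 3, 3, 1, 2]) (.leaf 52 4 [1, 3, 3, 1, 3, 1, 2, 2, 1, 3, 1, 2, 1, 2, 1, 2, 1, 3, 1, 3, 4, 5, 1, 2, 1, 2])))) (.node 127 (.node 125 (.leaf 95 12 [1, 3, 1, 3, 3, 1, 3, 1, 3, 1, 3, 3, 1, 6, 6, 4, 5, 4, 6, 4, 5, 5, 1, 2, 2, 1, 2, 1, 2, 1, 2, 2, 1, 2]) (.node 126 (.leaf 96 12 [1, 3, 1, 2, 1, 3, 1, 3, 3, 1, 2, 1, 3, 5, 5, 4, 6, 6, 4, 5, 4, 6, 4, 5, 5, 5, 4, 5, 3, 3, 1, 3, 1, 2, 1, 2, 2, 1, 2, 2]) (.leaf 97 12 [1, 2, 1, 3, 3, 1, 3, 1, 2, 1, 2, 1, 3, 4, 6, 4, 5, 5, 4, 6, 6, 4, 5, 4, 6, 6, 6, 4, 6, 2, 1, 3, 1, 3, 1, 2, 1, 2, 2, 1, 3]))) (.node 128 (.leaf 98 12 [2, 1, 3, 1, 3, 3, 1, 2, 1, 2, 1, 3, 1, 6, 6, 4, 5, 4, 6, 6, 6, 4, 5, 4, 6, 6, 4, 3, 3, 1, 3, 3, 1, 3, 3, 1, 3, 1, 2]) (.node 129 (.leaf 52 16 [1, 2, 1, 2, 1, 3, 1, 3, 4, 5, 1, 2, 1, 2, 1, 3, 3, 1, 3, 1, 2, 2, 1, 3, 1, 2]) (.leaf 99 12 [2, 1, 2, 1, 3, 1, 3, 1, 2, 1, 3, 1, 3, 6, 4, 5, 5, 4, 6, 4, 5, 4, 6, 4, 5, 5, 5, 4, 1, 2, 2, 1, 2, 2, 1, 3, 1, 3, 3, 1]))))))) (.node 152 (.node 141 (.node 135 (.node 132 (.node 131 (.leaf 100 12 [2, 2, 1, 2, 2, 1, 2, 1, 3, 3, 1, 2, 1, 5, 4, 5, 5, 5, 4, 6, 6, 4, 5, 5, 2, 1, 2, 1, 2, 1, 3, 3, 1, 3, 3, 1]) (.leaf 9 10 [2, 2, 1, 2, 2, 2, 1, 2, 2, 2, 1, 2, 2, 2, 1, 2, 2, 2, 1, 2, 2, 2, 1, 2, 2, 2, 1, 2, 2, 2, 1, 2, 2, 2, 1, 2, 2, 2, 1, 2])) (.node 133 (.leaf 101 12 [2, 2, 1, 2, 2, 1, 2, 1, 2, 2, 1, 2, 1, 4, 6, 4, 5, 4, 6, 6, 4, 5, 1, 3, 1, 2, 1, 2, 1, 2, 2, 1, 2, 1]) (.node 134 (.leaf 102 12 [1, 2, 1, 3, 1, 3, 1, 2, 1, 2, 2, 1, 3, 5, 5, 4, 6, 4, 5, 5, 4, 6, 6, 4, 5, 4, 6, 6, 2, 1, 3, 3, 1, 3, 1, 2, 1, 2, 1, 3]) (.leaf 103 12 [2, 1, 3, 3, 1, 3, 1, 3, 1, 2, 2, 1, 3, 4, 6, 6, 4, 5, 4, 6, 6, 6, 4, 5, 5, 5, 4, 6, 2, 1, 2, 1, 2, 1, 3, 1, 3, 3, 1, 2])))) (.node 138 (.node 136 (.leaf 104 12 [2, 2, 1, 3, 3, 1, 3, 1, 2, 2, 1, 2, 1, 6, 6, 4, 5, 4, 6, 4, 5, 5, 4, 6, 4, 1, 3, 1, 2, 1, 2, 1, 3, 1, 3, 3, 1]) (.node 137 (.leaf 105 12 [1, 3, 1, 3, 1, 3, 1, 2, 1, 3, 1, 2, 2, 4, 6, 6, 4, 5, 4, 6, 4, 5, 4, 6, 4, 5, 5, 4, 3, 3, 1, 2, 1, 3, 1, 2, 1, 2, 1, 2]) (.leaf 106 12 [2, 1, 3, 1, 3, 1, 3, 1, 2, 2, 1, 2, 2, 5, 4, 6, 6, 6, 6, 4, 2, 1, 3, 3, 1, 3, 1, 2, 1, 2, 2, 1]))) (.node 139 (.leaf 107 12 [2, 2, 1, 3, 1, 3, 3, 1, 3, 3, 1, 3, 3, 5, 5, 5, 4, 6, 4, 5, 5, 4, 6, 2, 1, 2, 1, 3, 3, 1, 3, 3, 1, 2, 1]) (.node 140 (.leaf 108 12 [2, 1, 2, 1, 3, 3, 1, 3, 1, 2, 1, 2, 2, 4, 5, 4, 6, 4, 5, 5, 4, 6, 4, 5, 5, 5, 4, 2, 2, 1, 3, 1, 3, 3, 1, 2, 2, 1, 2]) (.leaf 9 12 [1, 2, 2, 2, 1, 2, 2, 2, 1, 2, 2, 2, 1, 2, 2, 2, 1, 2, 2, 2, 1, 2, 2, 2, 1, 2, 2, 2, 1, 2, 2, 2, 1, 2, 2, 2, 1, 2, 2, 2]))))) (.node 146 (.node 143 (.node 142 (.leaf 2 4 [2, 1, 2, 1, 2, 1, 3, 1, 3, 1, 2, 2, 1, 6, 1, 2, 1, 2]) (.leaf 109 12 [2, 2, 1, 2, 1, 3, 1, 2, 1, 2, 1, 2, 2, 6, 4, 5, 5, 5, 2, 2, 1, 2, 1, 2, 1, 3, 3, 1, 3, 1])) (.node 144 (.leaf 110 12 [2, 1, 2, 1, 2, 2, 1, 2, 1, 3, 1, 3, 1, 5, 5, 5, 5, 4, 6, 6, 6, 4, 5, 4, 6, 2, 2, 1, 2, 1, 2, 1, 2, 1, 3, 1, 2]) (.node 145 (.leaf 111 13 [1, 2, 1, 3, 1, 3, 3, 1, 3, 3, 1, 2, 1, 4, 6, 4, 5, 5, 5, 5, 4, 6, 4, 5, 5, 5, 4, 6, 1, 2, 2, 1, 2, 1, 2, 1, 3, 1, 3, 1, 2]) (.leaf 112 13 [2, 1, 3, 1, 2, 1, 2, 1, 2, 2, 1, 3, 3, 4, 6, 6, 4, 5, 4, 6, 6, 4, 5, 5, 4, 6, 4, 1, 2, 2, 1, 2, 1, 2, 1, 3, 1, 3, 1, 2])))) (.node 149 (.node 147 (.leaf 113 12 [1, 2, 2, 1, 2, 2, 1, 3, 3, 1, 3, 3, 1, 3, 4, 6, 4, 5, 5, 5, 4, 6, 6, 6, 4, 5, 5, 5, 2, 2, 1, 3, 1, 2, 1, 3, 1, 2, 1, 3]) (.node 148 (.leaf 114 12 [1, 3, 1, 2, 1, 2, 1, 2, 1, 2, 1, 2, 2, 1, 4, 5, 4, 6, 6, 4, 5, 4, 6, 4, 5, 5, 5, 4, 6, 4, 1, 3, 3, 1, 3, 3, 1, 2, 1, 3, 1, 3]) (.leaf 115 12 [2, 1, 2, 1, 3, 1, 3, 3, 1, 2, 2, 1, 2, 1, 5, 4, 6, 4, 5, 5, 4, 6, 4, 5, 4, 6, 6, 4, 5, 4, 6, 2, 2, 1, 2, 1, 2, 1, 2, 1, 3, 3, 1]))) (.node 150 (.leaf 116 12 [1, 2, 1, 3, 1, 3, 1, 3, 1, 2, 2, 1, 2, 1, 5, 4, 2, 2, 1, 2, 1, 2, 1, 2, 2, 1, 2, 2]) (.node 151 (.leaf 116 26 [5, 4, 2, 2, 1, 2, 1, 2, 1, 2, 2, 1, 2, 2, 1, 2, 1, 3, 1, 3, 1, 3, 1, 2, 2, 1, 2, 1]) (.leaf 116 0 [2, 2, 1, 2, 1, 2, 1, 2, 2, 1, 2, 2, 1, 2, 1, 3, 1, 3, 1, 3, 1, 2, 2, 1, 2, 1, 5, 4])))))) (.node 163 (.node 157 (.node 154 (.node 153 (.leaf 2 6 [2, 1, 2, 1, 3, 1, 3, 1, 2, 2, 1, 6, 1, 2, 1, 2, 2, 1]) (.leaf 117 12 [1, 2, 1, 3, 1, 2, 1, 3, 3, 1, 3, 3, 1, 3, 5, 5, 5, 5, 4, 6, 3, 3, 1, 2, 2, 1, 2, 1, 3, 1, 3, 3])) (.node 155 (.leaf 118 13 [1, 2, 1, 3, 1, 3, 3, 1, 3, 1, 2, 1, 3, 4, 5, 4, 6, 4, 5, 5, 4, 6, 4, 5, 5, 4, 6, 1, 3, 3, 1, 2, 1, 2, 2, 1, 2, 2, 1, 2]) (.node 156 (.leaf 119 12 [2, 1, 3, 3, 1, 3, 1, 3, 1, 3, 1, 3, 3, 1, 4, 6, 6, 4, 5, 5, 5, 4, 5, 1, 3, 3, 1, 3, 1, 2, 2, 1, 2, 1, 2]) (.leaf 15 7 [1, 2, 2, 1, 2, 1, 2, 1, 2, 1, 2, 2, 6, 4, 5, 1, 3, 3, 1, 2, 1, 3])))) (.node 160 (.node 158 (.leaf 120 13 [1, 3, 1, 3, 1, 3, 1, 3, 3, 1, 2, 1, 3, 4, 6, 4, 6, 6, 6, 4, 5, 5, 1, 3, 1, 3, 1, 3, 3, 1, 3, 1, 3, 1, 2]) (.node 159 (.leaf 121 12 [1, 2, 2, 1, 2, 1, 3, 1, 3, 3, 1, 3, 3, 1, 6, 4, 5, 5, 5, 4, 6, 4, 5, 4, 6, 4, 5, 2, 1, 2, 1, 2, 2, 1, 2, 1, 3, 1, 3]) (.leaf 122 13 [1, 3, 1, 2, 2, 1, 2, 2, 1, 3, 1, 2, 2, 4, 5, 5, 5, 4, 6, 4, 5, 5, 5, 4, 5, 1, 2, 1, 3, 3, 1, 2, 1, 2, 2, 1, 3, 3]))) (.node 161 (.leaf 123 12 [1, 3, 1, 2, 1, 3, 1, 2, 2, 1, 2, 1, 3, 1, 5, 4, 6, 4, 5, 4, 6, 6, 4, 5, 4, 6, 6, 6, 4, 6, 2, 2, 1, 3, 1, 3, 3, 1, 2, 1, 2, 2]) (.node 162 (.leaf 124 12 [2, 1, 3, 3, 1, 2, 1, 3, 1, 2, 1, 3, 3, 1, 5, 4, 6, 6, 4, 5, 5, 4, 6, 4, 5, 5, 5, 4, 6, 2, 1, 3, 3, 1, 2, 1, 2, 1, 3, 1, 2]) (.leaf 125 12 [2, 2, 1, 2, 1, 2, 1, 3, 3, 1, 2, 1, 2, 1, 4, 6, 6, 4, 5, 4, 6, 6, 4, 5, 4, 6, 4, 5, 2, 1, 3, 3, 1, 2, 2, 1, 3, 1, 2, 1]))))) (.node 168 (.node 165 (.node 164 (.leaf 126 12 [1, 3, 1, 2, 1, 2, 1, 2, 1, 3, 3, 1, 3, 1, 6, 4, 5, 5, 4, 6, 4, 5, 5, 4, 6, 1, 3, 1, 2, 1, 2, 2, 1, 3, 3, 1, 2]) (.leaf 127 12 [2, 2, 1, 2, 1, 3, 1, 2, 1, 2, 2, 1, 2, 1, 4, 6, 4, 5, 5, 4, 6, 4, 5, 5, 5, 4, 6, 4, 5, 5, 5, 3, 3, 1, 3, 1, 2, 2, 1, 3, 1, 2, 1])) (.node 166 (.leaf 128 13 [2, 1, 3, 1, 2, 1, 3, 3, 1, 2, 1, 2, 2, 5, 4, 5, 5, 5, 4, 6, 4, 5, 5, 5, 4, 6, 4, 5, 2, 1, 3, 3, 1, 2, 1, 2, 1, 2, 1, 3, 1]) (.node 167 (.leaf 129 13 [2, 1, 3, 1, 2, 1, 2, 2, 1, 2, 1, 3, 3, 5, 5, 5, 4, 6, 6, 6, 4, 5, 5, 1, 2, 1, 3, 1, 2, 1, 2, 2, 1, 3, 1, 2]) (.leaf 130 12 [2, 1, 3, 1, 3, 1, 3, 1, 2, 1, 3, 1, 3, 1, 6, 6, 4, 5, 5, 5, 4, 2, 2, 1, 2, 1, 2, 1, 3, 3, 1, 2, 1])))) (.node 171 (.node 169 (.leaf 52 3 [2, 1, 3, 3, 1, 3, 1, 2, 2, 1, 3, 1, 2, 1, 2, 1, 2, 1, 3, 1, 3, 4, 5, 1, 2, 1]) (.node 170 (.leaf 131 13 [1, 2, 2, 1, 3, 3, 1, 3, 1, 3, 1, 2, 2, 5, 4, 6, 6, 4, 5, 4, 6, 6, 6, 4, 5, 4, 2, 1, 3, 1, 2, 1, 3, 1, 3, 1, 2, 1, 2]) (.leaf 132 12 [2, 1, 3, 1, 2, 1, 2, 1, 2, 1, 2, 1, 3, 1, 6, 6, 4, 5, 4, 6, 4, 5, 4, 6, 4, 1, 3, 1, 3, 1, 2, 1, 2, 1, 2, 2, 1]))) (.node 172 (.leaf 133 13 [2, 1, 2, 2, 1, 2, 1, 2, 2, 1, 2, 1, 3, 4, 5, 5, 4, 6, 4, 5, 5, 4, 6, 4, 5, 5, 2, 1, 2, 1, 2, 2, 1, 2, 1, 3, 1, 2, 1]) (.node 173 (.leaf 134 13 [1, 3, 1, 2, 1, 3, 3, 1, 2, 2, 1, 2, 2, 5, 4, 6, 4, 5, 4, 6, 4, 5, 4, 6, 4, 1, 2, 1, 2, 1, 3, 1, 3, 3, 1, 3, 1, 2]) (.leaf 77 11 [2, 1, 2, 1, 3, 1, 3, 3, 1, 2, 1, 3, 1, 3, 6, 2, 2, 1, 2, 2, 1, 2, 2, 1, 3, 1]))))))))) (.node 261 (.node 217 (.node 195 (.node 184 (.node 179 (.node 176 (.node 175 (.leaf 135 13 [2, 1, 2, 1, 2, 1, 2, 2, 1, 2, 1, 2, 1, 4, 6, 4, 5, 5, 5, 4, 6, 6, 6, 4, 5, 4, 1, 3, 1, 2, 2, 1, 2, 1, 3, 1, 2, 2, 1]) (.leaf 15 20 [4, 5, 1, 3, 3, 1, 2, 1, 3, 1, 2, 2, 1, 2, 1, 2, 1, 2, 1, 2, 2, 6])) (.node 177 (.leaf 52 23 [3, 4, 5, 1, 2, 1, 2, 1, 3, 3, 1, 3, 1, 2, 2, 1, 3, 1, 2, 1, 2, 1, 2, 1, 3, 1]) (.node 178 (.leaf 136 13 [2, 1, 2, 2, 1, 2, 2, 1, 3, 3, 1, 3, 3, 4, 5, 4, 6, 6, 4, 5, 5, 4, 6, 4, 5, 5, 5, 4, 6, 6, 2, 1, 2, 1, 3, 1, 2, 1, 3, 3, 1, 2, 1]) (.leaf 137 13 [1, 3, 3, 1, 2, 2, 1, 2, 2, 1, 3, 1, 3, 6, 6, 4, 5, 4, 6, 6, 4, 5, 4, 6, 4, 5, 5, 5, 4, 1, 3, 3, 1, 2, 2, 1, 3, 1, 3, 1, 3, 3])))) (.node 181 (.node 180 (.leaf 2 11 [1, 3, 1, 2, 2, 1, 6, 1, 2, 1, 2, 2, 1, 2, 1, 2, 1, 3]) (.leaf 138 13 [1, 3, 1, 3, 3, 1, 2, 1, 2, 2, 1, 2, 2, 6, 4, 5, 5, 4, 6, 4, 1, 3, 1, 3, 1, 2, 2, 1, 3, 3, 1, 3, 3])) (.node 182 (.leaf 139 12 [1, 2, 2, 1, 2, 2, 1, 3, 3, 1, 3, 1, 3, 3, 4, 5, 4, 6, 6, 6, 4, 5, 4, 6, 6, 4, 5, 4, 6, 4, 3, 3, 1, 2, 2, 1, 2, 2, 1, 2, 1, 3]) (.node 183 (.leaf 140 13 [2, 1, 2, 1, 3, 1, 3, 3, 1, 2, 2, 1, 3, 5, 4, 5, 5, 5, 4, 6, 4, 5, 5, 4, 6, 4, 5, 4, 6, 1, 2, 1, 3, 1, 3, 1, 3, 3, 1, 3, 1, 2]) (.leaf 141 12 [2, 1, 2, 1, 3, 1, 2, 1, 2, 1, 3, 3, 1, 3, 5, 5, 4, 6, 4, 5, 4, 6, 4, 5, 4, 6, 4, 5, 4, 2, 2, 1, 2, 1, 3, 3, 1, 3, 1, 3, 1]))))) (.node 189 (.node 186 (.node 185 (.leaf 142 12 [2, 1, 3, 3, 1, 3, 1, 3, 1, 2, 1, 3, 1, 3, 4, 5, 4, 5, 5, 5, 5, 4, 2, 1, 3, 3, 1, 2, 1, 3, 1, 3, 1, 2]) (.leaf 143 12 [2, 1, 3, 3, 1, 3, 3, 1, 3, 3, 1, 3, 1, 3, 4, 6, 4, 5, 5, 5, 5, 4, 3, 3, 1, 2, 2, 1, 2, 2, 1, 3, 3, 1])) (.node 187 (.leaf 144 12 [1, 3, 3, 1, 3, 1, 2, 1, 2, 1, 3, 1, 3, 1, 5, 4, 6, 4, 5, 5, 4, 6, 4, 5, 4, 6, 6, 4, 3, 3, 1, 3, 1, 2, 1, 3, 3, 1, 2, 2]) (.node 188 (.leaf 145 12 [2, 1, 3, 3, 1, 3, 3, 1, 3, 1, 3, 1, 2, 1, 5, 4, 5, 5, 5, 4, 6, 4, 5, 4, 6, 2, 1, 3, 3, 1, 2, 2, 1, 3, 1, 3, 1]) (.leaf 146 13 [2, 1, 3, 3, 1, 3, 3, 1, 2, 2, 1, 3, 3, 5, 5, 5, 4, 6, 4, 5, 4, 6, 4, 5, 4, 6, 6, 6, 1, 3, 3, 1, 2, 2, 1, 3, 1, 3, 1, 2, 1])))) (.node 192 (.node 190 (.leaf 77 23 [1, 3, 6, 2, 2, 1, 2, 2, 1, 2, 2, 1, 3, 1, 2, 1, 2, 1, 3, 1, 3, 3, 1, 2, 1, 3]) (.node 191 (.leaf 147 12 [2, 1, 3, 1, 3, 1, 2, 1, 2, 1, 2, 1, 3, 3, 5, 5, 4, 6, 4, 5, 5, 4, 6, 6, 4, 5, 2, 2, 1, 3, 1, 3, 3, 1, 3, 3, 1, 2]) (.leaf 148 13 [2, 2, 1, 2, 1, 3, 1, 2, 1, 3, 1, 2, 2, 4, 5, 5, 5, 5, 4, 6, 6, 6, 4, 5, 4, 6, 6, 6, 4, 2, 1, 3, 3, 1, 2, 2, 1, 3, 3, 1, 2, 1]))) (.node 193 (.leaf 149 12 [2, 1, 2, 1, 2, 1, 2, 1, 3, 1, 3, 1, 3, 1, 6, 4, 5, 5, 4, 6, 4, 5, 4, 6, 4, 5, 5, 5, 4, 1, 2, 2, 1, 3, 1, 2, 2, 1, 2, 2, 1]) (.node 194 (.leaf 150 13 [2, 1, 2, 2, 1, 2, 1, 3, 3, 1, 2, 1, 3, 4, 6, 6, 4, 5, 4, 6, 6, 6, 4, 5, 4, 6, 6, 4, 5, 1, 2, 1, 3, 1, 2, 1, 2, 2, 1, 2, 2, 1]) (.leaf 151 13 [2, 2, 1, 2, 2, 1, 3, 1, 2, 2, 1, 2, 2, 5, 5, 4, 6, 6, 4, 5, 2, 1, 3, 3, 1, 3, 3, 1, 3, 1, 2, 2, 1])))))) (.node 206 (.node 200 (.node 197 (.node 196 (.leaf 77 22 [3, 1, 3, 6, 2, 2, 1, 2, 2, 1, 2, 2, 1, 3, 1, 2, 1, 2, 1, 3, 1, 3, 3, 1, 2, 1]) (.leaf 152 13 [2, 1, 3, 3, 1, 2, 1, 2, 1, 2, 2, 1, 3, 5, 5, 5, 4, 6, 4, 5, 4, 6, 4, 5, 4, 6, 4, 5, 5, 1, 2, 2, 1, 3, 1, 3, 1, 2, 1, 3, 3, 1])) (.node 198 (.leaf 153 13 [2, 1, 2, 1, 2, 2, 1, 2, 1, 3, 3, 1, 3, 4, 6, 6, 6, 4, 5, 5, 5, 4, 5, 1, 3, 1, 3, 1, 2, 2, 1, 2, 1, 2, 1, 2]) (.node 199 (.leaf 15 16 [1, 2, 2, 6, 4, 5, 1, 3, 3, 1, 2, 1, 3, 1, 2, 2, 1, 2, 1, 2, 1, 2]) (.leaf 154 13 [2, 2, 1, 3, 1, 3, 1, 2, 1, 3, 1, 2, 2, 4, 5, 4, 5, 5, 5, 4, 6, 4, 5, 5, 5, 4, 6, 6, 6, 2, 1, 2, 2, 1, 3, 1, 2, 1, 2, 1, 2, 1])))) (.node 203 (.node 201 (.leaf 155 13 [2, 2, 1, 3, 1, 2, 1, 3, 3, 1, 3, 1, 2, 1, 6, 4, 5, 5, 4, 6, 4, 5, 5, 5, 4, 6, 4, 5, 5, 4, 1, 2, 1, 3, 1, 2, 2, 1, 3, 1, 2, 2, 1]) (.node 202 (.leaf 156 13 [2, 2, 1, 3, 1, 3, 1, 2, 1, 3, 3, 1, 3, 3, 5, 5, 4, 6, 6, 6, 4, 5, 4, 6, 6, 4, 5, 5, 4, 6, 4, 1, 2, 1, 2, 1, 3, 3, 1, 3, 3, 1, 2, 1]) (.leaf 7 27 [1, 2, 2, 1, 2, 2, 1, 2, 2, 1, 2, 2, 1, 2, 2, 1, 2, 2, 1, 2, 2, 1, 2, 2, 1, 2, 2, 1, 2, 2]))) (.node 204 (.leaf 157 13 [1, 2, 1, 3, 1, 3, 1, 2, 1, 3, 3, 1, 2, 1, 4, 6, 6, 6, 4, 5, 4, 6, 6, 6, 4, 6, 1, 2, 2, 1, 3, 1, 2, 2, 1, 2, 1, 2, 2]) (.node 205 (.leaf 158 13 [1, 2, 1, 3, 1, 3, 3, 1, 3, 1, 2, 1, 2, 1, 6, 4, 5, 5, 5, 4, 6, 4, 5, 4, 6, 6, 4, 5, 1, 2, 2, 1, 2, 1, 2, 1, 2, 1, 3, 1, 3]) (.leaf 159 13 [1, 2, 2, 1, 2, 2, 1, 3, 3, 1, 3, 1, 3, 1, 4, 5, 4, 5, 5, 5, 4, 6, 4, 5, 4, 6, 6, 3, 3, 1, 3, 1, 3, 1, 3, 3, 1, 3, 1, 2]))))) (.node 211 (.node 208 (.node 207 (.leaf 160 13 [1, 2, 1, 3, 1, 3, 1, 2, 1, 3, 3, 1, 2, 2, 5, 4, 6, 6, 6, 4, 5, 5, 5, 4, 6, 4, 5, 5, 1, 2, 2, 1, 2, 1, 2, 1, 3, 3, 1, 3, 3]) (.leaf 161 13 [2, 1, 3, 3, 1, 3, 3, 1, 2, 1, 3, 3, 1, 3, 5, 5, 5, 4, 6, 4, 5, 4, 6, 6, 4, 5, 1, 2, 1, 2, 1, 2, 2, 1, 3, 3, 1, 3, 1])) (.node 209 (.leaf 162 13 [2, 2, 1, 2, 2, 1, 2, 1, 2, 1, 3, 1, 2, 2, 5, 4, 5, 5, 5, 4, 6, 4, 5, 5, 4, 6, 4, 5, 1, 2, 2, 1, 2, 2, 1, 3, 1, 3, 1, 3, 1]) (.node 210 (.leaf 116 4 [1, 2, 1, 2, 2, 1, 2, 2, 1, 2, 1, 3, 1, 3, 1, 3, 1, 2, 2, 1, 2, 1, 5, 4, 2, 2, 1, 2]) (.leaf 163 13 [2, 1, 3, 1, 3, 1, 2, 1, 2, 1, 3, 3, 1, 3, 4, 6, 6, 4, 5, 5, 4, 6, 4, 5, 5, 5, 4, 6, 4, 5, 3, 3, 1, 3, 3, 1, 3, 1, 2, 1, 2, 1, 2])))) (.node 214 (.node 212 (.leaf 164 13 [1, 3, 1, 3, 1, 2, 1, 2, 2, 1, 3, 1, 2, 1, 6, 6, 4, 5, 4, 6, 6, 6, 4, 5, 4, 6, 6, 4, 5, 4, 3, 3, 1, 3, 3, 1, 2, 1, 2, 2, 1, 3, 3]) (.node 213 (.leaf 165 13 [1, 2, 1, 2, 2, 1, 2, 1, 2, 2, 1, 2, 2, 1, 4, 5, 5, 4, 6, 4, 5, 5, 4, 6, 4, 5, 4, 6, 6, 2, 1, 3, 1, 3, 1, 3, 3, 1, 3, 1, 3, 3]) (.leaf 166 13 [2, 1, 3, 3, 1, 2, 2, 1, 3, 1, 2, 2, 1, 3, 5, 5, 4, 6, 6, 4, 5, 5, 2, 1, 2, 1, 2, 1, 2, 2, 1, 3, 1, 2, 1]))) (.node 215 (.leaf 167 13 [2, 1, 2, 1, 2, 2, 1, 3, 1, 3, 3, 1, 3, 1, 5, 4, 6, 6, 4, 5, 5, 5, 1, 3, 1, 3, 1, 3, 1, 2, 1, 3, 1, 2, 1]) (.node 216 (.leaf 168 13 [1, 3, 1, 2, 1, 3, 3, 1, 3, 1, 3, 1, 3, 1, 5, 4, 6, 4, 5, 5, 5, 4, 6, 4, 5, 5, 4, 1, 2, 1, 3, 3, 1, 3, 1, 2, 1, 3, 1, 3]) (.leaf 15 5 [1, 3, 1, 2, 2, 1, 2, 1, 2, 1, 2, 1, 2, 2, 6, 4, 5, 1, 3, 3, 1, 2]))))))) (.node 239 (.node 228 (.node 222 (.node 219 (.node 218 (.leaf 169 13 [1, 2, 1, 2, 1, 3, 1, 3, 3, 1, 2, 1, 3, 3, 4, 6, 4, 5, 5, 4, 6, 4, 5, 5, 2, 2, 1, 3, 1, 3, 1, 2, 2, 1, 2, 1, 3]) (.leaf 7 3 [1, 2, 2, 1, 2, 2, 1, 2, 2, 1, 2, 2, 1, 2, 2, 1, 2, 2, 1, 2, 2, 1, 2, 2, 1, 2, 2, 1, 2, 2])) (.node 220 (.leaf 170 13 [1, 2, 1, 2, 2, 1, 2, 2, 1, 3, 3, 1, 2, 2, 5, 5, 4, 6, 4, 5, 4, 6, 6, 4, 5, 4, 5, 1, 2, 1, 2, 1, 3, 1, 3, 1, 3, 3, 1, 3]) (.node 221 (.leaf 171 13 [1, 2, 2, 1, 3, 1, 2, 2, 1, 2, 2, 1, 2, 1, 4, 5, 5, 5, 4, 6, 4, 5, 4, 6, 4, 5, 4, 6, 6, 1, 3, 1, 3, 3, 1, 3, 3, 1, 2, 1, 3, 3]) (.leaf 172 13 [2, 2, 1, 2, 1, 2, 1, 2, 2, 1, 3, 3, 1, 3, 4, 6, 6, 4, 5, 4, 6, 4, 1, 3, 3, 1, 3, 1, 2, 1, 2, 2, 1, 2, 1])))) (.node 225 (.node 223 (.leaf 173 13 [2, 1, 3, 1, 3, 3, 1, 2, 2, 1, 2, 1, 3, 1, 5, 4, 6, 4, 5, 4, 6, 4, 5, 4, 6, 4, 5, 4, 6, 6, 2, 1, 2, 2, 1, 2, 1, 2, 2, 1, 3, 1, 2]) (.node 224 (.leaf 174 13 [1, 3, 3, 1, 2, 1, 2, 1, 2, 1, 2, 1, 3, 1, 5, 5, 5, 5, 4, 3, 3, 1, 3, 1, 2, 2, 1, 3, 3, 1, 2, 2]) (.leaf 175 13 [1, 3, 3, 1, 3, 1, 3, 1, 2, 1, 3, 1, 2, 2, 6, 6, 4, 5, 5, 5, 4, 6, 6, 6, 4, 5, 5, 1, 3, 1, 3, 1, 2, 2, 1, 3, 1, 2, 1, 3]))) (.node 226 (.leaf 176 13 [2, 1, 2, 2, 1, 2, 2, 1, 2, 2, 1, 2, 1, 3, 4, 5, 5, 4, 6, 4, 5, 4, 6, 4, 5, 4, 6, 4, 5, 4, 2, 1, 2, 2, 1, 3, 3, 1, 2, 2, 1, 2, 1]) (.node 227 (.leaf 177 13 [1, 3, 1, 3, 1, 2, 2, 1, 2, 1, 2, 1, 3, 1, 5, 5, 4, 6, 6, 6, 4, 5, 4, 6, 6, 4, 5, 5, 4, 6, 4, 1, 3, 3, 1, 3, 1, 3, 1, 2, 1, 2, 1, 2]) (.leaf 116 11 [2, 1, 2, 1, 3, 1, 3, 1, 3, 1, 2, 2, 1, 2, 1, 5, 4, 2, 2, 1, 2, 1, 2, 1, 2, 2, 1, 2]))))) (.node 233 (.node 230 (.node 229 (.leaf 77 7 [2, 1, 3, 1, 2, 1, 2, 1, 3, 1, 3, 3, 1, 2, 1, 3, 1, 3, 6, 2, 2, 1, 2, 2, 1, 2]) (.leaf 178 13 [1, 2, 1, 2, 1, 2, 1, 3, 1, 3, 3, 1, 3, 1, 5, 5, 5, 4, 6, 4, 5, 5, 4, 6, 4, 5, 5, 5, 4, 5, 1, 3, 3, 1, 2, 1, 3, 3, 1, 2, 1, 2, 2])) (.node 231 (.leaf 179 13 [1, 3, 3, 1, 2, 2, 1, 3, 3, 1, 3, 1, 2, 1, 5, 4, 5, 5, 5, 4, 6, 6, 6, 4, 3, 3, 1, 2, 1, 2, 1, 3, 1, 2, 1, 2, 2]) (.node 232 (.leaf 180 13 [2, 1, 3, 1, 3, 1, 3, 1, 2, 1, 2, 1, 2, 1, 6, 4, 6, 6, 6, 4, 5, 4, 6, 6, 6, 4, 5, 2, 1, 2, 1, 3, 1, 2, 1, 3, 1, 3, 1, 2]) (.leaf 181 13 [2, 1, 3, 3, 1, 2, 1, 3, 1, 3, 1, 3, 1, 3, 4, 5, 5, 4, 6, 4, 1, 3, 1, 2, 2, 1, 3, 1, 2, 1, 3, 3, 1])))) (.node 236 (.node 234 (.leaf 182 13 [1, 2, 1, 3, 1, 3, 3, 1, 3, 3, 1, 2, 1, 3, 4, 5, 4, 5, 5, 5, 4, 6, 4, 6, 2, 1, 3, 1, 2, 2, 1, 2, 2, 1, 2, 1, 3]) (.node 235 (.leaf 183 13 [1, 2, 1, 3, 1, 2, 2, 1, 3, 1, 3, 1, 3, 3, 4, 5, 5, 4, 6, 4, 5, 4, 6, 4, 5, 4, 6, 6, 4, 5, 4, 2, 2, 1, 2, 1, 2, 1, 3, 3, 1, 2, 1, 3]) (.leaf 184 13 [2, 2, 1, 3, 3, 1, 3, 1, 2, 2, 1, 3, 3, 1, 6, 6, 6, 4, 5, 5, 5, 4, 6, 4, 5, 5, 4, 6, 6, 6, 2, 1, 3, 1, 3, 1, 3, 1, 2, 1, 2, 2, 1]))) (.node 237 (.leaf 185 13 [2, 1, 2, 1, 3, 1, 3, 1, 2, 1, 3, 1, 3, 1, 5, 5, 4, 6, 4, 5, 5, 4, 6, 4, 5, 5, 5, 4, 1, 3, 3, 1, 3, 3, 1, 2, 1, 2, 2, 1, 2]) (.node 238 (.leaf 186 13 [1, 2, 1, 2, 2, 1, 3, 1, 2, 1, 2, 2, 1, 3, 6, 4, 5, 5, 4, 6, 6, 4, 5, 5, 5, 4, 2, 1, 3, 1, 3, 3, 1, 2, 1, 3, 1, 2, 2]) (.leaf 187 13 [1, 3, 1, 3, 3, 1, 2, 2, 1, 2, 1, 3, 3, 1, 5, 5, 5, 4, 6, 6, 6, 4, 5, 4, 6, 6, 6, 4, 5, 3, 3, 1, 2, 2, 1, 2, 2, 1, 3, 1, 3, 3])))))) (.node 250 (.node 244 (.node 241 (.node 240 (.leaf 188 13 [1, 2, 1, 2, 2, 1, 2, 1, 2, 1, 2, 2, 1, 3, 4, 5, 4, 6, 4, 5, 4, 6, 4, 5, 4, 6, 4, 5, 4, 6, 2, 1, 3, 3, 1, 3, 1, 3, 1, 3, 3, 1, 3]) (.leaf 189 13 [1, 3, 3, 1, 3, 3, 1, 2, 2, 1, 3, 3, 1, 3, 4, 5, 5, 5, 4, 6, 6, 6, 4, 5, 1, 3, 1, 2, 1, 3, 3, 1, 3, 1, 3, 1, 2])) (.node 242 (.leaf 190 13 [2, 2, 1, 2, 1, 2, 1, 3, 1, 3, 1, 2, 1, 3, 4, 5, 5, 4, 6, 4, 5, 5, 4, 6, 4, 5, 4, 6, 1, 3, 1, 2, 1, 2, 2, 1, 2, 2, 1, 3, 1]) (.node 243 (.leaf 52 18 [1, 2, 1, 3, 1, 3, 4, 5, 1, 2, 1, 2, 1, 3, 3, 1, 3, 1, 2, 2, 1, 3, 1, 2, 1, 2]) (.leaf 191 13 [2, 1, 3, 3, 1, 3, 1, 3, 1, 3, 1, 3, 1, 3, 6, 4, 5, 5, 5, 4, 6, 4, 5, 5, 5, 4, 6, 6, 6, 2, 2, 1, 3, 3, 1, 3, 3, 1, 3, 1, 2, 1])))) (.node 247 (.node 245 (.leaf 192 13 [1, 3, 1, 3, 1, 2, 1, 3, 1, 2, 1, 3, 3, 1, 5, 5, 4, 6, 6, 4, 5, 4, 6, 4, 5, 5, 5, 4, 6, 2, 2, 1, 3, 3, 1, 3, 3, 1, 3, 1, 3, 3]) (.node 246 (.leaf 15 12 [1, 2, 1, 2, 1, 2, 2, 6, 4, 5, 1, 3, 3, 1, 2, 1, 3, 1, 2, 2, 1, 2]) (.leaf 193 13 [2, 1, 2, 1, 2, 1, 3, 1, 3, 3, 1, 2, 2, 1, 4, 6, 4, 5, 4, 6, 6, 4, 5, 5, 5, 4, 1, 2, 1, 3, 3, 1, 3, 3, 1, 3, 1, 2, 1]))) (.node 248 (.leaf 194 13 [1, 3, 3, 1, 2, 1, 2, 1, 3, 3, 1, 3, 1, 3, 5, 4, 6, 4, 5, 4, 6, 6, 4, 5, 4, 6, 6, 6, 4, 5, 1, 3, 1, 2, 1, 2, 2, 1, 3, 1, 3, 1, 2]) (.node 249 (.leaf 195 13 [1, 3, 3, 1, 3, 1, 2, 1, 2, 1, 2, 1, 2, 1, 6, 4, 5, 4, 6, 6, 4, 5, 4, 6, 4, 5, 1, 2, 1, 3, 1, 2, 2, 1, 2, 1, 3, 1, 3]) (.leaf 196 13 [2, 1, 3, 1, 2, 1, 2, 2, 1, 2, 1, 2, 1, 3, 5, 4, 5, 5, 5, 4, 6, 4, 5, 5, 4, 6, 3, 3, 1, 2, 1, 3, 1, 2, 1, 3, 3, 1, 2]))))) (.node 255 (.node 252 (.node 251 (.leaf 7 28 [2, 2, 1, 2, 2, 1, 2, 2, 1, 2, 2, 1, 2, 2, 1, 2, 2, 1, 2, 2, 1, 2, 2, 1, 2, 2, 1, 2, 2, 1]) (.leaf 197 13 [1, 3, 1, 3, 3, 1, 2, 1, 3, 3, 1, 3, 3, 1, 4, 6, 4, 5, 5, 4, 6, 4, 5, 4, 6, 4, 5, 5, 1, 2, 1, 3, 1, 3, 3, 1, 2, 1, 2, 1, 3])) (.node 253 (.leaf 52 21 [3, 1, 3, 4, 5, 1, 2, 1, 2, 1, 3, 3, 1, 3, 1, 2, 2, 1, 3, 1, 2, 1, 2, 1, 2, 1]) (.node 254 (.leaf 4 2 [3, 3, 3, 3, 3]) (.leaf 7 8 [2, 1, 2, 2, 1, 2, 2, 1, 2, 2, 1, 2, 2, 1, 2, 2, 1, 2, 2, 1, 2, 2, 1, 2, 2, 1, 2, 2, 1, 2])))) (.node 258 (.node 256 (.leaf 10 11 [3, 1, 3, 3, 3, 1, 3, 3, 3, 1, 3, 3, 3, 1, 3, 3, 3, 1, 3, 3, 3, 1, 3, 3, 3, 1, 3, 3, 3, 1, 3, 3, 3, 1, 3, 3, 3, 1, 3, 3]) (.node 257 (.leaf 198 13 [1, 3, 1, 2, 2, 1, 3, 1, 3, 1, 3, 3, 1, 3, 6, 6, 4, 5, 5, 4, 6, 4, 5, 5, 5, 4, 1, 2, 2, 1, 2, 1, 3, 3, 1, 2, 2, 1, 2]) (.leaf 199 13 [1, 2, 2, 1, 2, 2, 1, 3, 1, 2, 2, 1, 2, 1, 5, 4, 6, 6, 6, 4, 5, 5, 5, 4, 6, 2, 2, 1, 2, 1, 3, 1, 3, 1, 2, 2, 1, 3]))) (.node 259 (.leaf 200 13 [2, 2, 1, 2, 1, 2, 1, 3, 3, 1, 3, 3, 1, 3, 5, 4, 6, 4, 5, 5, 5, 4, 6, 4, 5, 5, 4, 1, 2, 2, 1, 3, 1, 3, 1, 2, 2, 1, 2, 1]) (.node 260 (.leaf 201 13 [2, 1, 3, 1, 3, 1, 3, 1, 3, 1, 2, 2, 1, 3, 4, 5, 5, 5, 4, 6, 4, 5, 5, 4, 6, 4, 5, 5, 2, 2, 1, 3, 1, 3, 3, 1, 3, 1, 3, 1, 2]) (.leaf 202 13 [1, 3, 3, 1, 2, 1, 2, 2, 1, 2, 1, 2, 2, 1, 5, 5, 5, 5, 4, 6, 4, 5, 5, 5, 4, 6, 4, 5, 5, 5, 1, 3, 1, 2, 2, 1, 2, 1, 2, 2, 1, 2, 2])))))))) (.node 305 (.node 283 (.node 272 (.node 266 (.node 263 (.node 262 (.leaf 7 7 [2, 2, 1, 2, 2, 1, 2, 2, 1, 2, 2, 1, 2, 2, 1, 2, 2, 1, 2, 2, 1, 2, 2, 1, 2, 2, 1, 2, 2, 1]) (.leaf 2 15 [2, 1, 6, 1, 2, 1, 2, 2, 1, 2, 1, 2, 1, 3, 1, 3, 1, 2])) (.node 264 (.leaf 203 13 [2, 1, 3, 1, 3, 1, 3, 1, 2, 2, 1, 2, 1, 3, 5, 5, 4, 6, 6, 4, 5, 4, 6, 4, 5, 4, 6, 6, 4, 5, 5, 2, 2, 1, 3, 3, 1, 2, 1, 3, 1, 2, 1, 2]) (.node 265 (.leaf 204 13 [1, 3, 1, 3, 1, 3, 1, 3, 1, 2, 1, 2, 1, 3, 5, 5, 4, 6, 4, 5, 4, 6, 4, 5, 4, 6, 4, 5, 5, 5, 1, 2, 1, 3, 1, 2, 1, 2, 2, 1, 2, 1, 2]) (.leaf 52 6 [3, 1, 3, 1, 2, 2, 1, 3, 1, 2, 1, 2, 1, 2, 1, 3, 1, 3, 4, 5, 1, 2, 1, 2, 1, 3])))) (.node 269 (.node 267 (.leaf 4 1 [3, 3, 3, 3, 3]) (.node 268 (.leaf 205 13 [2, 1, 2, 2, 1, 2, 2, 1, 3, 1, 2, 1, 2, 1, 4, 6, 4, 5, 4, 6, 4, 5, 4, 6, 4, 5, 5, 4, 6, 4, 2, 1, 2, 1, 3, 3, 1, 2, 1, 3, 3, 1, 2]) (.leaf 7 20 [2, 1, 2, 2, 1, 2, 2, 1, 2, 2, 1, 2, 2, 1, 2, 2, 1, 2, 2, 1, 2, 2, 1, 2, 2, 1, 2, 2, 1, 2]))) (.node 270 (.leaf 9 17 [2, 2, 2, 1, 2, 2, 2, 1, 2, 2, 2, 1, 2, 2, 2, 1, 2, 2, 2, 1, 2, 2, 2, 1, 2, 2, 2, 1, 2, 2, 2, 1, 2, 2, 2, 1, 2, 2, 2, 1]) (.node 271 (.leaf 77 3 [2, 2, 1, 2, 2, 1, 3, 1, 2, 1, 2, 1, 3, 1, 3, 3, 1, 2, 1, 3, 1, 3, 6, 2, 2, 1]) (.leaf 206 13 [2, 1, 2, 2, 1, 3, 1, 3, 3, 1, 3, 1, 3, 3, 6, 4, 5, 5, 4, 6, 4, 6, 2, 1, 3, 1, 3, 1, 3, 3, 1, 2, 1, 3, 1]))))) (.node 277 (.node 274 (.node 273 (.leaf 207 13 [2, 2, 1, 3, 3, 1, 3, 1, 3, 1, 2, 1, 2, 1, 4, 6, 4, 5, 5, 4, 6, 4, 5, 5, 5, 4, 6, 4, 5, 5, 5, 2, 2, 1, 2, 1, 3, 1, 2, 1, 2, 1, 3, 1]) (.leaf 208 13 [1, 2, 2, 1, 2, 1, 2, 2, 1, 2, 1, 3, 1, 3, 5, 5, 4, 6, 4, 5, 5, 4, 6, 4, 5, 5, 5, 4, 5, 3, 3, 1, 3, 3, 1, 3, 1, 3, 3, 1, 2, 2])) (.node 275 (.leaf 209 13 [1, 2, 2, 1, 2, 2, 1, 2, 1, 3, 1, 3, 1, 3, 4, 5, 5, 4, 6, 4, 5, 5, 4, 6, 4, 5, 5, 2, 1, 2, 1, 3, 3, 1, 2, 1, 2, 2, 1, 2]) (.node 276 (.leaf 210 13 [1, 2, 1, 2, 1, 3, 1, 2, 1, 3, 3, 1, 2, 1, 6, 4, 5, 4, 6, 4, 5, 4, 6, 6, 4, 5, 4, 1, 2, 2, 1, 3, 1, 2, 2, 1, 3, 1, 2, 2]) (.leaf 211 13 [2, 1, 2, 2, 1, 2, 2, 1, 2, 1, 2, 1, 3, 1, 5, 5, 4, 6, 4, 5, 5, 4, 6, 4, 5, 4, 6, 4, 5, 1, 3, 1, 2, 1, 3, 3, 1, 3, 1, 2, 1, 2])))) (.node 280 (.node 278 (.leaf 7 23 [2, 1, 2, 2, 1, 2, 2, 1, 2, 2, 1, 2, 2, 1, 2, 2, 1, 2, 2, 1, 2, 2, 1, 2, 2, 1, 2, 2, 1, 2]) (.node 279 (.leaf 9 14 [2, 2, 1, 2, 2, 2, 1, 2, 2, 2, 1, 2, 2, 2, 1, 2, 2, 2, 1, 2, 2, 2, 1, 2, 2, 2, 1, 2, 2, 2, 1, 2, 2, 2, 1, 2, 2, 2, 1, 2]) (.leaf 212 13 [1, 3, 1, 2, 2, 1, 3, 1, 3, 1, 3, 1, 3, 1, 6, 4, 6, 6, 6, 4, 5, 4, 6, 6, 6, 4, 5, 2, 1, 3, 1, 2, 1, 3, 1, 2, 1, 3, 1, 3]))) (.node 281 (.leaf 213 13 [2, 1, 3, 1, 3, 1, 3, 3, 1, 3, 1, 3, 1, 3, 5, 4, 5, 5, 5, 5, 4, 5, 1, 3, 1, 3, 3, 1, 3, 3, 1, 3, 1, 3, 1]) (.node 282 (.leaf 109 28 [5, 5, 2, 2, 1, 2, 1, 2, 1, 3, 3, 1, 3, 1, 2, 2, 1, 2, 1, 3, 1, 2, 1, 2, 1, 2, 2, 6, 4, 5]) (.leaf 214 13 [2, 1, 3, 3, 1, 3, 3, 1, 2, 1, 3, 1, 2, 1, 6, 4, 5, 5, 5, 4, 6, 6, 6, 4, 5, 5, 5, 1, 3, 1, 3, 3, 1, 2, 1, 3, 3, 1, 2, 1])))))) (.node 294 (.node 288 (.node 285 (.node 284 (.leaf 215 13 [2, 2, 1, 2, 2, 1, 2, 1, 3, 1, 2, 1, 2, 2, 4, 5, 5, 5, 5, 4, 6, 4, 5, 5, 4, 6, 4, 1, 3, 1, 3, 1, 2, 1, 3, 1, 3, 1, 2, 1]) (.leaf 216 13 [2, 2, 1, 3, 1, 3, 1, 2, 1, 3, 3, 1, 3, 1, 6, 4, 5, 5, 4, 6, 2, 2, 1, 2, 1, 3, 3, 1, 3, 1, 3, 3, 1])) (.node 286 (.leaf 217 13 [2, 1, 3, 1, 3, 1, 3, 1, 3, 1, 2, 1, 2, 2, 4, 5, 5, 5, 4, 6, 4, 5, 4, 6, 4, 5, 4, 6, 4, 5, 1, 2, 1, 3, 1, 2, 2, 1, 3, 1, 3, 3, 1]) (.node 287 (.leaf 218 13 [1, 2, 1, 2, 2, 1, 2, 2, 1, 2, 1, 2, 1, 3, 4, 6, 4, 5, 5, 5, 4, 6, 4, 5, 4, 6, 6, 4, 5, 4, 2, 2, 1, 3, 1, 3, 1, 2, 2, 1, 3, 1, 3]) (.leaf 219 13 [2, 2, 1, 2, 2, 1, 3, 3, 1, 3, 1, 3, 3, 1, 5, 4, 5, 5, 5, 4, 6, 4, 5, 5, 5, 4, 2, 1, 2, 2, 1, 2, 1, 3, 1, 2, 1, 2, 1])))) (.node 291 (.node 289 (.leaf 220 13 [2, 1, 2, 1, 2, 1, 2, 2, 1, 2, 1, 3, 1, 3, 4, 6, 4, 5, 5, 5, 4, 6, 4, 5, 5, 4, 6, 6, 4, 5, 3, 3, 1, 2, 1, 3, 3, 1, 2, 1, 2, 2, 1]) (.node 290 (.leaf 221 13 [2, 1, 3, 1, 2, 2, 1, 3, 1, 2, 2, 1, 3, 1, 4, 6, 4, 5, 5, 5, 4, 6, 6, 6, 4, 5, 5, 2, 1, 2, 1, 2, 1, 3, 3, 1, 2, 1, 3, 1]) (.leaf 222 13 [2, 2, 1, 3, 1, 2, 1, 3, 3, 1, 2, 1, 3, 1, 4, 5, 5, 5, 5, 4, 6, 4, 5, 5, 4, 6, 6, 4, 1, 2, 1, 3, 3, 1, 2, 2, 1, 3, 1, 3, 1]))) (.node 292 (.leaf 223 13 [2, 1, 2, 2, 1, 2, 2, 1, 2, 2, 1, 3, 1, 3, 4, 5, 5, 4, 6, 4, 5, 5, 5, 4, 6, 4, 5, 5, 4, 2, 1, 3, 1, 3, 1, 3, 1, 3, 3, 1, 3, 1]) (.node 293 (.leaf 224 13 [2, 2, 1, 3, 1, 3, 1, 2, 1, 3, 1, 3, 1, 3, 5, 5, 4, 6, 6, 4, 5, 4, 6, 6, 6, 2, 2, 1, 3, 3, 1, 3, 1, 3, 1, 2, 2, 1]) (.leaf 77 17 [3, 3, 1, 2, 1, 3, 1, 3, 6, 2, 2, 1, 2, 2, 1, 2, 2, 1, 3, 1, 2, 1, 2, 1, 3, 1]))))) (.node 299 (.node 296 (.node 295 (.leaf 225 13 [2, 1, 3, 1, 2, 1, 3, 1, 2, 1, 3, 1, 3, 3, 4, 6, 4, 5, 4, 6, 4, 5, 4, 6, 4, 5, 4, 6, 1, 2, 2, 1, 3, 1, 2, 2, 1, 3, 3, 1, 2]) (.leaf 226 13 [2, 1, 2, 1, 2, 2, 1, 2, 2, 1, 2, 1, 3, 3, 6, 4, 5, 4, 6, 4, 5, 5, 5, 2, 2, 1, 2, 2, 1, 3, 1, 3, 3, 1, 3, 1])) (.node 297 (.leaf 116 27 [4, 2, 2, 1, 2, 1, 2, 1, 2, 2, 1, 2, 2, 1, 2, 1, 3, 1, 3, 1, 3, 1, 2, 2, 1, 2, 1, 5]) (.node 298 (.leaf 1 2 [2, 4, 3, 1]) (.leaf 227 13 [2, 1, 3, 1, 2, 1, 2, 1, 3, 1, 3, 1, 3, 1, 4, 5, 5, 5, 4, 6, 6, 4, 2, 2, 1, 2, 2, 1, 3, 1, 3, 1, 3, 1, 2])))) (.node 302 (.node 300 (.leaf 109 3 [2, 1, 2, 1, 3, 3, 1, 3, 1, 2, 2, 1, 2, 1, 3, 1, 2, 1, 2, 1, 2, 2, 6, 4, 5, 5, 5, 2, 2, 1]) (.node 301 (.leaf 228 13 [2, 1, 2, 1, 2, 1, 2, 1, 2, 2, 1, 2, 1, 3, 6, 4, 6, 6, 6, 4, 5, 4, 6, 6, 4, 5, 4, 5, 1, 3, 3, 1, 3, 3, 1, 2, 1, 2, 1, 3, 1]) (.leaf 229 13 [2, 1, 3, 1, 2, 1, 2, 1, 2, 2, 1, 2, 2, 1, 4, 6, 6, 4, 5, 4, 6, 4, 5, 5, 4, 6, 4, 5, 5, 5, 2, 1, 2, 2, 1, 2, 1, 3, 1, 3, 1, 2, 1]))) (.node 303 (.leaf 52 24 [4, 5, 1, 2, 1, 2, 1, 3, 3, 1, 3, 1, 2, 2, 1, 3, 1, 2, 1, 2, 1, 2, 1, 3, 1, 3]) (.node 304 (.leaf 230 13 [1, 2, 2, 1, 2, 1, 3, 1, 2, 1, 2, 2, 1, 3, 4, 5, 4, 6, 6, 4, 5, 5, 5, 4, 1, 2, 1, 3, 1, 3, 1, 3, 1, 2, 2, 1, 2]) (.leaf 231 13 [1, 2, 1, 2, 1, 2, 2, 1, 3, 3, 1, 3, 1, 3, 4, 5, 5, 5, 4, 6, 4, 5, 4, 6, 6, 4, 5, 5, 3, 3, 1, 3, 1, 2, 2, 1, 2, 1, 2, 1, 3]))))))) (.node 327 (.node 316 (.node 310 (.node 307 (.node 306 (.leaf 232 13 [2, 1, 3, 1, 2, 1, 2, 2, 1, 3, 1, 3, 3, 1, 6, 6, 4, 5, 5, 5, 4, 6, 6, 6, 4, 5, 5, 5, 1, 3, 1, 3, 3, 1, 2, 1, 3, 1, 2, 2, 1]) (.leaf 233 13 [1, 2, 2, 1, 2, 1, 2, 1, 2, 2, 1, 2, 1, 3, 5, 4, 6, 6, 4, 5, 4, 6, 6, 2, 1, 2, 1, 3, 1, 3, 1, 2, 1, 3, 1, 2])) (.node 308 (.leaf 234 13 [2, 1, 3, 3, 1, 3, 1, 2, 1, 3, 3, 1, 3, 3, 5, 5, 4, 6, 4, 5, 4, 6, 4, 5, 4, 6, 6, 4, 5, 4, 2, 1, 2, 1, 2, 2, 1, 3, 1, 2, 1, 3, 1]) (.node 309 (.leaf 235 13 [2, 1, 3, 1, 2, 2, 1, 3, 1, 3, 1, 2, 1, 3, 4, 6, 6, 6, 4, 5, 5, 5, 4, 5, 2, 2, 1, 3, 1, 3, 1, 2, 1, 2, 1, 2, 1]) (.leaf 236 13 [2, 1, 2, 1, 3, 3, 1, 3, 1, 2, 1, 3, 3, 1, 4, 6, 6, 4, 5, 4, 6, 6, 6, 4, 5, 5, 1, 3, 1, 3, 3, 1, 2, 1, 3, 1, 3, 3, 1])))) (.node 313 (.node 311 (.leaf 237 13 [1, 2, 1, 2, 2, 1, 2, 2, 1, 2, 2, 1, 3, 3, 6, 4, 5, 5, 4, 6, 1, 3, 1, 2, 2, 1, 2, 2, 1, 2, 2, 1, 3]) (.node 312 (.leaf 238 13 [2, 1, 2, 1, 2, 2, 1, 2, 1, 3, 1, 3, 3, 1, 4, 5, 4, 6, 6, 4, 5, 5, 4, 6, 6, 2, 1, 2, 1, 3, 1, 3, 3, 1, 3, 1, 3, 1]) (.leaf 15 14 [1, 2, 1, 2, 2, 6, 4, 5, 1, 3, 3, 1, 2, 1, 3, 1, 2, 2, 1, 2, 1, 2]))) (.node 314 (.leaf 239 13 [1, 3, 1, 3, 1, 3, 1, 3, 3, 1, 3, 1, 2, 1, 5, 4, 6, 4, 5, 4, 6, 4, 5, 4, 6, 4, 5, 4, 6, 1, 3, 1, 2, 1, 2, 2, 1, 2, 1, 2, 1, 2]) (.node 315 (.leaf 240 13 [2, 1, 3, 1, 3, 1, 3, 1, 2, 2, 1, 3, 1, 3, 6, 6, 4, 5, 5, 4, 6, 4, 5, 4, 6, 6, 4, 5, 5, 5, 2, 2, 1, 2, 1, 2, 2, 1, 3, 1, 3, 3, 1]) (.leaf 77 1 [2, 1, 2, 2, 1, 2, 2, 1, 3, 1, 2, 1, 2, 1, 3, 1, 3, 3, 1, 2, 1, 3, 1, 3, 6, 2]))))) (.node 321 (.node 318 (.node 317 (.leaf 241 13 [2, 1, 2, 1, 3, 3, 1, 3, 3, 1, 2, 1, 3, 1, 4, 5, 4, 6, 4, 5, 4, 6, 4, 5, 4, 6, 4, 5, 5, 3, 3, 1, 2, 2, 1, 3, 1, 3, 1, 2, 1, 2]) (.leaf 242 13 [1, 3, 3, 1, 3, 1, 3, 3, 1, 3, 1, 2, 1, 3, 5, 5, 5, 4, 6, 6, 6, 4, 5, 5, 5, 4, 6, 6, 1, 3, 3, 1, 2, 1, 2, 2, 1, 3, 3, 1, 3])) (.node 319 (.leaf 77 16 [1, 3, 3, 1, 2, 1, 3, 1, 3, 6, 2, 2, 1, 2, 2, 1, 2, 2, 1, 3, 1, 2, 1, 2, 1, 3]) (.node 320 (.leaf 2 12 [3, 1, 2, 2, 1, 6, 1, 2, 1, 2, 2, 1, 2, 1, 2, 1, 3, 1]) (.leaf 243 13 [2, 1, 2, 2, 1, 2, 1, 3, 3, 1, 2, 1, 2, 1, 4, 6, 4, 5, 5, 5, 4, 6, 4, 5, 5, 4, 6, 2, 2, 1, 2, 1, 3, 1, 3, 3, 1, 2, 2, 1])))) (.node 324 (.node 322 (.leaf 244 13 [2, 1, 3, 3, 1, 3, 1, 3, 1, 2, 1, 2, 1, 3, 5, 4, 6, 4, 5, 5, 4, 6, 4, 5, 5, 4, 6, 4, 1, 2, 2, 1, 2, 1, 2, 1, 2, 1, 3, 1, 2]) (.node 323 (.leaf 245 13 [1, 3, 1, 3, 1, 2, 1, 2, 2, 1, 2, 1, 3, 3, 5, 5, 4, 6, 6, 4, 5, 4, 6, 4, 5, 4, 6, 4, 2, 2, 1, 3, 3, 1, 2, 2, 1, 3, 1, 2, 2]) (.leaf 52 0 [1, 2, 1, 2, 1, 3, 3, 1, 3, 1, 2, 2, 1, 3, 1, 2, 1, 2, 1, 2, 1, 3, 1, 3, 4, 5]))) (.node 325 (.leaf 246 13 [2, 1, 3, 3, 1, 3, 1, 3, 3, 1, 3, 1, 3, 3, 6, 6, 6, 4, 5, 4, 6, 6, 4, 5, 4, 6, 4, 1, 2, 1, 2, 2, 1, 2, 2, 1, 2, 1, 2, 1]) (.node 326 (.leaf 247 13 [2, 1, 2, 2, 1, 2, 1, 2, 1, 3, 1, 3, 3, 1, 6, 4, 5, 4, 6, 6, 6, 4, 5, 4, 6, 6, 4, 5, 4, 1, 2, 2, 1, 2, 2, 1, 3, 1, 2, 2, 1, 2]) (.leaf 116 7 [2, 2, 1, 2, 2, 1, 2, 1, 3, 1, 3, 1, 3, 1, 2, 2, 1, 2, 1, 5, 4, 2, 2, 1, 2, 1, 2, 1])))))) (.node 338 (.node 332 (.node 329 (.node 328 (.leaf 248 13 [2, 1, 3, 3, 1, 2, 1, 2, 2, 1, 2, 1, 2, 1, 5, 5, 5, 5, 4, 6, 4, 5, 5, 5, 4, 6, 4, 5, 5, 4, 2, 2, 1, 3, 3, 1, 2, 1, 2, 1, 3, 3, 1]) (.leaf 249 13 [1, 2, 2, 1, 3, 3, 1, 3, 3, 1, 2, 1, 2, 1, 6, 4, 5, 4, 6, 6, 4, 5, 4, 6, 6, 4, 1, 2, 2, 1, 2, 2, 1, 2, 2, 1, 2, 1, 2])) (.node 330 (.leaf 77 5 [1, 2, 2, 1, 3, 1, 2, 1, 2, 1, 3, 1, 3, 3, 1, 2, 1, 3, 1, 3, 6, 2, 2, 1, 2, 2]) (.node 331 (.leaf 250 13 [2, 1, 3, 1, 2, 2, 1, 3, 1, 3, 1, 3, 3, 1, 6, 4, 6, 6, 6, 4, 5, 4, 6, 6, 6, 4, 5, 4, 3, 3, 1, 3, 1, 2, 1, 2, 1, 2, 1, 2, 1]) (.leaf 251 13 [2, 2, 1, 2, 1, 3, 3, 1, 2, 1, 2, 1, 3, 1, 5, 5, 4, 6, 4, 5, 5, 5, 4, 6, 4, 5, 5, 4, 6, 6, 2, 1, 2, 1, 2, 1, 3, 1, 2, 1, 3, 3, 1])))) (.node 335 (.node 333 (.leaf 7 12 [1, 2, 2, 1, 2, 2, 1, 2, 2, 1, 2, 2, 1, 2, 2, 1, 2, 2, 1, 2, 2, 1, 2, 2, 1, 2, 2, 1, 2, 2]) (.node 334 (.leaf 109 29 [5, 2, 2, 1, 2, 1, 2, 1, 3, 3, 1, 3, 1, 2, 2, 1, 2, 1, 3, 1, 2, 1, 2, 1, 2, 2, 6, 4, 5, 5]) (.leaf 252 13 [1, 3, 3, 1, 2, 2, 1, 3, 3, 1, 3, 1, 3, 1, 4, 5, 5, 5, 4, 6, 6, 4, 5, 4, 6, 4, 5, 5, 5, 4, 6, 1, 2, 1, 2, 1, 2, 2, 1, 3, 3, 1, 2, 2]))) (.node 336 (.leaf 253 13 [2, 2, 1, 2, 1, 3, 1, 3, 3, 1, 2, 1, 3, 1, 6, 6, 4, 5, 5, 4, 6, 4, 5, 5, 5, 4, 6, 2, 1, 3, 1, 3, 3, 1, 2, 1, 3, 1, 2, 1]) (.node 337 (.leaf 2 9 [1, 3, 1, 3, 1, 2, 2, 1, 6, 1, 2, 1, 2, 2, 1, 2, 1, 2]) (.leaf 254 13 [2, 1, 2, 1, 2, 2, 1, 3, 1, 3, 3, 1, 2, 2, 4, 5, 5, 5, 4, 6, 4, 5, 4, 6, 6, 4, 5, 5, 5, 3, 3, 1, 3, 1, 3, 1, 2, 1, 3, 1, 2, 1]))))) (.node 343 (.node 340 (.node 339 (.leaf 255 13 [1, 2, 1, 3, 3, 1, 3, 1, 2, 2, 1, 2, 1, 3, 5, 4, 6, 6, 4, 5, 4, 6, 4, 5, 4, 6, 6, 4, 1, 2, 2, 1, 3, 3, 1, 2, 1, 2, 2, 1, 2]) (.leaf 2 7 [1, 2, 1, 3, 1, 3, 1, 2, 2, 1, 6, 1, 2, 1, 2, 2, 1, 2])) (.node 341 (.leaf 2 16 [1, 6, 1, 2, 1, 2, 2, 1, 2, 1, 2, 1, 3, 1, 3, 1, 2, 2]) (.node 342 (.leaf 5 26 [1, 2, 1, 2, 1, 2, 1, 2, 1, 2, 1, 2, 1, 2, 1, 2, 1, 2, 1, 2, 1, 2, 1, 2, 1, 2, 1, 2, 1, 2, 1, 2, 1, 2, 1, 2, 1, 2]) (.leaf 256 13 [2, 2, 1, 2, 2, 1, 3, 1, 2, 1, 2, 1, 3, 1, 4, 5, 5, 4, 6, 4, 5, 4, 6, 4, 5, 4, 1, 2, 2, 1, 3, 1, 3, 1, 3, 3, 1, 2, 1])))) (.node 346 (.node 344 (.leaf 257 13 [2, 2, 1, 2, 1, 2, 1, 2, 1, 3, 1, 3, 3, 1, 6, 6, 4, 5, 4, 1, 2, 2, 1, 3, 1, 3, 1, 3, 3, 1, 3, 1]) (.node 345 (.leaf 258 14 [1, 2, 1, 3, 1, 3, 3, 1, 3, 1, 3, 1, 3, 3, 6, 4, 5, 5, 5, 5, 4, 6, 4, 5, 5, 5, 4, 6, 2, 1, 3, 3, 1, 3, 1, 2, 1, 2, 1, 2, 1, 2]) (.leaf 259 14 [1, 2, 1, 3, 3, 1, 3, 1, 3, 1, 3, 1, 2, 1, 6, 4, 5, 4, 6, 6, 6, 4, 6, 1, 2, 1, 2, 1, 2, 2, 1, 3, 1, 3, 1, 2, 2]))) (.node 347 (.leaf 260 13 [2, 1, 3, 3, 1, 2, 1, 2, 1, 3, 1, 3, 1, 3, 3, 4, 5, 4, 6, 6, 4, 5, 4, 6, 4, 3, 3, 1, 3, 1, 3, 3, 1, 2, 1, 2, 1, 2]) (.node 348 (.leaf 52 20 [1, 3, 1, 3, 4, 5, 1, 2, 1, 2, 1, 3, 3, 1, 3, 1, 2, 2, 1, 3, 1, 2, 1, 2, 1, 2]) (.leaf 261 14 [2, 1, 2, 2, 1, 2, 1, 3, 1, 2, 1, 2, 1, 3, 4, 6, 4, 5, 5, 5, 4, 6, 6, 6, 4, 6, 1, 3, 1, 3, 1, 2, 2, 1, 2, 1, 2, 1, 2, 1])))))))))) (.node 524 (.node 436 (.node 392 (.node 370 (.node 359 (.node 354 (.node 351 (.node 350 (.leaf 262 13 [1, 3, 1, 3, 1, 2, 1, 2, 1, 2, 2, 1, 2, 1, 3, 5, 4, 6, 6, 4, 5, 4, 6, 4, 2, 1, 3, 3, 1, 3, 3, 1, 2, 2, 1, 3, 3]) (.leaf 263 13 [2, 1, 2, 1, 3, 1, 2, 1, 2, 1, 2, 2, 1, 2, 1, 4, 5, 5, 5, 4, 6, 6, 4, 5, 5, 4, 6, 3, 3, 1, 3, 3, 1, 3, 1, 3, 1, 3, 1, 2])) (.node 352 (.leaf 264 14 [1, 2, 1, 3, 1, 2, 2, 1, 3, 1, 2, 1, 2, 2, 4, 6, 4, 5, 5, 5, 4, 6, 4, 5, 5, 4, 6, 2, 1, 3, 1, 3, 1, 2, 2, 1, 3, 1, 2, 1, 2]) (.node 353 (.leaf 265 13 [2, 1, 2, 1, 3, 3, 1, 2, 1, 3, 3, 1, 2, 1, 3, 5, 4, 6, 4, 5, 4, 6, 4, 5, 5, 4, 6, 6, 3, 3, 1, 2, 2, 1, 2, 1, 3, 1, 2, 1, 2]) (.leaf 266 14 [1, 3, 1, 3, 3, 1, 2, 1, 2, 1, 3, 1, 3, 3, 6, 6, 4, 5, 5, 5, 4, 6, 6, 2, 1, 2, 1, 2, 1, 3, 1, 2, 1, 2, 1, 2, 2])))) (.node 356 (.node 355 (.leaf 116 19 [3, 1, 2, 2, 1, 2, 1, 5, 4, 2, 2, 1, 2, 1, 2, 1, 2, 2, 1, 2, 2, 1, 2, 1, 3, 1, 3, 1]) (.leaf 4 3 [3, 3, 3, 3, 3])) (.node 357 (.leaf 267 14 [2, 1, 2, 1, 2, 2, 1, 2, 2, 1, 2, 2, 1, 3, 4, 5, 5, 4, 6, 1, 3, 1, 2, 1, 2, 1, 3, 3, 1, 2, 2, 1, 2]) (.node 358 (.leaf 267 30 [5, 4, 6, 1, 3, 1, 2, 1, 2, 1, 3, 3, 1, 2, 2, 1, 2, 2, 1, 2, 1, 2, 2, 1, 2, 2, 1, 2, 2, 1, 3, 4, 5]) (.leaf 181 7 [1, 2, 1, 3, 3, 1, 2, 1, 3, 3, 1, 2, 1, 3, 1, 3, 1, 3, 1, 3, 4, 5, 5, 4, 6, 4, 1, 3, 1, 2, 2, 1, 3]))))) (.node 364 (.node 361 (.node 360 (.leaf 116 2 [1, 2, 1, 2, 1, 2, 2, 1, 2, 2, 1, 2, 1, 3, 1, 3, 1, 3, 1, 2, 2, 1, 2, 1, 5, 4, 2, 2]) (.leaf 268 14 [2, 1, 3, 3, 1, 2, 1, 2, 1, 2, 2, 1, 2, 2, 4, 6, 4, 5, 5, 5, 4, 6, 4, 5, 4, 6, 6, 4, 5, 4, 1, 3, 3, 1, 3, 1, 3, 3, 1, 2, 1, 3, 3, 1])) (.node 362 (.leaf 269 14 [1, 2, 2, 1, 3, 1, 2, 1, 3, 3, 1, 2, 1, 3, 5, 5, 4, 6, 6, 4, 5, 4, 6, 4, 5, 5, 4, 6, 4, 2, 1, 3, 1, 2, 1, 2, 2, 1, 3, 1, 3, 1, 2]) (.node 363 (.leaf 270 14 [1, 3, 1, 2, 1, 2, 2, 1, 2, 1, 2, 2, 1, 3, 5, 5, 5, 5, 4, 6, 4, 5, 2, 1, 3, 1, 3, 1, 2, 2, 1, 2, 1, 2, 1, 3]) (.leaf 271 13 [2, 1, 3, 1, 2, 1, 2, 2, 1, 3, 1, 2, 1, 3, 1, 4, 5, 4, 6, 4, 5, 4, 6, 4, 5, 4, 6, 6, 4, 5, 4, 2, 2, 1, 2, 1, 2, 1, 2, 1, 3, 1, 2, 1])))) (.node 367 (.node 365 (.leaf 272 13 [1, 2, 1, 3, 3, 1, 2, 1, 2, 2, 1, 2, 1, 3, 3, 5, 5, 4, 6, 6, 4, 5, 4, 6, 6, 6, 4, 5, 5, 5, 3, 3, 1, 3, 3, 1, 3, 3, 1, 3, 3, 1, 2]) (.node 366 (.leaf 273 14 [2, 2, 1, 2, 1, 2, 1, 2, 2, 1, 2, 1, 2, 2, 5, 5, 5, 5, 4, 6, 4, 5, 5, 5, 4, 6, 6, 1, 3, 3, 1, 2, 1, 3, 1, 2, 1, 3, 1, 2, 1]) (.leaf 274 14 [1, 2, 1, 3, 1, 3, 1, 2, 1, 2, 2, 1, 2, 1, 4, 5, 5, 4, 6, 6, 4, 5, 4, 6, 6, 6, 4, 5, 5, 5, 4, 1, 2, 1, 2, 1, 2, 1, 2, 1, 3, 1, 2, 1, 2]))) (.node 368 (.leaf 275 13 [1, 2, 2, 1, 2, 2, 1, 2, 2, 1, 3, 1, 2, 1, 3, 4, 5, 4, 6, 4, 5, 4, 6, 6, 6, 4, 6, 3, 3, 1, 3, 3, 1, 2, 1, 3, 1, 2, 1, 2]) (.node 369 (.leaf 276 13 [2, 1, 2, 2, 1, 2, 2, 1, 3, 1, 3, 3, 1, 3, 1, 6, 6, 6, 4, 5, 5, 5, 4, 6, 6, 6, 4, 5, 5, 5, 1, 2, 1, 2, 2, 1, 3, 3, 1, 2, 2, 1, 2]) (.leaf 277 14 [1, 2, 1, 3, 1, 2, 1, 2, 1, 3, 3, 1, 2, 2, 5, 5, 4, 6, 6, 4, 5, 5, 1, 2, 2, 1, 2, 2, 1, 2, 1, 2, 1, 2, 1, 3])))))) (.node 381 (.node 375 (.node 372 (.node 371 (.leaf 116 3 [2, 1, 2, 1, 2, 2, 1, 2, 2, 1, 2, 1, 3, 1, 3, 1, 3, 1, 2, 2, 1, 2, 1, 5, 4, 2, 2, 1]) (.leaf 278 13 [2, 1, 2, 1, 2, 1, 2, 1, 2, 2, 1, 2, 1, 3, 1, 4, 5, 4, 6, 6, 6, 4, 5, 4, 6, 6, 4, 5, 4, 6, 4, 5, 2, 1, 3, 1, 2, 1, 3, 3, 1, 3, 1, 3, 1])) (.node 373 (.leaf 279 13 [2, 1, 2, 2, 1, 2, 1, 2, 1, 3, 1, 2, 1, 3, 1, 5, 5, 4, 6, 6, 6, 4, 5, 4, 6, 6, 6, 4, 5, 4, 6, 1, 3, 1, 3, 1, 2, 2, 1, 2, 2, 1, 3, 1]) (.node 374 (.leaf 52 9 [1, 2, 2, 1, 3, 1, 2, 1, 2, 1, 2, 1, 3, 1, 3, 4, 5, 1, 2, 1, 2, 1, 3, 3, 1, 3]) (.leaf 280 13 [1, 3, 1, 2, 1, 3, 1, 2, 2, 1, 3, 1, 2, 1, 3, 6, 4, 5, 4, 6, 6, 4, 5, 5, 4, 6, 4, 5, 5, 5, 2, 1, 3, 3, 1, 2, 2, 1, 2, 1, 2, 1, 3])))) (.node 378 (.node 376 (.leaf 281 13 [1, 2, 1, 3, 3, 1, 2, 2, 1, 2, 1, 3, 1, 3, 1, 6, 6, 4, 5, 5, 4, 6, 4, 5, 5, 5, 4, 6, 6, 6, 4, 2, 1, 3, 3, 1, 3, 3, 1, 3, 3, 1, 3, 3]) (.node 377 (.leaf 8 3 [1, 3, 3, 1, 3, 3, 1, 3, 3, 1, 3, 3, 1, 3, 3, 1, 3, 3, 1, 3, 3, 1, 3, 3, 1, 3, 3, 1, 3, 3]) (.leaf 282 14 [1, 3, 3, 1, 2, 1, 3, 3, 1, 2, 1, 3, 1, 3, 6, 6, 6, 4, 5, 5, 5, 4, 6, 1, 2, 1, 2, 1, 3, 3, 1, 2, 1, 3, 3, 1, 3]))) (.node 379 (.leaf 283 14 [2, 2, 1, 3, 1, 2, 1, 3, 1, 3, 1, 3, 1, 3, 4, 5, 5, 5, 5, 4, 6, 4, 5, 5, 4, 6, 4, 5, 4, 1, 2, 1, 2, 1, 2, 1, 3, 1, 3, 1, 2, 2, 1]) (.node 380 (.leaf 284 14 [2, 2, 1, 3, 3, 1, 2, 1, 3, 3, 1, 3, 1, 3, 4, 6, 4, 5, 5, 5, 4, 6, 6, 1, 3, 1, 3, 1, 2, 1, 3, 1, 2, 2, 1, 3, 1]) (.leaf 285 13 [2, 2, 1, 3, 3, 1, 2, 2, 1, 3, 1, 2, 1, 3, 1, 4, 5, 5, 5, 4, 6, 4, 5, 5, 4, 6, 6, 4, 5, 4, 6, 6, 1, 3, 1, 3, 3, 1, 3, 1, 2, 1, 2, 2, 1]))))) (.node 386 (.node 383 (.node 382 (.leaf 286 13 [1, 2, 1, 3, 3, 1, 3, 3, 1, 3, 1, 3, 1, 3, 1, 5, 4, 6, 4, 5, 4, 6, 4, 5, 4, 6, 4, 5, 4, 2, 2, 1, 3, 3, 1, 3, 1, 2, 1, 2, 1, 2]) (.leaf 287 14 [1, 2, 1, 3, 1, 3, 3, 1, 2, 1, 3, 1, 2, 2, 4, 6, 4, 5, 5, 4, 6, 6, 4, 5, 4, 6, 6, 6, 4, 5, 2, 1, 3, 1, 3, 1, 3, 1, 3, 3, 1, 2, 1, 2])) (.node 384 (.leaf 288 13 [1, 3, 1, 2, 2, 1, 3, 3, 1, 3, 3, 1, 3, 1, 3, 4, 6, 4, 5, 4, 6, 4, 5, 4, 6, 4, 5, 4, 6, 4, 5, 3, 3, 1, 2, 1, 3, 1, 3, 3, 1, 2, 1, 3]) (.node 385 (.leaf 1 0 [3, 1, 2, 4]) (.leaf 7 0 [1, 2, 2, 1, 2, 2, 1, 2, 2, 1, 2, 2, 1, 2, 2, 1, 2, 2, 1, 2, 2, 1, 2, 2, 1, 2, 2, 1, 2, 2])))) (.node 389 (.node 387 (.leaf 289 14 [1, 3, 1, 2, 1, 2, 2, 1, 3, 3, 1, 3, 1, 3, 6, 4, 6, 6, 6, 6, 4, 5, 4, 1, 3, 1, 3, 1, 3, 3, 1, 3, 1, 2, 1, 2, 2]) (.node 388 (.leaf 290 14 [2, 1, 2, 2, 1, 3, 3, 1, 3, 1, 3, 1, 3, 3, 5, 4, 6, 6, 6, 4, 5, 5, 5, 4, 1, 2, 1, 2, 2, 1, 3, 1, 3, 3, 1, 3, 1, 2]) (.leaf 291 13 [1, 3, 1, 2, 2, 1, 2, 1, 3, 1, 3, 3, 1, 2, 1, 4, 6, 4, 6, 6, 6, 4, 5, 4, 6, 6, 4, 5, 4, 5, 3, 3, 1, 3, 3, 1, 3, 1, 3, 3, 1, 3, 3]))) (.node 390 (.leaf 292 14 [1, 3, 1, 2, 2, 1, 3, 1, 2, 1, 3, 3, 1, 3, 5, 5, 4, 6, 4, 5, 5, 5, 4, 6, 6, 6, 4, 5, 5, 5, 1, 2, 1, 3, 1, 2, 2, 1, 2, 1, 3, 3, 1, 3]) (.node 391 (.leaf 293 14 [1, 3, 3, 1, 3, 1, 3, 1, 2, 1, 3, 1, 3, 3, 6, 6, 4, 5, 4, 6, 6, 6, 4, 5, 4, 6, 6, 4, 5, 1, 3, 3, 1, 3, 1, 2, 1, 3, 1, 2, 2, 1, 3]) (.leaf 294 14 [1, 3, 1, 3, 1, 3, 3, 1, 3, 1, 2, 1, 2, 2, 6, 6, 6, 4, 5, 4, 6, 6, 4, 5, 2, 2, 1, 3, 3, 1, 2, 1, 3, 3, 1, 3, 1, 3]))))))) (.node 414 (.node 403 (.node 397 (.node 394 (.node 393 (.leaf 295 14 [1, 3, 3, 1, 2, 1, 3, 1, 2, 1, 3, 1, 2, 2, 6, 4, 5, 4, 6, 6, 4, 5, 4, 5, 1, 2, 2, 1, 2, 1, 3, 1, 3, 3, 1, 3, 1, 2]) (.leaf 296 14 [1, 2, 1, 3, 1, 3, 3, 1, 2, 1, 3, 1, 2, 1, 6, 4, 5, 4, 6, 4, 5, 4, 6, 4, 5, 5, 4, 6, 1, 2, 1, 3, 3, 1, 2, 1, 2, 2, 1, 3, 1, 3])) (.node 395 (.leaf 77 8 [1, 3, 1, 2, 1, 2, 1, 3, 1, 3, 3, 1, 2, 1, 3, 1, 3, 6, 2, 2, 1, 2, 2, 1, 2, 2]) (.node 396 (.leaf 297 14 [1, 2, 1, 3, 3, 1, 2, 1, 2, 1, 3, 3, 1, 3, 4, 6, 6, 4, 5, 4, 6, 6, 6, 4, 5, 4, 6, 6, 4, 5, 5, 1, 3, 3, 1, 2, 2, 1, 3, 1, 2, 1, 2, 1, 3]) (.leaf 52 19 [2, 1, 3, 1, 3, 4, 5, 1, 2, 1, 2, 1, 3, 3, 1, 3, 1, 2, 2, 1, 3, 1, 2, 1, 2, 1])))) (.node 400 (.node 398 (.leaf 116 8 [2, 1, 2, 2, 1, 2, 1, 3, 1, 3, 1, 3, 1, 2, 2, 1, 2, 1, 5, 4, 2, 2, 1, 2, 1, 2, 1, 2]) (.node 399 (.leaf 298 13 [1, 3, 3, 1, 2, 1, 3, 1, 3, 1, 2, 1, 3, 3, 1, 4, 5, 5, 5, 4, 6, 6, 4, 5, 1, 3, 3, 1, 3, 1, 3, 3, 1, 3, 3, 1, 2]) (.leaf 299 14 [2, 1, 3, 1, 2, 1, 3, 1, 2, 1, 2, 1, 2, 2, 6, 6, 4, 5, 4, 6, 4, 5, 5, 5, 4, 5, 1, 3, 1, 2, 1, 3, 1, 3, 3, 1, 2, 2, 1, 2]))) (.node 401 (.leaf 300 13 [1, 2, 1, 3, 3, 1, 3, 1, 2, 1, 3, 3, 1, 3, 1, 5, 5, 5, 4, 6, 6, 6, 4, 5, 4, 6, 6, 4, 5, 5, 1, 3, 1, 3, 3, 1, 2, 2, 1, 2, 1, 3, 3]) (.node 402 (.leaf 301 14 [2, 2, 1, 3, 1, 3, 3, 1, 2, 1, 3, 3, 1, 3, 5, 4, 6, 4, 5, 4, 6, 4, 5, 4, 6, 6, 4, 5, 5, 1, 3, 1, 3, 1, 3, 1, 2, 1, 3, 1, 2, 2, 1]) (.leaf 302 14 [2, 2, 1, 2, 2, 1, 2, 1, 2, 1, 3, 1, 3, 3, 4, 5, 4, 6, 4, 5, 4, 6, 4, 5, 4, 6, 6, 6, 4, 5, 4, 1, 3, 1, 3, 3, 1, 2, 2, 1, 2, 2, 1, 3, 1]))))) (.node 408 (.node 405 (.node 404 (.leaf 15 15 [2, 1, 2, 2, 6, 4, 5, 1, 3, 3, 1, 2, 1, 3, 1, 2, 2, 1, 2, 1, 2, 1]) (.leaf 52 7 [1, 3, 1, 2, 2, 1, 3, 1, 2, 1, 2, 1, 2, 1, 3, 1, 3, 4, 5, 1, 2, 1, 2, 1, 3, 3])) (.node 406 (.leaf 303 13 [2, 2, 1, 3, 3, 1, 3, 1, 3, 1, 3, 3, 1, 2, 1, 6, 6, 6, 4, 5, 5, 5, 4, 6, 4, 5, 2, 1, 3, 3, 1, 3, 1, 3, 1, 3, 1, 2, 1]) (.node 407 (.leaf 52 8 [3, 1, 2, 2, 1, 3, 1, 2, 1, 2, 1, 2, 1, 3, 1, 3, 4, 5, 1, 2, 1, 2, 1, 3, 3, 1]) (.leaf 304 13 [2, 1, 3, 1, 2, 1, 3, 1, 2, 1, 3, 1, 3, 1, 3, 6, 4, 5, 5, 5, 4, 6, 4, 5, 4, 6, 6, 4, 5, 4, 2, 1, 2, 1, 2, 2, 1, 3, 1, 3, 3, 1, 2])))) (.node 411 (.node 409 (.leaf 305 13 [1, 2, 1, 2, 1, 2, 1, 2, 1, 2, 2, 1, 3, 3, 1, 4, 6, 4, 5, 5, 4, 6, 4, 5, 5, 4, 6, 1, 3, 1, 3, 3, 1, 2, 2, 1, 3, 1, 3, 3]) (.node 410 (.leaf 306 14 [2, 1, 2, 1, 2, 1, 2, 1, 3, 1, 2, 2, 1, 3, 5, 5, 5, 5, 4, 6, 4, 5, 5, 4, 6, 6, 4, 5, 5, 1, 2, 1, 2, 1, 3, 3, 1, 2, 1, 2, 1, 2, 1]) (.leaf 307 13 [2, 1, 3, 3, 1, 3, 3, 1, 2, 1, 3, 3, 1, 3, 1, 6, 6, 4, 5, 5, 5, 4, 6, 6, 6, 4, 5, 5, 5, 4, 1, 2, 1, 3, 1, 3, 3, 1, 3, 1, 2, 2, 1]))) (.node 412 (.leaf 308 14 [1, 2, 1, 3, 1, 3, 1, 2, 1, 2, 1, 3, 3, 1, 4, 6, 4, 5, 5, 4, 6, 6, 6, 4, 6, 1, 2, 2, 1, 2, 2, 1, 3, 1, 3, 1, 2, 1, 3]) (.node 413 (.leaf 309 13 [2, 1, 2, 2, 1, 3, 3, 1, 2, 2, 1, 3, 3, 1, 3, 6, 4, 5, 4, 6, 4, 5, 4, 6, 6, 6, 4, 6, 3, 3, 1, 2, 2, 1, 3, 1, 2, 1, 2, 2, 1]) (.leaf 310 13 [1, 2, 1, 2, 1, 2, 1, 3, 3, 1, 3, 1, 2, 2, 1, 5, 4, 5, 5, 5, 4, 6, 4, 5, 4, 6, 6, 4, 5, 2, 1, 3, 1, 3, 1, 2, 1, 2, 1, 3, 1, 3])))))) (.node 425 (.node 419 (.node 416 (.node 415 (.leaf 311 14 [2, 1, 2, 1, 2, 2, 1, 3, 3, 1, 2, 1, 2, 2, 5, 4, 5, 5, 5, 4, 6, 4, 5, 5, 4, 2, 1, 3, 1, 2, 1, 3, 1, 2, 1, 3, 3, 1, 2]) (.leaf 312 14 [1, 2, 1, 2, 1, 2, 2, 1, 3, 1, 2, 2, 1, 3, 5, 4, 6, 4, 5, 4, 6, 4, 5, 5, 4, 6, 4, 2, 1, 2, 1, 3, 3, 1, 3, 3, 1, 3, 1, 2, 2])) (.node 417 (.leaf 313 13 [1, 3, 1, 3, 3, 1, 3, 1, 2, 2, 1, 3, 1, 3, 1, 5, 5, 5, 4, 6, 4, 5, 5, 4, 6, 6, 4, 5, 3, 3, 1, 2, 2, 1, 3, 1, 2, 2, 1, 3, 3]) (.node 418 (.leaf 314 13 [1, 3, 1, 2, 2, 1, 2, 2, 1, 3, 1, 2, 1, 2, 1, 4, 5, 5, 5, 4, 6, 6, 6, 4, 5, 4, 6, 6, 6, 4, 5, 1, 3, 3, 1, 2, 1, 3, 1, 2, 1, 2, 1, 3]) (.leaf 315 13 [1, 2, 1, 2, 1, 2, 1, 2, 2, 1, 2, 1, 2, 1, 3, 6, 4, 5, 5, 4, 6, 4, 5, 5, 4, 6, 4, 6, 2, 2, 1, 3, 1, 3, 1, 2, 1, 3, 3, 1, 3])))) (.node 422 (.node 420 (.leaf 316 14 [2, 1, 3, 1, 2, 1, 2, 2, 1, 3, 3, 1, 2, 2, 6, 4, 5, 5, 4, 6, 4, 5, 5, 4, 6, 4, 5, 4, 2, 1, 3, 3, 1, 2, 1, 2, 2, 1, 2, 1, 3, 1]) (.node 421 (.leaf 317 14 [2, 1, 3, 3, 1, 2, 1, 2, 2, 1, 3, 3, 1, 3, 4, 6, 6, 4, 5, 4, 6, 6, 6, 4, 5, 5, 1, 3, 1, 2, 1, 2, 1, 2, 1, 3, 3, 1, 3, 1]) (.leaf 77 15 [3, 1, 3, 3, 1, 2, 1, 3, 1, 3, 6, 2, 2, 1, 2, 2, 1, 2, 2, 1, 3, 1, 2, 1, 2, 1]))) (.node 423 (.leaf 52 15 [2, 1, 2, 1, 2, 1, 3, 1, 3, 4, 5, 1, 2, 1, 2, 1, 3, 3, 1, 3, 1, 2, 2, 1, 3, 1]) (.node 424 (.leaf 318 13 [1, 2, 1, 3, 3, 1, 3, 1, 2, 1, 2, 2, 1, 3, 1, 4, 5, 4, 6, 6, 4, 5, 4, 6, 4, 5, 5, 4, 6, 2, 1, 3, 1, 2, 1, 2, 2, 1, 3, 1, 3, 3]) (.leaf 319 14 [1, 3, 1, 2, 2, 1, 3, 1, 2, 1, 3, 1, 3, 3, 4, 6, 6, 6, 4, 5, 5, 5, 4, 6, 4, 5, 5, 4, 6, 6, 1, 2, 2, 1, 3, 1, 2, 1, 3, 1, 2, 1, 3, 3]))))) (.node 430 (.node 427 (.node 426 (.leaf 77 6 [2, 2, 1, 3, 1, 2, 1, 2, 1, 3, 1, 3, 3, 1, 2, 1, 3, 1, 3, 6, 2, 2, 1, 2, 2, 1]) (.leaf 320 14 [1, 3, 1, 3, 1, 2, 1, 2, 2, 1, 2, 2, 1, 3, 6, 4, 5, 5, 5, 5, 4, 6, 4, 5, 5, 5, 4, 6, 1, 3, 3, 1, 3, 3, 1, 3, 1, 2, 2, 1, 3, 3])) (.node 428 (.leaf 321 13 [1, 2, 1, 3, 1, 3, 1, 2, 1, 2, 1, 3, 1, 2, 1, 4, 6, 4, 5, 4, 6, 6, 4, 5, 4, 6, 6, 6, 4, 6, 2, 1, 3, 1, 2, 2, 1, 2, 1, 3, 3, 1, 2]) (.node 429 (.leaf 322 14 [1, 2, 1, 2, 1, 3, 1, 3, 3, 1, 3, 3, 1, 3, 6, 6, 4, 5, 5, 1, 3, 1, 2, 2, 1, 3, 1, 3, 1, 3, 3, 1, 3]) (.leaf 15 10 [1, 2, 1, 2, 1, 2, 1, 2, 2, 6, 4, 5, 1, 3, 3, 1, 2, 1, 3, 1, 2, 2])))) (.node 433 (.node 431 (.leaf 10 18 [3, 3, 1, 3, 3, 3, 1, 3, 3, 3, 1, 3, 3, 3, 1, 3, 3, 3, 1, 3, 3, 3, 1, 3, 3, 3, 1, 3, 3, 3, 1, 3, 3, 3, 1, 3, 3, 3, 1, 3]) (.node 432 (.leaf 116 14 [1, 3, 1, 3, 1, 3, 1, 2, 2, 1, 2, 1, 5, 4, 2, 2, 1, 2, 1, 2, 1, 2, 2, 1, 2, 2, 1, 2]) (.leaf 323 14 [2, 1, 3, 1, 2, 1, 3, 1, 3, 1, 3, 1, 3, 3, 6, 6, 4, 5, 4, 6, 4, 5, 4, 6, 4, 5, 4, 6, 1, 3, 3, 1, 2, 1, 3, 3, 1, 3, 3, 1, 3, 1]))) (.node 434 (.leaf 324 14 [1, 3, 1, 3, 1, 2, 2, 1, 2, 1, 2, 1, 2, 2, 5, 5, 5, 5, 4, 6, 4, 5, 5, 5, 4, 2, 2, 1, 2, 2, 1, 2, 1, 2, 1, 2, 2, 1, 3]) (.node 435 (.leaf 52 5 [3, 3, 1, 3, 1, 2, 2, 1, 3, 1, 2, 1, 2, 1, 2, 1, 3, 1, 3, 4, 5, 1, 2, 1, 2, 1]) (.leaf 325 14 [1, 3, 1, 3, 1, 3, 1, 3, 3, 1, 2, 2, 1, 3, 4, 6, 4, 5, 5, 4, 6, 6, 6, 1, 3, 3, 1, 2, 1, 3, 1, 3, 1, 3, 1, 2, 2])))))))) (.node 480 (.node 458 (.node 447 (.node 441 (.node 438 (.node 437 (.leaf 52 2 [1, 2, 1, 3, 3, 1, 3, 1, 2, 2, 1, 3, 1, 2, 1, 2, 1, 2, 1, 3, 1, 3, 4, 5, 1, 2]) (.leaf 326 13 [2, 1, 2, 1, 3, 3, 1, 3, 1, 2, 1, 3, 1, 3, 1, 5, 5, 4, 6, 6, 6, 4, 5, 4, 6, 6, 6, 4, 5, 5, 5, 2, 1, 2, 1, 2, 1, 2, 1, 3, 1, 2, 1, 2])) (.node 439 (.leaf 257 19 [1, 2, 1, 3, 1, 3, 3, 1, 6, 6, 4, 5, 4, 1, 2, 2, 1, 3, 1, 3, 1, 3, 3, 1, 3, 1, 2, 2, 1, 2, 1, 2]) (.node 440 (.leaf 327 13 [1, 3, 3, 1, 2, 1, 2, 1, 3, 1, 2, 2, 1, 3, 1, 4, 6, 4, 5, 5, 5, 5, 4, 6, 4, 5, 5, 5, 4, 6, 4, 2, 2, 1, 2, 1, 2, 2, 1, 2, 1, 3, 1, 2]) (.leaf 328 13 [1, 3, 1, 3, 3, 1, 3, 1, 3, 3, 1, 3, 1, 3, 1, 6, 6, 4, 5, 4, 6, 4, 5, 4, 6, 6, 6, 4, 2, 1, 3, 1, 2, 1, 2, 1, 3, 3, 1, 2, 2])))) (.node 444 (.node 442 (.leaf 329 14 [1, 2, 1, 2, 1, 3, 3, 1, 3, 1, 3, 3, 1, 3, 4, 6, 6, 6, 4, 5, 4, 6, 6, 6, 1, 3, 1, 2, 2, 1, 2, 1, 2, 1, 3, 1, 2, 2]) (.node 443 (.leaf 15 2 [3, 1, 2, 1, 3, 1, 2, 2, 1, 2, 1, 2, 1, 2, 1, 2, 2, 6, 4, 5, 1, 3]) (.leaf 216 30 [5, 4, 6, 2, 2, 1, 2, 1, 3, 3, 1, 3, 1, 3, 3, 1, 2, 2, 1, 3, 1, 3, 1, 2, 1, 3, 3, 1, 3, 1, 6, 4, 5]))) (.node 445 (.leaf 330 13 [1, 3, 1, 3, 3, 1, 3, 1, 2, 1, 2, 1, 3, 3, 1, 6, 4, 5, 5, 5, 4, 6, 4, 5, 5, 5, 2, 1, 2, 1, 3, 1, 2, 1, 3, 1, 2, 1, 3]) (.node 446 (.leaf 331 13 [2, 1, 3, 1, 2, 1, 3, 3, 1, 3, 1, 2, 1, 3, 1, 4, 5, 5, 4, 6, 4, 5, 4, 6, 6, 6, 4, 2, 1, 2, 1, 2, 2, 1, 3, 3, 1, 2, 1, 2]) (.leaf 15 8 [2, 2, 1, 2, 1, 2, 1, 2, 1, 2, 2, 6, 4, 5, 1, 3, 3, 1, 2, 1, 3, 1]))))) (.node 452 (.node 449 (.node 448 (.leaf 332 14 [2, 1, 3, 1, 3, 1, 2, 1, 3, 1, 2, 1, 2, 2, 4, 6, 4, 5, 4, 6, 4, 5, 4, 6, 6, 6, 4, 5, 4, 2, 2, 1, 3, 1, 2, 1, 3, 1, 3, 1, 3, 1, 2]) (.leaf 333 14 [1, 3, 3, 1, 3, 3, 1, 2, 2, 1, 3, 1, 3, 3, 4, 6, 4, 5, 5, 5, 4, 6, 6, 6, 4, 5, 4, 2, 1, 2, 2, 1, 2, 1, 3, 3, 1, 2, 2, 1, 2])) (.node 450 (.leaf 334 13 [2, 1, 3, 3, 1, 2, 1, 2, 1, 2, 2, 1, 3, 1, 3, 4, 5, 5, 4, 6, 4, 5, 4, 6, 4, 5, 4, 3, 3, 1, 2, 1, 2, 1, 2, 1, 3, 3, 1, 2]) (.node 451 (.leaf 116 16 [1, 3, 1, 3, 1, 2, 2, 1, 2, 1, 5, 4, 2, 2, 1, 2, 1, 2, 1, 2, 2, 1, 2, 2, 1, 2, 1, 3]) (.leaf 335 13 [2, 1, 3, 1, 2, 2, 1, 3, 1, 2, 1, 3, 1, 2, 2, 6, 6, 6, 4, 5, 5, 5, 4, 6, 6, 6, 4, 3, 3, 1, 2, 1, 3, 3, 1, 2, 1, 3, 3, 1])))) (.node 455 (.node 453 (.leaf 336 13 [1, 3, 1, 3, 1, 2, 2, 1, 3, 3, 1, 3, 3, 1, 3, 5, 4, 6, 6, 6, 4, 5, 4, 6, 6, 4, 5, 5, 5, 2, 1, 3, 1, 2, 1, 2, 1, 3, 1, 2, 1, 3]) (.node 454 (.leaf 257 6 [3, 1, 3, 3, 1, 3, 1, 2, 2, 1, 2, 1, 2, 1, 2, 1, 3, 1, 3, 3, 1, 6, 6, 4, 5, 4, 1, 2, 2, 1, 3, 1]) (.leaf 337 13 [2, 1, 2, 1, 2, 2, 1, 3, 3, 1, 3, 3, 1, 3, 1, 5, 5, 4, 6, 4, 5, 4, 6, 4, 5, 5, 4, 6, 4, 5, 3, 3, 1, 2, 2, 1, 2, 1, 3, 1, 2, 2, 1]))) (.node 456 (.leaf 338 14 [2, 1, 3, 3, 1, 2, 1, 3, 1, 3, 3, 1, 2, 2, 6, 6, 6, 4, 5, 4, 6, 6, 6, 4, 5, 4, 6, 6, 6, 2, 1, 3, 1, 2, 2, 1, 2, 1, 3, 3, 1, 3, 1]) (.node 457 (.leaf 339 14 [2, 2, 1, 3, 1, 2, 2, 1, 2, 1, 3, 1, 2, 2, 6, 6, 6, 4, 5, 5, 5, 4, 6, 6, 6, 4, 2, 1, 3, 3, 1, 2, 1, 3, 1, 2, 2, 1, 3, 1]) (.leaf 340 14 [1, 2, 2, 1, 3, 1, 2, 1, 2, 1, 3, 1, 3, 3, 6, 6, 4, 5, 5, 4, 6, 4, 5, 5, 5, 4, 6, 1, 3, 1, 3, 3, 1, 3, 3, 1, 2, 2, 1, 3, 3])))))) (.node 469 (.node 463 (.node 460 (.node 459 (.leaf 77 4 [2, 1, 2, 2, 1, 3, 1, 2, 1, 2, 1, 3, 1, 3, 3, 1, 2, 1, 3, 1, 3, 6, 2, 2, 1, 2]) (.leaf 116 22 [2, 1, 2, 1, 5, 4, 2, 2, 1, 2, 1, 2, 1, 2, 2, 1, 2, 2, 1, 2, 1, 3, 1, 3, 1, 3, 1, 2])) (.node 461 (.leaf 341 13 [1, 3, 1, 3, 3, 1, 3, 1, 2, 1, 3, 3, 1, 3, 1, 4, 5, 4, 6, 4, 5, 4, 6, 4, 5, 4, 6, 4, 5, 5, 3, 3, 1, 2, 2, 1, 2, 1, 2, 2, 1, 2, 2]) (.node 462 (.leaf 342 14 [1, 3, 1, 2, 2, 1, 2, 1, 3, 1, 3, 1, 2, 2, 4, 6, 4, 5, 4, 6, 4, 5, 4, 6, 6, 6, 4, 6, 2, 1, 3, 3, 1, 3, 3, 1, 2, 1, 2, 1, 2, 2]) (.leaf 343 14 [2, 1, 2, 1, 3, 3, 1, 3, 3, 1, 3, 3, 1, 3, 6, 6, 6, 4, 5, 5, 5, 4, 6, 6, 6, 4, 5, 5, 5, 1, 2, 1, 2, 2, 1, 3, 3, 1, 2, 1, 2, 1, 2])))) (.node 466 (.node 464 (.leaf 344 13 [1, 2, 1, 2, 1, 3, 1, 3, 3, 1, 3, 3, 1, 3, 3, 4, 6, 6, 4, 5, 5, 4, 6, 6, 2, 2, 1, 3, 3, 1, 2, 1, 3, 3, 1, 3, 3]) (.node 465 (.leaf 116 21 [2, 2, 1, 2, 1, 5, 4, 2, 2, 1, 2, 1, 2, 1, 2, 2, 1, 2, 2, 1, 2, 1, 3, 1, 3, 1, 3, 1]) (.leaf 345 14 [2, 1, 2, 1, 2, 1, 2, 1, 3, 3, 1, 3, 1, 3, 6, 4, 5, 5, 5, 5, 4, 6, 6, 6, 4, 6, 2, 1, 2, 1, 2, 1, 3, 1, 3, 1, 3, 1, 3, 1]))) (.node 467 (.leaf 346 14 [2, 1, 3, 3, 1, 3, 1, 3, 3, 1, 3, 3, 1, 3, 5, 1, 2, 1, 3, 1, 3, 1, 3, 1, 2, 1, 2, 2, 1]) (.node 468 (.leaf 346 23 [1, 3, 3, 1, 3, 5, 1, 2, 1, 3, 1, 3, 1, 3, 1, 2, 1, 2, 2, 1, 2, 1, 3, 3, 1, 3, 1, 3, 3]) (.leaf 346 28 [5, 1, 2, 1, 3, 1, 3, 1, 3, 1, 2, 1, 2, 2, 1, 2, 1, 3, 3, 1, 3, 1, 3, 3, 1, 3, 3, 1, 3]))))) (.node 474 (.node 471 (.node 470 (.leaf 346 5 [3, 1, 3, 1, 2, 1, 2, 2, 1, 2, 1, 3, 3, 1, 3, 1, 3, 3, 1, 3, 3, 1, 3, 5, 1, 2, 1, 3, 1]) (.leaf 346 3 [3, 1, 3, 1, 3, 1, 2, 1, 2, 2, 1, 2, 1, 3, 3, 1, 3, 1, 3, 3, 1, 3, 3, 1, 3, 5, 1, 2, 1])) (.node 472 (.leaf 346 7 [3, 1, 2, 1, 2, 2, 1, 2, 1, 3, 3, 1, 3, 1, 3, 3, 1, 3, 3, 1, 3, 5, 1, 2, 1, 3, 1, 3, 1]) (.node 473 (.leaf 346 18 [1, 3, 1, 3, 3, 1, 3, 3, 1, 3, 5, 1, 2, 1, 3, 1, 3, 1, 3, 1, 2, 1, 2, 2, 1, 2, 1, 3, 3]) (.leaf 346 4 [1, 3, 1, 3, 1, 2, 1, 2, 2, 1, 2, 1, 3, 3, 1, 3, 1, 3, 3, 1, 3, 3, 1, 3, 5, 1, 2, 1, 3])))) (.node 477 (.node 475 (.leaf 346 10 [1, 2, 2, 1, 2, 1, 3, 3, 1, 3, 1, 3, 3, 1, 3, 3, 1, 3, 5, 1, 2, 1, 3, 1, 3, 1, 3, 1, 2]) (.node 476 (.leaf 346 15 [1, 3, 3, 1, 3, 1, 3, 3, 1, 3, 3, 1, 3, 5, 1, 2, 1, 3, 1, 3, 1, 3, 1, 2, 1, 2, 2, 1, 2]) (.leaf 346 25 [3, 1, 3, 5, 1, 2, 1, 3, 1, 3, 1, 3, 1, 2, 1, 2, 2, 1, 2, 1, 3, 3, 1, 3, 1, 3, 3, 1, 3]))) (.node 478 (.leaf 346 19 [3, 1, 3, 3, 1, 3, 3, 1, 3, 5, 1, 2, 1, 3, 1, 3, 1, 3, 1, 2, 1, 2, 2, 1, 2, 1, 3, 3, 1]) (.node 479 (.leaf 346 6 [1, 3, 1, 2, 1, 2, 2, 1, 2, 1, 3, 3, 1, 3, 1, 3, 3, 1, 3, 3, 1, 3, 5, 1, 2, 1, 3, 1, 3]) (.leaf 346 26 [1, 3, 5, 1, 2, 1, 3, 1, 3, 1, 3, 1, 2, 1, 2, 2, 1, 2, 1, 3, 3, 1, 3, 1, 3, 3, 1, 3, 3]))))))) (.node 502 (.node 491 (.node 485 (.node 482 (.node 481 (.leaf 346 11 [2, 2, 1, 2, 1, 3, 3, 1, 3, 1, 3, 3, 1, 3, 3, 1, 3, 5, 1, 2, 1, 3, 1, 3, 1, 3, 1, 2, 1]) (.leaf 346 8 [1, 2, 1, 2, 2, 1, 2, 1, 3, 3, 1, 3, 1, 3, 3, 1, 3, 3, 1, 3, 5, 1, 2, 1, 3, 1, 3, 1, 3])) (.node 483 (.leaf 346 17 [3, 1, 3, 1, 3, 3, 1, 3, 3, 1, 3, 5, 1, 2, 1, 3, 1, 3, 1, 3, 1, 2, 1, 2, 2, 1, 2, 1, 3]) (.node 484 (.leaf 346 24 [3, 3, 1, 3, 5, 1, 2, 1, 3, 1, 3, 1, 3, 1, 2, 1, 2, 2, 1, 2, 1, 3, 3, 1, 3, 1, 3, 3, 1]) (.leaf 346 9 [2, 1, 2, 2, 1, 2, 1, 3, 3, 1, 3, 1, 3, 3, 1, 3, 3, 1, 3, 5, 1, 2, 1, 3, 1, 3, 1, 3, 1])))) (.node 488 (.node 486 (.leaf 346 13 [1, 2, 1, 3, 3, 1, 3, 1, 3, 3, 1, 3, 3, 1, 3, 5, 1, 2, 1, 3, 1, 3, 1, 3, 1, 2, 1, 2, 2]) (.node 487 (.leaf 4 4 [3, 3, 3, 3, 3]) (.leaf 2 14 [2, 2, 1, 6, 1, 2, 1, 2, 2, 1, 2, 1, 2, 1, 3, 1, 3, 1]))) (.node 489 (.leaf 116 20 [1, 2, 2, 1, 2, 1, 5, 4, 2, 2, 1, 2, 1, 2, 1, 2, 2, 1, 2, 2, 1, 2, 1, 3, 1, 3, 1, 3]) (.node 490 (.leaf 10 14 [3, 3, 1, 3, 3, 3, 1, 3, 3, 3, 1, 3, 3, 3, 1, 3, 3, 3, 1, 3, 3, 3, 1, 3, 3, 3, 1, 3, 3, 3, 1, 3, 3, 3, 1, 3, 3, 3, 1, 3]) (.leaf 15 17 [2, 2, 6, 4, 5, 1, 3, 3, 1, 2, 1, 3, 1, 2, 2, 1, 2, 1, 2, 1, 2, 1]))))) (.node 496 (.node 493 (.node 492 (.leaf 2 3 [2, 2, 1, 2, 1, 2, 1, 3, 1, 3, 1, 2, 2, 1, 6, 1, 2, 1]) (.leaf 116 13 [2, 1, 3, 1, 3, 1, 3, 1, 2, 2, 1, 2, 1, 5, 4, 2, 2, 1, 2, 1, 2, 1, 2, 2, 1, 2, 2, 1])) (.node 494 (.leaf 52 14 [1, 2, 1, 2, 1, 2, 1, 3, 1, 3, 4, 5, 1, 2, 1, 2, 1, 3, 3, 1, 3, 1, 2, 2, 1, 3]) (.node 495 (.leaf 346 2 [1, 3, 1, 3, 1, 3, 1, 2, 1, 2, 2, 1, 2, 1, 3, 3, 1, 3, 1, 3, 3, 1, 3, 3, 1, 3, 5, 1, 2]) (.leaf 52 11 [2, 1, 3, 1, 2, 1, 2, 1, 2, 1, 3, 1, 3, 4, 5, 1, 2, 1, 2, 1, 3, 3, 1, 3, 1, 2])))) (.node 499 (.node 497 (.leaf 15 13 [2, 1, 2, 1, 2, 2, 6, 4, 5, 1, 3, 3, 1, 2, 1, 3, 1, 2, 2, 1, 2, 1]) (.node 498 (.leaf 116 17 [3, 1, 3, 1, 2, 2, 1, 2, 1, 5, 4, 2, 2, 1, 2, 1, 2, 1, 2, 2, 1, 2, 2, 1, 2, 1, 3, 1]) (.leaf 347 13 [2, 1, 2, 1, 3, 3, 1, 3, 1, 2, 2, 1, 3, 3, 1, 5, 4, 6, 6, 6, 4, 5, 5, 5, 4, 5, 1, 3, 3, 1, 2, 1, 2, 2, 1, 3, 1, 2, 1]))) (.node 500 (.leaf 8 8 [3, 1, 3, 3, 1, 3, 3, 1, 3, 3, 1, 3, 3, 1, 3, 3, 1, 3, 3, 1, 3, 3, 1, 3, 3, 1, 3, 3, 1, 3]) (.node 501 (.leaf 348 13 [2, 1, 3, 1, 2, 1, 3, 1, 3, 3, 1, 2, 1, 3, 1, 6, 6, 4, 5, 4, 6, 6, 6, 4, 5, 4, 6, 6, 6, 1, 3, 1, 3, 1, 3, 1, 2, 2, 1, 3, 3, 1]) (.leaf 50 15 [3, 1, 3, 3, 1, 2, 2, 1, 3, 4, 6, 4, 5, 5, 5, 5, 1, 3, 3, 1, 2, 1, 3, 3, 1, 2, 2, 1, 2, 1, 3])))))) (.node 513 (.node 507 (.node 504 (.node 503 (.leaf 349 14 [2, 1, 2, 1, 2, 2, 1, 3, 1, 2, 2, 1, 3, 1, 5, 4, 5, 5, 5, 4, 6, 4, 5, 4, 6, 4, 5, 4, 6, 4, 1, 2, 1, 3, 1, 3, 3, 1, 2, 1, 2, 2, 1, 2]) (.leaf 346 16 [3, 3, 1, 3, 1, 3, 3, 1, 3, 3, 1, 3, 5, 1, 2, 1, 3, 1, 3, 1, 3, 1, 2, 1, 2, 2, 1, 2, 1])) (.node 505 (.leaf 50 29 [5, 5, 1, 3, 3, 1, 2, 1, 3, 3, 1, 2, 2, 1, 2, 1, 3, 3, 1, 3, 3, 1, 2, 2, 1, 3, 4, 6, 4, 5, 5]) (.node 506 (.leaf 346 20 [1, 3, 3, 1, 3, 3, 1, 3, 5, 1, 2, 1, 3, 1, 3, 1, 3, 1, 2, 1, 2, 2, 1, 2, 1, 3, 3, 1, 3]) (.leaf 52 10 [2, 2, 1, 3, 1, 2, 1, 2, 1, 2, 1, 3, 1, 3, 4, 5, 1, 2, 1, 2, 1, 3, 3, 1, 3, 1])))) (.node 510 (.node 508 (.leaf 267 29 [5, 5, 4, 6, 1, 3, 1, 2, 1, 2, 1, 3, 3, 1, 2, 2, 1, 2, 2, 1, 2, 1, 2, 2, 1, 2, 2, 1, 2, 2, 1, 3, 4]) (.node 509 (.leaf 346 12 [2, 1, 2, 1, 3, 3, 1, 3, 1, 3, 3, 1, 3, 3, 1, 3, 5, 1, 2, 1, 3, 1, 3, 1, 3, 1, 2, 1, 2]) (.leaf 116 15 [3, 1, 3, 1, 3, 1, 2, 2, 1, 2, 1, 5, 4, 2, 2, 1, 2, 1, 2, 1, 2, 2, 1, 2, 2, 1, 2, 1]))) (.node 511 (.leaf 350 13 [1, 2, 1, 3, 1, 3, 1, 2, 1, 2, 1, 2, 1, 3, 1, 5, 5, 5, 4, 6, 6, 6, 4, 5, 5, 5, 4, 6, 6, 6, 2, 2, 1, 2, 1, 2, 1, 2, 2, 1, 3, 1, 2]) (.node 512 (.leaf 351 13 [2, 1, 3, 3, 1, 3, 3, 1, 2, 1, 2, 2, 1, 3, 1, 5, 5, 5, 4, 6, 4, 5, 4, 6, 4, 5, 4, 2, 2, 1, 3, 3, 1, 3, 3, 1, 2, 1, 3, 1]) (.leaf 352 14 [1, 3, 1, 2, 1, 3, 1, 2, 1, 2, 2, 1, 3, 3, 4, 6, 4, 5, 5, 4, 6, 4, 5, 5, 4, 6, 4, 5, 1, 3, 1, 3, 1, 3, 1, 2, 2, 1, 3, 1, 3, 3]))))) (.node 518 (.node 515 (.node 514 (.leaf 353 13 [1, 2, 2, 1, 2, 2, 1, 2, 2, 1, 2, 1, 2, 2, 1, 5, 4, 5, 5, 5, 4, 6, 4, 5, 5, 4, 6, 4, 5, 4, 6, 6, 6, 2, 1, 2, 2, 1, 3, 1, 3, 3, 1, 3, 1, 2]) (.leaf 8 11 [3, 1, 3, 3, 1, 3, 3, 1, 3, 3, 1, 3, 3, 1, 3, 3, 1, 3, 3, 1, 3, 3, 1, 3, 3, 1, 3, 3, 1, 3])) (.node 516 (.leaf 9 15 [2, 1, 2, 2, 2, 1, 2, 2, 2, 1, 2, 2, 2, 1, 2, 2, 2, 1, 2, 2, 2, 1, 2, 2, 2, 1, 2, 2, 2, 1, 2, 2, 2, 1, 2, 2, 2, 1, 2, 2]) (.node 517 (.leaf 116 5 [2, 1, 2, 2, 1, 2, 2, 1, 2, 1, 3, 1, 3, 1, 3, 1, 2, 2, 1, 2, 1, 5, 4, 2, 2, 1, 2, 1]) (.leaf 116 18 [1, 3, 1, 2, 2, 1, 2, 1, 5, 4, 2, 2, 1, 2, 1, 2, 1, 2, 2, 1, 2, 2, 1, 2, 1, 3, 1, 3])))) (.node 521 (.node 519 (.leaf 116 9 [1, 2, 2, 1, 2, 1, 3, 1, 3, 1, 3, 1, 2, 2, 1, 2, 1, 5, 4, 2, 2, 1, 2, 1, 2, 1, 2, 2]) (.node 520 (.leaf 346 22 [3, 1, 3, 3, 1, 3, 5, 1, 2, 1, 3, 1, 3, 1, 3, 1, 2, 1, 2, 2, 1, 2, 1, 3, 3, 1, 3, 1, 3]) (.leaf 116 25 [1, 5, 4, 2, 2, 1, 2, 1, 2, 1, 2, 2, 1, 2, 2, 1, 2, 1, 3, 1, 3, 1, 3, 1, 2, 2, 1, 2]))) (.node 522 (.leaf 77 24 [3, 6, 2, 2, 1, 2, 2, 1, 2, 2, 1, 3, 1, 2, 1, 2, 1, 3, 1, 3, 3, 1, 2, 1, 3, 1]) (.node 523 (.leaf 354 14 [1, 3, 1, 3, 1, 3, 3, 1, 2, 2, 1, 3, 3, 1, 6, 6, 6, 1, 2, 1, 2, 1, 3, 3, 1, 2, 2, 1, 2, 1, 2]) (.leaf 354 20 [3, 1, 2, 2, 1, 3, 3, 1, 6, 6, 6, 1, 2, 1, 2, 1, 3, 3, 1, 2, 2, 1, 2, 1, 2, 1, 3, 1, 3, 1, 3]))))))))) (.node 611 (.node 567 (.node 545 (.node 534 (.node 529 (.node 526 (.node 525 (.leaf 354 28 [6, 6, 6, 1, 2, 1, 2, 1, 3, 3, 1, 2, 2, 1, 2, 1, 2, 1, 3, 1, 3, 1, 3, 3, 1, 2, 2, 1, 3, 3, 1]) (.leaf 354 29 [6, 6, 1, 2, 1, 2, 1, 3, 3, 1, 2, 2, 1, 2, 1, 2, 1, 3, 1, 3, 1, 3, 3, 1, 2, 2, 1, 3, 3, 1, 6])) (.node 527 (.leaf 354 30 [6, 1, 2, 1, 2, 1, 3, 3, 1, 2, 2, 1, 2, 1, 2, 1, 3, 1, 3, 1, 3, 3, 1, 2, 2, 1, 3, 3, 1, 6, 6]) (.node 528 (.leaf 174 16 [1, 2, 1, 2, 1, 2, 1, 2, 1, 3, 1, 5, 5, 5, 5, 4, 3, 3, 1, 3, 1, 2, 2, 1, 3, 3, 1, 2, 2, 1, 3, 3]) (.leaf 346 27 [3, 5, 1, 2, 1, 3, 1, 3, 1, 3, 1, 2, 1, 2, 2, 1, 2, 1, 3, 3, 1, 3, 1, 3, 3, 1, 3, 3, 1])))) (.node 531 (.node 530 (.leaf 6 20 [1, 3, 1, 3, 1, 3, 1, 3, 1, 3, 1, 3, 1, 3, 1, 3, 1, 3, 1, 3, 1, 3, 1, 3, 1, 3, 1, 3, 1, 3, 1, 3, 1, 3, 1, 3, 1, 3]) (.leaf 355 13 [2, 1, 2, 2, 1, 2, 1, 3, 3, 1, 2, 1, 3, 3, 1, 5, 4, 6, 6, 4, 5, 4, 6, 6, 6, 4, 5, 4, 6, 2, 1, 3, 3, 1, 2, 1, 3, 3, 1, 2, 1, 2])) (.node 532 (.leaf 356 14 [1, 3, 3, 1, 2, 1, 3, 1, 3, 1, 2, 1, 2, 2, 6, 4, 5, 4, 6, 4, 5, 4, 6, 6, 6, 1, 2, 2, 1, 3, 1, 3, 1, 3, 1, 2, 1, 3, 3]) (.node 533 (.leaf 357 14 [1, 2, 2, 1, 3, 1, 2, 1, 2, 2, 1, 2, 1, 3, 6, 6, 6, 4, 5, 4, 6, 6, 6, 4, 5, 4, 6, 6, 4, 5, 2, 1, 2, 2, 1, 2, 1, 3, 1, 2, 2, 1, 2, 2]) (.leaf 358 13 [2, 1, 3, 3, 1, 2, 1, 3, 1, 3, 1, 2, 1, 3, 1, 4, 5, 5, 4, 6, 4, 5, 5, 4, 6, 4, 5, 4, 6, 6, 6, 1, 3, 1, 3, 3, 1, 3, 1, 2, 2, 1, 2, 1]))))) (.node 539 (.node 536 (.node 535 (.leaf 359 13 [2, 1, 2, 1, 3, 1, 3, 3, 1, 2, 2, 1, 2, 1, 3, 6, 6, 6, 4, 5, 4, 6, 6, 4, 5, 4, 6, 4, 5, 3, 3, 1, 3, 1, 2, 1, 3, 1, 2, 1, 2, 1]) (.leaf 181 28 [5, 5, 4, 6, 4, 1, 3, 1, 2, 2, 1, 3, 1, 2, 1, 3, 3, 1, 2, 1, 3, 3, 1, 2, 1, 3, 1, 3, 1, 3, 1, 3, 4])) (.node 537 (.leaf 360 14 [2, 2, 1, 3, 1, 2, 2, 1, 2, 1, 3, 3, 1, 3, 6, 4, 5, 4, 6, 6, 4, 5, 4, 6, 6, 6, 4, 5, 4, 6, 2, 1, 2, 1, 2, 1, 3, 3, 1, 3, 1, 3, 3, 1]) (.node 538 (.leaf 361 13 [2, 1, 2, 2, 1, 2, 1, 3, 1, 2, 2, 1, 2, 2, 1, 6, 6, 4, 5, 5, 4, 6, 4, 5, 5, 5, 4, 6, 6, 6, 4, 2, 1, 3, 1, 3, 3, 1, 2, 2, 1, 2, 1, 2]) (.leaf 362 14 [2, 2, 1, 3, 1, 2, 1, 2, 2, 1, 3, 3, 1, 3, 5, 5, 5, 4, 6, 6, 4, 5, 4, 6, 4, 5, 5, 1, 3, 1, 2, 1, 2, 2, 1, 2, 1, 2, 1, 3, 1])))) (.node 542 (.node 540 (.leaf 363 14 [1, 3, 3, 1, 3, 1, 3, 3, 1, 2, 1, 3, 1, 3, 4, 6, 6, 4, 5, 4, 6, 4, 5, 4, 6, 4, 5, 4, 6, 4, 1, 3, 1, 3, 3, 1, 2, 2, 1, 2, 2, 1, 3, 3]) (.node 541 (.leaf 364 14 [1, 3, 1, 3, 1, 2, 2, 1, 2, 1, 2, 1, 2, 1, 4, 5, 5, 5, 4, 6, 6, 6, 4, 5, 4, 6, 6, 4, 5, 5, 4, 6, 1, 2, 2, 1, 3, 1, 3, 3, 1, 3, 1, 2, 1, 2]) (.leaf 365 13 [2, 2, 1, 2, 2, 1, 2, 2, 1, 3, 1, 3, 1, 3, 1, 5, 4, 5, 5, 5, 5, 4, 6, 6, 6, 4, 5, 4, 2, 2, 1, 2, 1, 2, 2, 1, 2, 2, 1, 2, 1]))) (.node 543 (.leaf 181 14 [1, 3, 3, 1, 2, 1, 3, 1, 3, 1, 3, 1, 3, 4, 5, 5, 4, 6, 4, 1, 3, 1, 2, 2, 1, 3, 1, 2, 1, 3, 3, 1, 2]) (.node 544 (.leaf 366 13 [2, 1, 3, 3, 1, 2, 2, 1, 3, 1, 3, 1, 3, 3, 1, 4, 6, 4, 5, 4, 6, 6, 4, 5, 4, 6, 6, 4, 2, 1, 2, 1, 3, 1, 2, 2, 1, 3, 3, 1, 2]) (.leaf 367 14 [2, 1, 2, 1, 3, 1, 3, 1, 3, 1, 3, 1, 2, 1, 4, 6, 4, 5, 5, 4, 6, 4, 5, 4, 6, 4, 5, 4, 1, 2, 1, 3, 3, 1, 2, 2, 1, 3, 3, 1, 2, 1])))))) (.node 556 (.node 550 (.node 547 (.node 546 (.leaf 368 14 [2, 2, 1, 3, 3, 1, 3, 1, 2, 1, 2, 1, 2, 2, 4, 5, 5, 5, 4, 6, 6, 6, 4, 5, 5, 5, 4, 6, 2, 2, 1, 3, 3, 1, 3, 3, 1, 2, 1, 3, 3, 1]) (.leaf 2 10 [3, 1, 3, 1, 2, 2, 1, 6, 1, 2, 1, 2, 2, 1, 2, 1, 2, 1])) (.node 548 (.leaf 369 14 [2, 1, 3, 1, 3, 3, 1, 3, 3, 1, 3, 1, 3, 3, 4, 5, 5, 4, 6, 4, 2, 1, 2, 2, 1, 2, 1, 2, 1, 2, 1, 2, 2, 1]) (.node 549 (.leaf 369 15 [1, 3, 1, 3, 3, 1, 3, 3, 1, 3, 1, 3, 3, 4, 5, 5, 4, 6, 4, 2, 1, 2, 2, 1, 2, 1, 2, 1, 2, 1, 2, 2, 1, 2]) (.leaf 369 29 [5, 5, 4, 6, 4, 2, 1, 2, 2, 1, 2, 1, 2, 1, 2, 1, 2, 2, 1, 2, 1, 3, 1, 3, 3, 1, 3, 3, 1, 3, 1, 3, 3, 4])))) (.node 553 (.node 551 (.leaf 370 14 [1, 3, 1, 3, 1, 3, 1, 3, 1, 3, 3, 1, 2, 2, 4, 5, 4, 6, 6, 4, 5, 5, 5, 2, 2, 1, 3, 3, 1, 3, 1, 2, 2, 1, 3, 1, 3]) (.node 552 (.leaf 346 21 [3, 3, 1, 3, 3, 1, 3, 5, 1, 2, 1, 3, 1, 3, 1, 3, 1, 2, 1, 2, 2, 1, 2, 1, 3, 3, 1, 3, 1]) (.leaf 371 13 [1, 3, 1, 3, 1, 3, 1, 2, 1, 2, 1, 3, 1, 2, 1, 5, 4, 6, 6, 4, 5, 4, 6, 4, 5, 5, 4, 3, 3, 1, 2, 1, 3, 3, 1, 2, 1, 2, 1, 3]))) (.node 554 (.leaf 6 17 [3, 1, 3, 1, 3, 1, 3, 1, 3, 1, 3, 1, 3, 1, 3, 1, 3, 1, 3, 1, 3, 1, 3, 1, 3, 1, 3, 1, 3, 1, 3, 1, 3, 1, 3, 1, 3, 1]) (.node 555 (.leaf 77 18 [3, 1, 2, 1, 3, 1, 3, 6, 2, 2, 1, 2, 2, 1, 2, 2, 1, 3, 1, 2, 1, 2, 1, 3, 1, 3]) (.leaf 116 6 [1, 2, 2, 1, 2, 2, 1, 2, 1, 3, 1, 3, 1, 3, 1, 2, 2, 1, 2, 1, 5, 4, 2, 2, 1, 2, 1, 2]))))) (.node 561 (.node 558 (.node 557 (.leaf 372 14 [2, 1, 3, 3, 1, 2, 1, 3, 1, 3, 3, 1, 2, 1, 6, 4, 6, 6, 6, 4, 6, 1, 2, 2, 1, 3, 3, 1, 2, 1, 3, 3, 1, 3, 1]) (.leaf 15 6 [3, 1, 2, 2, 1, 2, 1, 2, 1, 2, 1, 2, 2, 6, 4, 5, 1, 3, 3, 1, 2, 1])) (.node 559 (.leaf 373 13 [1, 3, 1, 2, 2, 1, 2, 2, 1, 3, 3, 1, 3, 3, 1, 4, 6, 6, 6, 4, 5, 5, 5, 4, 6, 4, 5, 5, 5, 4, 1, 3, 3, 1, 3, 1, 3, 1, 3, 1, 2, 1, 2]) (.node 560 (.leaf 374 13 [1, 2, 2, 1, 3, 3, 1, 3, 3, 1, 2, 2, 1, 3, 1, 4, 5, 4, 6, 6, 4, 5, 4, 6, 4, 5, 4, 6, 6, 4, 5, 2, 1, 3, 1, 2, 1, 2, 1, 2, 1, 3, 1, 2]) (.leaf 375 13 [2, 2, 1, 3, 1, 3, 3, 1, 3, 3, 1, 2, 1, 3, 1, 4, 5, 4, 5, 5, 5, 4, 6, 4, 5, 4, 6, 4, 5, 4, 6, 6, 2, 2, 1, 3, 1, 2, 2, 1, 3, 1, 2, 2, 1])))) (.node 564 (.node 562 (.leaf 376 13 [2, 1, 3, 1, 3, 1, 3, 3, 1, 2, 1, 3, 1, 2, 1, 6, 4, 5, 5, 4, 6, 6, 6, 1, 3, 1, 3, 1, 3, 1, 3, 3, 1, 2, 2, 1]) (.node 563 (.leaf 377 14 [2, 1, 2, 2, 1, 2, 1, 3, 1, 2, 1, 2, 2, 1, 5, 4, 6, 6, 4, 5, 4, 6, 4, 5, 5, 4, 6, 6, 1, 2, 2, 1, 3, 1, 2, 1, 3, 3, 1, 3, 3, 1]) (.leaf 378 13 [2, 1, 3, 1, 3, 3, 1, 2, 1, 2, 1, 2, 1, 3, 3, 4, 6, 4, 5, 5, 5, 4, 6, 6, 6, 4, 5, 4, 6, 3, 3, 1, 3, 3, 1, 3, 3, 1, 3, 1, 2, 1]))) (.node 565 (.leaf 322 29 [6, 4, 5, 5, 1, 3, 1, 2, 2, 1, 3, 1, 3, 1, 3, 3, 1, 3, 1, 2, 1, 2, 1, 3, 1, 3, 3, 1, 3, 3, 1, 3, 6]) (.node 566 (.leaf 379 13 [2, 2, 1, 2, 1, 2, 1, 2, 1, 2, 1, 2, 1, 3, 1, 4, 6, 4, 5, 5, 5, 4, 6, 3, 3, 1, 2, 1, 2, 1, 3, 1, 2, 1, 3, 1]) (.leaf 380 14 [2, 1, 3, 3, 1, 2, 1, 2, 1, 3, 1, 3, 1, 3, 4, 6, 4, 5, 5, 4, 6, 4, 5, 4, 6, 4, 1, 3, 3, 1, 3, 1, 2, 1, 3, 3, 1, 3, 3, 1]))))))) (.node 589 (.node 578 (.node 572 (.node 569 (.node 568 (.leaf 257 1 [2, 2, 1, 3, 1, 3, 1, 3, 3, 1, 3, 1, 2, 2, 1, 2, 1, 2, 1, 2, 1, 3, 1, 3, 3, 1, 6, 6, 4, 5, 4, 1]) (.leaf 116 1 [2, 1, 2, 1, 2, 1, 2, 2, 1, 2, 2, 1, 2, 1, 3, 1, 3, 1, 3, 1, 2, 2, 1, 2, 1, 5, 4, 2])) (.node 570 (.leaf 381 14 [2, 1, 3, 3, 1, 2, 2, 1, 2, 1, 3, 1, 3, 3, 4, 5, 5, 4, 6, 4, 5, 5, 4, 6, 6, 4, 2, 2, 1, 2, 1, 2, 1, 3, 1, 3, 3, 1, 3, 1]) (.node 571 (.leaf 382 13 [2, 1, 3, 3, 1, 3, 3, 1, 3, 3, 1, 3, 1, 2, 1, 4, 5, 5, 5, 5, 4, 6, 4, 5, 5, 4, 6, 1, 3, 1, 2, 2, 1, 3, 1, 2, 1, 3, 1, 2]) (.leaf 9 33 [2, 2, 2, 1, 2, 2, 2, 1, 2, 2, 2, 1, 2, 2, 2, 1, 2, 2, 2, 1, 2, 2, 2, 1, 2, 2, 2, 1, 2, 2, 2, 1, 2, 2, 2, 1, 2, 2, 2, 1])))) (.node 575 (.node 573 (.leaf 227 33 [6, 4, 2, 2, 1, 2, 2, 1, 3, 1, 3, 1, 3, 1, 2, 2, 1, 3, 1, 2, 1, 2, 1, 3, 1, 3, 1, 3, 1, 4, 5, 5, 5, 4, 6]) (.node 574 (.leaf 47 16 [3, 1, 2, 1, 2, 2, 1, 5, 5, 5, 4, 6, 6, 4, 2, 2, 1, 2, 1, 3, 1, 2, 2, 1, 2, 2, 1, 3, 3, 1]) (.leaf 354 19 [3, 3, 1, 2, 2, 1, 3, 3, 1, 6, 6, 6, 1, 2, 1, 2, 1, 3, 3, 1, 2, 2, 1, 2, 1, 2, 1, 3, 1, 3, 1]))) (.node 576 (.leaf 383 13 [2, 2, 1, 2, 1, 2, 1, 2, 1, 2, 1, 2, 1, 2, 1, 6, 4, 5, 5, 5, 5, 4, 6, 6, 6, 4, 5, 4, 6, 3, 3, 1, 2, 2, 1, 2, 1, 2, 2, 1, 3, 1]) (.node 577 (.leaf 384 13 [1, 3, 1, 2, 1, 2, 1, 3, 3, 1, 3, 1, 2, 2, 1, 6, 6, 6, 4, 5, 5, 5, 4, 6, 4, 2, 1, 3, 1, 2, 1, 3, 1, 2, 1, 3, 1, 2]) (.leaf 385 13 [1, 3, 3, 1, 3, 1, 2, 1, 2, 1, 2, 1, 3, 3, 1, 6, 6, 4, 5, 5, 4, 2, 2, 1, 3, 3, 1, 3, 3, 1, 2, 2, 1, 3]))))) (.node 583 (.node 580 (.node 579 (.leaf 385 21 [2, 1, 2, 1, 3, 3, 1, 6, 6, 4, 5, 5, 4, 2, 2, 1, 3, 3, 1, 3, 3, 1, 2, 2, 1, 3, 1, 3, 3, 1, 3, 1, 2, 1]) (.leaf 386 14 [2, 1, 2, 1, 3, 1, 3, 3, 1, 2, 2, 1, 2, 2, 4, 5, 4, 6, 4, 5, 4, 6, 4, 5, 4, 6, 4, 5, 5, 4, 2, 2, 1, 2, 2, 1, 2, 2, 1, 3, 3, 1, 2, 1])) (.node 581 (.leaf 387 13 [2, 1, 3, 1, 3, 1, 2, 2, 1, 3, 3, 1, 2, 2, 1, 4, 6, 4, 6, 6, 6, 6, 4, 5, 4, 2, 1, 2, 1, 3, 3, 1, 2, 2, 1, 2, 1, 2]) (.node 582 (.leaf 388 13 [2, 1, 3, 1, 3, 1, 3, 1, 3, 1, 3, 1, 3, 3, 1, 5, 4, 6, 4, 5, 4, 6, 4, 5, 5, 4, 6, 4, 1, 3, 3, 1, 3, 1, 3, 3, 1, 2, 1, 2, 1]) (.leaf 5 10 [1, 2, 1, 2, 1, 2, 1, 2, 1, 2, 1, 2, 1, 2, 1, 2, 1, 2, 1, 2, 1, 2, 1, 2, 1, 2, 1, 2, 1, 2, 1, 2, 1, 2, 1, 2, 1, 2])))) (.node 586 (.node 584 (.leaf 77 20 [2, 1, 3, 1, 3, 6, 2, 2, 1, 2, 2, 1, 2, 2, 1, 3, 1, 2, 1, 2, 1, 3, 1, 3, 3, 1]) (.node 585 (.leaf 385 32 [5, 4, 2, 2, 1, 3, 3, 1, 3, 3, 1, 2, 2, 1, 3, 1, 3, 3, 1, 3, 1, 2, 1, 2, 1, 2, 1, 3, 3, 1, 6, 6, 4, 5]) (.leaf 7 17 [2, 1, 2, 2, 1, 2, 2, 1, 2, 2, 1, 2, 2, 1, 2, 2, 1, 2, 2, 1, 2, 2, 1, 2, 2, 1, 2, 2, 1, 2]))) (.node 587 (.leaf 216 32 [6, 2, 2, 1, 2, 1, 3, 3, 1, 3, 1, 3, 3, 1, 2, 2, 1, 3, 1, 3, 1, 2, 1, 3, 3, 1, 3, 1, 6, 4, 5, 5, 4]) (.node 588 (.leaf 10 27 [3, 1, 3, 3, 3, 1, 3, 3, 3, 1, 3, 3, 3, 1, 3, 3, 3, 1, 3, 3, 3, 1, 3, 3, 3, 1, 3, 3, 3, 1, 3, 3, 3, 1, 3, 3, 3, 1, 3, 3]) (.leaf 116 23 [1, 2, 1, 5, 4, 2, 2, 1, 2, 1, 2, 1, 2, 2, 1, 2, 2, 1, 2, 1, 3, 1, 3, 1, 3, 1, 2, 2])))))) (.node 600 (.node 594 (.node 591 (.node 590 (.leaf 389 13 [2, 1, 2, 2, 1, 2, 1, 3, 1, 3, 3, 1, 2, 1, 3, 4, 5, 4, 6, 6, 4, 5, 4, 6, 4, 5, 4, 6, 4, 2, 1, 3, 3, 1, 3, 1, 2, 1, 3, 1, 3, 1]) (.leaf 22 7 [2, 1, 2, 2, 1, 3, 1, 2, 2, 1, 2, 2, 1, 3, 1, 5, 5, 4, 6, 4, 5, 4, 3, 3, 1, 2, 1, 2, 1])) (.node 592 (.leaf 369 32 [6, 4, 2, 1, 2, 2, 1, 2, 1, 2, 1, 2, 1, 2, 2, 1, 2, 1, 3, 1, 3, 3, 1, 3, 3, 1, 3, 1, 3, 3, 4, 5, 5, 4]) (.node 593 (.leaf 77 14 [1, 3, 1, 3, 3, 1, 2, 1, 3, 1, 3, 6, 2, 2, 1, 2, 2, 1, 2, 2, 1, 3, 1, 2, 1, 2]) (.leaf 216 27 [6, 4, 5, 5, 4, 6, 2, 2, 1, 2, 1, 3, 3, 1, 3, 1, 3, 3, 1, 2, 2, 1, 3, 1, 3, 1, 2, 1, 3, 3, 1, 3, 1])))) (.node 597 (.node 595 (.leaf 6 33 [3, 1, 3, 1, 3, 1, 3, 1, 3, 1, 3, 1, 3, 1, 3, 1, 3, 1, 3, 1, 3, 1, 3, 1, 3, 1, 3, 1, 3, 1, 3, 1, 3, 1, 3, 1, 3, 1]) (.node 596 (.leaf 5 1 [2, 1, 2, 1, 2, 1, 2, 1, 2, 1, 2, 1, 2, 1, 2, 1, 2, 1, 2, 1, 2, 1, 2, 1, 2, 1, 2, 1, 2, 1, 2, 1, 2, 1, 2, 1, 2, 1]) (.leaf 15 1 [3, 3, 1, 2, 1, 3, 1, 2, 2, 1, 2, 1, 2, 1, 2, 1, 2, 2, 6, 4, 5, 1]))) (.node 598 (.leaf 370 16 [1, 3, 1, 3, 1, 3, 1, 3, 3, 1, 2, 2, 4, 5, 4, 6, 6, 4, 5, 5, 5, 2, 2, 1, 3, 3, 1, 3, 1, 2, 2, 1, 3, 1, 3, 1, 3]) (.node 599 (.leaf 52 17 [2, 1, 2, 1, 3, 1, 3, 4, 5, 1, 2, 1, 2, 1, 3, 3, 1, 3, 1, 2, 2, 1, 3, 1, 2, 1]) (.leaf 6 23 [3, 1, 3, 1, 3, 1, 3, 1, 3, 1, 3, 1, 3, 1, 3, 1, 3, 1, 3, 1, 3, 1, 3, 1, 3, 1, 3, 1, 3, 1, 3, 1, 3, 1, 3, 1, 3, 1]))))) (.node 605 (.node 602 (.node 601 (.leaf 257 31 [4, 1, 2, 2, 1, 3, 1, 3, 1, 3, 3, 1, 3, 1, 2, 2, 1, 2, 1, 2, 1, 2, 1, 3, 1, 3, 3, 1, 6, 6, 4, 5]) (.leaf 138 29 [5, 4, 6, 4, 1, 3, 1, 3, 1, 2, 2, 1, 3, 3, 1, 3, 3, 1, 3, 1, 3, 3, 1, 2, 1, 2, 2, 1, 2, 2, 6, 4, 5])) (.node 603 (.leaf 237 12 [3, 1, 2, 1, 2, 2, 1, 2, 2, 1, 2, 2, 1, 3, 3, 6, 4, 5, 5, 4, 6, 1, 3, 1, 2, 2, 1, 2, 2, 1, 2, 2, 1]) (.node 604 (.leaf 257 30 [5, 4, 1, 2, 2, 1, 3, 1, 3, 1, 3, 3, 1, 3, 1, 2, 2, 1, 2, 1, 2, 1, 2, 1, 3, 1, 3, 3, 1, 6, 6, 4]) (.leaf 80 32 [6, 3, 3, 1, 2, 1, 3, 1, 3, 1, 2, 1, 2, 2, 1, 2, 1, 3, 1, 2, 1, 3, 1, 2, 2, 1, 5, 4, 6, 4, 5, 5, 4])))) (.node 608 (.node 606 (.leaf 15 3 [1, 2, 1, 3, 1, 2, 2, 1, 2, 1, 2, 1, 2, 1, 2, 2, 6, 4, 5, 1, 3, 3]) (.node 607 (.leaf 257 18 [2, 1, 2, 1, 3, 1, 3, 3, 1, 6, 6, 4, 5, 4, 1, 2, 2, 1, 3, 1, 3, 1, 3, 3, 1, 3, 1, 2, 2, 1, 2, 1]) (.leaf 106 25 [5, 4, 6, 6, 6, 6, 4, 2, 1, 3, 3, 1, 3, 1, 2, 1, 2, 2, 1, 2, 1, 3, 1, 3, 1, 3, 1, 2, 2, 1, 2, 2]))) (.node 609 (.leaf 117 7 [1, 3, 1, 3, 3, 1, 2, 1, 3, 1, 2, 1, 3, 3, 1, 3, 3, 1, 3, 5, 5, 5, 5, 4, 6, 3, 3, 1, 2, 2, 1, 2]) (.node 610 (.leaf 22 4 [1, 2, 1, 2, 1, 2, 2, 1, 3, 1, 2, 2, 1, 2, 2, 1, 3, 1, 5, 5, 4, 6, 4, 5, 4, 3, 3, 1, 2]) (.leaf 77 10 [1, 2, 1, 2, 1, 3, 1, 3, 3, 1, 2, 1, 3, 1, 3, 6, 2, 2, 1, 2, 2, 1, 2, 2, 1, 3])))))))) (.node 655 (.node 633 (.node 622 (.node 616 (.node 613 (.node 612 (.leaf 138 26 [6, 4, 5, 5, 4, 6, 4, 1, 3, 1, 3, 1, 2, 2, 1, 3, 3, 1, 3, 3, 1, 3, 1, 3, 3, 1, 2, 1, 2, 2, 1, 2, 2]) (.leaf 15 11 [2, 1, 2, 1, 2, 1, 2, 2, 6, 4, 5, 1, 3, 3, 1, 2, 1, 3, 1, 2, 2, 1])) (.node 614 (.leaf 390 14 [2, 1, 3, 3, 1, 2, 1, 3, 3, 1, 2, 1, 2, 2, 1, 5, 4, 6, 6, 6, 2, 1, 3, 1, 2, 2, 1, 3, 1, 2, 2, 1, 2, 1]) (.node 615 (.leaf 390 33 [6, 2, 1, 3, 1, 2, 2, 1, 3, 1, 2, 2, 1, 2, 1, 2, 1, 3, 3, 1, 2, 1, 3, 3, 1, 2, 1, 2, 2, 1, 5, 4, 6, 6]) (.leaf 390 12 [2, 1, 2, 1, 3, 3, 1, 2, 1, 3, 3, 1, 2, 1, 2, 2, 1, 5, 4, 6, 6, 6, 2, 1, 3, 1, 2, 2, 1, 3, 1, 2, 2, 1])))) (.node 619 (.node 617 (.leaf 391 14 [1, 3, 1, 3, 3, 1, 2, 1, 2, 2, 1, 3, 1, 2, 1, 5, 5, 4, 6, 6, 6, 4, 5, 4, 6, 6, 4, 5, 5, 4, 6, 6, 1, 3, 3, 1, 2, 1, 3, 1, 3, 3, 1, 3, 1, 2]) (.node 618 (.leaf 392 14 [1, 3, 3, 1, 2, 1, 3, 1, 3, 3, 1, 3, 3, 1, 3, 6, 6, 4, 5, 5, 5, 4, 6, 6, 6, 4, 5, 5, 2, 1, 2, 2, 1, 2, 2, 1, 2, 1, 3, 1, 2, 2]) (.leaf 393 14 [1, 3, 1, 2, 1, 3, 1, 3, 3, 1, 3, 3, 1, 3, 1, 4, 6, 4, 5, 5, 5, 4, 6, 4, 5, 5, 5, 4, 6, 4, 5, 1, 3, 3, 1, 3, 1, 3, 1, 3, 1, 3, 3, 1, 3]))) (.node 620 (.leaf 8 22 [3, 3, 1, 3, 3, 1, 3, 3, 1, 3, 3, 1, 3, 3, 1, 3, 3, 1, 3, 3, 1, 3, 3, 1, 3, 3, 1, 3, 3, 1]) (.node 621 (.leaf 10 4 [1, 3, 3, 3, 1, 3, 3, 3, 1, 3, 3, 3, 1, 3, 3, 3, 1, 3, 3, 3, 1, 3, 3, 3, 1, 3, 3, 3, 1, 3, 3, 3, 1, 3, 3, 3, 1, 3, 3, 3]) (.leaf 257 27 [6, 6, 4, 5, 4, 1, 2, 2, 1, 3, 1, 3, 1, 3, 3, 1, 3, 1, 2, 2, 1, 2, 1, 2, 1, 2, 1, 3, 1, 3, 3, 1]))))) (.node 627 (.node 624 (.node 623 (.leaf 216 17 [1, 3, 1, 2, 1, 3, 3, 1, 3, 1, 6, 4, 5, 5, 4, 6, 2, 2, 1, 2, 1, 3, 3, 1, 3, 1, 3, 3, 1, 2, 2, 1, 3]) (.leaf 394 14 [2, 1, 2, 2, 1, 3, 1, 3, 1, 3, 1, 3, 3, 1, 3, 5, 4, 5, 5, 5, 4, 6, 4, 5, 5, 5, 4, 6, 4, 5, 2, 2, 1, 3, 1, 2, 2, 1, 2, 2, 1, 2, 2, 1])) (.node 625 (.leaf 395 14 [1, 2, 1, 2, 2, 1, 2, 1, 2, 2, 1, 2, 1, 3, 3, 6, 6, 6, 4, 5, 5, 5, 4, 6, 4, 5, 5, 4, 6, 4, 1, 3, 1, 3, 1, 2, 1, 3, 3, 1, 3, 1, 3, 3]) (.node 626 (.leaf 22 25 [6, 4, 5, 4, 3, 3, 1, 2, 1, 2, 1, 2, 1, 2, 2, 1, 3, 1, 2, 2, 1, 2, 2, 1, 3, 1, 5, 5, 4]) (.leaf 396 14 [1, 3, 1, 2, 1, 3, 3, 1, 2, 2, 1, 3, 1, 2, 2, 4, 5, 5, 5, 4, 6, 4, 5, 5, 5, 4, 6, 4, 5, 5, 4, 6, 4, 1, 2, 1, 2, 1, 2, 1, 3, 1, 2, 1, 2, 1, 3])))) (.node 630 (.node 628 (.leaf 181 2 [1, 2, 2, 1, 3, 1, 2, 1, 3, 3, 1, 2, 1, 3, 3, 1, 2, 1, 3, 1, 3, 1, 3, 1, 3, 4, 5, 5, 4, 6, 4, 1, 3]) (.node 629 (.leaf 116 10 [2, 2, 1, 2, 1, 3, 1, 3, 1, 3, 1, 2, 2, 1, 2, 1, 5, 4, 2, 2, 1, 2, 1, 2, 1, 2, 2, 1]) (.leaf 77 0 [2, 2, 1, 2, 2, 1, 2, 2, 1, 3, 1, 2, 1, 2, 1, 3, 1, 3, 3, 1, 2, 1, 3, 1, 3, 6]))) (.node 631 (.leaf 354 8 [2, 2, 1, 2, 1, 2, 1, 3, 1, 3, 1, 3, 3, 1, 2, 2, 1, 3, 3, 1, 6, 6, 6, 1, 2, 1, 2, 1, 3, 3, 1]) (.node 632 (.leaf 151 26 [5, 5, 4, 6, 6, 4, 5, 2, 1, 3, 3, 1, 3, 3, 1, 3, 1, 2, 2, 1, 2, 2, 1, 2, 2, 1, 3, 1, 2, 2, 1, 2, 2]) (.leaf 7 5 [2, 1, 2, 2, 1, 2, 2, 1, 2, 2, 1, 2, 2, 1, 2, 2, 1, 2, 2, 1, 2, 2, 1, 2, 2, 1, 2, 2, 1, 2])))))) (.node 644 (.node 638 (.node 635 (.node 634 (.leaf 74 28 [6, 6, 4, 2, 1, 3, 3, 1, 2, 1, 3, 1, 2, 1, 2, 1, 3, 1, 2, 1, 2, 2, 1, 3, 3, 1, 3, 3, 5, 5, 4]) (.leaf 390 25 [1, 2, 2, 1, 5, 4, 6, 6, 6, 2, 1, 3, 1, 2, 2, 1, 3, 1, 2, 2, 1, 2, 1, 2, 1, 3, 3, 1, 2, 1, 3, 3, 1, 2])) (.node 636 (.leaf 22 28 [4, 3, 3, 1, 2, 1, 2, 1, 2, 1, 2, 2, 1, 3, 1, 2, 2, 1, 2, 2, 1, 3, 1, 5, 5, 4, 6, 4, 5]) (.node 637 (.leaf 104 36 [4, 1, 3, 1, 2, 1, 2, 1, 3, 1, 3, 3, 1, 2, 2, 1, 3, 3, 1, 3, 1, 2, 2, 1, 2, 1, 6, 6, 4, 5, 4, 6, 4, 5, 5, 4, 6]) (.leaf 257 10 [1, 3, 1, 2, 2, 1, 2, 1, 2, 1, 2, 1, 3, 1, 3, 3, 1, 6, 6, 4, 5, 4, 1, 2, 2, 1, 3, 1, 3, 1, 3, 3])))) (.node 641 (.node 639 (.leaf 7 10 [2, 2, 1, 2, 2, 1, 2, 2, 1, 2, 2, 1, 2, 2, 1, 2, 2, 1, 2, 2, 1, 2, 2, 1, 2, 2, 1, 2, 2, 1]) (.node 640 (.leaf 267 32 [6, 1, 3, 1, 2, 1, 2, 1, 3, 3, 1, 2, 2, 1, 2, 2, 1, 2, 1, 2, 2, 1, 2, 2, 1, 2, 2, 1, 3, 4, 5, 5, 4]) (.leaf 34 21 [2, 2, 4, 5, 5, 5, 4, 6, 4, 5, 4, 2, 2, 1, 2, 2, 1, 3, 1, 3, 1, 2, 1, 2, 1, 2, 2, 1, 2, 1, 3, 1]))) (.node 642 (.leaf 369 18 [3, 3, 1, 3, 3, 1, 3, 1, 3, 3, 4, 5, 5, 4, 6, 4, 2, 1, 2, 2, 1, 2, 1, 2, 1, 2, 1, 2, 2, 1, 2, 1, 3, 1]) (.node 643 (.leaf 385 19 [2, 1, 2, 1, 2, 1, 3, 3, 1, 6, 6, 4, 5, 5, 4, 2, 2, 1, 3, 3, 1, 3, 3, 1, 2, 2, 1, 3, 1, 3, 3, 1, 3, 1]) (.leaf 130 31 [5, 4, 2, 2, 1, 2, 1, 2, 1, 3, 3, 1, 2, 1, 2, 1, 3, 1, 3, 1, 3, 1, 2, 1, 3, 1, 3, 1, 6, 6, 4, 5, 5]))))) (.node 649 (.node 646 (.node 645 (.leaf 38 33 [4, 1, 3, 1, 3, 1, 2, 1, 2, 1, 3, 1, 2, 2, 1, 3, 1, 2, 2, 1, 3, 1, 3, 3, 4, 5, 5, 5, 4, 6, 6, 4, 5, 5]) (.leaf 167 34 [5, 1, 3, 1, 3, 1, 3, 1, 2, 1, 3, 1, 2, 1, 2, 1, 2, 1, 2, 2, 1, 3, 1, 3, 3, 1, 3, 1, 5, 4, 6, 6, 4, 5, 5])) (.node 647 (.leaf 22 6 [1, 2, 1, 2, 2, 1, 3, 1, 2, 2, 1, 2, 2, 1, 3, 1, 5, 5, 4, 6, 4, 5, 4, 3, 3, 1, 2, 1, 2]) (.node 648 (.leaf 53 26 [5, 5, 5, 4, 6, 6, 4, 5, 4, 1, 2, 2, 1, 2, 1, 2, 2, 1, 2, 1, 2, 2, 1, 3, 1, 3, 1, 2, 1, 3, 3, 1, 3, 5, 4]) (.leaf 74 4 [1, 2, 1, 3, 1, 2, 1, 2, 1, 3, 1, 2, 1, 2, 2, 1, 3, 3, 1, 3, 3, 5, 5, 4, 6, 6, 4, 2, 1, 3, 3])))) (.node 652 (.node 650 (.leaf 80 8 [1, 2, 1, 2, 2, 1, 2, 1, 3, 1, 2, 1, 3, 1, 2, 2, 1, 5, 4, 6, 4, 5, 5, 4, 6, 3, 3, 1, 2, 1, 3, 1, 3]) (.node 651 (.leaf 88 3 [2, 2, 1, 3, 3, 1, 3, 1, 2, 2, 1, 3, 1, 3, 1, 3, 1, 3, 3, 1, 2, 1, 5, 4, 6, 4, 5, 5, 4, 6, 6, 4, 5, 4, 2, 2, 1]) (.leaf 47 8 [2, 1, 2, 2, 1, 3, 3, 1, 3, 1, 2, 1, 2, 2, 1, 5, 5, 5, 4, 6, 6, 4, 2, 2, 1, 2, 1, 3, 1, 2]))) (.node 653 (.leaf 257 3 [1, 3, 1, 3, 1, 3, 3, 1, 3, 1, 2, 2, 1, 2, 1, 2, 1, 2, 1, 3, 1, 3, 3, 1, 6, 6, 4, 5, 4, 1, 2, 2]) (.node 654 (.leaf 142 27 [5, 4, 5, 5, 5, 5, 4, 2, 1, 3, 3, 1, 2, 1, 3, 1, 3, 1, 2, 2, 1, 3, 3, 1, 3, 1, 3, 1, 2, 1, 3, 1, 3, 4]) (.leaf 387 23 [3, 1, 2, 2, 1, 4, 6, 4, 6, 6, 6, 6, 4, 5, 4, 2, 1, 2, 1, 3, 3, 1, 2, 2, 1, 2, 1, 2, 2, 1, 3, 1, 3, 1, 2, 2, 1, 3]))))))) (.node 677 (.node 666 (.node 660 (.node 657 (.node 656 (.leaf 145 34 [5, 4, 6, 2, 1, 3, 3, 1, 2, 2, 1, 3, 1, 3, 1, 2, 1, 3, 3, 1, 3, 3, 1, 3, 1, 3, 1, 2, 1, 5, 4, 5, 5, 5, 4, 6, 4]) (.leaf 351 8 [1, 2, 1, 3, 1, 2, 1, 3, 3, 1, 3, 3, 1, 2, 1, 2, 2, 1, 3, 1, 5, 5, 5, 4, 6, 4, 5, 4, 6, 4, 5, 4, 2, 2, 1, 3, 3, 1, 3, 3])) (.node 658 (.leaf 50 30 [5, 1, 3, 3, 1, 2, 1, 3, 3, 1, 2, 2, 1, 2, 1, 3, 3, 1, 3, 3, 1, 2, 2, 1, 3, 4, 6, 4, 5, 5, 5]) (.node 659 (.leaf 109 5 [2, 1, 3, 3, 1, 3, 1, 2, 2, 1, 2, 1, 3, 1, 2, 1, 2, 1, 2, 2, 6, 4, 5, 5, 5, 2, 2, 1, 2, 1]) (.leaf 181 5 [1, 3, 1, 2, 1, 3, 3, 1, 2, 1, 3, 3, 1, 2, 1, 3, 1, 3, 1, 3, 1, 3, 4, 5, 5, 4, 6, 4, 1, 3, 1, 2, 2])))) (.node 663 (.node 661 (.leaf 331 18 [1, 3, 3, 1, 3, 1, 2, 1, 3, 1, 4, 5, 5, 4, 6, 4, 5, 4, 6, 6, 6, 4, 2, 1, 2, 1, 2, 2, 1, 3, 3, 1, 2, 1, 2, 2, 1, 3, 1, 2]) (.node 662 (.leaf 59 7 [3, 1, 3, 3, 1, 2, 1, 3, 3, 1, 2, 2, 1, 2, 1, 3, 3, 5, 5, 4, 6, 6, 6, 4, 2, 1, 2, 1, 3, 1, 3]) (.leaf 9 8 [1, 2, 2, 2, 1, 2, 2, 2, 1, 2, 2, 2, 1, 2, 2, 2, 1, 2, 2, 2, 1, 2, 2, 2, 1, 2, 2, 2, 1, 2, 2, 2, 1, 2, 2, 2, 1, 2, 2, 2]))) (.node 664 (.leaf 74 19 [1, 3, 3, 1, 3, 3, 5, 5, 4, 6, 6, 4, 2, 1, 3, 3, 1, 2, 1, 3, 1, 2, 1, 2, 1, 3, 1, 2, 1, 2, 2]) (.node 665 (.leaf 8 12 [1, 3, 3, 1, 3, 3, 1, 3, 3, 1, 3, 3, 1, 3, 3, 1, 3, 3, 1, 3, 3, 1, 3, 3, 1, 3, 3, 1, 3, 3]) (.leaf 6 8 [1, 3, 1, 3, 1, 3, 1, 3, 1, 3, 1, 3, 1, 3, 1, 3, 1, 3, 1, 3, 1, 3, 1, 3, 1, 3, 1, 3, 1, 3, 1, 3, 1, 3, 1, 3, 1, 3]))))) (.node 671 (.node 668 (.node 667 (.leaf 22 23 [5, 4, 6, 4, 5, 4, 3, 3, 1, 2, 1, 2, 1, 2, 1, 2, 2, 1, 3, 1, 2, 2, 1, 2, 2, 1, 3, 1, 5]) (.leaf 7 1 [2, 2, 1, 2, 2, 1, 2, 2, 1, 2, 2, 1, 2, 2, 1, 2, 2, 1, 2, 2, 1, 2, 2, 1, 2, 2, 1, 2, 2, 1])) (.node 669 (.leaf 6 7 [3, 1, 3, 1, 3, 1, 3, 1, 3, 1, 3, 1, 3, 1, 3, 1, 3, 1, 3, 1, 3, 1, 3, 1, 3, 1, 3, 1, 3, 1, 3, 1, 3, 1, 3, 1, 3, 1]) (.node 670 (.leaf 9 23 [2, 1, 2, 2, 2, 1, 2, 2, 2, 1, 2, 2, 2, 1, 2, 2, 2, 1, 2, 2, 2, 1, 2, 2, 2, 1, 2, 2, 2, 1, 2, 2, 2, 1, 2, 2, 2, 1, 2, 2]) (.leaf 7 4 [2, 2, 1, 2, 2, 1, 2, 2, 1, 2, 2, 1, 2, 2, 1, 2, 2, 1, 2, 2, 1, 2, 2, 1, 2, 2, 1, 2, 2, 1])))) (.node 674 (.node 672 (.leaf 9 0 [1, 2, 2, 2, 1, 2, 2, 2, 1, 2, 2, 2, 1, 2, 2, 2, 1, 2, 2, 2, 1, 2, 2, 2, 1, 2, 2, 2, 1, 2, 2, 2, 1, 2, 2, 2, 1, 2, 2, 2]) (.node 673 (.leaf 68 6 [1, 3, 3, 1, 3, 1, 2, 2, 1, 3, 1, 2, 1, 2, 2, 1, 3, 3, 4, 5, 4, 5, 5, 5, 5, 4, 5, 1, 2, 1, 2, 1, 2]) (.leaf 143 2 [1, 2, 2, 1, 2, 2, 1, 3, 3, 1, 2, 1, 3, 3, 1, 3, 3, 1, 3, 3, 1, 3, 1, 3, 4, 6, 4, 5, 5, 5, 5, 4, 3, 3]))) (.node 675 (.leaf 387 25 [2, 2, 1, 4, 6, 4, 6, 6, 6, 6, 4, 5, 4, 2, 1, 2, 1, 3, 3, 1, 2, 2, 1, 2, 1, 2, 2, 1, 3, 1, 3, 1, 2, 2, 1, 3, 3, 1]) (.node 676 (.leaf 257 24 [3, 3, 1, 6, 6, 4, 5, 4, 1, 2, 2, 1, 3, 1, 3, 1, 3, 3, 1, 3, 1, 2, 2, 1, 2, 1, 2, 1, 2, 1, 3, 1]) (.leaf 167 33 [5, 5, 1, 3, 1, 3, 1, 3, 1, 2, 1, 3, 1, 2, 1, 2, 1, 2, 1, 2, 2, 1, 3, 1, 3, 3, 1, 3, 1, 5, 4, 6, 6, 4, 5])))))) (.node 688 (.node 682 (.node 679 (.node 678 (.leaf 59 25 [5, 4, 6, 6, 6, 4, 2, 1, 2, 1, 3, 1, 3, 3, 1, 3, 3, 1, 2, 1, 3, 3, 1, 2, 2, 1, 2, 1, 3, 3, 5]) (.leaf 237 22 [2, 2, 1, 3, 3, 6, 4, 5, 5, 4, 6, 1, 3, 1, 2, 2, 1, 2, 2, 1, 2, 2, 1, 3, 1, 2, 1, 2, 2, 1, 2, 2, 1])) (.node 680 (.leaf 369 30 [5, 4, 6, 4, 2, 1, 2, 2, 1, 2, 1, 2, 1, 2, 1, 2, 2, 1, 2, 1, 3, 1, 3, 3, 1, 3, 3, 1, 3, 1, 3, 3, 4, 5]) (.node 681 (.leaf 34 10 [2, 1, 2, 1, 2, 2, 1, 2, 1, 3, 1, 2, 2, 4, 5, 5, 5, 4, 6, 4, 5, 4, 2, 2, 1, 2, 2, 1, 3, 1, 3, 1]) (.leaf 322 2 [1, 2, 2, 1, 3, 1, 3, 1, 3, 3, 1, 3, 1, 2, 1, 2, 1, 3, 1, 3, 3, 1, 3, 3, 1, 3, 6, 6, 4, 5, 5, 1, 3])))) (.node 685 (.node 683 (.leaf 106 30 [6, 4, 2, 1, 3, 3, 1, 3, 1, 2, 1, 2, 2, 1, 2, 1, 3, 1, 3, 1, 3, 1, 2, 2, 1, 2, 2, 5, 4, 6, 6, 6]) (.node 684 (.leaf 6 5 [3, 1, 3, 1, 3, 1, 3, 1, 3, 1, 3, 1, 3, 1, 3, 1, 3, 1, 3, 1, 3, 1, 3, 1, 3, 1, 3, 1, 3, 1, 3, 1, 3, 1, 3, 1, 3, 1]) (.leaf 8 27 [1, 3, 3, 1, 3, 3, 1, 3, 3, 1, 3, 3, 1, 3, 3, 1, 3, 3, 1, 3, 3, 1, 3, 3, 1, 3, 3, 1, 3, 3]))) (.node 686 (.leaf 13 17 [1, 4, 6, 4, 5, 4, 6, 6, 4, 5, 4, 5, 1, 3, 3, 1, 2, 1, 2, 1, 2, 1, 2, 2, 1, 3, 3, 1, 2]) (.node 687 (.leaf 47 28 [6, 4, 2, 2, 1, 2, 1, 3, 1, 2, 2, 1, 2, 2, 1, 3, 3, 1, 3, 1, 2, 1, 2, 2, 1, 5, 5, 5, 4, 6]) (.leaf 74 20 [3, 3, 1, 3, 3, 5, 5, 4, 6, 6, 4, 2, 1, 3, 3, 1, 2, 1, 3, 1, 2, 1, 2, 1, 3, 1, 2, 1, 2, 2, 1]))))) (.node 693 (.node 690 (.node 689 (.leaf 167 3 [3, 1, 3, 1, 2, 1, 3, 1, 2, 1, 2, 1, 2, 1, 2, 2, 1, 3, 1, 3, 3, 1, 3, 1, 5, 4, 6, 6, 4, 5, 5, 5, 1, 3, 1]) (.leaf 47 29 [4, 2, 2, 1, 2, 1, 3, 1, 2, 2, 1, 2, 2, 1, 3, 3, 1, 3, 1, 2, 1, 2, 2, 1, 5, 5, 5, 4, 6, 6])) (.node 691 (.leaf 237 30 [5, 4, 6, 1, 3, 1, 2, 2, 1, 2, 2, 1, 2, 2, 1, 3, 1, 2, 1, 2, 2, 1, 2, 2, 1, 2, 2, 1, 3, 3, 6, 4, 5]) (.node 692 (.leaf 325 19 [3, 1, 3, 3, 1, 2, 2, 1, 3, 4, 6, 4, 5, 5, 4, 6, 6, 6, 1, 3, 3, 1, 2, 1, 3, 1, 3, 1, 3, 1, 2, 2, 1, 3, 1, 3, 1]) (.leaf 109 7 [3, 3, 1, 3, 1, 2, 2, 1, 2, 1, 3, 1, 2, 1, 2, 1, 2, 2, 6, 4, 5, 5, 5, 2, 2, 1, 2, 1, 2, 1])))) (.node 696 (.node 694 (.leaf 7 26 [2, 1, 2, 2, 1, 2, 2, 1, 2, 2, 1, 2, 2, 1, 2, 2, 1, 2, 2, 1, 2, 2, 1, 2, 2, 1, 2, 2, 1, 2]) (.node 695 (.leaf 77 9 [3, 1, 2, 1, 2, 1, 3, 1, 3, 3, 1, 2, 1, 3, 1, 3, 6, 2, 2, 1, 2, 2, 1, 2, 2, 1]) (.leaf 70 29 [5, 4, 5, 1, 2, 1, 2, 1, 3, 1, 2, 1, 3, 1, 3, 1, 2, 1, 3, 1, 2, 1, 3, 1, 2, 1, 2, 1, 6, 4, 5, 5]))) (.node 697 (.leaf 174 30 [5, 4, 3, 3, 1, 3, 1, 2, 2, 1, 3, 3, 1, 2, 2, 1, 3, 3, 1, 2, 1, 2, 1, 2, 1, 2, 1, 3, 1, 5, 5, 5]) (.node 698 (.leaf 7 16 [2, 2, 1, 2, 2, 1, 2, 2, 1, 2, 2, 1, 2, 2, 1, 2, 2, 1, 2, 2, 1, 2, 2, 1, 2, 2, 1, 2, 2, 1]) (.leaf 237 32 [6, 1, 3, 1, 2, 2, 1, 2, 2, 1, 2, 2, 1, 3, 1, 2, 1, 2, 2, 1, 2, 2, 1, 2, 2, 1, 3, 3, 6, 4, 5, 5, 4]))))))))))) (.node 1048 (.node 873 (.node 786 (.node 742 (.node 720 (.node 709 (.node 704 (.node 701 (.node 700 (.leaf 369 7 [2, 1, 2, 1, 2, 2, 1, 2, 1, 3, 1, 3, 3, 1, 3, 3, 1, 3, 1, 3, 3, 4, 5, 5, 4, 6, 4, 2, 1, 2, 2, 1, 2, 1]) (.leaf 169 35 [5, 5, 2, 2, 1, 3, 1, 3, 1, 2, 2, 1, 2, 1, 3, 1, 2, 1, 2, 1, 3, 1, 3, 3, 1, 2, 1, 3, 3, 4, 6, 4, 5, 5, 4, 6, 4])) (.node 702 (.leaf 186 2 [3, 1, 3, 3, 1, 2, 1, 3, 1, 2, 2, 1, 2, 1, 2, 2, 1, 3, 1, 2, 1, 2, 2, 1, 3, 6, 4, 5, 5, 4, 6, 6, 4, 5, 5, 5, 4, 2, 1]) (.node 703 (.leaf 59 29 [6, 4, 2, 1, 2, 1, 3, 1, 3, 3, 1, 3, 3, 1, 2, 1, 3, 3, 1, 2, 2, 1, 2, 1, 3, 3, 5, 5, 4, 6, 6]) (.leaf 74 7 [3, 1, 2, 1, 2, 1, 3, 1, 2, 1, 2, 2, 1, 3, 3, 1, 3, 3, 5, 5, 4, 6, 6, 4, 2, 1, 3, 3, 1, 2, 1])))) (.node 706 (.node 705 (.leaf 88 25 [5, 4, 6, 4, 5, 5, 4, 6, 6, 4, 5, 4, 2, 2, 1, 2, 2, 1, 3, 3, 1, 3, 1, 2, 2, 1, 3, 1, 3, 1, 3, 1, 3, 3, 1, 2, 1]) (.leaf 147 14 [3, 1, 3, 1, 2, 1, 2, 1, 2, 1, 3, 3, 5, 5, 4, 6, 4, 5, 5, 4, 6, 6, 4, 5, 2, 2, 1, 3, 1, 3, 3, 1, 3, 3, 1, 2, 2, 1])) (.node 707 (.leaf 277 6 [1, 2, 1, 2, 1, 2, 1, 3, 1, 2, 1, 3, 1, 2, 1, 2, 1, 3, 3, 1, 2, 2, 5, 5, 4, 6, 6, 4, 5, 5, 1, 2, 2, 1, 2, 2]) (.node 708 (.leaf 8 6 [1, 3, 3, 1, 3, 3, 1, 3, 3, 1, 3, 3, 1, 3, 3, 1, 3, 3, 1, 3, 3, 1, 3, 3, 1, 3, 3, 1, 3, 3]) (.leaf 216 31 [4, 6, 2, 2, 1, 2, 1, 3, 3, 1, 3, 1, 3, 3, 1, 2, 2, 1, 3, 1, 3, 1, 2, 1, 3, 3, 1, 3, 1, 6, 4, 5, 5]))))) (.node 714 (.node 711 (.node 710 (.leaf 257 4 [3, 1, 3, 1, 3, 3, 1, 3, 1, 2, 2, 1, 2, 1, 2, 1, 2, 1, 3, 1, 3, 3, 1, 6, 6, 4, 5, 4, 1, 2, 2, 1]) (.leaf 8 13 [3, 3, 1, 3, 3, 1, 3, 3, 1, 3, 3, 1, 3, 3, 1, 3, 3, 1, 3, 3, 1, 3, 3, 1, 3, 3, 1, 3, 3, 1])) (.node 712 (.leaf 354 6 [3, 1, 2, 2, 1, 2, 1, 2, 1, 3, 1, 3, 1, 3, 3, 1, 2, 2, 1, 3, 3, 1, 6, 6, 6, 1, 2, 1, 2, 1, 3]) (.node 713 (.leaf 15 0 [1, 3, 3, 1, 2, 1, 3, 1, 2, 2, 1, 2, 1, 2, 1, 2, 1, 2, 2, 6, 4, 5]) (.leaf 8 2 [3, 1, 3, 3, 1, 3, 3, 1, 3, 3, 1, 3, 3, 1, 3, 3, 1, 3, 3, 1, 3, 3, 1, 3, 3, 1, 3, 3, 1, 3])))) (.node 717 (.node 715 (.leaf 390 4 [2, 2, 1, 3, 1, 2, 2, 1, 2, 1, 2, 1, 3, 3, 1, 2, 1, 3, 3, 1, 2, 1, 2, 2, 1, 5, 4, 6, 6, 6, 2, 1, 3, 1]) (.node 716 (.leaf 120 24 [1, 3, 4, 6, 4, 6, 6, 6, 4, 5, 5, 1, 3, 1, 3, 1, 3, 3, 1, 3, 1, 3, 1, 2, 1, 3, 1, 3, 1, 3, 1, 3, 3, 1, 2]) (.leaf 308 38 [6, 1, 2, 2, 1, 2, 2, 1, 3, 1, 3, 1, 2, 1, 3, 1, 2, 1, 3, 1, 3, 1, 2, 1, 2, 1, 3, 3, 1, 4, 6, 4, 5, 5, 4, 6, 6, 6, 4]))) (.node 718 (.leaf 8 21 [1, 3, 3, 1, 3, 3, 1, 3, 3, 1, 3, 3, 1, 3, 3, 1, 3, 3, 1, 3, 3, 1, 3, 3, 1, 3, 3, 1, 3, 3]) (.node 719 (.leaf 34 13 [1, 2, 2, 1, 2, 1, 3, 1, 2, 2, 4, 5, 5, 5, 4, 6, 4, 5, 4, 2, 2, 1, 2, 2, 1, 3, 1, 3, 1, 2, 1, 2]) (.leaf 88 26 [4, 6, 4, 5, 5, 4, 6, 6, 4, 5, 4, 2, 2, 1, 2, 2, 1, 3, 3, 1, 3, 1, 2, 2, 1, 3, 1, 3, 1, 3, 1, 3, 3, 1, 2, 1, 5])))))) (.node 731 (.node 725 (.node 722 (.node 721 (.leaf 369 33 [4, 2, 1, 2, 2, 1, 2, 1, 2, 1, 2, 1, 2, 2, 1, 2, 1, 3, 1, 3, 3, 1, 3, 3, 1, 3, 1, 3, 3, 4, 5, 5, 4, 6]) (.leaf 174 28 [5, 5, 5, 4, 3, 3, 1, 3, 1, 2, 2, 1, 3, 3, 1, 2, 2, 1, 3, 3, 1, 2, 1, 2, 1, 2, 1, 2, 1, 3, 1, 5])) (.node 723 (.leaf 181 31 [6, 4, 1, 3, 1, 2, 2, 1, 3, 1, 2, 1, 3, 3, 1, 2, 1, 3, 3, 1, 2, 1, 3, 1, 3, 1, 3, 1, 3, 4, 5, 5, 4]) (.node 724 (.leaf 22 27 [5, 4, 3, 3, 1, 2, 1, 2, 1, 2, 1, 2, 2, 1, 3, 1, 2, 2, 1, 2, 2, 1, 3, 1, 5, 5, 4, 6, 4]) (.leaf 267 16 [2, 1, 2, 2, 1, 2, 2, 1, 2, 2, 1, 3, 4, 5, 5, 4, 6, 1, 3, 1, 2, 1, 2, 1, 3, 3, 1, 2, 2, 1, 2, 2, 1])))) (.node 728 (.node 726 (.leaf 138 15 [1, 3, 3, 1, 2, 1, 2, 2, 1, 2, 2, 6, 4, 5, 5, 4, 6, 4, 1, 3, 1, 3, 1, 2, 2, 1, 3, 3, 1, 3, 3, 1, 3]) (.node 727 (.leaf 257 12 [1, 2, 2, 1, 2, 1, 2, 1, 2, 1, 3, 1, 3, 3, 1, 6, 6, 4, 5, 4, 1, 2, 2, 1, 3, 1, 3, 1, 3, 3, 1, 3]) (.leaf 92 13 [1, 3, 1, 2, 2, 1, 2, 1, 3, 1, 3, 3, 6, 4, 6, 6, 6, 6, 4, 2, 1, 2, 1, 3, 1, 2, 1, 2, 1, 2, 1, 2]))) (.node 729 (.leaf 74 3 [3, 1, 2, 1, 3, 1, 2, 1, 2, 1, 3, 1, 2, 1, 2, 2, 1, 3, 3, 1, 3, 3, 5, 5, 4, 6, 6, 4, 2, 1, 3]) (.node 730 (.leaf 167 11 [2, 1, 2, 1, 2, 1, 2, 2, 1, 3, 1, 3, 3, 1, 3, 1, 5, 4, 6, 6, 4, 5, 5, 5, 1, 3, 1, 3, 1, 3, 1, 2, 1, 3, 1]) (.leaf 213 27 [5, 4, 5, 5, 5, 5, 4, 5, 1, 3, 1, 3, 3, 1, 3, 3, 1, 3, 1, 3, 1, 2, 1, 3, 1, 3, 1, 3, 3, 1, 3, 1, 3, 1, 3]))))) (.node 736 (.node 733 (.node 732 (.leaf 92 14 [3, 1, 2, 2, 1, 2, 1, 3, 1, 3, 3, 6, 4, 6, 6, 6, 6, 4, 2, 1, 2, 1, 3, 1, 2, 1, 2, 1, 2, 1, 2, 1]) (.leaf 322 32 [5, 1, 3, 1, 2, 2, 1, 3, 1, 3, 1, 3, 3, 1, 3, 1, 2, 1, 2, 1, 3, 1, 3, 3, 1, 3, 3, 1, 3, 6, 6, 4, 5])) (.node 734 (.leaf 226 31 [6, 4, 5, 5, 5, 2, 2, 1, 2, 2, 1, 3, 1, 3, 3, 1, 3, 1, 2, 1, 2, 1, 2, 2, 1, 2, 2, 1, 2, 1, 3, 3, 6, 4, 5, 4]) (.node 735 (.leaf 354 2 [1, 2, 1, 3, 3, 1, 2, 2, 1, 2, 1, 2, 1, 3, 1, 3, 1, 3, 3, 1, 2, 2, 1, 3, 3, 1, 6, 6, 6, 1, 2]) (.leaf 8 4 [3, 3, 1, 3, 3, 1, 3, 3, 1, 3, 3, 1, 3, 3, 1, 3, 3, 1, 3, 3, 1, 3, 3, 1, 3, 3, 1, 3, 3, 1])))) (.node 739 (.node 737 (.leaf 8 19 [3, 3, 1, 3, 3, 1, 3, 3, 1, 3, 3, 1, 3, 3, 1, 3, 3, 1, 3, 3, 1, 3, 3, 1, 3, 3, 1, 3, 3, 1]) (.node 738 (.leaf 47 21 [2, 1, 5, 5, 5, 4, 6, 6, 4, 2, 2, 1, 2, 1, 3, 1, 2, 2, 1, 2, 2, 1, 3, 3, 1, 3, 1, 2, 1, 2]) (.leaf 64 33 [4, 5, 4, 2, 2, 1, 2, 1, 2, 1, 3, 1, 2, 1, 2, 2, 1, 3, 3, 1, 2, 1, 3, 3, 1, 3, 3, 4, 6, 4, 5, 5, 4, 6, 6, 6]))) (.node 740 (.leaf 32 13 [2, 1, 2, 1, 2, 1, 2, 1, 3, 1, 4, 6, 4, 5, 5, 5, 4, 6, 6, 4, 5, 4, 1, 3, 3, 1, 3, 1, 2, 2, 1, 3, 3, 1, 2]) (.node 741 (.leaf 58 14 [2, 1, 3, 1, 3, 3, 1, 3, 3, 1, 4, 6, 4, 5, 5, 5, 4, 6, 6, 4, 1, 3, 1, 3, 1, 2, 1, 3, 3, 1, 2, 2, 1, 2]) (.leaf 125 19 [3, 3, 1, 2, 1, 2, 1, 4, 6, 6, 4, 5, 4, 6, 6, 4, 5, 4, 6, 4, 5, 2, 1, 3, 3, 1, 2, 2, 1, 3, 1, 2, 1, 2, 2, 1, 2, 1, 2, 1]))))))) (.node 764 (.node 753 (.node 747 (.node 744 (.node 743 (.leaf 138 31 [6, 4, 1, 3, 1, 3, 1, 2, 2, 1, 3, 3, 1, 3, 3, 1, 3, 1, 3, 3, 1, 2, 1, 2, 2, 1, 2, 2, 6, 4, 5, 5, 4]) (.leaf 74 9 [2, 1, 2, 1, 3, 1, 2, 1, 2, 2, 1, 3, 3, 1, 3, 3, 5, 5, 4, 6, 6, 4, 2, 1, 3, 3, 1, 2, 1, 3, 1])) (.node 745 (.leaf 13 16 [2, 1, 4, 6, 4, 5, 4, 6, 6, 4, 5, 4, 5, 1, 3, 3, 1, 2, 1, 2, 1, 2, 1, 2, 2, 1, 3, 3, 1]) (.node 746 (.leaf 260 23 [1, 3, 1, 3, 3, 4, 5, 4, 6, 6, 4, 5, 4, 6, 4, 3, 3, 1, 3, 1, 3, 3, 1, 2, 1, 2, 1, 2, 2, 1, 3, 3, 1, 2, 1, 2, 1, 3]) (.leaf 174 31 [4, 3, 3, 1, 3, 1, 2, 2, 1, 3, 3, 1, 2, 2, 1, 3, 3, 1, 2, 1, 2, 1, 2, 1, 2, 1, 3, 1, 5, 5, 5, 5])))) (.node 750 (.node 748 (.leaf 8 18 [1, 3, 3, 1, 3, 3, 1, 3, 3, 1, 3, 3, 1, 3, 3, 1, 3, 3, 1, 3, 3, 1, 3, 3, 1, 3, 3, 1, 3, 3]) (.node 749 (.leaf 138 20 [1, 2, 2, 1, 2, 2, 6, 4, 5, 5, 4, 6, 4, 1, 3, 1, 3, 1, 2, 2, 1, 3, 3, 1, 3, 3, 1, 3, 1, 3, 3, 1, 2]) (.leaf 143 27 [6, 4, 5, 5, 5, 5, 4, 3, 3, 1, 2, 2, 1, 2, 2, 1, 3, 3, 1, 2, 1, 3, 3, 1, 3, 3, 1, 3, 3, 1, 3, 1, 3, 4]))) (.node 751 (.leaf 74 25 [5, 5, 4, 6, 6, 4, 2, 1, 3, 3, 1, 2, 1, 3, 1, 2, 1, 2, 1, 3, 1, 2, 1, 2, 2, 1, 3, 3, 1, 3, 3]) (.node 752 (.leaf 322 28 [6, 6, 4, 5, 5, 1, 3, 1, 2, 2, 1, 3, 1, 3, 1, 3, 3, 1, 3, 1, 2, 1, 2, 1, 3, 1, 3, 3, 1, 3, 3, 1, 3]) (.leaf 346 1 [2, 1, 3, 1, 3, 1, 3, 1, 2, 1, 2, 2, 1, 2, 1, 3, 3, 1, 3, 1, 3, 3, 1, 3, 3, 1, 3, 5, 1]))))) (.node 758 (.node 755 (.node 754 (.leaf 181 23 [1, 3, 1, 3, 4, 5, 5, 4, 6, 4, 1, 3, 1, 2, 2, 1, 3, 1, 2, 1, 3, 3, 1, 2, 1, 3, 3, 1, 2, 1, 3, 1, 3]) (.leaf 70 16 [1, 2, 1, 3, 1, 2, 1, 2, 1, 6, 4, 5, 5, 5, 4, 5, 1, 2, 1, 2, 1, 3, 1, 2, 1, 3, 1, 3, 1, 2, 1, 3])) (.node 756 (.leaf 50 17 [3, 3, 1, 2, 2, 1, 3, 4, 6, 4, 5, 5, 5, 5, 1, 3, 3, 1, 2, 1, 3, 3, 1, 2, 2, 1, 2, 1, 3, 3, 1]) (.node 757 (.leaf 257 28 [6, 4, 5, 4, 1, 2, 2, 1, 3, 1, 3, 1, 3, 3, 1, 3, 1, 2, 2, 1, 2, 1, 2, 1, 2, 1, 3, 1, 3, 3, 1, 6]) (.leaf 24 11 [3, 1, 2, 1, 2, 1, 3, 3, 1, 3, 1, 5, 5, 5, 5, 4, 6, 4, 5, 5, 1, 2, 1, 3, 1, 3, 3, 1, 3, 3, 1])))) (.node 761 (.node 759 (.leaf 47 23 [5, 5, 5, 4, 6, 6, 4, 2, 2, 1, 2, 1, 3, 1, 2, 2, 1, 2, 2, 1, 3, 3, 1, 3, 1, 2, 1, 2, 2, 1]) (.node 760 (.leaf 104 33 [5, 4, 6, 4, 1, 3, 1, 2, 1, 2, 1, 3, 1, 3, 3, 1, 2, 2, 1, 3, 3, 1, 3, 1, 2, 2, 1, 2, 1, 6, 6, 4, 5, 4, 6, 4, 5]) (.leaf 22 12 [3, 1, 2, 2, 1, 2, 2, 1, 3, 1, 5, 5, 4, 6, 4, 5, 4, 3, 3, 1, 2, 1, 2, 1, 2, 1, 2, 2, 1]))) (.node 762 (.leaf 181 21 [1, 3, 1, 3, 1, 3, 4, 5, 5, 4, 6, 4, 1, 3, 1, 2, 2, 1, 3, 1, 2, 1, 3, 3, 1, 2, 1, 3, 3, 1, 2, 1, 3]) (.node 763 (.leaf 8 28 [3, 3, 1, 3, 3, 1, 3, 3, 1, 3, 3, 1, 3, 3, 1, 3, 3, 1, 3, 3, 1, 3, 3, 1, 3, 3, 1, 3, 3, 1]) (.leaf 385 9 [2, 2, 1, 3, 1, 3, 3, 1, 3, 1, 2, 1, 2, 1, 2, 1, 3, 3, 1, 6, 6, 4, 5, 5, 4, 2, 2, 1, 3, 3, 1, 3, 3, 1])))))) (.node 775 (.node 769 (.node 766 (.node 765 (.leaf 118 39 [6, 1, 3, 3, 1, 2, 1, 2, 2, 1, 2, 2, 1, 2, 1, 2, 1, 3, 1, 3, 3, 1, 3, 1, 2, 1, 3, 4, 5, 4, 6, 4, 5, 5, 4, 6, 4, 5, 5, 4]) (.leaf 257 17 [1, 2, 1, 2, 1, 3, 1, 3, 3, 1, 6, 6, 4, 5, 4, 1, 2, 2, 1, 3, 1, 3, 1, 3, 3, 1, 3, 1, 2, 2, 1, 2])) (.node 767 (.leaf 22 22 [5, 5, 4, 6, 4, 5, 4, 3, 3, 1, 2, 1, 2, 1, 2, 1, 2, 2, 1, 3, 1, 2, 2, 1, 2, 2, 1, 3, 1]) (.node 768 (.leaf 50 28 [5, 5, 5, 1, 3, 3, 1, 2, 1, 3, 3, 1, 2, 2, 1, 2, 1, 3, 3, 1, 3, 3, 1, 2, 2, 1, 3, 4, 6, 4, 5]) (.leaf 109 8 [3, 1, 3, 1, 2, 2, 1, 2, 1, 3, 1, 2, 1, 2, 1, 2, 2, 6, 4, 5, 5, 5, 2, 2, 1, 2, 1, 2, 1, 3])))) (.node 772 (.node 770 (.leaf 27 10 [1, 2, 1, 3, 1, 2, 2, 1, 2, 1, 2, 2, 4, 6, 4, 5, 5, 4, 6, 4, 5, 5, 4, 1, 2, 1, 2, 2, 1, 3, 3, 1, 3]) (.node 771 (.leaf 354 27 [1, 6, 6, 6, 1, 2, 1, 2, 1, 3, 3, 1, 2, 2, 1, 2, 1, 2, 1, 3, 1, 3, 1, 3, 3, 1, 2, 2, 1, 3, 3]) (.leaf 50 11 [1, 2, 1, 3, 3, 1, 3, 3, 1, 2, 2, 1, 3, 4, 6, 4, 5, 5, 5, 5, 1, 3, 3, 1, 2, 1, 3, 3, 1, 2, 2]))) (.node 773 (.leaf 224 23 [1, 3, 1, 3, 5, 5, 4, 6, 6, 4, 5, 4, 6, 6, 6, 2, 2, 1, 3, 3, 1, 3, 1, 3, 1, 2, 2, 1, 2, 2, 1, 3, 1, 3, 1, 2, 1, 3]) (.node 774 (.leaf 52 1 [2, 1, 2, 1, 3, 3, 1, 3, 1, 2, 2, 1, 3, 1, 2, 1, 2, 1, 2, 1, 3, 1, 3, 4, 5, 1]) (.leaf 33 15 [3, 1, 2, 1, 3, 1, 3, 3, 4, 6, 6, 4, 5, 4, 6, 6, 6, 4, 5, 4, 6, 2, 2, 1, 3, 1, 3, 1, 3, 1, 3, 1, 2, 1, 2, 1]))))) (.node 780 (.node 777 (.node 776 (.leaf 130 26 [6, 6, 4, 5, 5, 5, 4, 2, 2, 1, 2, 1, 2, 1, 3, 3, 1, 2, 1, 2, 1, 3, 1, 3, 1, 3, 1, 2, 1, 3, 1, 3, 1]) (.leaf 120 27 [6, 4, 6, 6, 6, 4, 5, 5, 1, 3, 1, 3, 1, 3, 3, 1, 3, 1, 3, 1, 2, 1, 3, 1, 3, 1, 3, 1, 3, 3, 1, 2, 1, 3, 4])) (.node 778 (.leaf 257 0 [1, 2, 2, 1, 3, 1, 3, 1, 3, 3, 1, 3, 1, 2, 2, 1, 2, 1, 2, 1, 2, 1, 3, 1, 3, 3, 1, 6, 6, 4, 5, 4]) (.node 779 (.leaf 50 10 [2, 1, 2, 1, 3, 3, 1, 3, 3, 1, 2, 2, 1, 3, 4, 6, 4, 5, 5, 5, 5, 1, 3, 3, 1, 2, 1, 3, 3, 1, 2]) (.leaf 206 34 [6, 2, 1, 3, 1, 3, 1, 3, 3, 1, 2, 1, 3, 1, 2, 1, 2, 2, 1, 3, 1, 3, 3, 1, 3, 1, 3, 3, 6, 4, 5, 5, 4, 6, 4])))) (.node 783 (.node 781 (.leaf 237 9 [2, 2, 1, 3, 1, 2, 1, 2, 2, 1, 2, 2, 1, 2, 2, 1, 3, 3, 6, 4, 5, 5, 4, 6, 1, 3, 1, 2, 2, 1, 2, 2, 1]) (.node 782 (.leaf 112 28 [6, 4, 5, 4, 6, 6, 4, 5, 5, 4, 6, 4, 1, 2, 2, 1, 2, 1, 2, 1, 3, 1, 3, 1, 2, 2, 1, 3, 1, 2, 1, 2, 1, 2, 2, 1, 3, 3, 4, 6]) (.leaf 6 9 [3, 1, 3, 1, 3, 1, 3, 1, 3, 1, 3, 1, 3, 1, 3, 1, 3, 1, 3, 1, 3, 1, 3, 1, 3, 1, 3, 1, 3, 1, 3, 1, 3, 1, 3, 1, 3, 1]))) (.node 784 (.leaf 7 6 [1, 2, 2, 1, 2, 2, 1, 2, 2, 1, 2, 2, 1, 2, 2, 1, 2, 2, 1, 2, 2, 1, 2, 2, 1, 2, 2, 1, 2, 2]) (.node 785 (.leaf 216 14 [2, 1, 3, 1, 3, 1, 2, 1, 3, 3, 1, 3, 1, 6, 4, 5, 5, 4, 6, 2, 2, 1, 2, 1, 3, 3, 1, 3, 1, 3, 3, 1, 2]) (.leaf 322 17 [2, 1, 3, 1, 3, 3, 1, 3, 3, 1, 3, 6, 6, 4, 5, 5, 1, 3, 1, 2, 2, 1, 3, 1, 3, 1, 3, 3, 1, 3, 1, 2, 1])))))))) (.node 829 (.node 807 (.node 796 (.node 791 (.node 788 (.node 787 (.leaf 74 26 [5, 4, 6, 6, 4, 2, 1, 3, 3, 1, 2, 1, 3, 1, 2, 1, 2, 1, 3, 1, 2, 1, 2, 2, 1, 3, 3, 1, 3, 3, 5]) (.leaf 151 14 [2, 1, 2, 2, 1, 3, 1, 2, 2, 1, 2, 2, 5, 5, 4, 6, 6, 4, 5, 2, 1, 3, 3, 1, 3, 3, 1, 3, 1, 2, 2, 1, 2])) (.node 789 (.leaf 22 13 [1, 2, 2, 1, 2, 2, 1, 3, 1, 5, 5, 4, 6, 4, 5, 4, 3, 3, 1, 2, 1, 2, 1, 2, 1, 2, 2, 1, 3]) (.node 790 (.leaf 106 28 [6, 6, 6, 4, 2, 1, 3, 3, 1, 3, 1, 2, 1, 2, 2, 1, 2, 1, 3, 1, 3, 1, 3, 1, 2, 2, 1, 2, 2, 5, 4, 6]) (.leaf 117 13 [2, 1, 3, 1, 2, 1, 3, 3, 1, 3, 3, 1, 3, 5, 5, 5, 5, 4, 6, 3, 3, 1, 2, 2, 1, 2, 1, 3, 1, 3, 3, 1])))) (.node 793 (.node 792 (.leaf 95 18 [3, 1, 3, 1, 3, 3, 1, 6, 6, 4, 5, 4, 6, 4, 5, 5, 1, 2, 2, 1, 2, 1, 2, 1, 2, 2, 1, 2, 1, 3, 1, 3, 3, 1]) (.leaf 92 25 [6, 4, 6, 6, 6, 6, 4, 2, 1, 2, 1, 3, 1, 2, 1, 2, 1, 2, 1, 2, 1, 3, 1, 2, 2, 1, 2, 1, 3, 1, 3, 3])) (.node 794 (.leaf 109 2 [1, 2, 1, 2, 1, 3, 3, 1, 3, 1, 2, 2, 1, 2, 1, 3, 1, 2, 1, 2, 1, 2, 2, 6, 4, 5, 5, 5, 2, 2]) (.node 795 (.leaf 267 22 [2, 1, 2, 2, 1, 3, 4, 5, 5, 4, 6, 1, 3, 1, 2, 1, 2, 1, 3, 3, 1, 2, 2, 1, 2, 2, 1, 2, 1, 2, 2, 1, 2]) (.leaf 77 13 [2, 1, 3, 1, 3, 3, 1, 2, 1, 3, 1, 3, 6, 2, 2, 1, 2, 2, 1, 2, 2, 1, 3, 1, 2, 1]))))) (.node 801 (.node 798 (.node 797 (.leaf 95 16 [3, 1, 3, 1, 3, 1, 3, 3, 1, 6, 6, 4, 5, 4, 6, 4, 5, 5, 1, 2, 2, 1, 2, 1, 2, 1, 2, 2, 1, 2, 1, 3, 1, 3]) (.leaf 354 18 [1, 3, 3, 1, 2, 2, 1, 3, 3, 1, 6, 6, 6, 1, 2, 1, 2, 1, 3, 3, 1, 2, 2, 1, 2, 1, 2, 1, 3, 1, 3])) (.node 799 (.leaf 266 28 [6, 6, 4, 5, 5, 5, 4, 6, 6, 2, 1, 2, 1, 2, 1, 3, 1, 2, 1, 2, 1, 2, 2, 1, 3, 1, 3, 3, 1, 2, 1, 2, 1, 3, 1, 3, 3]) (.node 800 (.leaf 24 30 [5, 1, 2, 1, 3, 1, 3, 3, 1, 3, 3, 1, 3, 1, 2, 1, 2, 1, 3, 3, 1, 3, 1, 5, 5, 5, 5, 4, 6, 4, 5]) (.leaf 47 17 [1, 2, 1, 2, 2, 1, 5, 5, 5, 4, 6, 6, 4, 2, 2, 1, 2, 1, 3, 1, 2, 2, 1, 2, 2, 1, 3, 3, 1, 3])))) (.node 804 (.node 802 (.leaf 227 14 [1, 3, 1, 2, 1, 2, 1, 3, 1, 3, 1, 3, 1, 4, 5, 5, 5, 4, 6, 6, 4, 2, 2, 1, 2, 2, 1, 3, 1, 3, 1, 3, 1, 2, 2]) (.node 803 (.leaf 344 14 [2, 1, 2, 1, 3, 1, 3, 3, 1, 3, 3, 1, 3, 3, 4, 6, 6, 4, 5, 5, 4, 6, 6, 2, 2, 1, 3, 3, 1, 2, 1, 3, 3, 1, 3, 3, 1]) (.leaf 369 0 [2, 1, 2, 2, 1, 2, 1, 2, 1, 2, 1, 2, 2, 1, 2, 1, 3, 1, 3, 3, 1, 3, 3, 1, 3, 1, 3, 3, 4, 5, 5, 4, 6, 4]))) (.node 805 (.leaf 385 16 [1, 3, 1, 2, 1, 2, 1, 2, 1, 3, 3, 1, 6, 6, 4, 5, 5, 4, 2, 2, 1, 3, 3, 1, 3, 3, 1, 2, 2, 1, 3, 1, 3, 3]) (.node 806 (.leaf 10 34 [3, 3, 1, 3, 3, 3, 1, 3, 3, 3, 1, 3, 3, 3, 1, 3, 3, 3, 1, 3, 3, 3, 1, 3, 3, 3, 1, 3, 3, 3, 1, 3, 3, 3, 1, 3, 3, 3, 1, 3]) (.leaf 106 11 [1, 2, 1, 3, 1, 3, 1, 3, 1, 2, 2, 1, 2, 2, 5, 4, 6, 6, 6, 6, 4, 2, 1, 3, 3, 1, 3, 1, 2, 1, 2, 2])))))) (.node 818 (.node 812 (.node 809 (.node 808 (.leaf 9 9 [2, 2, 2, 1, 2, 2, 2, 1, 2, 2, 2, 1, 2, 2, 2, 1, 2, 2, 2, 1, 2, 2, 2, 1, 2, 2, 2, 1, 2, 2, 2, 1, 2, 2, 2, 1, 2, 2, 2, 1]) (.leaf 109 17 [3, 1, 2, 1, 2, 1, 2, 2, 6, 4, 5, 5, 5, 2, 2, 1, 2, 1, 2, 1, 3, 3, 1, 3, 1, 2, 2, 1, 2, 1])) (.node 810 (.leaf 369 21 [3, 3, 1, 3, 1, 3, 3, 4, 5, 5, 4, 6, 4, 2, 1, 2, 2, 1, 2, 1, 2, 1, 2, 1, 2, 2, 1, 2, 1, 3, 1, 3, 3, 1]) (.node 811 (.leaf 6 6 [1, 3, 1, 3, 1, 3, 1, 3, 1, 3, 1, 3, 1, 3, 1, 3, 1, 3, 1, 3, 1, 3, 1, 3, 1, 3, 1, 3, 1, 3, 1, 3, 1, 3, 1, 3, 1, 3]) (.leaf 216 2 [1, 2, 1, 3, 3, 1, 3, 1, 3, 3, 1, 2, 2, 1, 3, 1, 3, 1, 2, 1, 3, 3, 1, 3, 1, 6, 4, 5, 5, 4, 6, 2, 2])))) (.node 815 (.node 813 (.leaf 262 11 [3, 3, 1, 3, 1, 3, 1, 2, 1, 2, 1, 2, 2, 1, 2, 1, 3, 5, 4, 6, 6, 4, 5, 4, 6, 4, 2, 1, 3, 3, 1, 3, 3, 1, 2, 2, 1]) (.node 814 (.leaf 267 27 [3, 4, 5, 5, 4, 6, 1, 3, 1, 2, 1, 2, 1, 3, 3, 1, 2, 2, 1, 2, 2, 1, 2, 1, 2, 2, 1, 2, 2, 1, 2, 2, 1]) (.leaf 390 31 [6, 6, 6, 2, 1, 3, 1, 2, 2, 1, 3, 1, 2, 2, 1, 2, 1, 2, 1, 3, 3, 1, 2, 1, 3, 3, 1, 2, 1, 2, 2, 1, 5, 4]))) (.node 816 (.leaf 172 28 [6, 6, 4, 5, 4, 6, 4, 1, 3, 3, 1, 3, 1, 2, 1, 2, 2, 1, 2, 1, 2, 2, 1, 2, 1, 2, 1, 2, 2, 1, 3, 3, 1, 3, 4]) (.node 817 (.leaf 109 1 [2, 1, 2, 1, 2, 1, 3, 3, 1, 3, 1, 2, 2, 1, 2, 1, 3, 1, 2, 1, 2, 1, 2, 2, 6, 4, 5, 5, 5, 2]) (.leaf 51 31 [6, 1, 2, 1, 3, 1, 3, 3, 1, 2, 2, 1, 3, 1, 2, 1, 3, 1, 3, 1, 3, 3, 1, 2, 2, 5, 4, 6, 6, 6, 6, 4]))))) (.node 823 (.node 820 (.node 819 (.leaf 106 18 [3, 1, 2, 2, 1, 2, 2, 5, 4, 6, 6, 6, 6, 4, 2, 1, 3, 3, 1, 3, 1, 2, 1, 2, 2, 1, 2, 1, 3, 1, 3, 1]) (.leaf 390 15 [1, 3, 3, 1, 2, 1, 3, 3, 1, 2, 1, 2, 2, 1, 5, 4, 6, 6, 6, 2, 1, 3, 1, 2, 2, 1, 3, 1, 2, 2, 1, 2, 1, 2])) (.node 821 (.leaf 390 23 [1, 2, 1, 2, 2, 1, 5, 4, 6, 6, 6, 2, 1, 3, 1, 2, 2, 1, 3, 1, 2, 2, 1, 2, 1, 2, 1, 3, 3, 1, 2, 1, 3, 3]) (.node 822 (.leaf 54 11 [2, 2, 1, 2, 1, 3, 1, 2, 1, 2, 1, 3, 3, 5, 5, 4, 6, 4, 5, 4, 6, 4, 5, 5, 4, 6, 4, 1, 2, 2, 1, 3, 3, 1, 2, 1, 2, 1]) (.leaf 15 4 [2, 1, 3, 1, 2, 2, 1, 2, 1, 2, 1, 2, 1, 2, 2, 6, 4, 5, 1, 3, 3, 1])))) (.node 826 (.node 824 (.leaf 62 7 [1, 2, 2, 1, 2, 1, 2, 2, 1, 2, 1, 3, 1, 3, 1, 3, 1, 4, 5, 4, 6, 6, 4, 5, 4, 6, 4, 5, 4, 6, 6, 4, 2, 1, 3, 3, 1, 3, 3]) (.node 825 (.leaf 76 33 [5, 4, 6, 1, 2, 1, 3, 1, 2, 1, 2, 1, 3, 3, 1, 2, 2, 1, 3, 1, 2, 2, 1, 2, 2, 1, 2, 2, 6, 4, 5, 4, 6, 6, 4, 5]) (.leaf 328 3 [1, 2, 1, 2, 1, 3, 3, 1, 2, 2, 1, 3, 1, 3, 3, 1, 3, 1, 3, 3, 1, 3, 1, 3, 1, 6, 6, 4, 5, 4, 6, 4, 5, 4, 6, 6, 6, 4, 2, 1, 3]))) (.node 827 (.leaf 18 7 [3, 1, 3, 1, 3, 1, 2, 1, 2, 2, 1, 3, 1, 3, 6, 6, 6, 4, 5, 5, 5, 4, 2, 1, 3, 1, 2, 2, 1]) (.node 828 (.leaf 5 0 [1, 2, 1, 2, 1, 2, 1, 2, 1, 2, 1, 2, 1, 2, 1, 2, 1, 2, 1, 2, 1, 2, 1, 2, 1, 2, 1, 2, 1, 2, 1, 2, 1, 2, 1, 2, 1, 2]) (.leaf 322 13 [3, 1, 2, 1, 2, 1, 3, 1, 3, 3, 1, 3, 3, 1, 3, 6, 6, 4, 5, 5, 1, 3, 1, 2, 2, 1, 3, 1, 3, 1, 3, 3, 1]))))))) (.node 851 (.node 840 (.node 834 (.node 831 (.node 830 (.leaf 59 1 [1, 2, 1, 3, 1, 3, 3, 1, 3, 3, 1, 2, 1, 3, 3, 1, 2, 2, 1, 2, 1, 3, 3, 5, 5, 4, 6, 6, 6, 4, 2]) (.leaf 257 20 [2, 1, 3, 1, 3, 3, 1, 6, 6, 4, 5, 4, 1, 2, 2, 1, 3, 1, 3, 1, 3, 3, 1, 3, 1, 2, 2, 1, 2, 1, 2, 1])) (.node 832 (.leaf 22 20 [3, 1, 5, 5, 4, 6, 4, 5, 4, 3, 3, 1, 2, 1, 2, 1, 2, 1, 2, 2, 1, 3, 1, 2, 2, 1, 2, 2, 1]) (.node 833 (.leaf 143 8 [1, 3, 3, 1, 2, 1, 3, 3, 1, 3, 3, 1, 3, 3, 1, 3, 1, 3, 4, 6, 4, 5, 5, 5, 5, 4, 3, 3, 1, 2, 2, 1, 2, 2]) (.leaf 216 10 [3, 3, 1, 2, 2, 1, 3, 1, 3, 1, 2, 1, 3, 3, 1, 3, 1, 6, 4, 5, 5, 4, 6, 2, 2, 1, 2, 1, 3, 3, 1, 3, 1])))) (.node 837 (.node 835 (.leaf 189 3 [2, 1, 3, 3, 1, 3, 1, 3, 1, 2, 1, 3, 3, 1, 3, 3, 1, 2, 2, 1, 3, 3, 1, 3, 4, 5, 5, 5, 4, 6, 6, 6, 4, 5, 1, 3, 1]) (.node 836 (.leaf 24 15 [2, 1, 3, 3, 1, 3, 1, 5, 5, 5, 5, 4, 6, 4, 5, 5, 1, 2, 1, 3, 1, 3, 3, 1, 3, 3, 1, 3, 1, 2, 1]) (.leaf 53 34 [4, 1, 2, 2, 1, 2, 1, 2, 2, 1, 2, 1, 2, 2, 1, 3, 1, 3, 1, 2, 1, 3, 3, 1, 3, 5, 4, 5, 5, 5, 4, 6, 6, 4, 5]))) (.node 838 (.leaf 298 15 [3, 1, 2, 1, 3, 1, 3, 1, 2, 1, 3, 3, 1, 4, 5, 5, 5, 4, 6, 6, 4, 5, 1, 3, 3, 1, 3, 1, 3, 3, 1, 3, 3, 1, 2, 1, 3]) (.node 839 (.leaf 334 15 [3, 3, 1, 2, 1, 2, 1, 2, 2, 1, 3, 1, 3, 4, 5, 5, 4, 6, 4, 5, 4, 6, 4, 5, 4, 3, 3, 1, 2, 1, 2, 1, 2, 1, 3, 3, 1, 2, 2, 1]) (.leaf 351 19 [3, 1, 2, 1, 2, 2, 1, 3, 1, 5, 5, 5, 4, 6, 4, 5, 4, 6, 4, 5, 4, 2, 2, 1, 3, 3, 1, 3, 3, 1, 2, 1, 3, 1, 2, 1, 3, 3, 1, 3]))))) (.node 845 (.node 842 (.node 841 (.leaf 381 39 [4, 2, 2, 1, 2, 1, 2, 1, 3, 1, 3, 3, 1, 3, 1, 2, 1, 3, 3, 1, 2, 2, 1, 2, 1, 3, 1, 3, 3, 4, 5, 5, 4, 6, 4, 5, 5, 4, 6, 6]) (.leaf 385 28 [6, 6, 4, 5, 5, 4, 2, 2, 1, 3, 3, 1, 3, 3, 1, 2, 2, 1, 3, 1, 3, 3, 1, 3, 1, 2, 1, 2, 1, 2, 1, 3, 3, 1])) (.node 843 (.leaf 95 33 [5, 1, 2, 2, 1, 2, 1, 2, 1, 2, 2, 1, 2, 1, 3, 1, 3, 3, 1, 3, 1, 3, 1, 3, 3, 1, 6, 6, 4, 5, 4, 6, 4, 5]) (.node 844 (.leaf 181 15 [3, 3, 1, 2, 1, 3, 1, 3, 1, 3, 1, 3, 4, 5, 5, 4, 6, 4, 1, 3, 1, 2, 2, 1, 3, 1, 2, 1, 3, 3, 1, 2, 1]) (.leaf 138 28 [5, 5, 4, 6, 4, 1, 3, 1, 3, 1, 2, 2, 1, 3, 3, 1, 3, 3, 1, 3, 1, 3, 3, 1, 2, 1, 2, 2, 1, 2, 2, 6, 4])))) (.node 848 (.node 846 (.leaf 237 6 [2, 2, 1, 2, 2, 1, 3, 1, 2, 1, 2, 2, 1, 2, 2, 1, 2, 2, 1, 3, 3, 6, 4, 5, 5, 4, 6, 1, 3, 1, 2, 2, 1]) (.node 847 (.leaf 390 24 [2, 1, 2, 2, 1, 5, 4, 6, 6, 6, 2, 1, 3, 1, 2, 2, 1, 3, 1, 2, 2, 1, 2, 1, 2, 1, 3, 3, 1, 2, 1, 3, 3, 1]) (.leaf 185 38 [5, 5, 4, 1, 3, 3, 1, 3, 3, 1, 2, 1, 2, 2, 1, 2, 2, 1, 2, 1, 3, 1, 3, 1, 2, 1, 3, 1, 3, 1, 5, 5, 4, 6, 4, 5, 5, 4, 6, 4, 5]))) (.node 849 (.leaf 216 7 [1, 3, 1, 3, 3, 1, 2, 2, 1, 3, 1, 3, 1, 2, 1, 3, 3, 1, 3, 1, 6, 4, 5, 5, 4, 6, 2, 2, 1, 2, 1, 3, 3]) (.node 850 (.leaf 340 24 [3, 1, 3, 3, 6, 6, 4, 5, 5, 4, 6, 4, 5, 5, 5, 4, 6, 1, 3, 1, 3, 3, 1, 3, 3, 1, 2, 2, 1, 3, 3, 1, 2, 2, 1, 3, 1, 2, 1, 2, 1]) (.leaf 172 9 [2, 1, 2, 1, 2, 2, 1, 2, 1, 2, 1, 2, 2, 1, 3, 3, 1, 3, 4, 6, 6, 4, 5, 4, 6, 4, 1, 3, 3, 1, 3, 1, 2, 1, 2])))))) (.node 862 (.node 856 (.node 853 (.node 852 (.leaf 376 35 [6, 1, 3, 1, 3, 1, 3, 1, 3, 3, 1, 2, 2, 1, 2, 1, 3, 1, 3, 1, 3, 3, 1, 2, 1, 3, 1, 2, 1, 6, 4, 5, 5, 4, 6, 6]) (.leaf 309 38 [6, 4, 6, 3, 3, 1, 2, 2, 1, 3, 1, 2, 1, 2, 2, 1, 2, 1, 2, 2, 1, 3, 3, 1, 2, 2, 1, 3, 3, 1, 3, 6, 4, 5, 4, 6, 4, 5, 4, 6, 6])) (.node 854 (.leaf 27 31 [5, 4, 1, 2, 1, 2, 2, 1, 3, 3, 1, 3, 1, 2, 1, 3, 1, 2, 2, 1, 2, 1, 2, 2, 4, 6, 4, 5, 5, 4, 6, 4, 5]) (.node 855 (.leaf 13 19 [6, 4, 5, 4, 6, 6, 4, 5, 4, 5, 1, 3, 3, 1, 2, 1, 2, 1, 2, 1, 2, 2, 1, 3, 3, 1, 2, 1, 4]) (.leaf 21 34 [6, 2, 1, 2, 1, 2, 1, 3, 3, 1, 2, 2, 1, 2, 2, 1, 2, 1, 3, 3, 1, 2, 2, 4, 5, 4, 6, 6, 4, 5, 4, 6, 6, 6, 4])))) (.node 859 (.node 857 (.leaf 369 23 [1, 3, 1, 3, 3, 4, 5, 5, 4, 6, 4, 2, 1, 2, 2, 1, 2, 1, 2, 1, 2, 1, 2, 2, 1, 2, 1, 3, 1, 3, 3, 1, 3, 3]) (.node 858 (.leaf 172 33 [6, 4, 1, 3, 3, 1, 3, 1, 2, 1, 2, 2, 1, 2, 1, 2, 2, 1, 2, 1, 2, 1, 2, 2, 1, 3, 3, 1, 3, 4, 6, 6, 4, 5, 4]) (.leaf 380 16 [3, 3, 1, 2, 1, 2, 1, 3, 1, 3, 1, 3, 4, 6, 4, 5, 5, 4, 6, 4, 5, 4, 6, 4, 1, 3, 3, 1, 3, 1, 2, 1, 3, 3, 1, 3, 3, 1, 2, 1]))) (.node 860 (.leaf 125 1 [1, 3, 3, 1, 2, 2, 1, 3, 1, 2, 1, 2, 2, 1, 2, 1, 2, 1, 3, 3, 1, 2, 1, 2, 1, 4, 6, 6, 4, 5, 4, 6, 6, 4, 5, 4, 6, 4, 5, 2]) (.node 861 (.leaf 193 38 [4, 1, 2, 1, 3, 3, 1, 3, 3, 1, 3, 1, 2, 1, 2, 1, 2, 1, 2, 1, 3, 1, 3, 3, 1, 2, 2, 1, 4, 6, 4, 5, 4, 6, 6, 4, 5, 5, 5]) (.leaf 70 13 [2, 1, 3, 1, 2, 1, 3, 1, 2, 1, 2, 1, 6, 4, 5, 5, 5, 4, 5, 1, 2, 1, 2, 1, 3, 1, 2, 1, 3, 1, 3, 1]))))) (.node 867 (.node 864 (.node 863 (.leaf 8 25 [3, 3, 1, 3, 3, 1, 3, 3, 1, 3, 3, 1, 3, 3, 1, 3, 3, 1, 3, 3, 1, 3, 3, 1, 3, 3, 1, 3, 3, 1]) (.leaf 267 19 [2, 1, 2, 2, 1, 2, 2, 1, 3, 4, 5, 5, 4, 6, 1, 3, 1, 2, 1, 2, 1, 3, 3, 1, 2, 2, 1, 2, 2, 1, 2, 1, 2])) (.node 865 (.leaf 322 4 [2, 1, 3, 1, 3, 1, 3, 3, 1, 3, 1, 2, 1, 2, 1, 3, 1, 3, 3, 1, 3, 3, 1, 3, 6, 6, 4, 5, 5, 1, 3, 1, 2]) (.node 866 (.leaf 66 31 [6, 6, 4, 5, 5, 1, 3, 3, 1, 2, 1, 3, 1, 3, 3, 1, 2, 2, 1, 2, 1, 3, 3, 1, 2, 2, 1, 2, 2, 5, 5, 4, 6, 4, 5, 4]) (.leaf 124 40 [6, 2, 1, 3, 3, 1, 2, 1, 2, 1, 3, 1, 2, 2, 1, 3, 3, 1, 2, 1, 3, 1, 2, 1, 3, 3, 1, 5, 4, 6, 6, 4, 5, 5, 4, 6, 4, 5, 5, 5, 4])))) (.node 870 (.node 868 (.leaf 216 12 [1, 2, 2, 1, 3, 1, 3, 1, 2, 1, 3, 3, 1, 3, 1, 6, 4, 5, 5, 4, 6, 2, 2, 1, 2, 1, 3, 3, 1, 3, 1, 3, 3]) (.node 869 (.leaf 369 24 [3, 1, 3, 3, 4, 5, 5, 4, 6, 4, 2, 1, 2, 2, 1, 2, 1, 2, 1, 2, 1, 2, 2, 1, 2, 1, 3, 1, 3, 3, 1, 3, 3, 1]) (.leaf 143 9 [3, 3, 1, 2, 1, 3, 3, 1, 3, 3, 1, 3, 3, 1, 3, 1, 3, 4, 6, 4, 5, 5, 5, 5, 4, 3, 3, 1, 2, 2, 1, 2, 2, 1]))) (.node 871 (.leaf 237 31 [4, 6, 1, 3, 1, 2, 2, 1, 2, 2, 1, 2, 2, 1, 3, 1, 2, 1, 2, 2, 1, 2, 2, 1, 2, 2, 1, 3, 3, 6, 4, 5, 5]) (.node 872 (.leaf 22 16 [1, 2, 2, 1, 3, 1, 5, 5, 4, 6, 4, 5, 4, 3, 3, 1, 2, 1, 2, 1, 2, 1, 2, 2, 1, 3, 1, 2, 2]) (.leaf 167 28 [4, 6, 6, 4, 5, 5, 5, 1, 3, 1, 3, 1, 3, 1, 2, 1, 3, 1, 2, 1, 2, 1, 2, 1, 2, 2, 1, 3, 1, 3, 3, 1, 3, 1, 5]))))))))) (.node 960 (.node 916 (.node 894 (.node 883 (.node 878 (.node 875 (.node 874 (.leaf 236 16 [1, 3, 3, 1, 3, 1, 2, 1, 3, 3, 1, 4, 6, 6, 4, 5, 4, 6, 6, 6, 4, 5, 5, 1, 3, 1, 3, 3, 1, 2, 1, 3, 1, 3, 3, 1, 2, 1, 2]) (.leaf 267 24 [2, 2, 1, 3, 4, 5, 5, 4, 6, 1, 3, 1, 2, 1, 2, 1, 3, 3, 1, 2, 2, 1, 2, 2, 1, 2, 1, 2, 2, 1, 2, 2, 1])) (.node 876 (.leaf 385 8 [1, 2, 2, 1, 3, 1, 3, 3, 1, 3, 1, 2, 1, 2, 1, 2, 1, 3, 3, 1, 6, 6, 4, 5, 5, 4, 2, 2, 1, 3, 3, 1, 3, 3]) (.node 877 (.leaf 106 15 [1, 3, 1, 3, 1, 2, 2, 1, 2, 2, 5, 4, 6, 6, 6, 6, 4, 2, 1, 3, 3, 1, 3, 1, 2, 1, 2, 2, 1, 2, 1, 3]) (.leaf 209 15 [2, 1, 2, 2, 1, 2, 1, 3, 1, 3, 1, 3, 4, 5, 5, 4, 6, 4, 5, 5, 4, 6, 4, 5, 5, 2, 1, 2, 1, 3, 3, 1, 2, 1, 2, 2, 1, 2, 1, 2])))) (.node 880 (.node 879 (.leaf 267 6 [1, 3, 3, 1, 2, 2, 1, 2, 2, 1, 2, 1, 2, 2, 1, 2, 2, 1, 2, 2, 1, 3, 4, 5, 5, 4, 6, 1, 3, 1, 2, 1, 2]) (.leaf 257 2 [2, 1, 3, 1, 3, 1, 3, 3, 1, 3, 1, 2, 2, 1, 2, 1, 2, 1, 2, 1, 3, 1, 3, 3, 1, 6, 6, 4, 5, 4, 1, 2])) (.node 881 (.leaf 47 24 [5, 5, 4, 6, 6, 4, 2, 2, 1, 2, 1, 3, 1, 2, 2, 1, 2, 2, 1, 3, 3, 1, 3, 1, 2, 1, 2, 2, 1, 5]) (.node 882 (.leaf 151 15 [1, 2, 2, 1, 3, 1, 2, 2, 1, 2, 2, 5, 5, 4, 6, 6, 4, 5, 2, 1, 3, 3, 1, 3, 3, 1, 3, 1, 2, 2, 1, 2, 2]) (.leaf 227 21 [3, 1, 3, 1, 3, 1, 4, 5, 5, 5, 4, 6, 6, 4, 2, 2, 1, 2, 2, 1, 3, 1, 3, 1, 3, 1, 2, 2, 1, 3, 1, 2, 1, 2, 1]))))) (.node 888 (.node 885 (.node 884 (.leaf 267 23 [1, 2, 2, 1, 3, 4, 5, 5, 4, 6, 1, 3, 1, 2, 1, 2, 1, 3, 3, 1, 2, 2, 1, 2, 2, 1, 2, 1, 2, 2, 1, 2, 2]) (.leaf 167 8 [1, 3, 1, 2, 1, 2, 1, 2, 1, 2, 2, 1, 3, 1, 3, 3, 1, 3, 1, 5, 4, 6, 6, 4, 5, 5, 5, 1, 3, 1, 3, 1, 3, 1, 2])) (.node 886 (.leaf 269 41 [6, 4, 2, 1, 3, 1, 2, 1, 2, 2, 1, 3, 1, 3, 1, 2, 1, 2, 2, 1, 3, 1, 2, 1, 3, 3, 1, 2, 1, 3, 5, 5, 4, 6, 6, 4, 5, 4, 6, 4, 5, 5, 4]) (.node 887 (.leaf 277 3 [1, 2, 2, 1, 2, 1, 2, 1, 2, 1, 3, 1, 2, 1, 3, 1, 2, 1, 2, 1, 3, 3, 1, 2, 2, 5, 5, 4, 6, 6, 4, 5, 5, 1, 2, 2]) (.leaf 312 28 [5, 4, 6, 4, 5, 4, 6, 4, 5, 5, 4, 6, 4, 2, 1, 2, 1, 3, 3, 1, 3, 3, 1, 3, 1, 2, 2, 1, 2, 1, 2, 1, 2, 2, 1, 3, 1, 2, 2, 1, 3])))) (.node 891 (.node 889 (.leaf 69 36 [6, 4, 5, 4, 3, 3, 1, 2, 1, 3, 1, 3, 3, 1, 2, 2, 1, 2, 1, 3, 1, 3, 1, 3, 3, 1, 3, 3, 5, 5, 4, 6, 4, 5, 4, 6, 4, 5, 4, 6]) (.node 890 (.leaf 262 23 [2, 1, 2, 1, 3, 5, 4, 6, 6, 4, 5, 4, 6, 4, 2, 1, 3, 3, 1, 3, 3, 1, 2, 2, 1, 3, 3, 1, 3, 1, 3, 1, 2, 1, 2, 1, 2]) (.leaf 265 22 [3, 3, 1, 2, 1, 3, 5, 4, 6, 4, 5, 4, 6, 4, 5, 5, 4, 6, 6, 3, 3, 1, 2, 2, 1, 2, 1, 3, 1, 2, 1, 2, 2, 1, 2, 1, 3, 3, 1, 2, 1]))) (.node 892 (.leaf 6 36 [1, 3, 1, 3, 1, 3, 1, 3, 1, 3, 1, 3, 1, 3, 1, 3, 1, 3, 1, 3, 1, 3, 1, 3, 1, 3, 1, 3, 1, 3, 1, 3, 1, 3, 1, 3, 1, 3]) (.node 893 (.leaf 10 7 [3, 1, 3, 3, 3, 1, 3, 3, 3, 1, 3, 3, 3, 1, 3, 3, 3, 1, 3, 3, 3, 1, 3, 3, 3, 1, 3, 3, 3, 1, 3, 3, 3, 1, 3, 3, 3, 1, 3, 3]) (.leaf 174 27 [5, 5, 5, 5, 4, 3, 3, 1, 3, 1, 2, 2, 1, 3, 3, 1, 2, 2, 1, 3, 3, 1, 2, 1, 2, 1, 2, 1, 2, 1, 3, 1])))))) (.node 905 (.node 899 (.node 896 (.node 895 (.leaf 59 17 [2, 2, 1, 2, 1, 3, 3, 5, 5, 4, 6, 6, 6, 4, 2, 1, 2, 1, 3, 1, 3, 3, 1, 3, 3, 1, 2, 1, 3, 3, 1]) (.leaf 47 3 [2, 1, 3, 1, 2, 2, 1, 2, 2, 1, 3, 3, 1, 3, 1, 2, 1, 2, 2, 1, 5, 5, 5, 4, 6, 6, 4, 2, 2, 1])) (.node 897 (.leaf 50 25 [6, 4, 5, 5, 5, 5, 1, 3, 3, 1, 2, 1, 3, 3, 1, 2, 2, 1, 2, 1, 3, 3, 1, 3, 3, 1, 2, 2, 1, 3, 4]) (.node 898 (.leaf 86 13 [3, 3, 1, 2, 2, 1, 2, 1, 2, 1, 2, 2, 4, 5, 5, 4, 6, 4, 5, 5, 5, 4, 6, 6, 1, 3, 1, 3, 1, 3, 3, 1, 2, 2, 1, 2, 1]) (.leaf 117 4 [2, 1, 2, 1, 3, 1, 3, 3, 1, 2, 1, 3, 1, 2, 1, 3, 3, 1, 3, 3, 1, 3, 5, 5, 5, 5, 4, 6, 3, 3, 1, 2])))) (.node 902 (.node 900 (.leaf 230 28 [5, 4, 6, 6, 4, 5, 5, 5, 4, 1, 2, 1, 3, 1, 3, 1, 3, 1, 2, 2, 1, 2, 1, 2, 2, 1, 2, 1, 3, 1, 2, 1, 2, 2, 1, 3, 4]) (.node 901 (.leaf 379 20 [2, 1, 2, 1, 2, 1, 3, 1, 4, 6, 4, 5, 5, 5, 4, 6, 3, 3, 1, 2, 1, 2, 1, 3, 1, 2, 1, 3, 1, 2, 2, 1, 2, 1, 2, 1]) (.leaf 237 27 [6, 4, 5, 5, 4, 6, 1, 3, 1, 2, 2, 1, 2, 2, 1, 2, 2, 1, 3, 1, 2, 1, 2, 2, 1, 2, 2, 1, 2, 2, 1, 3, 3]))) (.node 903 (.leaf 47 13 [3, 3, 1, 3, 1, 2, 1, 2, 2, 1, 5, 5, 5, 4, 6, 6, 4, 2, 2, 1, 2, 1, 3, 1, 2, 2, 1, 2, 2, 1]) (.node 904 (.leaf 227 6 [3, 1, 3, 1, 3, 1, 2, 2, 1, 3, 1, 2, 1, 2, 1, 3, 1, 3, 1, 3, 1, 4, 5, 5, 5, 4, 6, 6, 4, 2, 2, 1, 2, 2, 1]) (.leaf 68 32 [5, 1, 2, 1, 2, 1, 2, 1, 3, 3, 1, 3, 1, 2, 2, 1, 3, 1, 2, 1, 2, 2, 1, 3, 3, 4, 5, 4, 5, 5, 5, 5, 4]))))) (.node 910 (.node 907 (.node 906 (.leaf 181 9 [1, 3, 3, 1, 2, 1, 3, 3, 1, 2, 1, 3, 1, 3, 1, 3, 1, 3, 4, 5, 5, 4, 6, 4, 1, 3, 1, 2, 2, 1, 3, 1, 2]) (.leaf 290 28 [5, 4, 6, 6, 6, 4, 5, 5, 5, 4, 1, 2, 1, 2, 2, 1, 3, 1, 3, 3, 1, 3, 1, 2, 2, 1, 2, 2, 1, 3, 3, 1, 3, 1, 3, 1, 3, 3])) (.node 908 (.leaf 267 10 [2, 2, 1, 2, 2, 1, 2, 1, 2, 2, 1, 2, 2, 1, 2, 2, 1, 3, 4, 5, 5, 4, 6, 1, 3, 1, 2, 1, 2, 1, 3, 3, 1]) (.node 909 (.leaf 356 4 [3, 1, 3, 1, 3, 1, 2, 1, 3, 3, 1, 3, 3, 1, 2, 1, 3, 1, 3, 1, 2, 1, 2, 2, 6, 4, 5, 4, 6, 4, 5, 4, 6, 6, 6, 1, 2, 2, 1]) (.leaf 151 27 [5, 4, 6, 6, 4, 5, 2, 1, 3, 3, 1, 3, 3, 1, 3, 1, 2, 2, 1, 2, 2, 1, 2, 2, 1, 3, 1, 2, 2, 1, 2, 2, 5])))) (.node 913 (.node 911 (.leaf 80 0 [3, 3, 1, 2, 1, 3, 1, 3, 1, 2, 1, 2, 2, 1, 2, 1, 3, 1, 2, 1, 3, 1, 2, 2, 1, 5, 4, 6, 4, 5, 5, 4, 6]) (.node 912 (.leaf 390 11 [1, 2, 1, 2, 1, 3, 3, 1, 2, 1, 3, 3, 1, 2, 1, 2, 2, 1, 5, 4, 6, 6, 6, 2, 1, 3, 1, 2, 2, 1, 3, 1, 2, 2]) (.leaf 238 17 [2, 2, 1, 2, 1, 3, 1, 3, 3, 1, 4, 5, 4, 6, 6, 4, 5, 5, 4, 6, 6, 2, 1, 2, 1, 3, 1, 3, 3, 1, 3, 1, 3, 1, 2, 1, 2, 1]))) (.node 914 (.leaf 322 27 [3, 6, 6, 4, 5, 5, 1, 3, 1, 2, 2, 1, 3, 1, 3, 1, 3, 3, 1, 3, 1, 2, 1, 2, 1, 3, 1, 3, 3, 1, 3, 3, 1]) (.node 915 (.leaf 167 9 [3, 1, 2, 1, 2, 1, 2, 1, 2, 2, 1, 3, 1, 3, 3, 1, 3, 1, 5, 4, 6, 6, 4, 5, 5, 5, 1, 3, 1, 3, 1, 3, 1, 2, 1]) (.leaf 71 25 [6, 6, 6, 4, 5, 4, 6, 6, 4, 5, 5, 5, 2, 1, 2, 1, 2, 1, 3, 1, 2, 1, 2, 2, 1, 3, 3, 1, 3, 3, 1, 2, 2, 1, 3, 1, 3]))))))) (.node 938 (.node 927 (.node 921 (.node 918 (.node 917 (.leaf 74 6 [1, 3, 1, 2, 1, 2, 1, 3, 1, 2, 1, 2, 2, 1, 3, 3, 1, 3, 3, 5, 5, 4, 6, 6, 4, 2, 1, 3, 3, 1, 2]) (.leaf 230 21 [2, 1, 2, 2, 1, 3, 4, 5, 4, 6, 6, 4, 5, 5, 5, 4, 1, 2, 1, 3, 1, 3, 1, 3, 1, 2, 2, 1, 2, 1, 2, 2, 1, 2, 1, 3, 1])) (.node 919 (.leaf 294 3 [3, 3, 1, 2, 1, 3, 3, 1, 3, 1, 3, 1, 3, 1, 3, 1, 3, 3, 1, 3, 1, 2, 1, 2, 2, 6, 6, 6, 4, 5, 4, 6, 6, 4, 5, 2, 2, 1]) (.node 920 (.leaf 109 21 [2, 1, 2, 2, 6, 4, 5, 5, 5, 2, 2, 1, 2, 1, 2, 1, 3, 3, 1, 3, 1, 2, 2, 1, 2, 1, 3, 1, 2, 1]) (.leaf 5 3 [2, 1, 2, 1, 2, 1, 2, 1, 2, 1, 2, 1, 2, 1, 2, 1, 2, 1, 2, 1, 2, 1, 2, 1, 2, 1, 2, 1, 2, 1, 2, 1, 2, 1, 2, 1, 2, 1])))) (.node 924 (.node 922 (.leaf 237 23 [2, 1, 3, 3, 6, 4, 5, 5, 4, 6, 1, 3, 1, 2, 2, 1, 2, 2, 1, 2, 2, 1, 3, 1, 2, 1, 2, 2, 1, 2, 2, 1, 2]) (.node 923 (.leaf 262 20 [2, 1, 2, 2, 1, 2, 1, 3, 5, 4, 6, 6, 4, 5, 4, 6, 4, 2, 1, 3, 3, 1, 3, 3, 1, 2, 2, 1, 3, 3, 1, 3, 1, 3, 1, 2, 1]) (.leaf 237 1 [3, 1, 2, 2, 1, 2, 2, 1, 2, 2, 1, 3, 1, 2, 1, 2, 2, 1, 2, 2, 1, 2, 2, 1, 3, 3, 6, 4, 5, 5, 4, 6, 1]))) (.node 925 (.leaf 267 11 [2, 1, 2, 2, 1, 2, 1, 2, 2, 1, 2, 2, 1, 2, 2, 1, 3, 4, 5, 5, 4, 6, 1, 3, 1, 2, 1, 2, 1, 3, 3, 1, 2]) (.node 926 (.leaf 315 40 [6, 2, 2, 1, 3, 1, 3, 1, 2, 1, 3, 3, 1, 3, 1, 2, 1, 2, 1, 2, 1, 2, 2, 1, 2, 1, 2, 1, 3, 6, 4, 5, 5, 4, 6, 4, 5, 5, 4, 6, 4]) (.leaf 259 34 [6, 4, 6, 1, 2, 1, 2, 1, 2, 2, 1, 3, 1, 3, 1, 2, 2, 1, 2, 1, 3, 3, 1, 3, 1, 3, 1, 3, 1, 2, 1, 6, 4, 5, 4, 6, 6]))))) (.node 932 (.node 929 (.node 928 (.leaf 34 28 [6, 4, 5, 4, 2, 2, 1, 2, 2, 1, 3, 1, 3, 1, 2, 1, 2, 1, 2, 2, 1, 2, 1, 3, 1, 2, 2, 4, 5, 5, 5, 4]) (.leaf 109 13 [2, 1, 2, 1, 3, 1, 2, 1, 2, 1, 2, 2, 6, 4, 5, 5, 5, 2, 2, 1, 2, 1, 2, 1, 3, 3, 1, 3, 1, 2])) (.node 930 (.leaf 111 40 [6, 1, 2, 2, 1, 2, 1, 2, 1, 3, 1, 3, 1, 2, 1, 2, 1, 3, 1, 3, 3, 1, 3, 3, 1, 2, 1, 4, 6, 4, 5, 5, 5, 5, 4, 6, 4, 5, 5, 5, 4]) (.node 931 (.leaf 119 13 [1, 3, 3, 1, 3, 1, 3, 1, 3, 1, 3, 3, 1, 4, 6, 6, 4, 5, 5, 5, 4, 5, 1, 3, 3, 1, 3, 1, 2, 2, 1, 2, 1, 2, 2]) (.leaf 258 24 [3, 1, 3, 3, 6, 4, 5, 5, 5, 5, 4, 6, 4, 5, 5, 5, 4, 6, 2, 1, 3, 3, 1, 3, 1, 2, 1, 2, 1, 2, 1, 2, 1, 2, 1, 3, 1, 3, 3, 1, 3, 1])))) (.node 935 (.node 933 (.leaf 324 19 [2, 2, 1, 2, 1, 2, 1, 2, 2, 5, 5, 5, 5, 4, 6, 4, 5, 5, 5, 4, 2, 2, 1, 2, 2, 1, 2, 1, 2, 1, 2, 2, 1, 3, 1, 3, 1, 3, 1]) (.node 934 (.leaf 327 43 [4, 2, 2, 1, 2, 1, 2, 2, 1, 2, 1, 3, 1, 2, 1, 3, 3, 1, 2, 1, 2, 1, 3, 1, 2, 2, 1, 3, 1, 4, 6, 4, 5, 5, 5, 5, 4, 6, 4, 5, 5, 5, 4, 6]) (.leaf 322 0 [1, 3, 1, 2, 2, 1, 3, 1, 3, 1, 3, 3, 1, 3, 1, 2, 1, 2, 1, 3, 1, 3, 3, 1, 3, 3, 1, 3, 6, 6, 4, 5, 5]))) (.node 936 (.leaf 109 9 [1, 3, 1, 2, 2, 1, 2, 1, 3, 1, 2, 1, 2, 1, 2, 2, 6, 4, 5, 5, 5, 2, 2, 1, 2, 1, 2, 1, 3, 3]) (.node 937 (.leaf 143 32 [5, 4, 3, 3, 1, 2, 2, 1, 2, 2, 1, 3, 3, 1, 2, 1, 3, 3, 1, 3, 3, 1, 3, 3, 1, 3, 1, 3, 4, 6, 4, 5, 5, 5]) (.leaf 13 12 [1, 3, 3, 1, 2, 1, 4, 6, 4, 5, 4, 6, 6, 4, 5, 4, 5, 1, 3, 3, 1, 2, 1, 2, 1, 2, 1, 2, 2])))))) (.node 949 (.node 943 (.node 940 (.node 939 (.leaf 354 24 [1, 3, 3, 1, 6, 6, 6, 1, 2, 1, 2, 1, 3, 3, 1, 2, 2, 1, 2, 1, 2, 1, 3, 1, 3, 1, 3, 3, 1, 2, 2]) (.leaf 117 10 [3, 3, 1, 2, 1, 3, 1, 2, 1, 3, 3, 1, 3, 3, 1, 3, 5, 5, 5, 5, 4, 6, 3, 3, 1, 2, 2, 1, 2, 1, 3, 1])) (.node 941 (.leaf 267 8 [3, 1, 2, 2, 1, 2, 2, 1, 2, 1, 2, 2, 1, 2, 2, 1, 2, 2, 1, 3, 4, 5, 5, 4, 6, 1, 3, 1, 2, 1, 2, 1, 3]) (.node 942 (.leaf 21 2 [2, 1, 2, 1, 3, 3, 1, 2, 2, 1, 2, 2, 1, 2, 1, 3, 3, 1, 2, 2, 4, 5, 4, 6, 6, 4, 5, 4, 6, 6, 6, 4, 6, 2, 1]) (.leaf 233 2 [2, 1, 3, 1, 3, 1, 2, 1, 3, 1, 2, 1, 2, 2, 1, 2, 1, 2, 1, 2, 2, 1, 2, 1, 3, 5, 4, 6, 6, 4, 5, 4, 6, 6, 2, 1])))) (.node 946 (.node 944 (.leaf 53 24 [5, 4, 5, 5, 5, 4, 6, 6, 4, 5, 4, 1, 2, 2, 1, 2, 1, 2, 2, 1, 2, 1, 2, 2, 1, 3, 1, 3, 1, 2, 1, 3, 3, 1, 3]) (.node 945 (.leaf 9 1 [2, 2, 2, 1, 2, 2, 2, 1, 2, 2, 2, 1, 2, 2, 2, 1, 2, 2, 2, 1, 2, 2, 2, 1, 2, 2, 2, 1, 2, 2, 2, 1, 2, 2, 2, 1, 2, 2, 2, 1]) (.leaf 70 31 [5, 1, 2, 1, 2, 1, 3, 1, 2, 1, 3, 1, 3, 1, 2, 1, 3, 1, 2, 1, 3, 1, 2, 1, 2, 1, 6, 4, 5, 5, 5, 4]))) (.node 947 (.leaf 18 6 [1, 3, 1, 3, 1, 3, 1, 2, 1, 2, 2, 1, 3, 1, 3, 6, 6, 6, 4, 5, 5, 5, 4, 2, 1, 3, 1, 2, 2]) (.node 948 (.leaf 32 10 [3, 1, 2, 2, 1, 2, 1, 2, 1, 2, 1, 3, 1, 4, 6, 4, 5, 5, 5, 4, 6, 6, 4, 5, 4, 1, 3, 3, 1, 3, 1, 2, 2, 1, 3]) (.leaf 83 20 [2, 1, 2, 2, 1, 6, 6, 6, 4, 5, 5, 5, 4, 6, 1, 2, 1, 2, 1, 3, 1, 3, 1, 3, 3, 1, 2, 1, 2, 1, 3, 1, 2, 1]))))) (.node 954 (.node 951 (.node 950 (.leaf 130 5 [2, 1, 3, 3, 1, 2, 1, 2, 1, 3, 1, 3, 1, 3, 1, 2, 1, 3, 1, 3, 1, 6, 6, 4, 5, 5, 5, 4, 2, 2, 1, 2, 1]) (.leaf 266 13 [2, 1, 3, 1, 3, 3, 1, 2, 1, 2, 1, 3, 1, 3, 3, 6, 6, 4, 5, 5, 5, 4, 6, 6, 2, 1, 2, 1, 2, 1, 3, 1, 2, 1, 2, 1, 2])) (.node 952 (.leaf 74 14 [1, 2, 1, 2, 2, 1, 3, 3, 1, 3, 3, 5, 5, 4, 6, 6, 4, 2, 1, 3, 3, 1, 2, 1, 3, 1, 2, 1, 2, 1, 3]) (.node 953 (.leaf 181 29 [5, 4, 6, 4, 1, 3, 1, 2, 2, 1, 3, 1, 2, 1, 3, 3, 1, 2, 1, 3, 3, 1, 2, 1, 3, 1, 3, 1, 3, 1, 3, 4, 5]) (.leaf 57 34 [5, 2, 2, 1, 3, 3, 1, 3, 1, 3, 1, 3, 1, 2, 1, 3, 1, 3, 1, 3, 3, 1, 3, 3, 1, 6, 6, 6, 4, 5, 4, 6, 6, 4, 5])))) (.node 957 (.node 955 (.leaf 142 16 [1, 3, 1, 3, 1, 2, 1, 3, 1, 3, 4, 5, 4, 5, 5, 5, 5, 4, 2, 1, 3, 3, 1, 2, 1, 3, 1, 3, 1, 2, 2, 1, 3, 3]) (.node 956 (.leaf 226 14 [1, 2, 1, 2, 2, 1, 2, 2, 1, 2, 1, 3, 3, 6, 4, 5, 4, 6, 4, 5, 5, 5, 2, 2, 1, 2, 2, 1, 3, 1, 3, 3, 1, 3, 1, 2]) (.leaf 38 21 [3, 3, 4, 5, 5, 5, 4, 6, 6, 4, 5, 5, 4, 1, 3, 1, 3, 1, 2, 1, 2, 1, 3, 1, 2, 2, 1, 3, 1, 2, 2, 1, 3, 1]))) (.node 958 (.leaf 7 9 [1, 2, 2, 1, 2, 2, 1, 2, 2, 1, 2, 2, 1, 2, 2, 1, 2, 2, 1, 2, 2, 1, 2, 2, 1, 2, 2, 1, 2, 2]) (.node 959 (.leaf 120 28 [4, 6, 6, 6, 4, 5, 5, 1, 3, 1, 3, 1, 3, 3, 1, 3, 1, 3, 1, 2, 1, 3, 1, 3, 1, 3, 1, 3, 3, 1, 2, 1, 3, 4, 6]) (.leaf 38 24 [5, 5, 5, 4, 6, 6, 4, 5, 5, 4, 1, 3, 1, 3, 1, 2, 1, 2, 1, 3, 1, 2, 2, 1, 3, 1, 2, 2, 1, 3, 1, 3, 3, 4])))))))) (.node 1004 (.node 982 (.node 971 (.node 965 (.node 962 (.node 961 (.leaf 88 36 [4, 2, 2, 1, 2, 2, 1, 3, 3, 1, 3, 1, 2, 2, 1, 3, 1, 3, 1, 3, 1, 3, 3, 1, 2, 1, 5, 4, 6, 4, 5, 5, 4, 6, 6, 4, 5]) (.leaf 104 35 [6, 4, 1, 3, 1, 2, 1, 2, 1, 3, 1, 3, 3, 1, 2, 2, 1, 3, 3, 1, 3, 1, 2, 2, 1, 2, 1, 6, 6, 4, 5, 4, 6, 4, 5, 5, 4])) (.node 963 (.leaf 114 40 [6, 4, 1, 3, 3, 1, 3, 3, 1, 2, 1, 3, 1, 3, 1, 3, 1, 2, 1, 2, 1, 2, 1, 2, 1, 2, 2, 1, 4, 5, 4, 6, 6, 4, 5, 4, 6, 4, 5, 5, 5, 4]) (.node 964 (.leaf 151 32 [5, 2, 1, 3, 3, 1, 3, 3, 1, 3, 1, 2, 2, 1, 2, 2, 1, 2, 2, 1, 3, 1, 2, 2, 1, 2, 2, 5, 5, 4, 6, 6, 4]) (.leaf 203 27 [5, 5, 4, 6, 6, 4, 5, 4, 6, 4, 5, 4, 6, 6, 4, 5, 5, 2, 2, 1, 3, 3, 1, 2, 1, 3, 1, 2, 1, 2, 2, 1, 3, 1, 3, 1, 3, 1, 2, 2, 1, 2, 1, 3])))) (.node 968 (.node 966 (.leaf 266 10 [2, 1, 2, 2, 1, 3, 1, 3, 3, 1, 2, 1, 2, 1, 3, 1, 3, 3, 6, 6, 4, 5, 5, 5, 4, 6, 6, 2, 1, 2, 1, 2, 1, 3, 1, 2, 1]) (.node 967 (.leaf 269 16 [2, 1, 3, 1, 2, 1, 3, 3, 1, 2, 1, 3, 5, 5, 4, 6, 6, 4, 5, 4, 6, 4, 5, 5, 4, 6, 4, 2, 1, 3, 1, 2, 1, 2, 2, 1, 3, 1, 3, 1, 2, 1, 2]) (.leaf 271 5 [2, 1, 2, 1, 3, 1, 2, 1, 2, 1, 3, 1, 2, 1, 2, 2, 1, 3, 1, 2, 1, 3, 1, 4, 5, 4, 6, 4, 5, 4, 6, 4, 5, 4, 6, 6, 4, 5, 4, 2, 2, 1, 2, 1]))) (.node 969 (.leaf 298 5 [1, 3, 3, 1, 3, 3, 1, 2, 1, 3, 3, 1, 2, 1, 3, 1, 3, 1, 2, 1, 3, 3, 1, 4, 5, 5, 5, 4, 6, 6, 4, 5, 1, 3, 3, 1, 3]) (.node 970 (.leaf 371 12 [3, 1, 3, 1, 3, 1, 3, 1, 2, 1, 2, 1, 3, 1, 2, 1, 5, 4, 6, 6, 4, 5, 4, 6, 4, 5, 5, 4, 3, 3, 1, 2, 1, 3, 3, 1, 2, 1, 2, 1]) (.leaf 388 25 [3, 3, 1, 5, 4, 6, 4, 5, 4, 6, 4, 5, 5, 4, 6, 4, 1, 3, 3, 1, 3, 1, 3, 3, 1, 2, 1, 2, 1, 2, 1, 3, 1, 3, 1, 3, 1, 3, 1, 3, 1]))))) (.node 976 (.node 973 (.node 972 (.leaf 47 27 [6, 6, 4, 2, 2, 1, 2, 1, 3, 1, 2, 2, 1, 2, 2, 1, 3, 3, 1, 3, 1, 2, 1, 2, 2, 1, 5, 5, 5, 4]) (.leaf 106 29 [6, 6, 4, 2, 1, 3, 3, 1, 3, 1, 2, 1, 2, 2, 1, 2, 1, 3, 1, 3, 1, 3, 1, 2, 2, 1, 2, 2, 5, 4, 6, 6])) (.node 974 (.leaf 298 9 [3, 3, 1, 2, 1, 3, 3, 1, 2, 1, 3, 1, 3, 1, 2, 1, 3, 3, 1, 4, 5, 5, 5, 4, 6, 6, 4, 5, 1, 3, 3, 1, 3, 1, 3, 3, 1]) (.node 975 (.leaf 94 35 [6, 2, 2, 1, 3, 1, 3, 1, 2, 1, 2, 2, 1, 2, 1, 2, 1, 3, 1, 3, 3, 1, 3, 1, 3, 3, 4, 5, 5, 5, 5, 4, 6, 6, 6, 4]) (.leaf 189 24 [3, 1, 3, 4, 5, 5, 5, 4, 6, 6, 6, 4, 5, 1, 3, 1, 2, 1, 3, 3, 1, 3, 1, 3, 1, 2, 1, 3, 3, 1, 3, 3, 1, 2, 2, 1, 3])))) (.node 979 (.node 977 (.leaf 23 28 [4, 6, 4, 5, 1, 2, 1, 3, 1, 3, 3, 1, 3, 1, 2, 1, 3, 3, 1, 2, 1, 3, 1, 2, 1, 3, 4, 5, 4, 5, 5, 5]) (.node 978 (.leaf 117 31 [6, 3, 3, 1, 2, 2, 1, 2, 1, 3, 1, 3, 3, 1, 2, 1, 3, 1, 2, 1, 3, 3, 1, 3, 3, 1, 3, 5, 5, 5, 5, 4]) (.leaf 116 24 [2, 1, 5, 4, 2, 2, 1, 2, 1, 2, 1, 2, 2, 1, 2, 2, 1, 2, 1, 3, 1, 3, 1, 3, 1, 2, 2, 1]))) (.node 980 (.leaf 181 10 [3, 3, 1, 2, 1, 3, 3, 1, 2, 1, 3, 1, 3, 1, 3, 1, 3, 4, 5, 5, 4, 6, 4, 1, 3, 1, 2, 2, 1, 3, 1, 2, 1]) (.node 981 (.leaf 354 11 [2, 1, 2, 1, 3, 1, 3, 1, 3, 3, 1, 2, 2, 1, 3, 3, 1, 6, 6, 6, 1, 2, 1, 2, 1, 3, 3, 1, 2, 2, 1]) (.leaf 119 34 [5, 1, 3, 3, 1, 3, 1, 2, 2, 1, 2, 1, 2, 2, 1, 3, 3, 1, 3, 1, 3, 1, 3, 1, 3, 3, 1, 4, 6, 6, 4, 5, 5, 5, 4])))))) (.node 993 (.node 987 (.node 984 (.node 983 (.leaf 235 28 [6, 6, 6, 4, 5, 5, 5, 4, 5, 2, 2, 1, 3, 1, 3, 1, 2, 1, 2, 1, 2, 1, 2, 1, 3, 1, 2, 2, 1, 3, 1, 3, 1, 2, 1, 3, 4]) (.leaf 257 25 [3, 1, 6, 6, 4, 5, 4, 1, 2, 2, 1, 3, 1, 3, 1, 3, 3, 1, 3, 1, 2, 2, 1, 2, 1, 2, 1, 2, 1, 3, 1, 3])) (.node 985 (.leaf 370 8 [2, 2, 1, 3, 1, 3, 1, 3, 1, 3, 1, 3, 1, 3, 1, 3, 3, 1, 2, 2, 4, 5, 4, 6, 6, 4, 5, 5, 5, 2, 2, 1, 3, 3, 1, 3, 1]) (.node 986 (.leaf 385 0 [2, 2, 1, 3, 3, 1, 3, 3, 1, 2, 2, 1, 3, 1, 3, 3, 1, 3, 1, 2, 1, 2, 1, 2, 1, 3, 3, 1, 6, 6, 4, 5, 5, 4]) (.leaf 9 39 [2, 1, 2, 2, 2, 1, 2, 2, 2, 1, 2, 2, 2, 1, 2, 2, 2, 1, 2, 2, 2, 1, 2, 2, 2, 1, 2, 2, 2, 1, 2, 2, 2, 1, 2, 2, 2, 1, 2, 2])))) (.node 990 (.node 988 (.leaf 57 22 [3, 1, 6, 6, 6, 4, 5, 4, 6, 6, 4, 5, 5, 2, 2, 1, 3, 3, 1, 3, 1, 3, 1, 3, 1, 2, 1, 3, 1, 3, 1, 3, 3, 1, 3]) (.node 989 (.leaf 101 5 [2, 1, 2, 2, 1, 2, 1, 2, 2, 1, 2, 2, 1, 2, 1, 2, 2, 1, 2, 1, 4, 6, 4, 5, 4, 6, 6, 4, 5, 1, 3, 1, 2, 1]) (.leaf 354 1 [2, 1, 2, 1, 3, 3, 1, 2, 2, 1, 2, 1, 2, 1, 3, 1, 3, 1, 3, 3, 1, 2, 2, 1, 3, 3, 1, 6, 6, 6, 1]))) (.node 991 (.leaf 107 34 [6, 2, 1, 2, 1, 3, 3, 1, 3, 3, 1, 2, 1, 2, 2, 1, 3, 1, 3, 3, 1, 3, 3, 1, 3, 3, 5, 5, 5, 4, 6, 4, 5, 5, 4]) (.node 992 (.leaf 351 2 [1, 3, 3, 1, 3, 3, 1, 2, 1, 3, 1, 2, 1, 3, 3, 1, 3, 3, 1, 2, 1, 2, 2, 1, 3, 1, 5, 5, 5, 4, 6, 4, 5, 4, 6, 4, 5, 4, 2, 2]) (.leaf 7 13 [2, 2, 1, 2, 2, 1, 2, 2, 1, 2, 2, 1, 2, 2, 1, 2, 2, 1, 2, 2, 1, 2, 2, 1, 2, 2, 1, 2, 2, 1]))))) (.node 998 (.node 995 (.node 994 (.leaf 277 31 [6, 6, 4, 5, 5, 1, 2, 2, 1, 2, 2, 1, 2, 1, 2, 1, 2, 1, 3, 1, 2, 1, 3, 1, 2, 1, 2, 1, 3, 3, 1, 2, 2, 5, 5, 4]) (.leaf 362 40 [5, 1, 3, 1, 2, 1, 2, 2, 1, 2, 1, 2, 1, 3, 1, 2, 2, 1, 3, 1, 2, 1, 2, 2, 1, 3, 3, 1, 3, 5, 5, 5, 4, 6, 6, 4, 5, 4, 6, 4, 5])) (.node 996 (.leaf 80 24 [1, 5, 4, 6, 4, 5, 5, 4, 6, 3, 3, 1, 2, 1, 3, 1, 3, 1, 2, 1, 2, 2, 1, 2, 1, 3, 1, 2, 1, 3, 1, 2, 2]) (.node 997 (.leaf 101 26 [6, 4, 5, 4, 6, 6, 4, 5, 1, 3, 1, 2, 1, 2, 1, 2, 2, 1, 2, 1, 2, 2, 1, 2, 2, 1, 2, 1, 2, 2, 1, 2, 1, 4]) (.leaf 51 9 [2, 1, 3, 1, 2, 1, 3, 1, 3, 1, 3, 3, 1, 2, 2, 5, 4, 6, 6, 6, 6, 4, 6, 1, 2, 1, 3, 1, 3, 3, 1, 2])))) (.node 1001 (.node 999 (.leaf 267 25 [2, 1, 3, 4, 5, 5, 4, 6, 1, 3, 1, 2, 1, 2, 1, 3, 3, 1, 2, 2, 1, 2, 2, 1, 2, 1, 2, 2, 1, 2, 2, 1, 2]) (.node 1000 (.leaf 31 23 [6, 4, 5, 5, 5, 4, 6, 4, 5, 4, 2, 1, 2, 1, 2, 2, 1, 2, 2, 1, 2, 1, 2, 2, 1, 2, 2, 1, 3, 3, 1, 3, 4]) (.leaf 44 29 [6, 4, 5, 5, 5, 4, 3, 3, 1, 3, 3, 1, 2, 2, 1, 2, 1, 2, 1, 3, 1, 3, 3, 1, 2, 1, 2, 2, 1, 4, 6, 4, 5, 4, 6]))) (.node 1002 (.leaf 50 13 [1, 3, 3, 1, 3, 3, 1, 2, 2, 1, 3, 4, 6, 4, 5, 5, 5, 5, 1, 3, 3, 1, 2, 1, 3, 3, 1, 2, 2, 1, 2]) (.node 1003 (.leaf 59 9 [3, 3, 1, 2, 1, 3, 3, 1, 2, 2, 1, 2, 1, 3, 3, 5, 5, 4, 6, 6, 6, 4, 2, 1, 2, 1, 3, 1, 3, 3, 1]) (.leaf 167 5 [3, 1, 2, 1, 3, 1, 2, 1, 2, 1, 2, 1, 2, 2, 1, 3, 1, 3, 3, 1, 3, 1, 5, 4, 6, 6, 4, 5, 5, 5, 1, 3, 1, 3, 1]))))))) (.node 1026 (.node 1015 (.node 1009 (.node 1006 (.node 1005 (.leaf 168 38 [5, 4, 1, 2, 1, 3, 3, 1, 3, 1, 2, 1, 3, 1, 3, 1, 3, 1, 2, 1, 3, 3, 1, 3, 1, 3, 1, 3, 1, 5, 4, 6, 4, 5, 5, 5, 4, 6, 4, 5]) (.leaf 243 20 [3, 3, 1, 2, 1, 2, 1, 4, 6, 4, 5, 5, 5, 4, 6, 4, 5, 5, 4, 6, 2, 2, 1, 2, 1, 3, 1, 3, 3, 1, 2, 2, 1, 2, 1, 2, 2, 1, 2, 1])) (.node 1007 (.leaf 284 22 [3, 3, 1, 3, 1, 3, 4, 6, 4, 5, 5, 5, 4, 6, 6, 1, 3, 1, 3, 1, 2, 1, 3, 1, 2, 2, 1, 3, 1, 2, 2, 1, 3, 3, 1, 2, 1]) (.node 1008 (.leaf 13 0 [1, 3, 3, 1, 2, 1, 2, 1, 2, 1, 2, 2, 1, 3, 3, 1, 2, 1, 4, 6, 4, 5, 4, 6, 6, 4, 5, 4, 5]) (.leaf 39 25 [5, 4, 6, 4, 5, 5, 4, 6, 6, 4, 5, 5, 1, 3, 3, 1, 2, 2, 1, 2, 2, 1, 3, 1, 2, 1, 3, 3, 1, 3, 3, 1, 2, 2, 1, 4, 5])))) (.node 1012 (.node 1010 (.leaf 58 5 [2, 1, 3, 3, 1, 2, 2, 1, 2, 2, 1, 3, 1, 3, 3, 1, 3, 3, 1, 4, 6, 4, 5, 5, 5, 4, 6, 6, 4, 1, 3, 1, 3, 1]) (.node 1011 (.leaf 64 7 [3, 1, 2, 1, 2, 2, 1, 3, 3, 1, 2, 1, 3, 3, 1, 3, 3, 4, 6, 4, 5, 5, 4, 6, 6, 6, 4, 5, 4, 2, 2, 1, 2, 1, 2, 1]) (.leaf 66 10 [1, 2, 2, 1, 2, 1, 3, 3, 1, 2, 2, 1, 2, 2, 5, 5, 4, 6, 4, 5, 4, 6, 6, 4, 5, 5, 1, 3, 3, 1, 2, 1, 3, 1, 3, 3]))) (.node 1013 (.leaf 110 5 [2, 1, 2, 1, 3, 1, 2, 2, 1, 2, 1, 2, 2, 1, 2, 1, 3, 1, 3, 1, 5, 5, 5, 5, 4, 6, 6, 6, 4, 5, 4, 6, 2, 2, 1, 2, 1]) (.node 1014 (.leaf 129 9 [1, 3, 1, 2, 2, 1, 3, 1, 2, 1, 2, 2, 1, 2, 1, 3, 3, 5, 5, 5, 4, 6, 6, 6, 4, 5, 5, 1, 2, 1, 3, 1, 2, 1, 2, 2]) (.leaf 189 19 [1, 2, 2, 1, 3, 3, 1, 3, 4, 5, 5, 5, 4, 6, 6, 6, 4, 5, 1, 3, 1, 2, 1, 3, 3, 1, 3, 1, 3, 1, 2, 1, 3, 3, 1, 3, 3]))))) (.node 1020 (.node 1017 (.node 1016 (.leaf 194 16 [1, 2, 1, 2, 1, 3, 3, 1, 3, 1, 3, 5, 4, 6, 4, 5, 4, 6, 6, 4, 5, 4, 6, 6, 6, 4, 5, 1, 3, 1, 2, 1, 2, 2, 1, 3, 1, 3, 1, 2, 1, 3, 3]) (.leaf 216 4 [1, 3, 3, 1, 3, 1, 3, 3, 1, 2, 2, 1, 3, 1, 3, 1, 2, 1, 3, 3, 1, 3, 1, 6, 4, 5, 5, 4, 6, 2, 2, 1, 2])) (.node 1018 (.leaf 292 43 [5, 1, 2, 1, 3, 1, 2, 2, 1, 2, 1, 3, 3, 1, 3, 1, 3, 1, 2, 2, 1, 3, 1, 2, 1, 3, 3, 1, 3, 5, 5, 4, 6, 4, 5, 5, 5, 4, 6, 6, 6, 4, 5, 5]) (.node 1019 (.leaf 317 20 [1, 2, 2, 1, 3, 3, 1, 3, 4, 6, 6, 4, 5, 4, 6, 6, 6, 4, 5, 5, 1, 3, 1, 2, 1, 2, 1, 2, 1, 3, 3, 1, 3, 1, 2, 1, 3, 3, 1, 2]) (.leaf 333 13 [2, 1, 3, 3, 1, 3, 3, 1, 2, 2, 1, 3, 1, 3, 3, 4, 6, 4, 5, 5, 5, 4, 6, 6, 6, 4, 5, 4, 2, 1, 2, 2, 1, 2, 1, 3, 3, 1, 2, 2, 1])))) (.node 1023 (.node 1021 (.leaf 335 1 [3, 1, 2, 1, 3, 3, 1, 2, 1, 3, 3, 1, 2, 1, 3, 1, 2, 2, 1, 3, 1, 2, 1, 3, 1, 2, 2, 6, 6, 6, 4, 5, 5, 5, 4, 6, 6, 6, 4, 3]) (.node 1022 (.leaf 339 7 [3, 1, 2, 2, 1, 3, 1, 2, 2, 1, 3, 1, 2, 2, 1, 2, 1, 3, 1, 2, 2, 6, 6, 6, 4, 5, 5, 5, 4, 6, 6, 6, 4, 2, 1, 3, 3, 1, 2, 1]) (.leaf 322 10 [3, 3, 1, 3, 1, 2, 1, 2, 1, 3, 1, 3, 3, 1, 3, 3, 1, 3, 6, 6, 4, 5, 5, 1, 3, 1, 2, 2, 1, 3, 1, 3, 1]))) (.node 1024 (.leaf 166 34 [5, 2, 1, 2, 1, 2, 1, 2, 2, 1, 3, 1, 2, 1, 2, 1, 3, 3, 1, 2, 2, 1, 3, 1, 2, 2, 1, 3, 5, 5, 4, 6, 6, 4, 5]) (.node 1025 (.leaf 142 32 [5, 4, 2, 1, 3, 3, 1, 2, 1, 3, 1, 3, 1, 2, 2, 1, 3, 3, 1, 3, 1, 3, 1, 2, 1, 3, 1, 3, 4, 5, 4, 5, 5, 5]) (.leaf 50 22 [1, 3, 4, 6, 4, 5, 5, 5, 5, 1, 3, 3, 1, 2, 1, 3, 3, 1, 2, 2, 1, 2, 1, 3, 3, 1, 3, 3, 1, 2, 2])))))) (.node 1037 (.node 1031 (.node 1028 (.node 1027 (.leaf 59 14 [3, 3, 1, 2, 2, 1, 2, 1, 3, 3, 5, 5, 4, 6, 6, 6, 4, 2, 1, 2, 1, 3, 1, 3, 3, 1, 3, 3, 1, 2, 1]) (.leaf 372 26 [2, 1, 6, 4, 6, 6, 6, 4, 6, 1, 2, 2, 1, 3, 3, 1, 2, 1, 3, 3, 1, 3, 1, 2, 1, 3, 3, 1, 2, 1, 3, 1, 3, 3, 1])) (.node 1029 (.leaf 369 16 [3, 1, 3, 3, 1, 3, 3, 1, 3, 1, 3, 3, 4, 5, 5, 4, 6, 4, 2, 1, 2, 2, 1, 2, 1, 2, 1, 2, 1, 2, 2, 1, 2, 1]) (.node 1030 (.leaf 380 34 [6, 4, 5, 4, 6, 4, 1, 3, 3, 1, 3, 1, 2, 1, 3, 3, 1, 3, 3, 1, 2, 1, 3, 3, 1, 2, 1, 2, 1, 3, 1, 3, 1, 3, 4, 6, 4, 5, 5, 4]) (.leaf 115 42 [6, 2, 2, 1, 2, 1, 2, 1, 2, 1, 3, 3, 1, 2, 1, 2, 1, 3, 1, 3, 3, 1, 2, 2, 1, 2, 1, 5, 4, 6, 4, 5, 5, 4, 6, 4, 5, 4, 6, 6, 4, 5, 4])))) (.node 1034 (.node 1032 (.leaf 9 20 [1, 2, 2, 2, 1, 2, 2, 2, 1, 2, 2, 2, 1, 2, 2, 2, 1, 2, 2, 2, 1, 2, 2, 2, 1, 2, 2, 2, 1, 2, 2, 2, 1, 2, 2, 2, 1, 2, 2, 2]) (.node 1033 (.leaf 181 18 [2, 1, 3, 1, 3, 1, 3, 1, 3, 4, 5, 5, 4, 6, 4, 1, 3, 1, 2, 2, 1, 3, 1, 2, 1, 3, 3, 1, 2, 1, 3, 3, 1]) (.leaf 354 10 [1, 2, 1, 2, 1, 3, 1, 3, 1, 3, 3, 1, 2, 2, 1, 3, 3, 1, 6, 6, 6, 1, 2, 1, 2, 1, 3, 3, 1, 2, 2]))) (.node 1035 (.leaf 169 16 [2, 1, 3, 1, 3, 3, 1, 2, 1, 3, 3, 4, 6, 4, 5, 5, 4, 6, 4, 5, 5, 2, 2, 1, 3, 1, 3, 1, 2, 2, 1, 2, 1, 3, 1, 2, 1]) (.node 1036 (.leaf 5 17 [2, 1, 2, 1, 2, 1, 2, 1, 2, 1, 2, 1, 2, 1, 2, 1, 2, 1, 2, 1, 2, 1, 2, 1, 2, 1, 2, 1, 2, 1, 2, 1, 2, 1, 2, 1, 2, 1]) (.leaf 16 32 [6, 6, 1, 2, 1, 3, 1, 2, 1, 3, 1, 2, 2, 1, 2, 1, 2, 1, 2, 2, 1, 6, 4, 5, 4, 6, 6, 4, 5, 4, 6, 4, 5, 4]))))) (.node 1042 (.node 1039 (.node 1038 (.leaf 261 4 [1, 2, 2, 1, 2, 1, 2, 1, 2, 1, 2, 1, 2, 2, 1, 2, 1, 3, 1, 2, 1, 2, 1, 3, 4, 6, 4, 5, 5, 5, 4, 6, 6, 6, 4, 6, 1, 3, 1, 3]) (.leaf 50 18 [3, 1, 2, 2, 1, 3, 4, 6, 4, 5, 5, 5, 5, 1, 3, 3, 1, 2, 1, 3, 3, 1, 2, 2, 1, 2, 1, 3, 3, 1, 3])) (.node 1040 (.leaf 130 17 [1, 3, 1, 2, 1, 3, 1, 3, 1, 6, 6, 4, 5, 5, 5, 4, 2, 2, 1, 2, 1, 2, 1, 3, 3, 1, 2, 1, 2, 1, 3, 1, 3]) (.node 1041 (.leaf 166 11 [2, 1, 2, 1, 3, 3, 1, 2, 2, 1, 3, 1, 2, 2, 1, 3, 5, 5, 4, 6, 6, 4, 5, 5, 2, 1, 2, 1, 2, 1, 2, 2, 1, 3, 1]) (.leaf 50 21 [2, 1, 3, 4, 6, 4, 5, 5, 5, 5, 1, 3, 3, 1, 2, 1, 3, 3, 1, 2, 2, 1, 2, 1, 3, 3, 1, 3, 3, 1, 2])))) (.node 1045 (.node 1043 (.leaf 166 28 [5, 4, 6, 6, 4, 5, 5, 2, 1, 2, 1, 2, 1, 2, 2, 1, 3, 1, 2, 1, 2, 1, 3, 3, 1, 2, 2, 1, 3, 1, 2, 2, 1, 3, 5]) (.node 1044 (.leaf 385 2 [1, 3, 3, 1, 3, 3, 1, 2, 2, 1, 3, 1, 3, 3, 1, 3, 1, 2, 1, 2, 1, 2, 1, 3, 3, 1, 6, 6, 4, 5, 5, 4, 2, 2]) (.leaf 20 32 [6, 4, 2, 2, 1, 3, 1, 3, 1, 3, 3, 1, 2, 2, 1, 3, 1, 2, 2, 1, 3, 3, 1, 3, 4, 5, 4, 6, 6, 4, 5, 4, 6, 6]))) (.node 1046 (.leaf 354 3 [2, 1, 3, 3, 1, 2, 2, 1, 2, 1, 2, 1, 3, 1, 3, 1, 3, 3, 1, 2, 2, 1, 3, 3, 1, 6, 6, 6, 1, 2, 1]) (.node 1047 (.leaf 369 3 [2, 1, 2, 1, 2, 1, 2, 1, 2, 2, 1, 2, 1, 3, 1, 3, 3, 1, 3, 3, 1, 3, 1, 3, 3, 4, 5, 5, 4, 6, 4, 2, 1, 2]) (.leaf 23 31 [5, 1, 2, 1, 3, 1, 3, 3, 1, 3, 1, 2, 1, 3, 3, 1, 2, 1, 3, 1, 2, 1, 3, 4, 5, 4, 5, 5, 5, 4, 6, 4])))))))))) (.node 1223 (.node 1135 (.node 1091 (.node 1069 (.node 1058 (.node 1053 (.node 1050 (.node 1049 (.leaf 32 24 [6, 4, 5, 5, 5, 4, 6, 6, 4, 5, 4, 1, 3, 3, 1, 3, 1, 2, 2, 1, 3, 3, 1, 2, 2, 1, 2, 1, 2, 1, 2, 1, 3, 1, 4]) (.leaf 47 12 [1, 3, 3, 1, 3, 1, 2, 1, 2, 2, 1, 5, 5, 5, 4, 6, 6, 4, 2, 2, 1, 2, 1, 3, 1, 2, 2, 1, 2, 2])) (.node 1051 (.leaf 66 32 [6, 4, 5, 5, 1, 3, 3, 1, 2, 1, 3, 1, 3, 3, 1, 2, 2, 1, 2, 1, 3, 3, 1, 2, 2, 1, 2, 2, 5, 5, 4, 6, 4, 5, 4, 6]) (.node 1052 (.leaf 218 24 [2, 1, 3, 4, 6, 4, 5, 5, 5, 4, 6, 4, 5, 4, 6, 6, 4, 5, 4, 2, 2, 1, 3, 1, 3, 1, 2, 2, 1, 3, 1, 3, 1, 2, 1, 2, 2, 1, 2, 2, 1, 2, 1]) (.leaf 174 12 [2, 1, 3, 3, 1, 2, 1, 2, 1, 2, 1, 2, 1, 3, 1, 5, 5, 5, 5, 4, 3, 3, 1, 3, 1, 2, 2, 1, 3, 3, 1, 2])))) (.node 1055 (.node 1054 (.leaf 86 36 [6, 1, 3, 1, 3, 1, 3, 3, 1, 2, 2, 1, 2, 1, 3, 3, 1, 2, 2, 1, 2, 1, 2, 1, 2, 2, 4, 5, 5, 4, 6, 4, 5, 5, 5, 4, 6]) (.leaf 129 7 [2, 2, 1, 3, 1, 2, 2, 1, 3, 1, 2, 1, 2, 2, 1, 2, 1, 3, 3, 5, 5, 5, 4, 6, 6, 6, 4, 5, 5, 1, 2, 1, 3, 1, 2, 1])) (.node 1056 (.leaf 34 20 [1, 2, 2, 4, 5, 5, 5, 4, 6, 4, 5, 4, 2, 2, 1, 2, 2, 1, 3, 1, 3, 1, 2, 1, 2, 1, 2, 2, 1, 2, 1, 3]) (.node 1057 (.leaf 369 19 [3, 1, 3, 3, 1, 3, 1, 3, 3, 4, 5, 5, 4, 6, 4, 2, 1, 2, 2, 1, 2, 1, 2, 1, 2, 1, 2, 2, 1, 2, 1, 3, 1, 3]) (.leaf 58 10 [2, 2, 1, 2, 2, 1, 3, 1, 3, 3, 1, 3, 3, 1, 4, 6, 4, 5, 5, 5, 4, 6, 6, 4, 1, 3, 1, 3, 1, 2, 1, 3, 3, 1]))))) (.node 1063 (.node 1060 (.node 1059 (.leaf 181 24 [3, 1, 3, 4, 5, 5, 4, 6, 4, 1, 3, 1, 2, 2, 1, 3, 1, 2, 1, 3, 3, 1, 2, 1, 3, 3, 1, 2, 1, 3, 1, 3, 1]) (.leaf 372 32 [6, 4, 6, 1, 2, 2, 1, 3, 3, 1, 2, 1, 3, 3, 1, 3, 1, 2, 1, 3, 3, 1, 2, 1, 3, 1, 3, 3, 1, 2, 1, 6, 4, 6, 6])) (.node 1061 (.leaf 390 29 [5, 4, 6, 6, 6, 2, 1, 3, 1, 2, 2, 1, 3, 1, 2, 2, 1, 2, 1, 2, 1, 3, 3, 1, 2, 1, 3, 3, 1, 2, 1, 2, 2, 1]) (.node 1062 (.leaf 349 16 [2, 1, 2, 2, 1, 3, 1, 2, 2, 1, 3, 1, 5, 4, 5, 5, 5, 4, 6, 4, 5, 4, 6, 4, 5, 4, 6, 4, 1, 2, 1, 3, 1, 3, 3, 1, 2, 1, 2, 2, 1, 2, 2, 1]) (.leaf 379 15 [1, 2, 1, 2, 1, 2, 1, 2, 1, 2, 1, 3, 1, 4, 6, 4, 5, 5, 5, 4, 6, 3, 3, 1, 2, 1, 2, 1, 3, 1, 2, 1, 3, 1, 2, 2])))) (.node 1066 (.node 1064 (.leaf 138 10 [1, 3, 3, 1, 3, 1, 3, 3, 1, 2, 1, 2, 2, 1, 2, 2, 6, 4, 5, 5, 4, 6, 4, 1, 3, 1, 3, 1, 2, 2, 1, 3, 3]) (.node 1065 (.leaf 18 21 [6, 6, 6, 4, 5, 5, 5, 4, 2, 1, 3, 1, 2, 2, 1, 3, 1, 3, 1, 3, 1, 2, 1, 2, 2, 1, 3, 1, 3]) (.leaf 370 3 [3, 3, 1, 3, 1, 2, 2, 1, 3, 1, 3, 1, 3, 1, 3, 1, 3, 1, 3, 1, 3, 3, 1, 2, 2, 4, 5, 4, 6, 6, 4, 5, 5, 5, 2, 2, 1]))) (.node 1067 (.leaf 138 21 [2, 2, 1, 2, 2, 6, 4, 5, 5, 4, 6, 4, 1, 3, 1, 3, 1, 2, 2, 1, 3, 3, 1, 3, 3, 1, 3, 1, 3, 3, 1, 2, 1]) (.node 1068 (.leaf 206 25 [3, 3, 6, 4, 5, 5, 4, 6, 4, 6, 2, 1, 3, 1, 3, 1, 3, 3, 1, 2, 1, 3, 1, 2, 1, 2, 2, 1, 3, 1, 3, 3, 1, 3, 1]) (.leaf 31 25 [5, 5, 5, 4, 6, 4, 5, 4, 2, 1, 2, 1, 2, 2, 1, 2, 2, 1, 2, 1, 2, 2, 1, 2, 2, 1, 3, 3, 1, 3, 4, 6, 4])))))) (.node 1080 (.node 1074 (.node 1071 (.node 1070 (.leaf 257 22 [3, 1, 3, 3, 1, 6, 6, 4, 5, 4, 1, 2, 2, 1, 3, 1, 3, 1, 3, 3, 1, 3, 1, 2, 2, 1, 2, 1, 2, 1, 2, 1]) (.leaf 94 33 [6, 4, 6, 2, 2, 1, 3, 1, 3, 1, 2, 1, 2, 2, 1, 2, 1, 2, 1, 3, 1, 3, 3, 1, 3, 1, 3, 3, 4, 5, 5, 5, 5, 4, 6, 6])) (.node 1072 (.leaf 376 28 [6, 4, 5, 5, 4, 6, 6, 6, 1, 3, 1, 3, 1, 3, 1, 3, 3, 1, 2, 2, 1, 2, 1, 3, 1, 3, 1, 3, 3, 1, 2, 1, 3, 1, 2, 1]) (.node 1073 (.leaf 145 36 [6, 2, 1, 3, 3, 1, 2, 2, 1, 3, 1, 3, 1, 2, 1, 3, 3, 1, 3, 3, 1, 3, 1, 3, 1, 2, 1, 5, 4, 5, 5, 5, 4, 6, 4, 5, 4]) (.leaf 109 4 [1, 2, 1, 3, 3, 1, 3, 1, 2, 2, 1, 2, 1, 3, 1, 2, 1, 2, 1, 2, 2, 6, 4, 5, 5, 5, 2, 2, 1, 2])))) (.node 1077 (.node 1075 (.leaf 238 36 [6, 6, 2, 1, 2, 1, 3, 1, 3, 3, 1, 3, 1, 3, 1, 2, 1, 2, 1, 2, 2, 1, 2, 1, 3, 1, 3, 3, 1, 4, 5, 4, 6, 6, 4, 5, 5, 4]) (.node 1076 (.leaf 300 9 [2, 1, 3, 3, 1, 2, 1, 3, 3, 1, 3, 1, 2, 1, 3, 3, 1, 3, 1, 5, 5, 5, 4, 6, 6, 6, 4, 5, 4, 6, 6, 4, 5, 5, 1, 3, 1, 3, 3, 1, 2, 2, 1]) (.leaf 344 9 [3, 1, 3, 3, 1, 2, 1, 2, 1, 3, 1, 3, 3, 1, 3, 3, 1, 3, 3, 4, 6, 6, 4, 5, 5, 4, 6, 6, 2, 2, 1, 3, 3, 1, 2, 1, 3]))) (.node 1078 (.leaf 130 20 [2, 1, 3, 1, 3, 1, 6, 6, 4, 5, 5, 5, 4, 2, 2, 1, 2, 1, 2, 1, 3, 3, 1, 2, 1, 2, 1, 3, 1, 3, 1, 3, 1]) (.node 1079 (.leaf 92 27 [6, 6, 6, 6, 4, 2, 1, 2, 1, 3, 1, 2, 1, 2, 1, 2, 1, 2, 1, 3, 1, 2, 2, 1, 2, 1, 3, 1, 3, 3, 6, 4]) (.leaf 10 1 [3, 3, 3, 1, 3, 3, 3, 1, 3, 3, 3, 1, 3, 3, 3, 1, 3, 3, 3, 1, 3, 3, 3, 1, 3, 3, 3, 1, 3, 3, 3, 1, 3, 3, 3, 1, 3, 3, 3, 1]))))) (.node 1085 (.node 1082 (.node 1081 (.leaf 166 4 [2, 1, 2, 2, 1, 3, 1, 2, 1, 2, 1, 3, 3, 1, 2, 2, 1, 3, 1, 2, 2, 1, 3, 5, 5, 4, 6, 6, 4, 5, 5, 2, 1, 2, 1]) (.leaf 10 16 [1, 3, 3, 3, 1, 3, 3, 3, 1, 3, 3, 3, 1, 3, 3, 3, 1, 3, 3, 3, 1, 3, 3, 3, 1, 3, 3, 3, 1, 3, 3, 3, 1, 3, 3, 3, 1, 3, 3, 3])) (.node 1083 (.leaf 8 5 [3, 1, 3, 3, 1, 3, 3, 1, 3, 3, 1, 3, 3, 1, 3, 3, 1, 3, 3, 1, 3, 3, 1, 3, 3, 1, 3, 3, 1, 3]) (.node 1084 (.leaf 18 27 [5, 4, 2, 1, 3, 1, 2, 2, 1, 3, 1, 3, 1, 3, 1, 2, 1, 2, 2, 1, 3, 1, 3, 6, 6, 6, 4, 5, 5]) (.leaf 10 32 [1, 3, 3, 3, 1, 3, 3, 3, 1, 3, 3, 3, 1, 3, 3, 3, 1, 3, 3, 3, 1, 3, 3, 3, 1, 3, 3, 3, 1, 3, 3, 3, 1, 3, 3, 3, 1, 3, 3, 3])))) (.node 1088 (.node 1086 (.leaf 40 23 [5, 4, 6, 4, 5, 4, 6, 4, 5, 5, 4, 3, 3, 1, 2, 1, 3, 3, 1, 2, 1, 3, 1, 2, 1, 3, 3, 1, 3, 1, 2, 2, 1, 3]) (.node 1087 (.leaf 174 26 [1, 5, 5, 5, 5, 4, 3, 3, 1, 3, 1, 2, 2, 1, 3, 3, 1, 2, 2, 1, 3, 3, 1, 2, 1, 2, 1, 2, 1, 2, 1, 3]) (.leaf 124 26 [5, 4, 6, 6, 4, 5, 5, 4, 6, 4, 5, 5, 5, 4, 6, 2, 1, 3, 3, 1, 2, 1, 2, 1, 3, 1, 2, 2, 1, 3, 3, 1, 2, 1, 3, 1, 2, 1, 3, 3, 1]))) (.node 1089 (.leaf 291 42 [5, 3, 3, 1, 3, 3, 1, 3, 1, 3, 3, 1, 3, 3, 1, 3, 1, 2, 2, 1, 2, 1, 3, 1, 3, 3, 1, 2, 1, 4, 6, 4, 6, 6, 6, 4, 5, 4, 6, 6, 4, 5, 4]) (.node 1090 (.leaf 295 1 [2, 2, 1, 2, 1, 3, 1, 3, 3, 1, 3, 1, 2, 1, 3, 3, 1, 2, 1, 3, 1, 2, 1, 3, 1, 2, 2, 6, 4, 5, 4, 6, 6, 4, 5, 4, 5, 1]) (.leaf 267 20 [1, 2, 2, 1, 2, 2, 1, 3, 4, 5, 5, 4, 6, 1, 3, 1, 2, 1, 2, 1, 3, 3, 1, 2, 2, 1, 2, 2, 1, 2, 1, 2, 2]))))))) (.node 1113 (.node 1102 (.node 1096 (.node 1093 (.node 1092 (.leaf 180 11 [1, 2, 2, 1, 3, 1, 3, 1, 3, 1, 2, 1, 2, 1, 2, 1, 6, 4, 6, 6, 6, 4, 5, 4, 6, 6, 6, 4, 5, 2, 1, 2, 1, 3, 1, 2, 1, 3, 1, 3]) (.leaf 23 23 [5, 4, 5, 5, 5, 4, 6, 4, 5, 1, 2, 1, 3, 1, 3, 3, 1, 3, 1, 2, 1, 3, 3, 1, 2, 1, 3, 1, 2, 1, 3, 4])) (.node 1094 (.leaf 35 18 [1, 2, 2, 1, 3, 5, 4, 6, 4, 5, 5, 4, 6, 6, 4, 5, 2, 2, 1, 3, 3, 1, 3, 1, 2, 2, 1, 2, 1, 2, 1, 2, 1, 2]) (.node 1095 (.leaf 134 10 [3, 1, 2, 1, 3, 1, 2, 1, 3, 3, 1, 2, 2, 1, 2, 2, 5, 4, 6, 4, 5, 4, 6, 4, 5, 4, 6, 4, 1, 2, 1, 2, 1, 3, 1, 3, 3, 1]) (.leaf 141 8 [3, 1, 3, 1, 2, 1, 2, 1, 3, 1, 2, 1, 2, 1, 3, 3, 1, 3, 5, 5, 4, 6, 4, 5, 4, 6, 4, 5, 4, 6, 4, 5, 4, 2, 2, 1, 2, 1, 3, 3, 1])))) (.node 1099 (.node 1097 (.leaf 195 16 [1, 3, 1, 2, 1, 2, 1, 2, 1, 2, 1, 6, 4, 5, 4, 6, 6, 4, 5, 4, 6, 4, 5, 1, 2, 1, 3, 1, 2, 2, 1, 2, 1, 3, 1, 3, 1, 3, 3]) (.node 1098 (.leaf 205 24 [1, 2, 1, 4, 6, 4, 5, 4, 6, 4, 5, 4, 6, 4, 5, 5, 4, 6, 4, 2, 1, 2, 1, 3, 3, 1, 2, 1, 3, 3, 1, 2, 2, 1, 2, 2, 1, 2, 2, 1, 3, 1, 2]) (.leaf 217 11 [3, 1, 2, 1, 3, 1, 3, 1, 3, 1, 3, 1, 2, 1, 2, 2, 4, 5, 5, 5, 4, 6, 4, 5, 4, 6, 4, 5, 4, 6, 4, 5, 1, 2, 1, 3, 1, 2, 2, 1, 3, 1, 3]))) (.node 1100 (.leaf 257 16 [2, 1, 2, 1, 2, 1, 3, 1, 3, 3, 1, 6, 6, 4, 5, 4, 1, 2, 2, 1, 3, 1, 3, 1, 3, 3, 1, 3, 1, 2, 2, 1]) (.node 1101 (.leaf 334 12 [2, 2, 1, 3, 3, 1, 2, 1, 2, 1, 2, 2, 1, 3, 1, 3, 4, 5, 5, 4, 6, 4, 5, 4, 6, 4, 5, 4, 3, 3, 1, 2, 1, 2, 1, 2, 1, 3, 3, 1]) (.leaf 349 28 [5, 4, 5, 5, 5, 4, 6, 4, 5, 4, 6, 4, 5, 4, 6, 4, 1, 2, 1, 3, 1, 3, 3, 1, 2, 1, 2, 2, 1, 2, 2, 1, 2, 1, 2, 2, 1, 3, 1, 2, 2, 1, 3, 1]))))) (.node 1107 (.node 1104 (.node 1103 (.leaf 351 6 [3, 3, 1, 2, 1, 3, 1, 2, 1, 3, 3, 1, 3, 3, 1, 2, 1, 2, 2, 1, 3, 1, 5, 5, 5, 4, 6, 4, 5, 4, 6, 4, 5, 4, 2, 2, 1, 3, 3, 1]) (.leaf 389 8 [1, 3, 1, 3, 1, 2, 1, 2, 2, 1, 2, 1, 3, 1, 3, 3, 1, 2, 1, 3, 4, 5, 4, 6, 6, 4, 5, 4, 6, 4, 5, 4, 6, 4, 2, 1, 3, 3, 1, 3, 1, 2])) (.node 1105 (.leaf 21 4 [2, 1, 3, 3, 1, 2, 2, 1, 2, 2, 1, 2, 1, 3, 3, 1, 2, 2, 4, 5, 4, 6, 6, 4, 5, 4, 6, 6, 6, 4, 6, 2, 1, 2, 1]) (.node 1106 (.leaf 27 13 [3, 1, 2, 2, 1, 2, 1, 2, 2, 4, 6, 4, 5, 5, 4, 6, 4, 5, 5, 4, 1, 2, 1, 2, 2, 1, 3, 3, 1, 3, 1, 2, 1]) (.leaf 28 17 [1, 2, 1, 2, 1, 4, 5, 4, 6, 4, 5, 5, 4, 6, 4, 5, 5, 5, 3, 3, 1, 2, 1, 2, 1, 3, 3, 1, 2, 2, 1, 3, 1, 3, 3])))) (.node 1110 (.node 1108 (.leaf 323 11 [1, 3, 1, 2, 1, 3, 1, 2, 1, 3, 1, 3, 1, 3, 1, 3, 3, 6, 6, 4, 5, 4, 6, 4, 5, 4, 6, 4, 5, 4, 6, 1, 3, 3, 1, 2, 1, 3, 3, 1, 3, 3]) (.node 1109 (.leaf 342 8 [2, 1, 2, 1, 2, 2, 1, 3, 1, 2, 2, 1, 2, 1, 3, 1, 3, 1, 2, 2, 4, 6, 4, 5, 4, 6, 4, 5, 4, 6, 6, 6, 4, 6, 2, 1, 3, 3, 1, 3, 3, 1]) (.leaf 74 10 [1, 2, 1, 3, 1, 2, 1, 2, 2, 1, 3, 3, 1, 3, 3, 5, 5, 4, 6, 6, 4, 2, 1, 3, 3, 1, 2, 1, 3, 1, 2]))) (.node 1111 (.leaf 101 17 [1, 2, 1, 2, 2, 1, 2, 1, 4, 6, 4, 5, 4, 6, 6, 4, 5, 1, 3, 1, 2, 1, 2, 1, 2, 2, 1, 2, 1, 2, 2, 1, 2, 2]) (.node 1112 (.leaf 230 26 [3, 4, 5, 4, 6, 6, 4, 5, 5, 5, 4, 1, 2, 1, 3, 1, 3, 1, 3, 1, 2, 2, 1, 2, 1, 2, 2, 1, 2, 1, 3, 1, 2, 1, 2, 2, 1]) (.leaf 231 5 [2, 2, 1, 2, 1, 2, 1, 3, 1, 2, 1, 2, 1, 2, 2, 1, 3, 3, 1, 3, 1, 3, 4, 5, 5, 5, 4, 6, 4, 5, 4, 6, 6, 4, 5, 5, 3, 3, 1, 3, 1])))))) (.node 1124 (.node 1118 (.node 1115 (.node 1114 (.leaf 311 16 [2, 1, 2, 2, 1, 3, 3, 1, 2, 1, 2, 2, 5, 4, 5, 5, 5, 4, 6, 4, 5, 5, 4, 2, 1, 3, 1, 2, 1, 3, 1, 2, 1, 3, 3, 1, 2, 2, 1]) (.leaf 344 2 [1, 3, 3, 1, 2, 1, 3, 3, 1, 3, 3, 1, 2, 1, 2, 1, 3, 1, 3, 3, 1, 3, 3, 1, 3, 3, 4, 6, 6, 4, 5, 5, 4, 6, 6, 2, 2])) (.node 1116 (.leaf 92 2 [2, 1, 3, 1, 2, 1, 2, 1, 2, 1, 2, 1, 3, 1, 2, 2, 1, 2, 1, 3, 1, 3, 3, 6, 4, 6, 6, 6, 6, 4, 2, 1]) (.node 1117 (.leaf 224 27 [5, 5, 4, 6, 6, 4, 5, 4, 6, 6, 6, 2, 2, 1, 3, 3, 1, 3, 1, 3, 1, 2, 2, 1, 2, 2, 1, 3, 1, 3, 1, 2, 1, 3, 1, 3, 1, 3]) (.leaf 329 29 [6, 6, 6, 4, 5, 4, 6, 6, 6, 1, 3, 1, 2, 2, 1, 2, 1, 2, 1, 3, 1, 2, 2, 1, 2, 1, 2, 1, 3, 3, 1, 3, 1, 3, 3, 1, 3, 4])))) (.node 1121 (.node 1119 (.leaf 344 1 [2, 1, 3, 3, 1, 2, 1, 3, 3, 1, 3, 3, 1, 2, 1, 2, 1, 3, 1, 3, 3, 1, 3, 3, 1, 3, 3, 4, 6, 6, 4, 5, 5, 4, 6, 6, 2]) (.node 1120 (.leaf 206 27 [6, 4, 5, 5, 4, 6, 4, 6, 2, 1, 3, 1, 3, 1, 3, 3, 1, 2, 1, 3, 1, 2, 1, 2, 2, 1, 3, 1, 3, 3, 1, 3, 1, 3, 3]) (.leaf 8 16 [3, 3, 1, 3, 3, 1, 3, 3, 1, 3, 3, 1, 3, 3, 1, 3, 3, 1, 3, 3, 1, 3, 3, 1, 3, 3, 1, 3, 3, 1]))) (.node 1122 (.leaf 9 22 [2, 2, 1, 2, 2, 2, 1, 2, 2, 2, 1, 2, 2, 2, 1, 2, 2, 2, 1, 2, 2, 2, 1, 2, 2, 2, 1, 2, 2, 2, 1, 2, 2, 2, 1, 2, 2, 2, 1, 2]) (.node 1123 (.leaf 226 16 [1, 2, 2, 1, 2, 2, 1, 2, 1, 3, 3, 6, 4, 5, 4, 6, 4, 5, 5, 5, 2, 2, 1, 2, 2, 1, 3, 1, 3, 3, 1, 3, 1, 2, 1, 2]) (.leaf 379 7 [3, 1, 2, 1, 3, 1, 2, 2, 1, 2, 1, 2, 1, 2, 1, 2, 1, 2, 1, 3, 1, 4, 6, 4, 5, 5, 5, 4, 6, 3, 3, 1, 2, 1, 2, 1]))))) (.node 1129 (.node 1126 (.node 1125 (.leaf 118 31 [5, 5, 4, 6, 4, 5, 5, 4, 6, 1, 3, 3, 1, 2, 1, 2, 2, 1, 2, 2, 1, 2, 1, 2, 1, 3, 1, 3, 3, 1, 3, 1, 2, 1, 3, 4, 5, 4, 6, 4]) (.leaf 325 23 [1, 2, 2, 1, 3, 4, 6, 4, 5, 5, 4, 6, 6, 6, 1, 3, 3, 1, 2, 1, 3, 1, 3, 1, 3, 1, 2, 2, 1, 3, 1, 3, 1, 3, 1, 3, 3])) (.node 1127 (.leaf 344 28 [4, 6, 6, 4, 5, 5, 4, 6, 6, 2, 2, 1, 3, 3, 1, 2, 1, 3, 3, 1, 3, 3, 1, 2, 1, 2, 1, 3, 1, 3, 3, 1, 3, 3, 1, 3, 3]) (.node 1128 (.leaf 227 12 [2, 2, 1, 3, 1, 2, 1, 2, 1, 3, 1, 3, 1, 3, 1, 4, 5, 5, 5, 4, 6, 6, 4, 2, 2, 1, 2, 2, 1, 3, 1, 3, 1, 3, 1]) (.leaf 369 4 [1, 2, 1, 2, 1, 2, 1, 2, 2, 1, 2, 1, 3, 1, 3, 3, 1, 3, 3, 1, 3, 1, 3, 3, 4, 5, 5, 4, 6, 4, 2, 1, 2, 2])))) (.node 1132 (.node 1130 (.leaf 390 20 [1, 3, 3, 1, 2, 1, 2, 2, 1, 5, 4, 6, 6, 6, 2, 1, 3, 1, 2, 2, 1, 3, 1, 2, 2, 1, 2, 1, 2, 1, 3, 3, 1, 2]) (.node 1131 (.leaf 106 6 [1, 2, 1, 2, 2, 1, 2, 1, 3, 1, 3, 1, 3, 1, 2, 2, 1, 2, 2, 5, 4, 6, 6, 6, 6, 4, 2, 1, 3, 3, 1, 3]) (.leaf 168 5 [1, 3, 1, 2, 1, 3, 1, 3, 1, 3, 1, 2, 1, 3, 3, 1, 3, 1, 3, 1, 3, 1, 5, 4, 6, 4, 5, 5, 5, 4, 6, 4, 5, 5, 4, 1, 2, 1, 3, 3]))) (.node 1133 (.leaf 119 30 [5, 5, 5, 4, 5, 1, 3, 3, 1, 3, 1, 2, 2, 1, 2, 1, 2, 2, 1, 3, 3, 1, 3, 1, 3, 1, 3, 1, 3, 3, 1, 4, 6, 6, 4]) (.node 1134 (.leaf 138 9 [3, 1, 3, 3, 1, 3, 1, 3, 3, 1, 2, 1, 2, 2, 1, 2, 2, 6, 4, 5, 5, 4, 6, 4, 1, 3, 1, 3, 1, 2, 2, 1, 3]) (.leaf 167 27 [5, 4, 6, 6, 4, 5, 5, 5, 1, 3, 1, 3, 1, 3, 1, 2, 1, 3, 1, 2, 1, 2, 1, 2, 1, 2, 2, 1, 3, 1, 3, 3, 1, 3, 1])))))))) (.node 1179 (.node 1157 (.node 1146 (.node 1140 (.node 1137 (.node 1136 (.leaf 385 1 [2, 1, 3, 3, 1, 3, 3, 1, 2, 2, 1, 3, 1, 3, 3, 1, 3, 1, 2, 1, 2, 1, 2, 1, 3, 3, 1, 6, 6, 4, 5, 5, 4, 2]) (.leaf 225 40 [6, 1, 2, 2, 1, 3, 1, 2, 2, 1, 3, 3, 1, 2, 2, 1, 3, 1, 2, 1, 3, 1, 2, 1, 3, 1, 3, 3, 4, 6, 4, 5, 4, 6, 4, 5, 4, 6, 4, 5, 4])) (.node 1138 (.leaf 44 24 [6, 4, 5, 4, 6, 6, 4, 5, 5, 5, 4, 3, 3, 1, 3, 3, 1, 2, 2, 1, 2, 1, 2, 1, 3, 1, 3, 3, 1, 2, 1, 2, 2, 1, 4]) (.node 1139 (.leaf 136 27 [5, 4, 6, 6, 4, 5, 5, 4, 6, 4, 5, 5, 5, 4, 6, 6, 2, 1, 2, 1, 3, 1, 2, 1, 3, 3, 1, 2, 1, 2, 1, 2, 2, 1, 2, 2, 1, 3, 3, 1, 3, 3, 4]) (.leaf 281 24 [3, 1, 3, 1, 6, 6, 4, 5, 5, 4, 6, 4, 5, 5, 5, 4, 6, 6, 6, 4, 2, 1, 3, 3, 1, 3, 3, 1, 3, 3, 1, 3, 3, 1, 2, 1, 3, 3, 1, 2, 2, 1, 2, 1])))) (.node 1143 (.node 1141 (.leaf 354 23 [2, 1, 3, 3, 1, 6, 6, 6, 1, 2, 1, 2, 1, 3, 3, 1, 2, 2, 1, 2, 1, 2, 1, 3, 1, 3, 1, 3, 3, 1, 2]) (.node 1142 (.leaf 156 3 [2, 1, 3, 3, 1, 3, 3, 1, 2, 1, 2, 2, 1, 3, 1, 3, 1, 2, 1, 3, 3, 1, 3, 3, 5, 5, 4, 6, 6, 6, 4, 5, 4, 6, 6, 4, 5, 5, 4, 6, 4, 1, 2, 1]) (.leaf 177 3 [1, 3, 1, 3, 1, 2, 1, 2, 1, 2, 1, 3, 1, 3, 1, 2, 2, 1, 2, 1, 2, 1, 3, 1, 5, 5, 4, 6, 6, 6, 4, 5, 4, 6, 6, 4, 5, 5, 4, 6, 4, 1, 3, 3]))) (.node 1144 (.leaf 189 2 [1, 2, 1, 3, 3, 1, 3, 1, 3, 1, 2, 1, 3, 3, 1, 3, 3, 1, 2, 2, 1, 3, 3, 1, 3, 4, 5, 5, 5, 4, 6, 6, 6, 4, 5, 1, 3]) (.node 1145 (.leaf 297 30 [6, 4, 5, 4, 6, 6, 6, 4, 5, 4, 6, 6, 4, 5, 5, 1, 3, 3, 1, 2, 2, 1, 3, 1, 2, 1, 2, 1, 3, 1, 2, 1, 3, 3, 1, 2, 1, 2, 1, 3, 3, 1, 3, 4, 6]) (.leaf 322 9 [1, 3, 3, 1, 3, 1, 2, 1, 2, 1, 3, 1, 3, 3, 1, 3, 3, 1, 3, 6, 6, 4, 5, 5, 1, 3, 1, 2, 2, 1, 3, 1, 3]))))) (.node 1151 (.node 1148 (.node 1147 (.leaf 364 7 [3, 1, 3, 1, 2, 1, 2, 1, 3, 1, 3, 1, 2, 2, 1, 2, 1, 2, 1, 2, 1, 4, 5, 5, 5, 4, 6, 6, 6, 4, 5, 4, 6, 6, 4, 5, 5, 4, 6, 1, 2, 2, 1, 3, 1, 3]) (.leaf 183 2 [1, 2, 1, 2, 1, 3, 3, 1, 2, 1, 3, 1, 2, 1, 3, 1, 2, 2, 1, 3, 1, 3, 1, 3, 3, 4, 5, 5, 4, 6, 4, 5, 4, 6, 4, 5, 4, 6, 6, 4, 5, 4, 2, 2])) (.node 1149 (.leaf 59 3 [1, 3, 1, 3, 3, 1, 3, 3, 1, 2, 1, 3, 3, 1, 2, 2, 1, 2, 1, 3, 3, 5, 5, 4, 6, 6, 6, 4, 2, 1, 2]) (.node 1150 (.leaf 76 11 [1, 2, 2, 1, 3, 1, 2, 2, 1, 2, 2, 1, 2, 2, 6, 4, 5, 4, 6, 6, 4, 5, 5, 4, 6, 1, 2, 1, 3, 1, 2, 1, 2, 1, 3, 3]) (.leaf 117 26 [5, 5, 5, 5, 4, 6, 3, 3, 1, 2, 2, 1, 2, 1, 3, 1, 3, 3, 1, 2, 1, 3, 1, 2, 1, 3, 3, 1, 3, 3, 1, 3])))) (.node 1154 (.node 1152 (.leaf 8 15 [1, 3, 3, 1, 3, 3, 1, 3, 3, 1, 3, 3, 1, 3, 3, 1, 3, 3, 1, 3, 3, 1, 3, 3, 1, 3, 3, 1, 3, 3]) (.node 1153 (.leaf 159 9 [1, 3, 1, 2, 1, 2, 2, 1, 2, 2, 1, 3, 3, 1, 3, 1, 3, 1, 4, 5, 4, 5, 5, 5, 4, 6, 4, 5, 4, 6, 6, 3, 3, 1, 3, 1, 3, 1, 3, 3]) (.leaf 59 23 [3, 5, 5, 4, 6, 6, 6, 4, 2, 1, 2, 1, 3, 1, 3, 3, 1, 3, 3, 1, 2, 1, 3, 3, 1, 2, 2, 1, 2, 1, 3]))) (.node 1155 (.leaf 275 28 [4, 5, 4, 6, 4, 5, 4, 6, 6, 6, 4, 6, 3, 3, 1, 3, 3, 1, 2, 1, 3, 1, 2, 1, 2, 1, 2, 2, 1, 2, 2, 1, 2, 2, 1, 3, 1, 2, 1, 3]) (.node 1156 (.leaf 331 12 [2, 2, 1, 3, 1, 2, 1, 3, 3, 1, 3, 1, 2, 1, 3, 1, 4, 5, 5, 4, 6, 4, 5, 4, 6, 6, 6, 4, 2, 1, 2, 1, 2, 2, 1, 3, 3, 1, 2, 1]) (.leaf 233 33 [4, 6, 6, 2, 1, 2, 1, 3, 1, 3, 1, 2, 1, 3, 1, 2, 1, 2, 2, 1, 2, 1, 2, 1, 2, 2, 1, 2, 1, 3, 5, 4, 6, 6, 4, 5])))))) (.node 1168 (.node 1162 (.node 1159 (.node 1158 (.leaf 132 31 [6, 4, 5, 4, 6, 4, 1, 3, 1, 3, 1, 2, 1, 2, 1, 2, 2, 1, 2, 1, 3, 1, 2, 1, 2, 1, 2, 1, 2, 1, 3, 1, 6, 6, 4, 5, 4]) (.leaf 322 31 [5, 5, 1, 3, 1, 2, 2, 1, 3, 1, 3, 1, 3, 3, 1, 3, 1, 2, 1, 2, 1, 3, 1, 3, 3, 1, 3, 3, 1, 3, 6, 6, 4])) (.node 1160 (.leaf 176 2 [2, 2, 1, 3, 3, 1, 2, 2, 1, 2, 1, 2, 1, 2, 2, 1, 2, 2, 1, 2, 2, 1, 2, 1, 3, 4, 5, 5, 4, 6, 4, 5, 4, 6, 4, 5, 4, 6, 4, 5, 4, 2, 1]) (.node 1161 (.leaf 216 3 [2, 1, 3, 3, 1, 3, 1, 3, 3, 1, 2, 2, 1, 3, 1, 3, 1, 2, 1, 3, 3, 1, 3, 1, 6, 4, 5, 5, 4, 6, 2, 2, 1]) (.leaf 172 29 [6, 4, 5, 4, 6, 4, 1, 3, 3, 1, 3, 1, 2, 1, 2, 2, 1, 2, 1, 2, 2, 1, 2, 1, 2, 1, 2, 2, 1, 3, 3, 1, 3, 4, 6])))) (.node 1165 (.node 1163 (.leaf 179 27 [5, 4, 5, 5, 5, 4, 6, 6, 6, 4, 3, 3, 1, 2, 1, 2, 1, 3, 1, 2, 1, 2, 2, 1, 3, 3, 1, 2, 2, 1, 3, 3, 1, 3, 1, 2, 1]) (.node 1164 (.leaf 311 9 [1, 3, 3, 1, 2, 2, 1, 2, 1, 2, 2, 1, 3, 3, 1, 2, 1, 2, 2, 5, 4, 5, 5, 5, 4, 6, 4, 5, 5, 4, 2, 1, 3, 1, 2, 1, 3, 1, 2]) (.leaf 80 16 [3, 1, 2, 1, 3, 1, 2, 2, 1, 5, 4, 6, 4, 5, 5, 4, 6, 3, 3, 1, 2, 1, 3, 1, 3, 1, 2, 1, 2, 2, 1, 2, 1]))) (.node 1166 (.leaf 259 0 [1, 2, 1, 2, 1, 2, 2, 1, 3, 1, 3, 1, 2, 2, 1, 2, 1, 3, 3, 1, 3, 1, 3, 1, 3, 1, 2, 1, 6, 4, 5, 4, 6, 6, 6, 4, 6]) (.node 1167 (.leaf 177 6 [3, 1, 2, 1, 2, 1, 2, 1, 3, 1, 3, 1, 2, 2, 1, 2, 1, 2, 1, 3, 1, 5, 5, 4, 6, 6, 6, 4, 5, 4, 6, 6, 4, 5, 5, 4, 6, 4, 1, 3, 3, 1, 3, 1]) (.leaf 354 17 [3, 1, 3, 3, 1, 2, 2, 1, 3, 3, 1, 6, 6, 6, 1, 2, 1, 2, 1, 3, 3, 1, 2, 2, 1, 2, 1, 2, 1, 3, 1]))))) (.node 1173 (.node 1170 (.node 1169 (.leaf 74 13 [3, 1, 2, 1, 2, 2, 1, 3, 3, 1, 3, 3, 5, 5, 4, 6, 6, 4, 2, 1, 3, 3, 1, 2, 1, 3, 1, 2, 1, 2, 1]) (.leaf 13 28 [5, 1, 3, 3, 1, 2, 1, 2, 1, 2, 1, 2, 2, 1, 3, 3, 1, 2, 1, 4, 6, 4, 5, 4, 6, 6, 4, 5, 4])) (.node 1171 (.leaf 151 7 [1, 3, 1, 2, 2, 1, 2, 2, 1, 2, 2, 1, 3, 1, 2, 2, 1, 2, 2, 5, 5, 4, 6, 6, 4, 5, 2, 1, 3, 3, 1, 3, 3]) (.node 1172 (.leaf 166 1 [1, 2, 1, 2, 1, 2, 2, 1, 3, 1, 2, 1, 2, 1, 3, 3, 1, 2, 2, 1, 3, 1, 2, 2, 1, 3, 5, 5, 4, 6, 6, 4, 5, 5, 2]) (.leaf 294 28 [6, 6, 6, 4, 5, 4, 6, 6, 4, 5, 2, 2, 1, 3, 3, 1, 2, 1, 3, 3, 1, 3, 1, 3, 1, 3, 1, 3, 1, 3, 3, 1, 3, 1, 2, 1, 2, 2])))) (.node 1176 (.node 1174 (.leaf 109 6 [1, 3, 3, 1, 3, 1, 2, 2, 1, 2, 1, 3, 1, 2, 1, 2, 1, 2, 2, 6, 4, 5, 5, 5, 2, 2, 1, 2, 1, 2]) (.node 1175 (.leaf 226 7 [1, 3, 3, 1, 3, 1, 2, 1, 2, 1, 2, 2, 1, 2, 2, 1, 2, 1, 3, 3, 6, 4, 5, 4, 6, 4, 5, 5, 5, 2, 2, 1, 2, 2, 1, 3]) (.leaf 21 5 [1, 3, 3, 1, 2, 2, 1, 2, 2, 1, 2, 1, 3, 3, 1, 2, 2, 4, 5, 4, 6, 6, 4, 5, 4, 6, 6, 6, 4, 6, 2, 1, 2, 1, 2]))) (.node 1177 (.leaf 50 27 [5, 5, 5, 5, 1, 3, 3, 1, 2, 1, 3, 3, 1, 2, 2, 1, 2, 1, 3, 3, 1, 3, 3, 1, 2, 2, 1, 3, 4, 6, 4]) (.node 1178 (.leaf 123 26 [5, 4, 6, 4, 5, 4, 6, 6, 4, 5, 4, 6, 6, 6, 4, 6, 2, 2, 1, 3, 1, 3, 3, 1, 2, 1, 2, 2, 1, 3, 1, 2, 1, 3, 1, 2, 2, 1, 2, 1, 3, 1]) (.leaf 143 33 [4, 3, 3, 1, 2, 2, 1, 2, 2, 1, 3, 3, 1, 2, 1, 3, 3, 1, 3, 3, 1, 3, 3, 1, 3, 1, 3, 4, 6, 4, 5, 5, 5, 5]))))))) (.node 1201 (.node 1190 (.node 1184 (.node 1181 (.node 1180 (.leaf 201 22 [1, 2, 2, 1, 3, 4, 5, 5, 5, 4, 6, 4, 5, 5, 4, 6, 4, 5, 5, 2, 2, 1, 3, 1, 3, 3, 1, 3, 1, 3, 1, 2, 2, 1, 3, 1, 3, 1, 3, 1, 3]) (.leaf 243 23 [2, 1, 2, 1, 4, 6, 4, 5, 5, 5, 4, 6, 4, 5, 5, 4, 6, 2, 2, 1, 2, 1, 3, 1, 3, 3, 1, 2, 2, 1, 2, 1, 2, 2, 1, 2, 1, 3, 3, 1])) (.node 1182 (.leaf 311 1 [1, 3, 1, 2, 1, 3, 1, 2, 1, 3, 3, 1, 2, 2, 1, 2, 1, 2, 2, 1, 3, 3, 1, 2, 1, 2, 2, 5, 4, 5, 5, 5, 4, 6, 4, 5, 5, 4, 2]) (.node 1183 (.leaf 376 34 [6, 6, 1, 3, 1, 3, 1, 3, 1, 3, 3, 1, 2, 2, 1, 2, 1, 3, 1, 3, 1, 3, 3, 1, 2, 1, 3, 1, 2, 1, 6, 4, 5, 5, 4, 6]) (.leaf 6 12 [1, 3, 1, 3, 1, 3, 1, 3, 1, 3, 1, 3, 1, 3, 1, 3, 1, 3, 1, 3, 1, 3, 1, 3, 1, 3, 1, 3, 1, 3, 1, 3, 1, 3, 1, 3, 1, 3])))) (.node 1187 (.node 1185 (.leaf 195 9 [1, 3, 1, 3, 1, 3, 3, 1, 3, 1, 2, 1, 2, 1, 2, 1, 2, 1, 6, 4, 5, 4, 6, 6, 4, 5, 4, 6, 4, 5, 1, 2, 1, 3, 1, 2, 2, 1, 2]) (.node 1186 (.leaf 271 29 [5, 4, 6, 4, 5, 4, 6, 4, 5, 4, 6, 6, 4, 5, 4, 2, 2, 1, 2, 1, 2, 1, 2, 1, 3, 1, 2, 1, 2, 1, 3, 1, 2, 1, 2, 2, 1, 3, 1, 2, 1, 3, 1, 4]) (.leaf 16 20 [4, 5, 4, 6, 6, 4, 5, 4, 6, 4, 5, 4, 6, 6, 1, 2, 1, 3, 1, 2, 1, 3, 1, 2, 2, 1, 2, 1, 2, 1, 2, 2, 1, 6]))) (.node 1188 (.leaf 90 25 [6, 6, 4, 5, 4, 6, 6, 4, 5, 5, 4, 6, 4, 5, 1, 2, 2, 1, 2, 1, 3, 1, 2, 2, 1, 2, 1, 2, 2, 1, 3, 1, 3, 1, 2, 1, 2, 2, 1]) (.node 1189 (.leaf 95 11 [2, 1, 3, 1, 3, 3, 1, 3, 1, 3, 1, 3, 3, 1, 6, 6, 4, 5, 4, 6, 4, 5, 5, 1, 2, 2, 1, 2, 1, 2, 1, 2, 2, 1]) (.leaf 260 11 [1, 2, 2, 1, 3, 3, 1, 2, 1, 2, 1, 3, 1, 3, 1, 3, 3, 4, 5, 4, 6, 6, 4, 5, 4, 6, 4, 3, 3, 1, 3, 1, 3, 3, 1, 2, 1, 2]))))) (.node 1195 (.node 1192 (.node 1191 (.leaf 289 36 [4, 1, 3, 1, 3, 1, 3, 3, 1, 3, 1, 2, 1, 2, 2, 1, 3, 1, 2, 1, 2, 2, 1, 3, 3, 1, 3, 1, 3, 6, 4, 6, 6, 6, 6, 4, 5]) (.leaf 27 15 [2, 2, 1, 2, 1, 2, 2, 4, 6, 4, 5, 5, 4, 6, 4, 5, 5, 4, 1, 2, 1, 2, 2, 1, 3, 3, 1, 3, 1, 2, 1, 3, 1])) (.node 1193 (.leaf 76 2 [1, 3, 1, 2, 1, 2, 1, 3, 3, 1, 2, 2, 1, 3, 1, 2, 2, 1, 2, 2, 1, 2, 2, 6, 4, 5, 4, 6, 6, 4, 5, 5, 4, 6, 1, 2]) (.node 1194 (.leaf 142 18 [1, 3, 1, 2, 1, 3, 1, 3, 4, 5, 4, 5, 5, 5, 5, 4, 2, 1, 3, 3, 1, 2, 1, 3, 1, 3, 1, 2, 2, 1, 3, 3, 1, 3]) (.leaf 337 16 [1, 2, 2, 1, 3, 3, 1, 3, 3, 1, 3, 1, 5, 5, 4, 6, 4, 5, 4, 6, 4, 5, 5, 4, 6, 4, 5, 3, 3, 1, 2, 2, 1, 2, 1, 3, 1, 2, 2, 1, 2, 1, 2])))) (.node 1198 (.node 1196 (.leaf 101 25 [4, 6, 4, 5, 4, 6, 6, 4, 5, 1, 3, 1, 2, 1, 2, 1, 2, 2, 1, 2, 1, 2, 2, 1, 2, 2, 1, 2, 1, 2, 2, 1, 2, 1]) (.node 1197 (.leaf 237 8 [1, 2, 2, 1, 3, 1, 2, 1, 2, 2, 1, 2, 2, 1, 2, 2, 1, 3, 3, 6, 4, 5, 5, 4, 6, 1, 3, 1, 2, 2, 1, 2, 2]) (.leaf 18 13 [2, 1, 2, 2, 1, 3, 1, 3, 6, 6, 6, 4, 5, 5, 5, 4, 2, 1, 3, 1, 2, 2, 1, 3, 1, 3, 1, 3, 1]))) (.node 1199 (.leaf 179 8 [1, 2, 1, 2, 2, 1, 3, 3, 1, 2, 2, 1, 3, 3, 1, 3, 1, 2, 1, 5, 4, 5, 5, 5, 4, 6, 6, 6, 4, 3, 3, 1, 2, 1, 2, 1, 3]) (.node 1200 (.leaf 174 29 [5, 5, 4, 3, 3, 1, 3, 1, 2, 2, 1, 3, 3, 1, 2, 2, 1, 3, 3, 1, 2, 1, 2, 1, 2, 1, 2, 1, 3, 1, 5, 5]) (.leaf 259 32 [6, 6, 6, 4, 6, 1, 2, 1, 2, 1, 2, 2, 1, 3, 1, 3, 1, 2, 2, 1, 2, 1, 3, 3, 1, 3, 1, 3, 1, 3, 1, 2, 1, 6, 4, 5, 4])))))) (.node 1212 (.node 1206 (.node 1203 (.node 1202 (.leaf 34 7 [1, 3, 1, 2, 1, 2, 1, 2, 2, 1, 2, 1, 3, 1, 2, 2, 4, 5, 5, 5, 4, 6, 4, 5, 4, 2, 2, 1, 2, 2, 1, 3]) (.leaf 117 24 [1, 3, 5, 5, 5, 5, 4, 6, 3, 3, 1, 2, 2, 1, 2, 1, 3, 1, 3, 3, 1, 2, 1, 3, 1, 2, 1, 3, 3, 1, 3, 3])) (.node 1204 (.leaf 6 30 [1, 3, 1, 3, 1, 3, 1, 3, 1, 3, 1, 3, 1, 3, 1, 3, 1, 3, 1, 3, 1, 3, 1, 3, 1, 3, 1, 3, 1, 3, 1, 3, 1, 3, 1, 3, 1, 3]) (.node 1205 (.leaf 267 3 [2, 1, 2, 1, 3, 3, 1, 2, 2, 1, 2, 2, 1, 2, 1, 2, 2, 1, 2, 2, 1, 2, 2, 1, 3, 4, 5, 5, 4, 6, 1, 3, 1]) (.leaf 376 25 [1, 2, 1, 6, 4, 5, 5, 4, 6, 6, 6, 1, 3, 1, 3, 1, 3, 1, 3, 3, 1, 2, 2, 1, 2, 1, 3, 1, 3, 1, 3, 3, 1, 2, 1, 3])))) (.node 1209 (.node 1207 (.leaf 46 9 [3, 3, 1, 2, 1, 2, 2, 1, 2, 1, 3, 1, 2, 1, 4, 5, 5, 5, 5, 4, 6, 6, 6, 1, 3, 1, 3, 3, 1, 2, 2, 1]) (.node 1208 (.leaf 145 13 [1, 3, 3, 1, 3, 3, 1, 3, 1, 3, 1, 2, 1, 5, 4, 5, 5, 5, 4, 6, 4, 5, 4, 6, 2, 1, 3, 3, 1, 2, 2, 1, 3, 1, 3, 1, 2]) (.leaf 354 21 [1, 2, 2, 1, 3, 3, 1, 6, 6, 6, 1, 2, 1, 2, 1, 3, 3, 1, 2, 2, 1, 2, 1, 2, 1, 3, 1, 3, 1, 3, 3]))) (.node 1210 (.leaf 372 18 [1, 2, 1, 3, 1, 3, 3, 1, 2, 1, 6, 4, 6, 6, 6, 4, 6, 1, 2, 2, 1, 3, 3, 1, 2, 1, 3, 3, 1, 3, 1, 2, 1, 3, 3]) (.node 1211 (.leaf 224 15 [1, 3, 1, 3, 1, 2, 1, 3, 1, 3, 1, 3, 5, 5, 4, 6, 6, 4, 5, 4, 6, 6, 6, 2, 2, 1, 3, 3, 1, 3, 1, 3, 1, 2, 2, 1, 2, 2]) (.leaf 101 14 [1, 2, 2, 1, 2, 1, 2, 2, 1, 2, 1, 4, 6, 4, 5, 4, 6, 6, 4, 5, 1, 3, 1, 2, 1, 2, 1, 2, 2, 1, 2, 1, 2, 2]))))) (.node 1217 (.node 1214 (.node 1213 (.leaf 80 2 [1, 2, 1, 3, 1, 3, 1, 2, 1, 2, 2, 1, 2, 1, 3, 1, 2, 1, 3, 1, 2, 2, 1, 5, 4, 6, 4, 5, 5, 4, 6, 3, 3]) (.leaf 257 15 [1, 2, 1, 2, 1, 2, 1, 3, 1, 3, 3, 1, 6, 6, 4, 5, 4, 1, 2, 2, 1, 3, 1, 3, 1, 3, 3, 1, 3, 1, 2, 2])) (.node 1215 (.leaf 289 18 [1, 2, 2, 1, 3, 3, 1, 3, 1, 3, 6, 4, 6, 6, 6, 6, 4, 5, 4, 1, 3, 1, 3, 1, 3, 3, 1, 3, 1, 2, 1, 2, 2, 1, 3, 1, 2]) (.node 1216 (.leaf 51 26 [6, 6, 6, 6, 4, 6, 1, 2, 1, 3, 1, 3, 3, 1, 2, 2, 1, 3, 1, 2, 1, 3, 1, 3, 1, 3, 3, 1, 2, 2, 5, 4]) (.leaf 379 23 [1, 2, 1, 3, 1, 4, 6, 4, 5, 5, 5, 4, 6, 3, 3, 1, 2, 1, 2, 1, 3, 1, 2, 1, 3, 1, 2, 2, 1, 2, 1, 2, 1, 2, 1, 2])))) (.node 1220 (.node 1218 (.leaf 197 15 [1, 3, 3, 1, 2, 1, 3, 3, 1, 3, 3, 1, 4, 6, 4, 5, 5, 4, 6, 4, 5, 4, 6, 4, 5, 5, 1, 2, 1, 3, 1, 3, 3, 1, 2, 1, 2, 1, 3, 1, 3]) (.node 1219 (.leaf 101 2 [1, 2, 1, 2, 1, 2, 2, 1, 2, 1, 2, 2, 1, 2, 2, 1, 2, 1, 2, 2, 1, 2, 1, 4, 6, 4, 5, 4, 6, 6, 4, 5, 1, 3]) (.leaf 109 22 [1, 2, 2, 6, 4, 5, 5, 5, 2, 2, 1, 2, 1, 2, 1, 3, 3, 1, 3, 1, 2, 2, 1, 2, 1, 3, 1, 2, 1, 2]))) (.node 1221 (.leaf 174 18 [1, 2, 1, 2, 1, 2, 1, 3, 1, 5, 5, 5, 5, 4, 3, 3, 1, 3, 1, 2, 2, 1, 3, 3, 1, 2, 2, 1, 3, 3, 1, 2]) (.node 1222 (.leaf 387 15 [3, 1, 3, 1, 2, 2, 1, 3, 3, 1, 2, 2, 1, 4, 6, 4, 6, 6, 6, 6, 4, 5, 4, 2, 1, 2, 1, 3, 3, 1, 2, 2, 1, 2, 1, 2, 2, 1]) (.leaf 7 21 [1, 2, 2, 1, 2, 2, 1, 2, 2, 1, 2, 2, 1, 2, 2, 1, 2, 2, 1, 2, 2, 1, 2, 2, 1, 2, 2, 1, 2, 2]))))))))) (.node 1310 (.node 1266 (.node 1244 (.node 1233 (.node 1228 (.node 1225 (.node 1224 (.leaf 34 31 [4, 2, 2, 1, 2, 2, 1, 3, 1, 3, 1, 2, 1, 2, 1, 2, 2, 1, 2, 1, 3, 1, 2, 2, 4, 5, 5, 5, 4, 6, 4, 5]) (.leaf 50 8 [1, 2, 2, 1, 2, 1, 3, 3, 1, 3, 3, 1, 2, 2, 1, 3, 4, 6, 4, 5, 5, 5, 5, 1, 3, 3, 1, 2, 1, 3, 3])) (.node 1226 (.leaf 154 41 [6, 2, 1, 2, 2, 1, 3, 1, 2, 1, 2, 1, 2, 1, 2, 2, 1, 3, 1, 3, 1, 2, 1, 3, 1, 2, 2, 4, 5, 4, 5, 5, 5, 4, 6, 4, 5, 5, 5, 4, 6, 6]) (.node 1227 (.leaf 226 9 [3, 1, 3, 1, 2, 1, 2, 1, 2, 2, 1, 2, 2, 1, 2, 1, 3, 3, 6, 4, 5, 4, 6, 4, 5, 5, 5, 2, 2, 1, 2, 2, 1, 3, 1, 3]) (.leaf 370 31 [6, 6, 4, 5, 5, 5, 2, 2, 1, 3, 3, 1, 3, 1, 2, 2, 1, 3, 1, 3, 1, 3, 1, 3, 1, 3, 1, 3, 1, 3, 3, 1, 2, 2, 4, 5, 4])))) (.node 1230 (.node 1229 (.leaf 62 20 [3, 1, 3, 1, 4, 5, 4, 6, 6, 4, 5, 4, 6, 4, 5, 4, 6, 6, 4, 2, 1, 3, 3, 1, 3, 3, 1, 2, 2, 1, 2, 1, 2, 2, 1, 2, 1, 3, 1]) (.leaf 169 20 [3, 3, 1, 2, 1, 3, 3, 4, 6, 4, 5, 5, 4, 6, 4, 5, 5, 2, 2, 1, 3, 1, 3, 1, 2, 2, 1, 2, 1, 3, 1, 2, 1, 2, 1, 3, 1])) (.node 1231 (.leaf 22 8 [1, 2, 2, 1, 3, 1, 2, 2, 1, 2, 2, 1, 3, 1, 5, 5, 4, 6, 4, 5, 4, 3, 3, 1, 2, 1, 2, 1, 2]) (.node 1232 (.leaf 271 25 [1, 3, 1, 4, 5, 4, 6, 4, 5, 4, 6, 4, 5, 4, 6, 6, 4, 5, 4, 2, 2, 1, 2, 1, 2, 1, 2, 1, 3, 1, 2, 1, 2, 1, 3, 1, 2, 1, 2, 2, 1, 3, 1, 2]) (.leaf 302 41 [6, 4, 5, 4, 1, 3, 1, 3, 3, 1, 2, 2, 1, 2, 2, 1, 3, 1, 2, 2, 1, 2, 2, 1, 2, 1, 2, 1, 3, 1, 3, 3, 4, 5, 4, 6, 4, 5, 4, 6, 4, 5, 4, 6, 6]))))) (.node 1238 (.node 1235 (.node 1234 (.leaf 24 22 [5, 5, 5, 5, 4, 6, 4, 5, 5, 1, 2, 1, 3, 1, 3, 3, 1, 3, 3, 1, 3, 1, 2, 1, 2, 1, 3, 3, 1, 3, 1]) (.leaf 369 10 [1, 2, 2, 1, 2, 1, 3, 1, 3, 3, 1, 3, 3, 1, 3, 1, 3, 3, 4, 5, 5, 4, 6, 4, 2, 1, 2, 2, 1, 2, 1, 2, 1, 2])) (.node 1236 (.leaf 143 26 [4, 6, 4, 5, 5, 5, 5, 4, 3, 3, 1, 2, 2, 1, 2, 2, 1, 3, 3, 1, 2, 1, 3, 3, 1, 3, 3, 1, 3, 3, 1, 3, 1, 3]) (.node 1237 (.leaf 40 25 [6, 4, 5, 4, 6, 4, 5, 5, 4, 3, 3, 1, 2, 1, 3, 3, 1, 2, 1, 3, 1, 2, 1, 3, 3, 1, 3, 1, 2, 2, 1, 3, 5, 4]) (.leaf 119 27 [6, 6, 4, 5, 5, 5, 4, 5, 1, 3, 3, 1, 3, 1, 2, 2, 1, 2, 1, 2, 2, 1, 3, 3, 1, 3, 1, 3, 1, 3, 1, 3, 3, 1, 4])))) (.node 1241 (.node 1239 (.leaf 133 9 [3, 1, 2, 1, 2, 1, 2, 2, 1, 2, 1, 2, 2, 1, 2, 1, 3, 4, 5, 5, 4, 6, 4, 5, 5, 4, 6, 4, 5, 5, 2, 1, 2, 1, 2, 2, 1, 2, 1]) (.node 1240 (.leaf 138 14 [3, 1, 3, 3, 1, 2, 1, 2, 2, 1, 2, 2, 6, 4, 5, 5, 4, 6, 4, 1, 3, 1, 3, 1, 2, 2, 1, 3, 3, 1, 3, 3, 1]) (.leaf 341 29 [5, 4, 6, 4, 5, 4, 6, 4, 5, 4, 6, 4, 5, 5, 3, 3, 1, 2, 2, 1, 2, 1, 2, 2, 1, 2, 2, 1, 3, 1, 3, 3, 1, 3, 1, 2, 1, 3, 3, 1, 3, 1, 4]))) (.node 1242 (.leaf 388 11 [2, 1, 2, 1, 3, 1, 3, 1, 3, 1, 3, 1, 3, 1, 3, 3, 1, 5, 4, 6, 4, 5, 4, 6, 4, 5, 5, 4, 6, 4, 1, 3, 3, 1, 3, 1, 3, 3, 1, 2, 1]) (.node 1243 (.leaf 125 39 [5, 2, 1, 3, 3, 1, 2, 2, 1, 3, 1, 2, 1, 2, 2, 1, 2, 1, 2, 1, 3, 3, 1, 2, 1, 2, 1, 4, 6, 6, 4, 5, 4, 6, 6, 4, 5, 4, 6, 4]) (.leaf 230 35 [5, 4, 1, 2, 1, 3, 1, 3, 1, 3, 1, 2, 2, 1, 2, 1, 2, 2, 1, 2, 1, 3, 1, 2, 1, 2, 2, 1, 3, 4, 5, 4, 6, 6, 4, 5, 5])))))) (.node 1255 (.node 1249 (.node 1246 (.node 1245 (.leaf 354 7 [1, 2, 2, 1, 2, 1, 2, 1, 3, 1, 3, 1, 3, 3, 1, 2, 2, 1, 3, 3, 1, 6, 6, 6, 1, 2, 1, 2, 1, 3, 3]) (.leaf 10 30 [3, 3, 1, 3, 3, 3, 1, 3, 3, 3, 1, 3, 3, 3, 1, 3, 3, 3, 1, 3, 3, 3, 1, 3, 3, 3, 1, 3, 3, 3, 1, 3, 3, 3, 1, 3, 3, 3, 1, 3])) (.node 1247 (.leaf 334 35 [4, 6, 4, 5, 4, 3, 3, 1, 2, 1, 2, 1, 2, 1, 3, 3, 1, 2, 2, 1, 3, 3, 1, 2, 1, 2, 1, 2, 2, 1, 3, 1, 3, 4, 5, 5, 4, 6, 4, 5]) (.node 1248 (.leaf 166 27 [5, 5, 4, 6, 6, 4, 5, 5, 2, 1, 2, 1, 2, 1, 2, 2, 1, 3, 1, 2, 1, 2, 1, 3, 3, 1, 2, 2, 1, 3, 1, 2, 2, 1, 3]) (.leaf 325 27 [3, 4, 6, 4, 5, 5, 4, 6, 6, 6, 1, 3, 3, 1, 2, 1, 3, 1, 3, 1, 3, 1, 2, 2, 1, 3, 1, 3, 1, 3, 1, 3, 3, 1, 2, 2, 1])))) (.node 1252 (.node 1250 (.leaf 277 12 [1, 3, 1, 2, 1, 3, 1, 2, 1, 2, 1, 3, 3, 1, 2, 2, 5, 5, 4, 6, 6, 4, 5, 5, 1, 2, 2, 1, 2, 2, 1, 2, 1, 2, 1, 2]) (.node 1251 (.leaf 213 34 [5, 1, 3, 1, 3, 3, 1, 3, 3, 1, 3, 1, 3, 1, 2, 1, 3, 1, 3, 1, 3, 3, 1, 3, 1, 3, 1, 3, 5, 4, 5, 5, 5, 5, 4]) (.leaf 104 8 [1, 3, 3, 1, 2, 2, 1, 3, 3, 1, 3, 1, 2, 2, 1, 2, 1, 6, 6, 4, 5, 4, 6, 4, 5, 5, 4, 6, 4, 1, 3, 1, 2, 1, 2, 1, 3]))) (.node 1253 (.leaf 390 1 [1, 3, 1, 2, 2, 1, 3, 1, 2, 2, 1, 2, 1, 2, 1, 3, 3, 1, 2, 1, 3, 3, 1, 2, 1, 2, 2, 1, 5, 4, 6, 6, 6, 2]) (.node 1254 (.leaf 257 8 [3, 3, 1, 3, 1, 2, 2, 1, 2, 1, 2, 1, 2, 1, 3, 1, 3, 3, 1, 6, 6, 4, 5, 4, 1, 2, 2, 1, 3, 1, 3, 1]) (.leaf 120 7 [1, 3, 1, 3, 1, 2, 1, 3, 1, 3, 1, 3, 1, 3, 3, 1, 2, 1, 3, 4, 6, 4, 6, 6, 6, 4, 5, 5, 1, 3, 1, 3, 1, 3, 3]))))) (.node 1260 (.node 1257 (.node 1256 (.leaf 122 36 [4, 5, 1, 2, 1, 3, 3, 1, 2, 1, 2, 2, 1, 3, 3, 1, 3, 1, 2, 2, 1, 2, 2, 1, 3, 1, 2, 2, 4, 5, 5, 5, 4, 6, 4, 5, 5, 5]) (.leaf 219 27 [5, 4, 5, 5, 5, 4, 6, 4, 5, 5, 5, 4, 2, 1, 2, 2, 1, 2, 1, 3, 1, 2, 1, 2, 1, 2, 2, 1, 2, 2, 1, 3, 3, 1, 3, 1, 3, 3, 1])) (.node 1258 (.leaf 277 29 [5, 4, 6, 6, 4, 5, 5, 1, 2, 2, 1, 2, 2, 1, 2, 1, 2, 1, 2, 1, 3, 1, 2, 1, 3, 1, 2, 1, 2, 1, 3, 3, 1, 2, 2, 5]) (.node 1259 (.leaf 335 25 [1, 2, 2, 6, 6, 6, 4, 5, 5, 5, 4, 6, 6, 6, 4, 3, 3, 1, 2, 1, 3, 3, 1, 2, 1, 3, 3, 1, 2, 1, 3, 1, 2, 2, 1, 3, 1, 2, 1, 3]) (.leaf 343 1 [2, 1, 2, 2, 1, 3, 3, 1, 2, 1, 2, 1, 2, 2, 1, 2, 1, 3, 3, 1, 3, 3, 1, 3, 3, 1, 3, 6, 6, 6, 4, 5, 5, 5, 4, 6, 6, 6, 4, 5, 5, 5, 1])))) (.node 1263 (.node 1261 (.leaf 394 0 [2, 2, 1, 3, 1, 2, 2, 1, 2, 2, 1, 2, 2, 1, 2, 1, 2, 2, 1, 3, 1, 3, 1, 3, 1, 3, 3, 1, 3, 5, 4, 5, 5, 5, 4, 6, 4, 5, 5, 5, 4, 6, 4, 5]) (.node 1262 (.leaf 32 33 [5, 4, 1, 3, 3, 1, 3, 1, 2, 2, 1, 3, 3, 1, 2, 2, 1, 2, 1, 2, 1, 2, 1, 3, 1, 4, 6, 4, 5, 5, 5, 4, 6, 6, 4]) (.leaf 44 32 [5, 5, 4, 3, 3, 1, 3, 3, 1, 2, 2, 1, 2, 1, 2, 1, 3, 1, 3, 3, 1, 2, 1, 2, 2, 1, 4, 6, 4, 5, 4, 6, 6, 4, 5]))) (.node 1264 (.leaf 46 10 [3, 1, 2, 1, 2, 2, 1, 2, 1, 3, 1, 2, 1, 4, 5, 5, 5, 5, 4, 6, 6, 6, 1, 3, 1, 3, 3, 1, 2, 2, 1, 3]) (.node 1265 (.leaf 47 19 [1, 2, 2, 1, 5, 5, 5, 4, 6, 6, 4, 2, 2, 1, 2, 1, 3, 1, 2, 2, 1, 2, 2, 1, 3, 3, 1, 3, 1, 2]) (.leaf 72 3 [2, 1, 3, 1, 2, 1, 2, 2, 1, 2, 1, 2, 1, 2, 1, 2, 1, 2, 2, 1, 3, 1, 6, 6, 6, 4, 5, 4, 6, 6, 4, 5, 2, 2, 1]))))))) (.node 1288 (.node 1277 (.node 1271 (.node 1268 (.node 1267 (.leaf 106 3 [3, 1, 3, 1, 2, 1, 2, 2, 1, 2, 1, 3, 1, 3, 1, 3, 1, 2, 2, 1, 2, 2, 5, 4, 6, 6, 6, 6, 4, 2, 1, 3]) (.leaf 113 1 [2, 1, 3, 1, 2, 1, 3, 1, 2, 1, 3, 1, 2, 2, 1, 2, 2, 1, 3, 3, 1, 3, 3, 1, 3, 4, 6, 4, 5, 5, 5, 4, 6, 6, 6, 4, 5, 5, 5, 2])) (.node 1269 (.leaf 166 14 [1, 3, 3, 1, 2, 2, 1, 3, 1, 2, 2, 1, 3, 5, 5, 4, 6, 6, 4, 5, 5, 2, 1, 2, 1, 2, 1, 2, 2, 1, 3, 1, 2, 1, 2]) (.node 1270 (.leaf 167 20 [3, 1, 3, 3, 1, 3, 1, 5, 4, 6, 6, 4, 5, 5, 5, 1, 3, 1, 3, 1, 3, 1, 2, 1, 3, 1, 2, 1, 2, 1, 2, 1, 2, 2, 1]) (.leaf 169 24 [1, 3, 3, 4, 6, 4, 5, 5, 4, 6, 4, 5, 5, 2, 2, 1, 3, 1, 3, 1, 2, 2, 1, 2, 1, 3, 1, 2, 1, 2, 1, 3, 1, 3, 3, 1, 2])))) (.node 1274 (.node 1272 (.leaf 189 17 [3, 3, 1, 2, 2, 1, 3, 3, 1, 3, 4, 5, 5, 5, 4, 6, 6, 6, 4, 5, 1, 3, 1, 2, 1, 3, 3, 1, 3, 1, 3, 1, 2, 1, 3, 3, 1]) (.node 1273 (.leaf 230 20 [1, 2, 1, 2, 2, 1, 3, 4, 5, 4, 6, 6, 4, 5, 5, 5, 4, 1, 2, 1, 3, 1, 3, 1, 3, 1, 2, 2, 1, 2, 1, 2, 2, 1, 2, 1, 3]) (.leaf 246 38 [6, 4, 1, 2, 1, 2, 2, 1, 2, 2, 1, 2, 1, 2, 1, 2, 1, 3, 3, 1, 3, 1, 3, 3, 1, 3, 1, 3, 3, 6, 6, 6, 4, 5, 4, 6, 6, 4, 5, 4]))) (.node 1275 (.leaf 255 30 [6, 4, 5, 4, 6, 4, 5, 4, 6, 6, 4, 1, 2, 2, 1, 3, 3, 1, 2, 1, 2, 2, 1, 2, 1, 2, 1, 3, 3, 1, 3, 1, 2, 2, 1, 2, 1, 3, 5, 4, 6]) (.node 1276 (.leaf 265 10 [2, 1, 2, 2, 1, 2, 1, 3, 3, 1, 2, 1, 3, 3, 1, 2, 1, 3, 5, 4, 6, 4, 5, 4, 6, 4, 5, 5, 4, 6, 6, 3, 3, 1, 2, 2, 1, 2, 1, 3, 1]) (.leaf 291 12 [3, 1, 3, 1, 2, 2, 1, 2, 1, 3, 1, 3, 3, 1, 2, 1, 4, 6, 4, 6, 6, 6, 4, 5, 4, 6, 6, 4, 5, 4, 5, 3, 3, 1, 3, 3, 1, 3, 1, 3, 3, 1, 3]))))) (.node 1282 (.node 1279 (.node 1278 (.leaf 305 39 [6, 1, 3, 1, 3, 3, 1, 2, 2, 1, 3, 1, 3, 3, 1, 2, 1, 2, 1, 2, 1, 2, 1, 2, 2, 1, 3, 3, 1, 4, 6, 4, 5, 5, 4, 6, 4, 5, 5, 4]) (.leaf 339 12 [3, 1, 2, 2, 1, 3, 1, 2, 2, 1, 2, 1, 3, 1, 2, 2, 6, 6, 6, 4, 5, 5, 5, 4, 6, 6, 6, 4, 2, 1, 3, 3, 1, 2, 1, 3, 1, 2, 2, 1])) (.node 1280 (.leaf 344 25 [1, 3, 3, 4, 6, 6, 4, 5, 5, 4, 6, 6, 2, 2, 1, 3, 3, 1, 2, 1, 3, 3, 1, 3, 3, 1, 2, 1, 2, 1, 3, 1, 3, 3, 1, 3, 3]) (.node 1281 (.leaf 359 11 [2, 1, 2, 1, 2, 1, 3, 1, 3, 3, 1, 2, 2, 1, 2, 1, 3, 6, 6, 6, 4, 5, 4, 6, 6, 4, 5, 4, 6, 4, 5, 3, 3, 1, 3, 1, 2, 1, 3, 1, 2, 1]) (.leaf 372 28 [6, 4, 6, 6, 6, 4, 6, 1, 2, 2, 1, 3, 3, 1, 2, 1, 3, 3, 1, 3, 1, 2, 1, 3, 3, 1, 2, 1, 3, 1, 3, 3, 1, 2, 1])))) (.node 1285 (.node 1283 (.leaf 387 22 [3, 3, 1, 2, 2, 1, 4, 6, 4, 6, 6, 6, 6, 4, 5, 4, 2, 1, 2, 1, 3, 3, 1, 2, 2, 1, 2, 1, 2, 2, 1, 3, 1, 3, 1, 2, 2, 1]) (.node 1284 (.leaf 181 26 [3, 4, 5, 5, 4, 6, 4, 1, 3, 1, 2, 2, 1, 3, 1, 2, 1, 3, 3, 1, 2, 1, 3, 3, 1, 2, 1, 3, 1, 3, 1, 3, 1]) (.leaf 195 31 [6, 6, 4, 5, 4, 6, 4, 5, 1, 2, 1, 3, 1, 2, 2, 1, 2, 1, 3, 1, 3, 1, 3, 3, 1, 3, 1, 2, 1, 2, 1, 2, 1, 2, 1, 6, 4, 5, 4]))) (.node 1286 (.leaf 249 37 [6, 4, 1, 2, 2, 1, 2, 2, 1, 2, 2, 1, 2, 1, 2, 1, 2, 2, 1, 3, 3, 1, 3, 3, 1, 2, 1, 2, 1, 6, 4, 5, 4, 6, 6, 4, 5, 4, 6]) (.node 1287 (.leaf 284 26 [1, 3, 4, 6, 4, 5, 5, 5, 4, 6, 6, 1, 3, 1, 3, 1, 2, 1, 3, 1, 2, 2, 1, 3, 1, 2, 2, 1, 3, 3, 1, 2, 1, 3, 3, 1, 3]) (.leaf 366 7 [2, 1, 3, 3, 1, 2, 2, 1, 3, 3, 1, 2, 2, 1, 3, 1, 3, 1, 3, 3, 1, 4, 6, 4, 5, 4, 6, 6, 4, 5, 4, 6, 6, 4, 2, 1, 2, 1, 3, 1, 2])))))) (.node 1299 (.node 1293 (.node 1290 (.node 1289 (.leaf 385 25 [3, 3, 1, 6, 6, 4, 5, 5, 4, 2, 2, 1, 3, 3, 1, 3, 3, 1, 2, 2, 1, 3, 1, 3, 3, 1, 3, 1, 2, 1, 2, 1, 2, 1]) (.leaf 389 41 [4, 2, 1, 3, 3, 1, 3, 1, 2, 1, 3, 1, 3, 1, 2, 1, 2, 2, 1, 2, 1, 3, 1, 3, 3, 1, 2, 1, 3, 4, 5, 4, 6, 6, 4, 5, 4, 6, 4, 5, 4, 6])) (.node 1291 (.leaf 169 36 [5, 2, 2, 1, 3, 1, 3, 1, 2, 2, 1, 2, 1, 3, 1, 2, 1, 2, 1, 3, 1, 3, 3, 1, 2, 1, 3, 3, 4, 6, 4, 5, 5, 4, 6, 4, 5]) (.node 1292 (.leaf 226 35 [5, 2, 2, 1, 2, 2, 1, 3, 1, 3, 3, 1, 3, 1, 2, 1, 2, 1, 2, 2, 1, 2, 2, 1, 2, 1, 3, 3, 6, 4, 5, 4, 6, 4, 5, 5]) (.leaf 12 30 [6, 3, 3, 1, 2, 1, 2, 2, 1, 2, 2, 1, 3, 3, 1, 2, 1, 3, 4, 6, 6, 4, 5, 4, 6, 6, 6, 4, 5, 4, 6])))) (.node 1296 (.node 1294 (.leaf 22 11 [1, 3, 1, 2, 2, 1, 2, 2, 1, 3, 1, 5, 5, 4, 6, 4, 5, 4, 3, 3, 1, 2, 1, 2, 1, 2, 1, 2, 2]) (.node 1295 (.leaf 75 20 [1, 2, 1, 3, 3, 6, 6, 4, 5, 5, 5, 4, 6, 4, 5, 5, 5, 4, 1, 2, 1, 3, 1, 2, 1, 3, 3, 1, 3, 3, 1, 2, 2, 1, 3, 3, 1, 2]) (.leaf 212 27 [6, 4, 6, 6, 6, 4, 5, 4, 6, 6, 6, 4, 5, 2, 1, 3, 1, 2, 1, 3, 1, 2, 1, 3, 1, 3, 1, 3, 1, 2, 2, 1, 3, 1, 3, 1, 3, 1, 3, 1]))) (.node 1297 (.leaf 250 9 [2, 1, 2, 1, 2, 1, 3, 1, 2, 2, 1, 3, 1, 3, 1, 3, 3, 1, 6, 4, 6, 6, 6, 4, 5, 4, 6, 6, 6, 4, 5, 4, 3, 3, 1, 3, 1, 2, 1, 2, 1]) (.node 1298 (.leaf 322 23 [1, 3, 3, 1, 3, 6, 6, 4, 5, 5, 1, 3, 1, 2, 2, 1, 3, 1, 3, 1, 3, 3, 1, 3, 1, 2, 1, 2, 1, 3, 1, 3, 3]) (.leaf 174 24 [1, 3, 1, 5, 5, 5, 5, 4, 3, 3, 1, 3, 1, 2, 2, 1, 3, 3, 1, 2, 2, 1, 3, 3, 1, 2, 1, 2, 1, 2, 1, 2]))))) (.node 1304 (.node 1301 (.node 1300 (.leaf 138 32 [4, 1, 3, 1, 3, 1, 2, 2, 1, 3, 3, 1, 3, 3, 1, 3, 1, 3, 3, 1, 2, 1, 2, 2, 1, 2, 2, 6, 4, 5, 5, 4, 6]) (.leaf 76 25 [6, 4, 5, 4, 6, 6, 4, 5, 5, 4, 6, 1, 2, 1, 3, 1, 2, 1, 2, 1, 3, 3, 1, 2, 2, 1, 3, 1, 2, 2, 1, 2, 2, 1, 2, 2])) (.node 1302 (.leaf 264 31 [5, 5, 5, 4, 6, 4, 5, 5, 4, 6, 2, 1, 3, 1, 3, 1, 2, 2, 1, 3, 1, 2, 1, 2, 1, 2, 1, 3, 1, 2, 2, 1, 3, 1, 2, 1, 2, 2, 4, 6, 4]) (.node 1303 (.leaf 289 11 [1, 2, 2, 1, 3, 1, 2, 1, 2, 2, 1, 3, 3, 1, 3, 1, 3, 6, 4, 6, 6, 6, 6, 4, 5, 4, 1, 3, 1, 3, 1, 3, 3, 1, 3, 1, 2]) (.leaf 370 36 [5, 2, 2, 1, 3, 3, 1, 3, 1, 2, 2, 1, 3, 1, 3, 1, 3, 1, 3, 1, 3, 1, 3, 1, 3, 3, 1, 2, 2, 4, 5, 4, 6, 6, 4, 5, 5])))) (.node 1307 (.node 1305 (.leaf 294 29 [6, 6, 4, 5, 4, 6, 6, 4, 5, 2, 2, 1, 3, 3, 1, 2, 1, 3, 3, 1, 3, 1, 3, 1, 3, 1, 3, 1, 3, 3, 1, 3, 1, 2, 1, 2, 2, 6]) (.node 1306 (.leaf 63 24 [4, 5, 4, 5, 5, 5, 4, 6, 4, 5, 5, 4, 6, 4, 5, 1, 3, 1, 3, 1, 3, 1, 2, 2, 1, 2, 1, 2, 2, 1, 3, 1, 3, 1, 3, 3, 1, 3, 3]) (.leaf 152 22 [2, 2, 1, 3, 5, 5, 5, 4, 6, 4, 5, 4, 6, 4, 5, 4, 6, 4, 5, 5, 1, 2, 2, 1, 3, 1, 3, 1, 2, 1, 3, 3, 1, 2, 1, 3, 3, 1, 2, 1, 2, 1]))) (.node 1308 (.leaf 209 12 [2, 1, 2, 2, 1, 2, 2, 1, 2, 1, 3, 1, 3, 1, 3, 4, 5, 5, 4, 6, 4, 5, 5, 4, 6, 4, 5, 5, 2, 1, 2, 1, 3, 3, 1, 2, 1, 2, 2, 1]) (.node 1309 (.leaf 227 16 [1, 2, 1, 2, 1, 3, 1, 3, 1, 3, 1, 4, 5, 5, 5, 4, 6, 6, 4, 2, 2, 1, 2, 2, 1, 3, 1, 3, 1, 3, 1, 2, 2, 1, 3]) (.leaf 298 17 [2, 1, 3, 1, 3, 1, 2, 1, 3, 3, 1, 4, 5, 5, 5, 4, 6, 6, 4, 5, 1, 3, 3, 1, 3, 1, 3, 3, 1, 3, 3, 1, 2, 1, 3, 3, 1])))))))) (.node 1354 (.node 1332 (.node 1321 (.node 1315 (.node 1312 (.node 1311 (.leaf 179 1 [3, 1, 2, 1, 2, 1, 3, 1, 2, 1, 2, 2, 1, 3, 3, 1, 2, 2, 1, 3, 3, 1, 3, 1, 2, 1, 5, 4, 5, 5, 5, 4, 6, 6, 6, 4, 3]) (.leaf 237 17 [2, 1, 2, 2, 1, 2, 2, 1, 3, 3, 6, 4, 5, 5, 4, 6, 1, 3, 1, 2, 2, 1, 2, 2, 1, 2, 2, 1, 3, 1, 2, 1, 2])) (.node 1313 (.leaf 138 7 [1, 3, 3, 1, 3, 3, 1, 3, 1, 3, 3, 1, 2, 1, 2, 2, 1, 2, 2, 6, 4, 5, 5, 4, 6, 4, 1, 3, 1, 3, 1, 2, 2]) (.node 1314 (.leaf 380 38 [6, 4, 1, 3, 3, 1, 3, 1, 2, 1, 3, 3, 1, 3, 3, 1, 2, 1, 3, 3, 1, 2, 1, 2, 1, 3, 1, 3, 1, 3, 4, 6, 4, 5, 5, 4, 6, 4, 5, 4]) (.leaf 370 13 [3, 1, 3, 1, 3, 1, 3, 1, 3, 1, 3, 3, 1, 2, 2, 4, 5, 4, 6, 6, 4, 5, 5, 5, 2, 2, 1, 3, 3, 1, 3, 1, 2, 2, 1, 3, 1])))) (.node 1318 (.node 1316 (.leaf 381 27 [3, 4, 5, 5, 4, 6, 4, 5, 5, 4, 6, 6, 4, 2, 2, 1, 2, 1, 2, 1, 3, 1, 3, 3, 1, 3, 1, 2, 1, 3, 3, 1, 2, 2, 1, 2, 1, 3, 1, 3]) (.node 1317 (.leaf 118 36 [5, 5, 4, 6, 1, 3, 3, 1, 2, 1, 2, 2, 1, 2, 2, 1, 2, 1, 2, 1, 3, 1, 3, 3, 1, 3, 1, 2, 1, 3, 4, 5, 4, 6, 4, 5, 5, 4, 6, 4]) (.leaf 325 22 [3, 1, 2, 2, 1, 3, 4, 6, 4, 5, 5, 4, 6, 6, 6, 1, 3, 3, 1, 2, 1, 3, 1, 3, 1, 3, 1, 2, 2, 1, 3, 1, 3, 1, 3, 1, 3]))) (.node 1319 (.leaf 147 37 [5, 2, 2, 1, 3, 1, 3, 3, 1, 3, 3, 1, 2, 2, 1, 3, 1, 3, 1, 2, 1, 2, 1, 2, 1, 3, 3, 5, 5, 4, 6, 4, 5, 5, 4, 6, 6, 4]) (.node 1320 (.leaf 172 17 [1, 2, 1, 2, 2, 1, 3, 3, 1, 3, 4, 6, 6, 4, 5, 4, 6, 4, 1, 3, 3, 1, 3, 1, 2, 1, 2, 2, 1, 2, 1, 2, 2, 1, 2]) (.leaf 228 19 [2, 1, 2, 2, 1, 2, 1, 3, 6, 4, 6, 6, 6, 4, 5, 4, 6, 6, 4, 5, 4, 5, 1, 3, 3, 1, 3, 3, 1, 2, 1, 2, 1, 3, 1, 2, 1, 2, 1, 2, 1]))))) (.node 1326 (.node 1323 (.node 1322 (.leaf 277 28 [5, 5, 4, 6, 6, 4, 5, 5, 1, 2, 2, 1, 2, 2, 1, 2, 1, 2, 1, 2, 1, 3, 1, 2, 1, 3, 1, 2, 1, 2, 1, 3, 3, 1, 2, 2]) (.leaf 270 19 [2, 2, 1, 2, 1, 2, 2, 1, 3, 5, 5, 5, 5, 4, 6, 4, 5, 2, 1, 3, 1, 3, 1, 2, 2, 1, 2, 1, 2, 1, 3, 1, 3, 1, 2, 1])) (.node 1324 (.leaf 92 9 [1, 2, 1, 2, 1, 3, 1, 2, 2, 1, 2, 1, 3, 1, 3, 3, 6, 4, 6, 6, 6, 6, 4, 2, 1, 2, 1, 3, 1, 2, 1, 2]) (.node 1325 (.leaf 13 23 [6, 6, 4, 5, 4, 5, 1, 3, 3, 1, 2, 1, 2, 1, 2, 1, 2, 2, 1, 3, 3, 1, 2, 1, 4, 6, 4, 5, 4]) (.leaf 76 34 [4, 6, 1, 2, 1, 3, 1, 2, 1, 2, 1, 3, 3, 1, 2, 2, 1, 3, 1, 2, 2, 1, 2, 2, 1, 2, 2, 6, 4, 5, 4, 6, 6, 4, 5, 5])))) (.node 1329 (.node 1327 (.leaf 80 25 [5, 4, 6, 4, 5, 5, 4, 6, 3, 3, 1, 2, 1, 3, 1, 3, 1, 2, 1, 2, 2, 1, 2, 1, 3, 1, 2, 1, 3, 1, 2, 2, 1]) (.node 1328 (.leaf 216 15 [1, 3, 1, 3, 1, 2, 1, 3, 3, 1, 3, 1, 6, 4, 5, 5, 4, 6, 2, 2, 1, 2, 1, 3, 3, 1, 3, 1, 3, 3, 1, 2, 2]) (.leaf 369 13 [1, 2, 1, 3, 1, 3, 3, 1, 3, 3, 1, 3, 1, 3, 3, 4, 5, 5, 4, 6, 4, 2, 1, 2, 2, 1, 2, 1, 2, 1, 2, 1, 2, 2]))) (.node 1330 (.leaf 385 7 [3, 1, 2, 2, 1, 3, 1, 3, 3, 1, 3, 1, 2, 1, 2, 1, 2, 1, 3, 3, 1, 6, 6, 4, 5, 5, 4, 2, 2, 1, 3, 3, 1, 3]) (.node 1331 (.leaf 5 23 [2, 1, 2, 1, 2, 1, 2, 1, 2, 1, 2, 1, 2, 1, 2, 1, 2, 1, 2, 1, 2, 1, 2, 1, 2, 1, 2, 1, 2, 1, 2, 1, 2, 1, 2, 1, 2, 1]) (.leaf 263 33 [6, 6, 4, 5, 5, 4, 6, 3, 3, 1, 3, 3, 1, 3, 1, 3, 1, 3, 1, 2, 2, 1, 2, 1, 3, 1, 2, 1, 2, 1, 2, 2, 1, 2, 1, 4, 5, 5, 5, 4])))))) (.node 1343 (.node 1337 (.node 1334 (.node 1333 (.leaf 379 10 [1, 3, 1, 2, 2, 1, 2, 1, 2, 1, 2, 1, 2, 1, 2, 1, 3, 1, 4, 6, 4, 5, 5, 5, 4, 6, 3, 3, 1, 2, 1, 2, 1, 3, 1, 2]) (.leaf 265 1 [3, 1, 2, 2, 1, 2, 1, 3, 1, 2, 1, 2, 2, 1, 2, 1, 3, 3, 1, 2, 1, 3, 3, 1, 2, 1, 3, 5, 4, 6, 4, 5, 4, 6, 4, 5, 5, 4, 6, 6, 3])) (.node 1335 (.leaf 249 33 [4, 5, 4, 6, 6, 4, 1, 2, 2, 1, 2, 2, 1, 2, 2, 1, 2, 1, 2, 1, 2, 2, 1, 3, 3, 1, 3, 3, 1, 2, 1, 2, 1, 6, 4, 5, 4, 6, 6]) (.node 1336 (.leaf 267 28 [4, 5, 5, 4, 6, 1, 3, 1, 2, 1, 2, 1, 3, 3, 1, 2, 2, 1, 2, 2, 1, 2, 1, 2, 2, 1, 2, 2, 1, 2, 2, 1, 3]) (.leaf 104 5 [2, 1, 3, 1, 3, 3, 1, 2, 2, 1, 3, 3, 1, 3, 1, 2, 2, 1, 2, 1, 6, 6, 4, 5, 4, 6, 4, 5, 5, 4, 6, 4, 1, 3, 1, 2, 1])))) (.node 1340 (.node 1338 (.leaf 100 20 [3, 3, 1, 2, 1, 5, 4, 5, 5, 5, 4, 6, 6, 4, 5, 5, 2, 1, 2, 1, 2, 1, 3, 3, 1, 3, 3, 1, 2, 2, 1, 2, 2, 1, 2, 1]) (.node 1339 (.leaf 45 24 [6, 6, 6, 4, 5, 5, 5, 4, 6, 4, 5, 5, 5, 4, 6, 6, 1, 2, 2, 1, 3, 1, 3, 3, 1, 2, 1, 2, 2, 1, 2, 1, 2, 2, 1, 2, 1, 2, 2, 4]) (.leaf 70 7 [2, 1, 3, 1, 3, 1, 2, 1, 3, 1, 2, 1, 3, 1, 2, 1, 2, 1, 6, 4, 5, 5, 5, 4, 5, 1, 2, 1, 2, 1, 3, 1]))) (.node 1341 (.leaf 158 40 [5, 1, 2, 2, 1, 2, 1, 2, 1, 2, 1, 3, 1, 3, 1, 2, 1, 3, 1, 3, 3, 1, 3, 1, 2, 1, 2, 1, 6, 4, 5, 5, 5, 4, 6, 4, 5, 4, 6, 6, 4]) (.node 1342 (.leaf 235 24 [2, 1, 3, 4, 6, 6, 6, 4, 5, 5, 5, 4, 5, 2, 2, 1, 3, 1, 3, 1, 2, 1, 2, 1, 2, 1, 2, 1, 3, 1, 2, 2, 1, 3, 1, 3, 1]) (.leaf 268 43 [4, 1, 3, 3, 1, 3, 1, 3, 3, 1, 2, 1, 3, 3, 1, 2, 1, 3, 3, 1, 2, 1, 2, 1, 2, 2, 1, 2, 2, 4, 6, 4, 5, 5, 5, 4, 6, 4, 5, 4, 6, 6, 4, 5]))))) (.node 1348 (.node 1345 (.node 1344 (.leaf 329 25 [3, 1, 3, 4, 6, 6, 6, 4, 5, 4, 6, 6, 6, 1, 3, 1, 2, 2, 1, 2, 1, 2, 1, 3, 1, 2, 2, 1, 2, 1, 2, 1, 3, 3, 1, 3, 1, 3]) (.leaf 103 39 [6, 2, 1, 2, 1, 2, 1, 3, 1, 3, 3, 1, 2, 2, 1, 3, 3, 1, 3, 1, 3, 1, 2, 2, 1, 3, 4, 6, 6, 4, 5, 4, 6, 6, 6, 4, 5, 5, 5, 4])) (.node 1346 (.leaf 108 15 [1, 3, 3, 1, 3, 1, 2, 1, 2, 2, 4, 5, 4, 6, 4, 5, 5, 4, 6, 4, 5, 5, 5, 4, 2, 2, 1, 3, 1, 3, 3, 1, 2, 2, 1, 2, 2, 1, 2]) (.node 1347 (.leaf 109 27 [5, 5, 5, 2, 2, 1, 2, 1, 2, 1, 3, 3, 1, 3, 1, 2, 2, 1, 2, 1, 3, 1, 2, 1, 2, 1, 2, 2, 6, 4]) (.leaf 130 15 [1, 3, 1, 3, 1, 2, 1, 3, 1, 3, 1, 6, 6, 4, 5, 5, 5, 4, 2, 2, 1, 2, 1, 2, 1, 3, 3, 1, 2, 1, 2, 1, 3])))) (.node 1351 (.node 1349 (.leaf 138 0 [1, 3, 1, 3, 1, 2, 2, 1, 3, 3, 1, 3, 3, 1, 3, 1, 3, 3, 1, 2, 1, 2, 2, 1, 2, 2, 6, 4, 5, 5, 4, 6, 4]) (.node 1350 (.leaf 174 15 [3, 1, 2, 1, 2, 1, 2, 1, 2, 1, 3, 1, 5, 5, 5, 5, 4, 3, 3, 1, 3, 1, 2, 2, 1, 3, 3, 1, 2, 2, 1, 3]) (.leaf 187 20 [2, 1, 2, 1, 3, 3, 1, 5, 5, 5, 4, 6, 6, 6, 4, 5, 4, 6, 6, 6, 4, 5, 3, 3, 1, 2, 2, 1, 2, 2, 1, 3, 1, 3, 3, 1, 3, 1, 3, 3, 1, 2]))) (.node 1352 (.leaf 311 29 [4, 5, 5, 5, 4, 6, 4, 5, 5, 4, 2, 1, 3, 1, 2, 1, 3, 1, 2, 1, 3, 3, 1, 2, 2, 1, 2, 1, 2, 2, 1, 3, 3, 1, 2, 1, 2, 2, 5]) (.node 1353 (.leaf 322 6 [3, 1, 3, 1, 3, 3, 1, 3, 1, 2, 1, 2, 1, 3, 1, 3, 3, 1, 3, 3, 1, 3, 6, 6, 4, 5, 5, 1, 3, 1, 2, 2, 1]) (.leaf 385 23 [2, 1, 3, 3, 1, 6, 6, 4, 5, 5, 4, 2, 2, 1, 3, 3, 1, 3, 3, 1, 2, 2, 1, 3, 1, 3, 3, 1, 3, 1, 2, 1, 2, 1]))))))) (.node 1376 (.node 1365 (.node 1359 (.node 1356 (.node 1355 (.leaf 8 10 [3, 3, 1, 3, 3, 1, 3, 3, 1, 3, 3, 1, 3, 3, 1, 3, 3, 1, 3, 3, 1, 3, 3, 1, 3, 3, 1, 3, 3, 1]) (.leaf 151 1 [1, 3, 3, 1, 3, 3, 1, 3, 1, 2, 2, 1, 2, 2, 1, 2, 2, 1, 3, 1, 2, 2, 1, 2, 2, 5, 5, 4, 6, 6, 4, 5, 2])) (.node 1357 (.leaf 197 25 [3, 1, 4, 6, 4, 5, 5, 4, 6, 4, 5, 4, 6, 4, 5, 5, 1, 2, 1, 3, 1, 3, 3, 1, 2, 1, 2, 1, 3, 1, 3, 1, 3, 3, 1, 2, 1, 3, 3, 1, 3]) (.node 1358 (.leaf 119 19 [3, 1, 3, 1, 3, 3, 1, 4, 6, 6, 4, 5, 5, 5, 4, 5, 1, 3, 3, 1, 3, 1, 2, 2, 1, 2, 1, 2, 2, 1, 3, 3, 1, 3, 1]) (.leaf 229 9 [3, 1, 2, 1, 2, 1, 3, 1, 2, 1, 2, 1, 2, 2, 1, 2, 2, 1, 4, 6, 6, 4, 5, 4, 6, 4, 5, 5, 4, 6, 4, 5, 5, 5, 2, 1, 2, 2, 1, 2, 1, 3, 1])))) (.node 1362 (.node 1360 (.leaf 298 31 [5, 4, 6, 6, 4, 5, 1, 3, 3, 1, 3, 1, 3, 3, 1, 3, 3, 1, 2, 1, 3, 3, 1, 2, 1, 3, 1, 3, 1, 2, 1, 3, 3, 1, 4, 5, 5]) (.node 1361 (.leaf 106 17 [1, 3, 1, 2, 2, 1, 2, 2, 5, 4, 6, 6, 6, 6, 4, 2, 1, 3, 3, 1, 3, 1, 2, 1, 2, 2, 1, 2, 1, 3, 1, 3]) (.leaf 289 0 [1, 3, 1, 3, 1, 3, 3, 1, 3, 1, 2, 1, 2, 2, 1, 3, 1, 2, 1, 2, 2, 1, 3, 3, 1, 3, 1, 3, 6, 4, 6, 6, 6, 6, 4, 5, 4]))) (.node 1363 (.leaf 325 5 [1, 3, 1, 3, 1, 3, 1, 2, 2, 1, 3, 1, 3, 1, 3, 1, 3, 3, 1, 2, 2, 1, 3, 4, 6, 4, 5, 5, 4, 6, 6, 6, 1, 3, 3, 1, 2]) (.node 1364 (.leaf 372 34 [6, 1, 2, 2, 1, 3, 3, 1, 2, 1, 3, 3, 1, 3, 1, 2, 1, 3, 3, 1, 2, 1, 3, 1, 3, 3, 1, 2, 1, 6, 4, 6, 6, 6, 4]) (.leaf 376 4 [1, 3, 1, 3, 3, 1, 2, 2, 1, 2, 1, 3, 1, 3, 1, 3, 3, 1, 2, 1, 3, 1, 2, 1, 6, 4, 5, 5, 4, 6, 6, 6, 1, 3, 1, 3]))))) (.node 1370 (.node 1367 (.node 1366 (.leaf 133 38 [5, 2, 1, 2, 1, 2, 2, 1, 2, 1, 3, 1, 2, 1, 2, 1, 2, 2, 1, 2, 1, 2, 2, 1, 2, 1, 3, 4, 5, 5, 4, 6, 4, 5, 5, 4, 6, 4, 5]) (.leaf 229 14 [1, 3, 1, 2, 1, 2, 1, 2, 2, 1, 2, 2, 1, 4, 6, 6, 4, 5, 4, 6, 4, 5, 5, 4, 6, 4, 5, 5, 5, 2, 1, 2, 2, 1, 2, 1, 3, 1, 3, 1, 2, 1, 2])) (.node 1368 (.leaf 237 2 [1, 2, 2, 1, 2, 2, 1, 2, 2, 1, 3, 1, 2, 1, 2, 2, 1, 2, 2, 1, 2, 2, 1, 3, 3, 6, 4, 5, 5, 4, 6, 1, 3]) (.node 1369 (.leaf 316 16 [3, 1, 2, 1, 2, 2, 1, 3, 3, 1, 2, 2, 6, 4, 5, 5, 4, 6, 4, 5, 5, 4, 6, 4, 5, 4, 2, 1, 3, 3, 1, 2, 1, 2, 2, 1, 2, 1, 3, 1, 2, 1]) (.leaf 34 18 [1, 3, 1, 2, 2, 4, 5, 5, 5, 4, 6, 4, 5, 4, 2, 2, 1, 2, 2, 1, 3, 1, 3, 1, 2, 1, 2, 1, 2, 2, 1, 2])))) (.node 1373 (.node 1371 (.leaf 263 37 [5, 4, 6, 3, 3, 1, 3, 3, 1, 3, 1, 3, 1, 3, 1, 2, 2, 1, 2, 1, 3, 1, 2, 1, 2, 1, 2, 2, 1, 2, 1, 4, 5, 5, 5, 4, 6, 6, 4, 5]) (.node 1372 (.leaf 344 36 [6, 2, 2, 1, 3, 3, 1, 2, 1, 3, 3, 1, 3, 3, 1, 2, 1, 2, 1, 3, 1, 3, 3, 1, 3, 3, 1, 3, 3, 4, 6, 6, 4, 5, 5, 4, 6]) (.leaf 167 14 [1, 2, 1, 2, 2, 1, 3, 1, 3, 3, 1, 3, 1, 5, 4, 6, 6, 4, 5, 5, 5, 1, 3, 1, 3, 1, 3, 1, 2, 1, 3, 1, 2, 1, 2]))) (.node 1374 (.leaf 230 27 [4, 5, 4, 6, 6, 4, 5, 5, 5, 4, 1, 2, 1, 3, 1, 3, 1, 3, 1, 2, 2, 1, 2, 1, 2, 2, 1, 2, 1, 3, 1, 2, 1, 2, 2, 1, 3]) (.node 1375 (.leaf 282 28 [6, 6, 6, 4, 5, 5, 5, 4, 6, 1, 2, 1, 2, 1, 3, 3, 1, 2, 1, 3, 3, 1, 3, 1, 3, 3, 1, 2, 1, 3, 3, 1, 2, 1, 3, 1, 3]) (.leaf 72 32 [6, 4, 5, 2, 2, 1, 2, 1, 3, 1, 2, 1, 2, 2, 1, 2, 1, 2, 1, 2, 1, 2, 1, 2, 2, 1, 3, 1, 6, 6, 6, 4, 5, 4, 6])))))) (.node 1387 (.node 1381 (.node 1378 (.node 1377 (.leaf 130 7 [3, 3, 1, 2, 1, 2, 1, 3, 1, 3, 1, 3, 1, 2, 1, 3, 1, 3, 1, 6, 6, 4, 5, 5, 5, 4, 2, 2, 1, 2, 1, 2, 1]) (.leaf 34 24 [5, 5, 5, 4, 6, 4, 5, 4, 2, 2, 1, 2, 2, 1, 3, 1, 3, 1, 2, 1, 2, 1, 2, 2, 1, 2, 1, 3, 1, 2, 2, 4])) (.node 1379 (.leaf 48 25 [6, 6, 4, 5, 5, 5, 4, 6, 4, 5, 5, 4, 6, 6, 1, 3, 3, 1, 2, 1, 3, 1, 3, 1, 2, 2, 1, 2, 2, 1, 2, 1, 2, 2, 1, 3, 1, 4, 6]) (.node 1380 (.leaf 92 7 [1, 2, 1, 2, 1, 2, 1, 3, 1, 2, 2, 1, 2, 1, 3, 1, 3, 3, 6, 4, 6, 6, 6, 6, 4, 2, 1, 2, 1, 3, 1, 2]) (.leaf 101 1 [3, 1, 2, 1, 2, 1, 2, 2, 1, 2, 1, 2, 2, 1, 2, 2, 1, 2, 1, 2, 2, 1, 2, 1, 4, 6, 4, 5, 4, 6, 6, 4, 5, 1])))) (.node 1384 (.node 1382 (.leaf 118 1 [3, 3, 1, 2, 1, 2, 2, 1, 2, 2, 1, 2, 1, 2, 1, 3, 1, 3, 3, 1, 3, 1, 2, 1, 3, 4, 5, 4, 6, 4, 5, 5, 4, 6, 4, 5, 5, 4, 6, 1]) (.node 1383 (.leaf 138 16 [3, 3, 1, 2, 1, 2, 2, 1, 2, 2, 6, 4, 5, 5, 4, 6, 4, 1, 3, 1, 3, 1, 2, 2, 1, 3, 3, 1, 3, 3, 1, 3, 1]) (.leaf 147 1 [2, 1, 3, 1, 3, 3, 1, 3, 3, 1, 2, 2, 1, 3, 1, 3, 1, 2, 1, 2, 1, 2, 1, 3, 3, 5, 5, 4, 6, 4, 5, 5, 4, 6, 6, 4, 5, 2]))) (.node 1385 (.leaf 304 19 [3, 1, 2, 1, 3, 1, 3, 1, 3, 6, 4, 5, 5, 5, 4, 6, 4, 5, 4, 6, 6, 4, 5, 4, 2, 1, 2, 1, 2, 2, 1, 3, 1, 3, 3, 1, 2, 2, 1, 3, 1, 2, 1]) (.node 1386 (.leaf 310 8 [2, 1, 3, 1, 3, 1, 2, 1, 2, 1, 2, 1, 3, 3, 1, 3, 1, 2, 2, 1, 5, 4, 5, 5, 5, 4, 6, 4, 5, 4, 6, 6, 4, 5, 2, 1, 3, 1, 3, 1, 2, 1]) (.leaf 374 20 [3, 3, 1, 2, 2, 1, 3, 1, 4, 5, 4, 6, 6, 4, 5, 4, 6, 4, 5, 4, 6, 6, 4, 5, 2, 1, 3, 1, 2, 1, 2, 1, 2, 1, 3, 1, 2, 1, 2, 2, 1, 3, 3, 1]))))) (.node 1392 (.node 1389 (.node 1388 (.leaf 43 14 [1, 2, 2, 1, 2, 1, 3, 1, 3, 4, 5, 5, 4, 6, 6, 4, 5, 4, 6, 6, 6, 4, 5, 5, 5, 4, 2, 2, 1, 2, 1, 3, 1, 2, 2, 1, 3, 1, 3, 3]) (.leaf 54 13 [1, 2, 1, 3, 1, 2, 1, 2, 1, 3, 3, 5, 5, 4, 6, 4, 5, 4, 6, 4, 5, 5, 4, 6, 4, 1, 2, 2, 1, 3, 3, 1, 2, 1, 2, 1, 2, 2])) (.node 1390 (.leaf 97 1 [1, 3, 1, 3, 1, 2, 1, 2, 2, 1, 3, 1, 2, 1, 3, 3, 1, 3, 1, 2, 1, 2, 1, 3, 4, 6, 4, 5, 5, 4, 6, 6, 4, 5, 4, 6, 6, 6, 4, 6, 2]) (.node 1391 (.leaf 206 23 [3, 1, 3, 3, 6, 4, 5, 5, 4, 6, 4, 6, 2, 1, 3, 1, 3, 1, 3, 3, 1, 2, 1, 3, 1, 2, 1, 2, 2, 1, 3, 1, 3, 3, 1]) (.leaf 322 11 [3, 1, 3, 1, 2, 1, 2, 1, 3, 1, 3, 3, 1, 3, 3, 1, 3, 6, 6, 4, 5, 5, 1, 3, 1, 2, 2, 1, 3, 1, 3, 1, 3])))) (.node 1395 (.node 1393 (.leaf 148 27 [5, 5, 5, 5, 4, 6, 6, 6, 4, 5, 4, 6, 6, 6, 4, 2, 1, 3, 3, 1, 2, 2, 1, 3, 3, 1, 2, 1, 2, 2, 1, 2, 1, 3, 1, 2, 1, 3, 1, 2, 2, 4]) (.node 1394 (.leaf 28 30 [6, 4, 5, 5, 5, 3, 3, 1, 2, 1, 2, 1, 3, 3, 1, 2, 2, 1, 3, 1, 3, 3, 1, 2, 1, 2, 1, 4, 5, 4, 6, 4, 5, 5, 4]) (.leaf 8 29 [3, 1, 3, 3, 1, 3, 3, 1, 3, 3, 1, 3, 3, 1, 3, 3, 1, 3, 3, 1, 3, 3, 1, 3, 3, 1, 3, 3, 1, 3]))) (.node 1396 (.leaf 278 29 [5, 4, 6, 6, 6, 4, 5, 4, 6, 6, 4, 5, 4, 6, 4, 5, 2, 1, 3, 1, 2, 1, 3, 3, 1, 3, 1, 3, 1, 2, 1, 2, 1, 2, 1, 2, 1, 2, 2, 1, 2, 1, 3, 1, 4]) (.node 1397 (.leaf 385 11 [1, 3, 1, 3, 3, 1, 3, 1, 2, 1, 2, 1, 2, 1, 3, 3, 1, 6, 6, 4, 5, 5, 4, 2, 2, 1, 3, 3, 1, 3, 3, 1, 2, 2]) (.leaf 44 9 [2, 1, 2, 1, 3, 1, 3, 3, 1, 2, 1, 2, 2, 1, 4, 6, 4, 5, 4, 6, 6, 4, 5, 5, 5, 4, 3, 3, 1, 3, 3, 1, 2, 2, 1])))))))))))) (.node 2097 (.node 1747 (.node 1572 (.node 1485 (.node 1441 (.node 1419 (.node 1408 (.node 1403 (.node 1400 (.node 1399 (.leaf 130 3 [2, 1, 2, 1, 3, 3, 1, 2, 1, 2, 1, 3, 1, 3, 1, 3, 1, 2, 1, 3, 1, 3, 1, 6, 6, 4, 5, 5, 5, 4, 2, 2, 1]) (.leaf 95 17 [1, 3, 1, 3, 1, 3, 3, 1, 6, 6, 4, 5, 4, 6, 4, 5, 5, 1, 2, 2, 1, 2, 1, 2, 1, 2, 2, 1, 2, 1, 3, 1, 3, 3])) (.node 1401 (.leaf 46 30 [6, 6, 1, 3, 1, 3, 3, 1, 2, 2, 1, 3, 3, 1, 2, 1, 2, 2, 1, 2, 1, 3, 1, 2, 1, 4, 5, 5, 5, 5, 4, 6]) (.node 1402 (.leaf 84 11 [2, 1, 3, 1, 3, 1, 2, 1, 2, 2, 1, 2, 1, 3, 5, 4, 5, 5, 5, 5, 4, 6, 6, 6, 4, 2, 2, 1, 3, 3, 1, 2, 2, 1, 3, 1]) (.leaf 70 21 [2, 1, 2, 1, 6, 4, 5, 5, 5, 4, 5, 1, 2, 1, 2, 1, 3, 1, 2, 1, 3, 1, 3, 1, 2, 1, 3, 1, 2, 1, 3, 1])))) (.node 1405 (.node 1404 (.leaf 129 22 [2, 1, 3, 3, 5, 5, 5, 4, 6, 6, 6, 4, 5, 5, 1, 2, 1, 3, 1, 2, 1, 2, 2, 1, 3, 1, 2, 2, 1, 3, 1, 2, 1, 2, 2, 1]) (.leaf 27 1 [2, 1, 2, 2, 1, 3, 3, 1, 3, 1, 2, 1, 3, 1, 2, 2, 1, 2, 1, 2, 2, 4, 6, 4, 5, 5, 4, 6, 4, 5, 5, 4, 1])) (.node 1406 (.leaf 76 15 [3, 1, 2, 2, 1, 2, 2, 1, 2, 2, 6, 4, 5, 4, 6, 6, 4, 5, 5, 4, 6, 1, 2, 1, 3, 1, 2, 1, 2, 1, 3, 3, 1, 2, 2, 1]) (.node 1407 (.leaf 198 8 [1, 2, 2, 1, 2, 1, 3, 1, 2, 2, 1, 3, 1, 3, 1, 3, 3, 1, 3, 6, 6, 4, 5, 5, 4, 6, 4, 5, 5, 5, 4, 1, 2, 2, 1, 2, 1, 3, 3]) (.leaf 216 20 [2, 1, 3, 3, 1, 3, 1, 6, 4, 5, 5, 4, 6, 2, 2, 1, 2, 1, 3, 3, 1, 3, 1, 3, 3, 1, 2, 2, 1, 3, 1, 3, 1]))))) (.node 1413 (.node 1410 (.node 1409 (.leaf 238 37 [6, 2, 1, 2, 1, 3, 1, 3, 3, 1, 3, 1, 3, 1, 2, 1, 2, 1, 2, 2, 1, 2, 1, 3, 1, 3, 3, 1, 4, 5, 4, 6, 6, 4, 5, 5, 4, 6]) (.leaf 112 14 [1, 3, 1, 2, 1, 2, 1, 2, 2, 1, 3, 3, 4, 6, 6, 4, 5, 4, 6, 6, 4, 5, 5, 4, 6, 4, 1, 2, 2, 1, 2, 1, 2, 1, 3, 1, 3, 1, 2, 2])) (.node 1411 (.leaf 169 10 [2, 1, 3, 1, 2, 1, 2, 1, 3, 1, 3, 3, 1, 2, 1, 3, 3, 4, 6, 4, 5, 5, 4, 6, 4, 5, 5, 2, 2, 1, 3, 1, 3, 1, 2, 2, 1]) (.node 1412 (.leaf 172 21 [2, 1, 3, 3, 1, 3, 4, 6, 6, 4, 5, 4, 6, 4, 1, 3, 3, 1, 3, 1, 2, 1, 2, 2, 1, 2, 1, 2, 2, 1, 2, 1, 2, 1, 2]) (.leaf 385 10 [2, 1, 3, 1, 3, 3, 1, 3, 1, 2, 1, 2, 1, 2, 1, 3, 3, 1, 6, 6, 4, 5, 5, 4, 2, 2, 1, 3, 3, 1, 3, 3, 1, 2])))) (.node 1416 (.node 1414 (.leaf 370 23 [3, 3, 1, 2, 2, 4, 5, 4, 6, 6, 4, 5, 5, 5, 2, 2, 1, 3, 3, 1, 3, 1, 2, 2, 1, 3, 1, 3, 1, 3, 1, 3, 1, 3, 1, 3, 1]) (.node 1415 (.leaf 39 10 [3, 1, 2, 1, 3, 3, 1, 3, 3, 1, 2, 2, 1, 4, 5, 5, 4, 6, 4, 5, 5, 4, 6, 6, 4, 5, 5, 1, 3, 3, 1, 2, 2, 1, 2, 2, 1]) (.leaf 70 17 [2, 1, 3, 1, 2, 1, 2, 1, 6, 4, 5, 5, 5, 4, 5, 1, 2, 1, 2, 1, 3, 1, 2, 1, 3, 1, 3, 1, 2, 1, 3, 1]))) (.node 1417 (.leaf 109 14 [1, 2, 1, 3, 1, 2, 1, 2, 1, 2, 2, 6, 4, 5, 5, 5, 2, 2, 1, 2, 1, 2, 1, 3, 3, 1, 3, 1, 2, 2]) (.node 1418 (.leaf 130 19 [1, 2, 1, 3, 1, 3, 1, 6, 6, 4, 5, 5, 5, 4, 2, 2, 1, 2, 1, 2, 1, 3, 3, 1, 2, 1, 2, 1, 3, 1, 3, 1, 3]) (.leaf 44 23 [4, 6, 4, 5, 4, 6, 6, 4, 5, 5, 5, 4, 3, 3, 1, 3, 3, 1, 2, 2, 1, 2, 1, 2, 1, 3, 1, 3, 3, 1, 2, 1, 2, 2, 1])))))) (.node 1430 (.node 1424 (.node 1421 (.node 1420 (.leaf 66 24 [5, 5, 4, 6, 4, 5, 4, 6, 6, 4, 5, 5, 1, 3, 3, 1, 2, 1, 3, 1, 3, 3, 1, 2, 2, 1, 2, 1, 3, 3, 1, 2, 2, 1, 2, 2]) (.leaf 193 16 [1, 2, 1, 3, 1, 3, 3, 1, 2, 2, 1, 4, 6, 4, 5, 4, 6, 6, 4, 5, 5, 5, 4, 1, 2, 1, 3, 3, 1, 3, 3, 1, 3, 1, 2, 1, 2, 1, 2])) (.node 1422 (.leaf 65 37 [5, 5, 2, 2, 1, 3, 3, 1, 2, 1, 2, 1, 2, 1, 2, 1, 2, 1, 2, 1, 2, 1, 3, 1, 2, 1, 6, 6, 4, 5, 5, 4, 6, 4, 5, 4, 6, 4, 5]) (.node 1423 (.leaf 120 14 [3, 1, 3, 1, 3, 1, 3, 3, 1, 2, 1, 3, 4, 6, 4, 6, 6, 6, 4, 5, 5, 1, 3, 1, 3, 1, 3, 3, 1, 3, 1, 3, 1, 2, 1]) (.leaf 216 19 [1, 2, 1, 3, 3, 1, 3, 1, 6, 4, 5, 5, 4, 6, 2, 2, 1, 2, 1, 3, 3, 1, 3, 1, 3, 3, 1, 2, 2, 1, 3, 1, 3])))) (.node 1427 (.node 1425 (.leaf 325 2 [3, 1, 2, 1, 3, 1, 3, 1, 3, 1, 2, 2, 1, 3, 1, 3, 1, 3, 1, 3, 3, 1, 2, 2, 1, 3, 4, 6, 4, 5, 5, 4, 6, 6, 6, 1, 3]) (.node 1426 (.leaf 16 19 [6, 4, 5, 4, 6, 6, 4, 5, 4, 6, 4, 5, 4, 6, 6, 1, 2, 1, 3, 1, 2, 1, 3, 1, 2, 2, 1, 2, 1, 2, 1, 2, 2, 1]) (.leaf 147 21 [1, 2, 1, 3, 3, 5, 5, 4, 6, 4, 5, 5, 4, 6, 6, 4, 5, 2, 2, 1, 3, 1, 3, 3, 1, 3, 3, 1, 2, 2, 1, 3, 1, 3, 1, 2, 1, 2]))) (.node 1428 (.leaf 152 11 [3, 1, 2, 1, 3, 3, 1, 2, 1, 2, 1, 2, 2, 1, 3, 5, 5, 5, 4, 6, 4, 5, 4, 6, 4, 5, 4, 6, 4, 5, 5, 1, 2, 2, 1, 3, 1, 3, 1, 2, 1, 3]) (.node 1429 (.leaf 203 16 [1, 3, 1, 3, 1, 2, 2, 1, 2, 1, 3, 5, 5, 4, 6, 6, 4, 5, 4, 6, 4, 5, 4, 6, 6, 4, 5, 5, 2, 2, 1, 3, 3, 1, 2, 1, 3, 1, 2, 1, 2, 2, 1, 3]) (.leaf 40 8 [2, 1, 3, 1, 2, 1, 3, 3, 1, 3, 1, 2, 2, 1, 3, 5, 4, 6, 4, 5, 4, 6, 4, 5, 5, 4, 3, 3, 1, 2, 1, 3, 3, 1]))))) (.node 1435 (.node 1432 (.node 1431 (.leaf 312 9 [1, 3, 1, 2, 2, 1, 2, 1, 2, 1, 2, 2, 1, 3, 1, 2, 2, 1, 3, 5, 4, 6, 4, 5, 4, 6, 4, 5, 5, 4, 6, 4, 2, 1, 2, 1, 3, 3, 1, 3, 3]) (.leaf 261 32 [5, 5, 4, 6, 6, 6, 4, 6, 1, 3, 1, 3, 1, 2, 2, 1, 2, 1, 2, 1, 2, 1, 2, 1, 2, 2, 1, 2, 1, 3, 1, 2, 1, 2, 1, 3, 4, 6, 4, 5])) (.node 1433 (.leaf 142 7 [3, 1, 3, 1, 2, 2, 1, 3, 3, 1, 3, 1, 3, 1, 2, 1, 3, 1, 3, 4, 5, 4, 5, 5, 5, 5, 4, 2, 1, 3, 3, 1, 2, 1]) (.node 1434 (.leaf 179 6 [1, 3, 1, 2, 1, 2, 2, 1, 3, 3, 1, 2, 2, 1, 3, 3, 1, 3, 1, 2, 1, 5, 4, 5, 5, 5, 4, 6, 6, 6, 4, 3, 3, 1, 2, 1, 2]) (.leaf 137 5 [2, 1, 3, 1, 3, 1, 3, 3, 1, 3, 3, 1, 2, 2, 1, 2, 2, 1, 3, 1, 3, 6, 6, 4, 5, 4, 6, 6, 4, 5, 4, 6, 4, 5, 5, 5, 4, 1, 3, 3, 1, 2])))) (.node 1438 (.node 1436 (.leaf 249 15 [2, 1, 3, 3, 1, 3, 3, 1, 2, 1, 2, 1, 6, 4, 5, 4, 6, 6, 4, 5, 4, 6, 6, 4, 1, 2, 2, 1, 2, 2, 1, 2, 2, 1, 2, 1, 2, 1, 2]) (.node 1437 (.leaf 260 21 [1, 3, 1, 3, 1, 3, 3, 4, 5, 4, 6, 6, 4, 5, 4, 6, 4, 3, 3, 1, 3, 1, 3, 3, 1, 2, 1, 2, 1, 2, 2, 1, 3, 3, 1, 2, 1, 2]) (.leaf 10 35 [3, 1, 3, 3, 3, 1, 3, 3, 3, 1, 3, 3, 3, 1, 3, 3, 3, 1, 3, 3, 3, 1, 3, 3, 3, 1, 3, 3, 3, 1, 3, 3, 3, 1, 3, 3, 3, 1, 3, 3]))) (.node 1439 (.leaf 259 11 [1, 2, 2, 1, 2, 1, 3, 3, 1, 3, 1, 3, 1, 3, 1, 2, 1, 6, 4, 5, 4, 6, 6, 6, 4, 6, 1, 2, 1, 2, 1, 2, 2, 1, 3, 1, 3]) (.node 1440 (.leaf 265 14 [1, 2, 1, 3, 3, 1, 2, 1, 3, 3, 1, 2, 1, 3, 5, 4, 6, 4, 5, 4, 6, 4, 5, 5, 4, 6, 6, 3, 3, 1, 2, 2, 1, 2, 1, 3, 1, 2, 1, 2, 2]) (.leaf 44 33 [5, 4, 3, 3, 1, 3, 3, 1, 2, 2, 1, 2, 1, 2, 1, 3, 1, 3, 3, 1, 2, 1, 2, 2, 1, 4, 6, 4, 5, 4, 6, 6, 4, 5, 5]))))))) (.node 1463 (.node 1452 (.node 1446 (.node 1443 (.node 1442 (.leaf 76 19 [1, 2, 2, 1, 2, 2, 6, 4, 5, 4, 6, 6, 4, 5, 5, 4, 6, 1, 2, 1, 3, 1, 2, 1, 2, 1, 3, 3, 1, 2, 2, 1, 3, 1, 2, 2]) (.leaf 134 26 [5, 4, 6, 4, 5, 4, 6, 4, 5, 4, 6, 4, 1, 2, 1, 2, 1, 3, 1, 3, 3, 1, 3, 1, 2, 1, 3, 1, 2, 1, 3, 3, 1, 2, 2, 1, 2, 2])) (.node 1444 (.leaf 286 11 [1, 2, 1, 2, 1, 3, 3, 1, 3, 3, 1, 3, 1, 3, 1, 3, 1, 5, 4, 6, 4, 5, 4, 6, 4, 5, 4, 6, 4, 5, 4, 2, 2, 1, 3, 3, 1, 3, 1, 2, 1, 2]) (.node 1445 (.leaf 99 14 [2, 1, 3, 1, 3, 1, 2, 1, 3, 1, 3, 6, 4, 5, 5, 4, 6, 4, 5, 4, 6, 4, 5, 5, 5, 4, 1, 2, 2, 1, 2, 2, 1, 3, 1, 3, 3, 1, 2, 1]) (.leaf 380 24 [1, 3, 1, 3, 4, 6, 4, 5, 5, 4, 6, 4, 5, 4, 6, 4, 1, 3, 3, 1, 3, 1, 2, 1, 3, 3, 1, 3, 3, 1, 2, 1, 3, 3, 1, 2, 1, 2, 1, 3])))) (.node 1449 (.node 1447 (.leaf 206 30 [5, 4, 6, 4, 6, 2, 1, 3, 1, 3, 1, 3, 3, 1, 2, 1, 3, 1, 2, 1, 2, 2, 1, 3, 1, 3, 3, 1, 3, 1, 3, 3, 6, 4, 5]) (.node 1448 (.leaf 295 37 [5, 1, 2, 2, 1, 2, 1, 3, 1, 3, 3, 1, 3, 1, 2, 1, 3, 3, 1, 2, 1, 3, 1, 2, 1, 3, 1, 2, 2, 6, 4, 5, 4, 6, 6, 4, 5, 4]) (.leaf 334 21 [1, 2, 2, 1, 3, 1, 3, 4, 5, 5, 4, 6, 4, 5, 4, 6, 4, 5, 4, 3, 3, 1, 2, 1, 2, 1, 2, 1, 3, 3, 1, 2, 2, 1, 3, 3, 1, 2, 1, 2]))) (.node 1450 (.leaf 130 10 [2, 1, 2, 1, 3, 1, 3, 1, 3, 1, 2, 1, 3, 1, 3, 1, 6, 6, 4, 5, 5, 5, 4, 2, 2, 1, 2, 1, 2, 1, 3, 3, 1]) (.node 1451 (.leaf 141 19 [1, 2, 1, 3, 3, 1, 3, 5, 5, 4, 6, 4, 5, 4, 6, 4, 5, 4, 6, 4, 5, 4, 2, 2, 1, 2, 1, 3, 3, 1, 3, 1, 3, 1, 2, 1, 2, 1, 3, 1, 2]) (.leaf 151 16 [2, 2, 1, 3, 1, 2, 2, 1, 2, 2, 5, 5, 4, 6, 6, 4, 5, 2, 1, 3, 3, 1, 3, 3, 1, 3, 1, 2, 2, 1, 2, 2, 1]))))) (.node 1457 (.node 1454 (.node 1453 (.leaf 257 11 [3, 1, 2, 2, 1, 2, 1, 2, 1, 2, 1, 3, 1, 3, 3, 1, 6, 6, 4, 5, 4, 1, 2, 2, 1, 3, 1, 3, 1, 3, 3, 1]) (.leaf 172 31 [5, 4, 6, 4, 1, 3, 3, 1, 3, 1, 2, 1, 2, 2, 1, 2, 1, 2, 2, 1, 2, 1, 2, 1, 2, 2, 1, 3, 3, 1, 3, 4, 6, 6, 4])) (.node 1455 (.leaf 226 34 [5, 5, 2, 2, 1, 2, 2, 1, 3, 1, 3, 3, 1, 3, 1, 2, 1, 2, 1, 2, 2, 1, 2, 2, 1, 2, 1, 3, 3, 6, 4, 5, 4, 6, 4, 5]) (.node 1456 (.leaf 390 5 [2, 1, 3, 1, 2, 2, 1, 2, 1, 2, 1, 3, 3, 1, 2, 1, 3, 3, 1, 2, 1, 2, 2, 1, 5, 4, 6, 6, 6, 2, 1, 3, 1, 2]) (.leaf 340 19 [1, 2, 1, 2, 1, 3, 1, 3, 3, 6, 6, 4, 5, 5, 4, 6, 4, 5, 5, 5, 4, 6, 1, 3, 1, 3, 3, 1, 3, 3, 1, 2, 2, 1, 3, 3, 1, 2, 2, 1, 3])))) (.node 1460 (.node 1458 (.leaf 68 29 [5, 5, 4, 5, 1, 2, 1, 2, 1, 2, 1, 3, 3, 1, 3, 1, 2, 2, 1, 3, 1, 2, 1, 2, 2, 1, 3, 3, 4, 5, 4, 5, 5]) (.node 1459 (.leaf 200 32 [5, 5, 4, 6, 4, 5, 5, 4, 1, 2, 2, 1, 3, 1, 3, 1, 2, 2, 1, 2, 1, 2, 2, 1, 2, 1, 2, 1, 3, 3, 1, 3, 3, 1, 3, 5, 4, 6, 4, 5]) (.leaf 213 7 [3, 1, 3, 1, 3, 1, 2, 1, 3, 1, 3, 1, 3, 3, 1, 3, 1, 3, 1, 3, 5, 4, 5, 5, 5, 5, 4, 5, 1, 3, 1, 3, 3, 1, 3]))) (.node 1461 (.leaf 385 24 [1, 3, 3, 1, 6, 6, 4, 5, 5, 4, 2, 2, 1, 3, 3, 1, 3, 3, 1, 2, 2, 1, 3, 1, 3, 3, 1, 3, 1, 2, 1, 2, 1, 2]) (.node 1462 (.leaf 151 20 [1, 2, 2, 1, 2, 2, 5, 5, 4, 6, 6, 4, 5, 2, 1, 3, 3, 1, 3, 3, 1, 3, 1, 2, 2, 1, 2, 2, 1, 2, 2, 1, 3]) (.leaf 250 4 [1, 2, 1, 2, 1, 2, 1, 2, 1, 2, 1, 3, 1, 2, 2, 1, 3, 1, 3, 1, 3, 3, 1, 6, 4, 6, 6, 6, 4, 5, 4, 6, 6, 6, 4, 5, 4, 3, 3, 1, 3])))))) (.node 1474 (.node 1468 (.node 1465 (.node 1464 (.leaf 257 5 [1, 3, 1, 3, 3, 1, 3, 1, 2, 2, 1, 2, 1, 2, 1, 2, 1, 3, 1, 3, 3, 1, 6, 6, 4, 5, 4, 1, 2, 2, 1, 3]) (.leaf 275 39 [6, 3, 3, 1, 3, 3, 1, 2, 1, 3, 1, 2, 1, 2, 1, 2, 2, 1, 2, 2, 1, 2, 2, 1, 3, 1, 2, 1, 3, 4, 5, 4, 6, 4, 5, 4, 6, 6, 6, 4])) (.node 1466 (.leaf 309 20 [1, 2, 2, 1, 3, 3, 1, 3, 6, 4, 5, 4, 6, 4, 5, 4, 6, 6, 6, 4, 6, 3, 3, 1, 2, 2, 1, 3, 1, 2, 1, 2, 2, 1, 2, 1, 2, 2, 1, 3, 3]) (.node 1467 (.leaf 356 1 [2, 2, 1, 3, 1, 3, 1, 3, 1, 2, 1, 3, 3, 1, 3, 3, 1, 2, 1, 3, 1, 3, 1, 2, 1, 2, 2, 6, 4, 5, 4, 6, 4, 5, 4, 6, 6, 6, 1]) (.leaf 389 9 [3, 1, 3, 1, 2, 1, 2, 2, 1, 2, 1, 3, 1, 3, 3, 1, 2, 1, 3, 4, 5, 4, 6, 6, 4, 5, 4, 6, 4, 5, 4, 6, 4, 2, 1, 3, 3, 1, 3, 1, 2, 1])))) (.node 1471 (.node 1469 (.leaf 59 27 [6, 6, 6, 4, 2, 1, 2, 1, 3, 1, 3, 3, 1, 3, 3, 1, 2, 1, 3, 3, 1, 2, 2, 1, 2, 1, 3, 3, 5, 5, 4]) (.node 1470 (.leaf 36 9 [3, 1, 2, 2, 1, 3, 1, 2, 1, 3, 3, 1, 3, 3, 4, 5, 5, 5, 4, 6, 6, 6, 4, 5, 4, 6, 3, 3, 1, 3, 1, 2, 1, 3, 1]) (.leaf 49 8 [2, 1, 3, 3, 1, 3, 1, 3, 1, 2, 1, 2, 1, 2, 1, 3, 5, 5, 4, 6, 4, 5, 4, 6, 4, 5, 4, 6, 4, 2, 1, 2, 1, 3, 3, 1, 2]))) (.node 1472 (.leaf 34 14 [2, 2, 1, 2, 1, 3, 1, 2, 2, 4, 5, 5, 5, 4, 6, 4, 5, 4, 2, 2, 1, 2, 2, 1, 3, 1, 3, 1, 2, 1, 2, 1]) (.node 1473 (.leaf 387 31 [6, 6, 6, 6, 4, 5, 4, 2, 1, 2, 1, 3, 3, 1, 2, 2, 1, 2, 1, 2, 2, 1, 3, 1, 3, 1, 2, 2, 1, 3, 3, 1, 2, 2, 1, 4, 6, 4]) (.leaf 74 23 [3, 3, 5, 5, 4, 6, 6, 4, 2, 1, 3, 3, 1, 2, 1, 3, 1, 2, 1, 2, 1, 3, 1, 2, 1, 2, 2, 1, 3, 3, 1]))))) (.node 1479 (.node 1476 (.node 1475 (.leaf 106 2 [3, 3, 1, 3, 1, 2, 1, 2, 2, 1, 2, 1, 3, 1, 3, 1, 3, 1, 2, 2, 1, 2, 2, 5, 4, 6, 6, 6, 6, 4, 2, 1]) (.leaf 249 16 [1, 3, 3, 1, 3, 3, 1, 2, 1, 2, 1, 6, 4, 5, 4, 6, 6, 4, 5, 4, 6, 6, 4, 1, 2, 2, 1, 2, 2, 1, 2, 2, 1, 2, 1, 2, 1, 2, 2])) (.node 1477 (.leaf 32 12 [2, 2, 1, 2, 1, 2, 1, 2, 1, 3, 1, 4, 6, 4, 5, 5, 5, 4, 6, 6, 4, 5, 4, 1, 3, 3, 1, 3, 1, 2, 2, 1, 3, 3, 1]) (.node 1478 (.leaf 242 25 [1, 3, 5, 5, 5, 4, 6, 6, 6, 4, 5, 5, 5, 4, 6, 6, 1, 3, 3, 1, 2, 1, 2, 2, 1, 3, 3, 1, 3, 1, 3, 3, 1, 3, 1, 3, 3, 1, 3, 1, 2]) (.leaf 284 6 [1, 3, 1, 2, 2, 1, 3, 1, 2, 2, 1, 3, 3, 1, 2, 1, 3, 3, 1, 3, 1, 3, 4, 6, 4, 5, 5, 5, 4, 6, 6, 1, 3, 1, 3, 1, 2])))) (.node 1482 (.node 1480 (.leaf 390 7 [3, 1, 2, 2, 1, 2, 1, 2, 1, 3, 3, 1, 2, 1, 3, 3, 1, 2, 1, 2, 2, 1, 5, 4, 6, 6, 6, 2, 1, 3, 1, 2, 2, 1]) (.node 1481 (.leaf 14 33 [6, 1, 3, 3, 1, 2, 2, 1, 2, 1, 2, 2, 1, 2, 2, 1, 2, 1, 2, 2, 5, 4, 5, 5, 5, 5, 4, 6, 4, 5, 5, 5, 4, 6]) (.leaf 35 10 [1, 2, 1, 2, 1, 2, 1, 2, 1, 2, 2, 1, 3, 5, 4, 6, 4, 5, 5, 4, 6, 6, 4, 5, 2, 2, 1, 3, 3, 1, 3, 1, 2, 2]))) (.node 1483 (.leaf 46 18 [1, 3, 1, 2, 1, 4, 5, 5, 5, 5, 4, 6, 6, 6, 1, 3, 1, 3, 3, 1, 2, 2, 1, 3, 3, 1, 2, 1, 2, 2, 1, 2]) (.node 1484 (.leaf 189 11 [1, 2, 1, 3, 3, 1, 3, 3, 1, 2, 2, 1, 3, 3, 1, 3, 4, 5, 5, 5, 4, 6, 6, 6, 4, 5, 1, 3, 1, 2, 1, 3, 3, 1, 3, 1, 3]) (.leaf 368 5 [1, 3, 3, 1, 2, 1, 3, 3, 1, 2, 2, 1, 3, 3, 1, 3, 1, 2, 1, 2, 1, 2, 2, 4, 5, 5, 5, 4, 6, 6, 6, 4, 5, 5, 5, 4, 6, 2, 2, 1, 3, 3])))))))) (.node 1528 (.node 1506 (.node 1495 (.node 1490 (.node 1487 (.node 1486 (.leaf 47 5 [3, 1, 2, 2, 1, 2, 2, 1, 3, 3, 1, 3, 1, 2, 1, 2, 2, 1, 5, 5, 5, 4, 6, 6, 4, 2, 2, 1, 2, 1]) (.leaf 124 21 [2, 1, 3, 3, 1, 5, 4, 6, 6, 4, 5, 5, 4, 6, 4, 5, 5, 5, 4, 6, 2, 1, 3, 3, 1, 2, 1, 2, 1, 3, 1, 2, 2, 1, 3, 3, 1, 2, 1, 3, 1])) (.node 1488 (.leaf 344 15 [1, 2, 1, 3, 1, 3, 3, 1, 3, 3, 1, 3, 3, 4, 6, 6, 4, 5, 5, 4, 6, 6, 2, 2, 1, 3, 3, 1, 2, 1, 3, 3, 1, 3, 3, 1, 2]) (.node 1489 (.leaf 138 25 [2, 6, 4, 5, 5, 4, 6, 4, 1, 3, 1, 3, 1, 2, 2, 1, 3, 3, 1, 3, 3, 1, 3, 1, 3, 3, 1, 2, 1, 2, 2, 1, 2]) (.leaf 142 11 [2, 2, 1, 3, 3, 1, 3, 1, 3, 1, 2, 1, 3, 1, 3, 4, 5, 4, 5, 5, 5, 5, 4, 2, 1, 3, 3, 1, 2, 1, 3, 1, 3, 1])))) (.node 1492 (.node 1491 (.leaf 206 17 [1, 3, 1, 3, 3, 1, 3, 1, 3, 3, 6, 4, 5, 5, 4, 6, 4, 6, 2, 1, 3, 1, 3, 1, 3, 3, 1, 2, 1, 3, 1, 2, 1, 2, 2]) (.leaf 59 24 [5, 5, 4, 6, 6, 6, 4, 2, 1, 2, 1, 3, 1, 3, 3, 1, 3, 3, 1, 2, 1, 3, 3, 1, 2, 2, 1, 2, 1, 3, 3])) (.node 1493 (.leaf 74 11 [2, 1, 3, 1, 2, 1, 2, 2, 1, 3, 3, 1, 3, 3, 5, 5, 4, 6, 6, 4, 2, 1, 3, 3, 1, 2, 1, 3, 1, 2, 1]) (.node 1494 (.leaf 83 29 [5, 5, 5, 4, 6, 1, 2, 1, 2, 1, 3, 1, 3, 1, 3, 3, 1, 2, 1, 2, 1, 3, 1, 2, 1, 2, 1, 2, 2, 1, 6, 6, 6, 4]) (.leaf 119 22 [1, 3, 3, 1, 4, 6, 6, 4, 5, 5, 5, 4, 5, 1, 3, 3, 1, 3, 1, 2, 2, 1, 2, 1, 2, 2, 1, 3, 3, 1, 3, 1, 3, 1, 3]))))) (.node 1500 (.node 1497 (.node 1496 (.leaf 189 12 [2, 1, 3, 3, 1, 3, 3, 1, 2, 2, 1, 3, 3, 1, 3, 4, 5, 5, 5, 4, 6, 6, 6, 4, 5, 1, 3, 1, 2, 1, 3, 3, 1, 3, 1, 3, 1]) (.leaf 282 9 [1, 3, 3, 1, 3, 1, 3, 3, 1, 2, 1, 3, 3, 1, 2, 1, 3, 1, 3, 6, 6, 6, 4, 5, 5, 5, 4, 6, 1, 2, 1, 2, 1, 3, 3, 1, 2])) (.node 1498 (.leaf 290 10 [1, 3, 1, 2, 2, 1, 2, 2, 1, 3, 3, 1, 3, 1, 3, 1, 3, 3, 5, 4, 6, 6, 6, 4, 5, 5, 5, 4, 1, 2, 1, 2, 2, 1, 3, 1, 3, 3]) (.node 1499 (.leaf 335 19 [1, 3, 1, 2, 1, 3, 1, 2, 2, 6, 6, 6, 4, 5, 5, 5, 4, 6, 6, 6, 4, 3, 3, 1, 2, 1, 3, 3, 1, 2, 1, 3, 3, 1, 2, 1, 3, 1, 2, 2]) (.leaf 376 29 [4, 5, 5, 4, 6, 6, 6, 1, 3, 1, 3, 1, 3, 1, 3, 3, 1, 2, 2, 1, 2, 1, 3, 1, 3, 1, 3, 3, 1, 2, 1, 3, 1, 2, 1, 6])))) (.node 1503 (.node 1501 (.leaf 390 21 [3, 3, 1, 2, 1, 2, 2, 1, 5, 4, 6, 6, 6, 2, 1, 3, 1, 2, 2, 1, 3, 1, 2, 2, 1, 2, 1, 2, 1, 3, 3, 1, 2, 1]) (.node 1502 (.leaf 106 8 [1, 2, 2, 1, 2, 1, 3, 1, 3, 1, 3, 1, 2, 2, 1, 2, 2, 5, 4, 6, 6, 6, 6, 4, 2, 1, 3, 3, 1, 3, 1, 2]) (.leaf 386 0 [2, 2, 1, 2, 2, 1, 2, 2, 1, 3, 3, 1, 2, 1, 2, 1, 2, 1, 3, 1, 3, 3, 1, 2, 2, 1, 2, 2, 4, 5, 4, 6, 4, 5, 4, 6, 4, 5, 4, 6, 4, 5, 5, 4]))) (.node 1504 (.leaf 260 36 [6, 4, 3, 3, 1, 3, 1, 3, 3, 1, 2, 1, 2, 1, 2, 2, 1, 3, 3, 1, 2, 1, 2, 1, 3, 1, 3, 1, 3, 3, 4, 5, 4, 6, 6, 4, 5, 4]) (.node 1505 (.leaf 109 25 [6, 4, 5, 5, 5, 2, 2, 1, 2, 1, 2, 1, 3, 3, 1, 3, 1, 2, 2, 1, 2, 1, 3, 1, 2, 1, 2, 1, 2, 2]) (.leaf 174 7 [1, 3, 3, 1, 2, 2, 1, 3, 3, 1, 2, 1, 2, 1, 2, 1, 2, 1, 3, 1, 5, 5, 5, 5, 4, 3, 3, 1, 3, 1, 2, 2])))))) (.node 1517 (.node 1511 (.node 1508 (.node 1507 (.leaf 109 11 [1, 2, 2, 1, 2, 1, 3, 1, 2, 1, 2, 1, 2, 2, 6, 4, 5, 5, 5, 2, 2, 1, 2, 1, 2, 1, 3, 3, 1, 3]) (.leaf 68 28 [5, 5, 5, 4, 5, 1, 2, 1, 2, 1, 2, 1, 3, 3, 1, 3, 1, 2, 2, 1, 3, 1, 2, 1, 2, 2, 1, 3, 3, 4, 5, 4, 5])) (.node 1509 (.leaf 81 25 [5, 4, 5, 5, 5, 4, 6, 6, 4, 5, 5, 4, 6, 2, 1, 2, 1, 3, 1, 3, 3, 1, 2, 1, 3, 1, 2, 1, 3, 1, 2, 2, 1, 2, 1, 3, 1, 3]) (.node 1510 (.leaf 100 10 [3, 1, 2, 2, 1, 2, 2, 1, 2, 1, 3, 3, 1, 2, 1, 5, 4, 5, 5, 5, 4, 6, 6, 4, 5, 5, 2, 1, 2, 1, 2, 1, 3, 3, 1, 3]) (.leaf 325 3 [1, 2, 1, 3, 1, 3, 1, 3, 1, 2, 2, 1, 3, 1, 3, 1, 3, 1, 3, 3, 1, 2, 2, 1, 3, 4, 6, 4, 5, 5, 4, 6, 6, 6, 1, 3, 3])))) (.node 1514 (.node 1512 (.leaf 38 10 [1, 2, 2, 1, 3, 1, 2, 2, 1, 3, 1, 3, 3, 4, 5, 5, 5, 4, 6, 6, 4, 5, 5, 4, 1, 3, 1, 3, 1, 2, 1, 2, 1, 3]) (.node 1513 (.leaf 132 35 [6, 4, 1, 3, 1, 3, 1, 2, 1, 2, 1, 2, 2, 1, 2, 1, 3, 1, 2, 1, 2, 1, 2, 1, 2, 1, 3, 1, 6, 6, 4, 5, 4, 6, 4, 5, 4]) (.leaf 206 31 [4, 6, 4, 6, 2, 1, 3, 1, 3, 1, 3, 3, 1, 2, 1, 3, 1, 2, 1, 2, 2, 1, 3, 1, 3, 3, 1, 3, 1, 3, 3, 6, 4, 5, 5]))) (.node 1515 (.leaf 237 10 [2, 1, 3, 1, 2, 1, 2, 2, 1, 2, 2, 1, 2, 2, 1, 3, 3, 6, 4, 5, 5, 4, 6, 1, 3, 1, 2, 2, 1, 2, 2, 1, 2]) (.node 1516 (.leaf 35 5 [1, 3, 1, 2, 2, 1, 2, 1, 2, 1, 2, 1, 2, 1, 2, 2, 1, 3, 5, 4, 6, 4, 5, 5, 4, 6, 6, 4, 5, 2, 2, 1, 3, 3]) (.leaf 253 17 [1, 3, 1, 3, 3, 1, 2, 1, 3, 1, 6, 6, 4, 5, 5, 4, 6, 4, 5, 5, 5, 4, 6, 2, 1, 3, 1, 3, 3, 1, 2, 1, 3, 1, 2, 1, 2, 2, 1, 2]))))) (.node 1522 (.node 1519 (.node 1518 (.leaf 369 5 [2, 1, 2, 1, 2, 1, 2, 2, 1, 2, 1, 3, 1, 3, 3, 1, 3, 3, 1, 3, 1, 3, 3, 4, 5, 5, 4, 6, 4, 2, 1, 2, 2, 1]) (.leaf 181 16 [3, 1, 2, 1, 3, 1, 3, 1, 3, 1, 3, 4, 5, 5, 4, 6, 4, 1, 3, 1, 2, 2, 1, 3, 1, 2, 1, 3, 3, 1, 2, 1, 3])) (.node 1520 (.leaf 383 41 [6, 3, 3, 1, 2, 2, 1, 2, 1, 2, 2, 1, 3, 1, 2, 2, 1, 2, 1, 2, 1, 2, 1, 2, 1, 2, 1, 2, 1, 6, 4, 5, 5, 5, 5, 4, 6, 6, 6, 4, 5, 4]) (.node 1521 (.leaf 38 25 [5, 5, 4, 6, 6, 4, 5, 5, 4, 1, 3, 1, 3, 1, 2, 1, 2, 1, 3, 1, 2, 2, 1, 3, 1, 2, 2, 1, 3, 1, 3, 3, 4, 5]) (.leaf 72 6 [1, 2, 1, 2, 2, 1, 2, 1, 2, 1, 2, 1, 2, 1, 2, 2, 1, 3, 1, 6, 6, 6, 4, 5, 4, 6, 6, 4, 5, 2, 2, 1, 2, 1, 3])))) (.node 1525 (.node 1523 (.leaf 354 12 [1, 2, 1, 3, 1, 3, 1, 3, 3, 1, 2, 2, 1, 3, 3, 1, 6, 6, 6, 1, 2, 1, 2, 1, 3, 3, 1, 2, 2, 1, 2]) (.node 1524 (.leaf 126 33 [5, 5, 4, 6, 1, 3, 1, 2, 1, 2, 2, 1, 3, 3, 1, 2, 1, 3, 1, 2, 1, 2, 1, 2, 1, 3, 3, 1, 3, 1, 6, 4, 5, 5, 4, 6, 4]) (.leaf 230 4 [1, 3, 1, 3, 1, 2, 2, 1, 2, 1, 2, 2, 1, 2, 1, 3, 1, 2, 1, 2, 2, 1, 3, 4, 5, 4, 6, 6, 4, 5, 5, 5, 4, 1, 2, 1, 3]))) (.node 1526 (.leaf 56 23 [1, 4, 5, 5, 5, 4, 6, 4, 5, 5, 5, 4, 6, 6, 6, 4, 5, 2, 1, 2, 1, 2, 1, 3, 1, 3, 1, 2, 1, 3, 1, 3, 1, 3, 1, 3, 1, 2, 1, 3]) (.node 1527 (.leaf 94 32 [6, 6, 4, 6, 2, 2, 1, 3, 1, 3, 1, 2, 1, 2, 2, 1, 2, 1, 2, 1, 3, 1, 3, 3, 1, 3, 1, 3, 3, 4, 5, 5, 5, 5, 4, 6]) (.leaf 227 30 [5, 4, 6, 6, 4, 2, 2, 1, 2, 2, 1, 3, 1, 3, 1, 3, 1, 2, 2, 1, 3, 1, 2, 1, 2, 1, 3, 1, 3, 1, 3, 1, 4, 5, 5]))))))) (.node 1550 (.node 1539 (.node 1533 (.node 1530 (.node 1529 (.leaf 233 19 [2, 1, 2, 2, 1, 2, 1, 3, 5, 4, 6, 6, 4, 5, 4, 6, 6, 2, 1, 2, 1, 3, 1, 3, 1, 2, 1, 3, 1, 2, 1, 2, 2, 1, 2, 1]) (.leaf 216 9 [1, 3, 3, 1, 2, 2, 1, 3, 1, 3, 1, 2, 1, 3, 3, 1, 3, 1, 6, 4, 5, 5, 4, 6, 2, 2, 1, 2, 1, 3, 3, 1, 3])) (.node 1531 (.leaf 70 25 [6, 4, 5, 5, 5, 4, 5, 1, 2, 1, 2, 1, 3, 1, 2, 1, 3, 1, 3, 1, 2, 1, 3, 1, 2, 1, 3, 1, 2, 1, 2, 1]) (.node 1532 (.leaf 119 28 [6, 4, 5, 5, 5, 4, 5, 1, 3, 3, 1, 3, 1, 2, 2, 1, 2, 1, 2, 2, 1, 3, 3, 1, 3, 1, 3, 1, 3, 1, 3, 3, 1, 4, 6]) (.leaf 390 32 [6, 6, 2, 1, 3, 1, 2, 2, 1, 3, 1, 2, 2, 1, 2, 1, 2, 1, 3, 3, 1, 2, 1, 3, 3, 1, 2, 1, 2, 2, 1, 5, 4, 6])))) (.node 1536 (.node 1534 (.leaf 118 27 [5, 4, 6, 4, 5, 5, 4, 6, 4, 5, 5, 4, 6, 1, 3, 3, 1, 2, 1, 2, 2, 1, 2, 2, 1, 2, 1, 2, 1, 3, 1, 3, 3, 1, 3, 1, 2, 1, 3, 4]) (.node 1535 (.leaf 298 14 [3, 3, 1, 2, 1, 3, 1, 3, 1, 2, 1, 3, 3, 1, 4, 5, 5, 5, 4, 6, 6, 4, 5, 1, 3, 3, 1, 3, 1, 3, 3, 1, 3, 3, 1, 2, 1]) (.leaf 180 24 [1, 2, 1, 6, 4, 6, 6, 6, 4, 5, 4, 6, 6, 6, 4, 5, 2, 1, 2, 1, 3, 1, 2, 1, 3, 1, 3, 1, 2, 2, 1, 3, 1, 3, 1, 3, 1, 2, 1, 2]))) (.node 1537 (.leaf 198 37 [5, 4, 1, 2, 2, 1, 2, 1, 3, 3, 1, 2, 2, 1, 2, 1, 3, 1, 2, 2, 1, 3, 1, 3, 1, 3, 3, 1, 3, 6, 6, 4, 5, 5, 4, 6, 4, 5, 5]) (.node 1538 (.leaf 79 22 [1, 3, 3, 4, 5, 5, 5, 4, 6, 4, 5, 5, 4, 6, 6, 6, 1, 2, 1, 3, 3, 1, 2, 1, 2, 1, 2, 1, 2, 1, 3, 1, 3, 1, 3, 3, 1, 3]) (.leaf 51 27 [6, 6, 6, 4, 6, 1, 2, 1, 3, 1, 3, 3, 1, 2, 2, 1, 3, 1, 2, 1, 3, 1, 3, 1, 3, 3, 1, 2, 2, 5, 4, 6]))))) (.node 1544 (.node 1541 (.node 1540 (.leaf 18 23 [6, 4, 5, 5, 5, 4, 2, 1, 3, 1, 2, 2, 1, 3, 1, 3, 1, 3, 1, 2, 1, 2, 2, 1, 3, 1, 3, 6, 6]) (.leaf 46 31 [6, 1, 3, 1, 3, 3, 1, 2, 2, 1, 3, 3, 1, 2, 1, 2, 2, 1, 2, 1, 3, 1, 2, 1, 4, 5, 5, 5, 5, 4, 6, 6])) (.node 1542 (.leaf 130 16 [3, 1, 3, 1, 2, 1, 3, 1, 3, 1, 6, 6, 4, 5, 5, 5, 4, 2, 2, 1, 2, 1, 2, 1, 3, 3, 1, 2, 1, 2, 1, 3, 1]) (.node 1543 (.leaf 213 11 [3, 1, 2, 1, 3, 1, 3, 1, 3, 3, 1, 3, 1, 3, 1, 3, 5, 4, 5, 5, 5, 5, 4, 5, 1, 3, 1, 3, 3, 1, 3, 3, 1, 3, 1]) (.leaf 385 33 [4, 2, 2, 1, 3, 3, 1, 3, 3, 1, 2, 2, 1, 3, 1, 3, 3, 1, 3, 1, 2, 1, 2, 1, 2, 1, 3, 3, 1, 6, 6, 4, 5, 5])))) (.node 1547 (.node 1545 (.leaf 263 29 [5, 5, 5, 4, 6, 6, 4, 5, 5, 4, 6, 3, 3, 1, 3, 3, 1, 3, 1, 3, 1, 3, 1, 2, 2, 1, 2, 1, 3, 1, 2, 1, 2, 1, 2, 2, 1, 2, 1, 4]) (.node 1546 (.leaf 322 22 [3, 1, 3, 3, 1, 3, 6, 6, 4, 5, 5, 1, 3, 1, 2, 2, 1, 3, 1, 3, 1, 3, 3, 1, 3, 1, 2, 1, 2, 1, 3, 1, 3]) (.leaf 110 25 [5, 5, 5, 5, 4, 6, 6, 6, 4, 5, 4, 6, 2, 2, 1, 2, 1, 2, 1, 2, 1, 3, 1, 2, 2, 1, 2, 1, 2, 2, 1, 2, 1, 3, 1, 3, 1]))) (.node 1548 (.leaf 237 20 [2, 1, 2, 2, 1, 3, 3, 6, 4, 5, 5, 4, 6, 1, 3, 1, 2, 2, 1, 2, 2, 1, 2, 2, 1, 3, 1, 2, 1, 2, 2, 1, 2]) (.node 1549 (.leaf 267 31 [4, 6, 1, 3, 1, 2, 1, 2, 1, 3, 3, 1, 2, 2, 1, 2, 2, 1, 2, 1, 2, 2, 1, 2, 2, 1, 2, 2, 1, 3, 4, 5, 5]) (.leaf 303 25 [1, 2, 1, 6, 6, 6, 4, 5, 5, 5, 4, 6, 4, 5, 2, 1, 3, 3, 1, 3, 1, 3, 1, 3, 1, 2, 1, 2, 2, 1, 3, 3, 1, 3, 1, 3, 1, 3, 3])))))) (.node 1561 (.node 1555 (.node 1552 (.node 1551 (.leaf 47 7 [2, 2, 1, 2, 2, 1, 3, 3, 1, 3, 1, 2, 1, 2, 2, 1, 5, 5, 5, 4, 6, 6, 4, 2, 2, 1, 2, 1, 3, 1]) (.leaf 195 26 [1, 6, 4, 5, 4, 6, 6, 4, 5, 4, 6, 4, 5, 1, 2, 1, 3, 1, 2, 2, 1, 2, 1, 3, 1, 3, 1, 3, 3, 1, 3, 1, 2, 1, 2, 1, 2, 1, 2])) (.node 1553 (.leaf 51 4 [1, 3, 3, 1, 2, 2, 1, 3, 1, 2, 1, 3, 1, 3, 1, 3, 3, 1, 2, 2, 5, 4, 6, 6, 6, 6, 4, 6, 1, 2, 1, 3]) (.node 1554 (.leaf 130 29 [5, 5, 5, 4, 2, 2, 1, 2, 1, 2, 1, 3, 3, 1, 2, 1, 2, 1, 3, 1, 3, 1, 3, 1, 2, 1, 3, 1, 3, 1, 6, 6, 4]) (.leaf 238 33 [5, 5, 4, 6, 6, 2, 1, 2, 1, 3, 1, 3, 3, 1, 3, 1, 3, 1, 2, 1, 2, 1, 2, 2, 1, 2, 1, 3, 1, 3, 3, 1, 4, 5, 4, 6, 6, 4])))) (.node 1558 (.node 1556 (.leaf 262 35 [6, 4, 2, 1, 3, 3, 1, 3, 3, 1, 2, 2, 1, 3, 3, 1, 3, 1, 3, 1, 2, 1, 2, 1, 2, 2, 1, 2, 1, 3, 5, 4, 6, 6, 4, 5, 4]) (.node 1557 (.leaf 5 22 [1, 2, 1, 2, 1, 2, 1, 2, 1, 2, 1, 2, 1, 2, 1, 2, 1, 2, 1, 2, 1, 2, 1, 2, 1, 2, 1, 2, 1, 2, 1, 2, 1, 2, 1, 2, 1, 2]) (.leaf 108 37 [5, 4, 2, 2, 1, 3, 1, 3, 3, 1, 2, 2, 1, 2, 2, 1, 2, 1, 3, 3, 1, 3, 1, 2, 1, 2, 2, 4, 5, 4, 6, 4, 5, 5, 4, 6, 4, 5, 5]))) (.node 1559 (.leaf 145 25 [1, 5, 4, 5, 5, 5, 4, 6, 4, 5, 4, 6, 2, 1, 3, 3, 1, 2, 2, 1, 3, 1, 3, 1, 2, 1, 3, 3, 1, 3, 3, 1, 3, 1, 3, 1, 2]) (.node 1560 (.leaf 371 17 [1, 3, 1, 2, 1, 2, 1, 3, 1, 2, 1, 5, 4, 6, 6, 4, 5, 4, 6, 4, 5, 5, 4, 3, 3, 1, 2, 1, 3, 3, 1, 2, 1, 2, 1, 3, 1, 3, 1, 3]) (.leaf 373 27 [1, 4, 6, 6, 6, 4, 5, 5, 5, 4, 6, 4, 5, 5, 5, 4, 1, 3, 3, 1, 3, 1, 3, 1, 3, 1, 2, 1, 2, 1, 3, 1, 2, 2, 1, 2, 2, 1, 3, 3, 1, 3, 3]))))) (.node 1566 (.node 1563 (.node 1562 (.leaf 295 10 [1, 3, 1, 2, 1, 3, 3, 1, 2, 1, 3, 1, 2, 1, 3, 1, 2, 2, 6, 4, 5, 4, 6, 6, 4, 5, 4, 5, 1, 2, 2, 1, 2, 1, 3, 1, 3, 3]) (.leaf 68 24 [4, 5, 4, 5, 5, 5, 5, 4, 5, 1, 2, 1, 2, 1, 2, 1, 3, 3, 1, 3, 1, 2, 2, 1, 3, 1, 2, 1, 2, 2, 1, 3, 3])) (.node 1564 (.leaf 192 23 [1, 3, 3, 1, 5, 5, 4, 6, 6, 4, 5, 4, 6, 4, 5, 5, 5, 4, 6, 2, 2, 1, 3, 3, 1, 3, 3, 1, 3, 1, 3, 3, 1, 3, 1, 3, 1, 2, 1, 3, 1, 2]) (.node 1565 (.leaf 59 13 [1, 3, 3, 1, 2, 2, 1, 2, 1, 3, 3, 5, 5, 4, 6, 6, 6, 4, 2, 1, 2, 1, 3, 1, 3, 3, 1, 3, 3, 1, 2]) (.leaf 174 3 [3, 1, 2, 2, 1, 3, 3, 1, 2, 2, 1, 3, 3, 1, 2, 1, 2, 1, 2, 1, 2, 1, 3, 1, 5, 5, 5, 5, 4, 3, 3, 1])))) (.node 1569 (.node 1567 (.leaf 383 19 [1, 2, 1, 2, 1, 2, 1, 2, 1, 6, 4, 5, 5, 5, 5, 4, 6, 6, 6, 4, 5, 4, 6, 3, 3, 1, 2, 2, 1, 2, 1, 2, 2, 1, 3, 1, 2, 2, 1, 2, 1, 2]) (.node 1568 (.leaf 20 27 [4, 5, 4, 6, 6, 6, 4, 2, 2, 1, 3, 1, 3, 1, 3, 3, 1, 2, 2, 1, 3, 1, 2, 2, 1, 3, 3, 1, 3, 4, 5, 4, 6, 6]) (.leaf 47 15 [1, 3, 1, 2, 1, 2, 2, 1, 5, 5, 5, 4, 6, 6, 4, 2, 2, 1, 2, 1, 3, 1, 2, 2, 1, 2, 2, 1, 3, 3]))) (.node 1570 (.leaf 95 13 [3, 1, 3, 3, 1, 3, 1, 3, 1, 3, 3, 1, 6, 6, 4, 5, 4, 6, 4, 5, 5, 1, 2, 2, 1, 2, 1, 2, 1, 2, 2, 1, 2, 1]) (.node 1571 (.leaf 129 8 [2, 1, 3, 1, 2, 2, 1, 3, 1, 2, 1, 2, 2, 1, 2, 1, 3, 3, 5, 5, 5, 4, 6, 6, 6, 4, 5, 5, 1, 2, 1, 3, 1, 2, 1, 2]) (.leaf 161 29 [5, 4, 6, 4, 5, 4, 6, 6, 4, 5, 1, 2, 1, 2, 1, 2, 2, 1, 3, 3, 1, 3, 1, 2, 1, 3, 3, 1, 3, 3, 1, 2, 1, 3, 3, 1, 3, 5, 5]))))))))) (.node 1659 (.node 1615 (.node 1593 (.node 1582 (.node 1577 (.node 1574 (.node 1573 (.leaf 166 9 [3, 1, 2, 1, 2, 1, 3, 3, 1, 2, 2, 1, 3, 1, 2, 2, 1, 3, 5, 5, 4, 6, 6, 4, 5, 5, 2, 1, 2, 1, 2, 1, 2, 2, 1]) (.leaf 173 20 [2, 2, 1, 2, 1, 3, 1, 5, 4, 6, 4, 5, 4, 6, 4, 5, 4, 6, 4, 5, 4, 6, 6, 2, 1, 2, 2, 1, 2, 1, 2, 2, 1, 3, 1, 2, 2, 1, 3, 1, 3, 3, 1])) (.node 1575 (.leaf 271 43 [4, 2, 2, 1, 2, 1, 2, 1, 2, 1, 3, 1, 2, 1, 2, 1, 3, 1, 2, 1, 2, 2, 1, 3, 1, 2, 1, 3, 1, 4, 5, 4, 6, 4, 5, 4, 6, 4, 5, 4, 6, 6, 4, 5]) (.node 1576 (.leaf 301 21 [1, 2, 1, 3, 3, 1, 3, 5, 4, 6, 4, 5, 4, 6, 4, 5, 4, 6, 6, 4, 5, 5, 1, 3, 1, 3, 1, 3, 1, 2, 1, 3, 1, 2, 2, 1, 2, 2, 1, 3, 1, 3, 3]) (.leaf 311 28 [5, 4, 5, 5, 5, 4, 6, 4, 5, 5, 4, 2, 1, 3, 1, 2, 1, 3, 1, 2, 1, 3, 3, 1, 2, 2, 1, 2, 1, 2, 2, 1, 3, 3, 1, 2, 1, 2, 2])))) (.node 1579 (.node 1578 (.leaf 328 12 [2, 1, 3, 1, 3, 3, 1, 3, 1, 3, 3, 1, 3, 1, 3, 1, 6, 6, 4, 5, 4, 6, 4, 5, 4, 6, 6, 6, 4, 2, 1, 3, 1, 2, 1, 2, 1, 3, 3, 1, 2]) (.leaf 332 4 [1, 2, 1, 3, 1, 3, 1, 3, 1, 2, 2, 1, 3, 1, 3, 1, 2, 1, 3, 1, 2, 1, 2, 2, 4, 6, 4, 5, 4, 6, 4, 5, 4, 6, 6, 6, 4, 5, 4, 2, 2, 1, 3])) (.node 1580 (.leaf 23 18 [1, 2, 1, 3, 4, 5, 4, 5, 5, 5, 4, 6, 4, 5, 1, 2, 1, 3, 1, 3, 3, 1, 3, 1, 2, 1, 3, 3, 1, 2, 1, 3]) (.node 1581 (.leaf 34 6 [3, 1, 3, 1, 2, 1, 2, 1, 2, 2, 1, 2, 1, 3, 1, 2, 2, 4, 5, 5, 5, 4, 6, 4, 5, 4, 2, 2, 1, 2, 2, 1]) (.leaf 53 20 [3, 3, 1, 3, 5, 4, 5, 5, 5, 4, 6, 6, 4, 5, 4, 1, 2, 2, 1, 2, 1, 2, 2, 1, 2, 1, 2, 2, 1, 3, 1, 3, 1, 2, 1]))))) (.node 1587 (.node 1584 (.node 1583 (.leaf 100 17 [1, 2, 1, 3, 3, 1, 2, 1, 5, 4, 5, 5, 5, 4, 6, 6, 4, 5, 5, 2, 1, 2, 1, 2, 1, 3, 3, 1, 3, 3, 1, 2, 2, 1, 2, 2]) (.leaf 267 2 [1, 2, 1, 2, 1, 3, 3, 1, 2, 2, 1, 2, 2, 1, 2, 1, 2, 2, 1, 2, 2, 1, 2, 2, 1, 3, 4, 5, 5, 4, 6, 1, 3])) (.node 1585 (.leaf 295 12 [1, 2, 1, 3, 3, 1, 2, 1, 3, 1, 2, 1, 3, 1, 2, 2, 6, 4, 5, 4, 6, 6, 4, 5, 4, 5, 1, 2, 2, 1, 2, 1, 3, 1, 3, 3, 1, 3]) (.node 1586 (.leaf 10 15 [3, 1, 3, 3, 3, 1, 3, 3, 3, 1, 3, 3, 3, 1, 3, 3, 3, 1, 3, 3, 3, 1, 3, 3, 3, 1, 3, 3, 3, 1, 3, 3, 3, 1, 3, 3, 3, 1, 3, 3]) (.leaf 259 21 [1, 3, 1, 3, 1, 2, 1, 6, 4, 5, 4, 6, 6, 6, 4, 6, 1, 2, 1, 2, 1, 2, 2, 1, 3, 1, 3, 1, 2, 2, 1, 2, 1, 3, 3, 1, 3])))) (.node 1590 (.node 1588 (.leaf 66 35 [5, 1, 3, 3, 1, 2, 1, 3, 1, 3, 3, 1, 2, 2, 1, 2, 1, 3, 3, 1, 2, 2, 1, 2, 2, 5, 5, 4, 6, 4, 5, 4, 6, 6, 4, 5]) (.node 1589 (.leaf 110 36 [6, 2, 2, 1, 2, 1, 2, 1, 2, 1, 3, 1, 2, 2, 1, 2, 1, 2, 2, 1, 2, 1, 3, 1, 3, 1, 5, 5, 5, 5, 4, 6, 6, 6, 4, 5, 4]) (.leaf 179 35 [6, 4, 3, 3, 1, 2, 1, 2, 1, 3, 1, 2, 1, 2, 2, 1, 3, 3, 1, 2, 2, 1, 3, 3, 1, 3, 1, 2, 1, 5, 4, 5, 5, 5, 4, 6, 6]))) (.node 1591 (.leaf 120 23 [2, 1, 3, 4, 6, 4, 6, 6, 6, 4, 5, 5, 1, 3, 1, 3, 1, 3, 3, 1, 3, 1, 3, 1, 2, 1, 3, 1, 3, 1, 3, 1, 3, 3, 1]) (.node 1592 (.leaf 131 31 [5, 4, 6, 6, 6, 4, 5, 4, 2, 1, 3, 1, 2, 1, 3, 1, 3, 1, 2, 1, 2, 1, 2, 2, 1, 3, 3, 1, 3, 1, 3, 1, 2, 2, 5, 4, 6, 6, 4]) (.leaf 34 15 [2, 1, 2, 1, 3, 1, 2, 2, 4, 5, 5, 5, 4, 6, 4, 5, 4, 2, 2, 1, 2, 2, 1, 3, 1, 3, 1, 2, 1, 2, 1, 2])))))) (.node 1604 (.node 1598 (.node 1595 (.node 1594 (.leaf 50 16 [1, 3, 3, 1, 2, 2, 1, 3, 4, 6, 4, 5, 5, 5, 5, 1, 3, 3, 1, 2, 1, 3, 3, 1, 2, 2, 1, 2, 1, 3, 3]) (.leaf 58 32 [6, 4, 1, 3, 1, 3, 1, 2, 1, 3, 3, 1, 2, 2, 1, 2, 2, 1, 3, 1, 3, 3, 1, 3, 3, 1, 4, 6, 4, 5, 5, 5, 4, 6])) (.node 1596 (.leaf 159 38 [6, 6, 3, 3, 1, 3, 1, 3, 1, 3, 3, 1, 3, 1, 2, 1, 2, 2, 1, 2, 2, 1, 3, 3, 1, 3, 1, 3, 1, 4, 5, 4, 5, 5, 5, 4, 6, 4, 5, 4]) (.node 1597 (.leaf 162 8 [1, 3, 1, 3, 1, 2, 2, 1, 2, 2, 1, 2, 1, 2, 1, 3, 1, 2, 2, 5, 4, 5, 5, 5, 4, 6, 4, 5, 5, 4, 6, 4, 5, 1, 2, 2, 1, 2, 2, 1, 3]) (.leaf 369 28 [4, 5, 5, 4, 6, 4, 2, 1, 2, 2, 1, 2, 1, 2, 1, 2, 1, 2, 2, 1, 2, 1, 3, 1, 3, 3, 1, 3, 3, 1, 3, 1, 3, 3])))) (.node 1601 (.node 1599 (.leaf 66 16 [3, 3, 1, 2, 2, 1, 2, 2, 5, 5, 4, 6, 4, 5, 4, 6, 6, 4, 5, 5, 1, 3, 3, 1, 2, 1, 3, 1, 3, 3, 1, 2, 2, 1, 2, 1]) (.node 1600 (.leaf 246 6 [2, 2, 1, 2, 1, 2, 1, 2, 1, 3, 3, 1, 3, 1, 3, 3, 1, 3, 1, 3, 3, 6, 6, 6, 4, 5, 4, 6, 6, 4, 5, 4, 6, 4, 1, 2, 1, 2, 2, 1]) (.leaf 95 5 [1, 2, 1, 2, 2, 1, 2, 1, 3, 1, 3, 3, 1, 3, 1, 3, 1, 3, 3, 1, 6, 6, 4, 5, 4, 6, 4, 5, 5, 1, 2, 2, 1, 2]))) (.node 1602 (.leaf 371 3 [2, 1, 3, 3, 1, 2, 1, 2, 1, 3, 1, 3, 1, 3, 1, 3, 1, 2, 1, 2, 1, 3, 1, 2, 1, 5, 4, 6, 6, 4, 5, 4, 6, 4, 5, 5, 4, 3, 3, 1]) (.node 1603 (.leaf 121 15 [1, 2, 1, 3, 1, 3, 3, 1, 3, 3, 1, 6, 4, 5, 5, 5, 4, 6, 4, 5, 4, 6, 4, 5, 2, 1, 2, 1, 2, 2, 1, 2, 1, 3, 1, 3, 1, 2, 2]) (.leaf 284 23 [3, 1, 3, 1, 3, 4, 6, 4, 5, 5, 5, 4, 6, 6, 1, 3, 1, 3, 1, 2, 1, 3, 1, 2, 2, 1, 3, 1, 2, 2, 1, 3, 3, 1, 2, 1, 3]))))) (.node 1609 (.node 1606 (.node 1605 (.leaf 388 24 [1, 3, 3, 1, 5, 4, 6, 4, 5, 4, 6, 4, 5, 5, 4, 6, 4, 1, 3, 3, 1, 3, 1, 3, 3, 1, 2, 1, 2, 1, 2, 1, 3, 1, 3, 1, 3, 1, 3, 1, 3]) (.leaf 354 26 [3, 1, 6, 6, 6, 1, 2, 1, 2, 1, 3, 3, 1, 2, 2, 1, 2, 1, 2, 1, 3, 1, 3, 1, 3, 3, 1, 2, 2, 1, 3])) (.node 1607 (.leaf 101 13 [2, 1, 2, 2, 1, 2, 1, 2, 2, 1, 2, 1, 4, 6, 4, 5, 4, 6, 6, 4, 5, 1, 3, 1, 2, 1, 2, 1, 2, 2, 1, 2, 1, 2]) (.node 1608 (.leaf 365 28 [5, 4, 5, 5, 5, 5, 4, 6, 6, 6, 4, 5, 4, 2, 2, 1, 2, 1, 2, 2, 1, 2, 2, 1, 2, 1, 2, 2, 1, 2, 2, 1, 2, 2, 1, 3, 1, 3, 1, 3, 1]) (.leaf 40 31 [5, 5, 4, 3, 3, 1, 2, 1, 3, 3, 1, 2, 1, 3, 1, 2, 1, 3, 3, 1, 3, 1, 2, 2, 1, 3, 5, 4, 6, 4, 5, 4, 6, 4])))) (.node 1612 (.node 1610 (.leaf 354 22 [2, 2, 1, 3, 3, 1, 6, 6, 6, 1, 2, 1, 2, 1, 3, 3, 1, 2, 2, 1, 2, 1, 2, 1, 3, 1, 3, 1, 3, 3, 1]) (.node 1611 (.leaf 95 24 [1, 6, 6, 4, 5, 4, 6, 4, 5, 5, 1, 2, 2, 1, 2, 1, 2, 1, 2, 2, 1, 2, 1, 3, 1, 3, 3, 1, 3, 1, 3, 1, 3, 3]) (.leaf 122 33 [5, 5, 5, 4, 5, 1, 2, 1, 3, 3, 1, 2, 1, 2, 2, 1, 3, 3, 1, 3, 1, 2, 2, 1, 2, 2, 1, 3, 1, 2, 2, 4, 5, 5, 5, 4, 6, 4]))) (.node 1613 (.leaf 31 0 [2, 1, 2, 1, 2, 2, 1, 2, 2, 1, 2, 1, 2, 2, 1, 2, 2, 1, 3, 3, 1, 3, 4, 6, 4, 5, 5, 5, 4, 6, 4, 5, 4]) (.node 1614 (.leaf 131 10 [2, 1, 2, 1, 2, 2, 1, 3, 3, 1, 3, 1, 3, 1, 2, 2, 5, 4, 6, 6, 4, 5, 4, 6, 6, 6, 4, 5, 4, 2, 1, 3, 1, 2, 1, 3, 1, 3, 1]) (.leaf 13 18 [4, 6, 4, 5, 4, 6, 6, 4, 5, 4, 5, 1, 3, 3, 1, 2, 1, 2, 1, 2, 1, 2, 2, 1, 3, 3, 1, 2, 1]))))))) (.node 1637 (.node 1626 (.node 1620 (.node 1617 (.node 1616 (.leaf 32 31 [6, 4, 5, 4, 1, 3, 3, 1, 3, 1, 2, 2, 1, 3, 3, 1, 2, 2, 1, 2, 1, 2, 1, 2, 1, 3, 1, 4, 6, 4, 5, 5, 5, 4, 6]) (.leaf 44 7 [2, 1, 2, 1, 2, 1, 3, 1, 3, 3, 1, 2, 1, 2, 2, 1, 4, 6, 4, 5, 4, 6, 6, 4, 5, 5, 5, 4, 3, 3, 1, 3, 3, 1, 2])) (.node 1618 (.leaf 64 9 [2, 1, 2, 2, 1, 3, 3, 1, 2, 1, 3, 3, 1, 3, 3, 4, 6, 4, 5, 5, 4, 6, 6, 6, 4, 5, 4, 2, 2, 1, 2, 1, 2, 1, 3, 1]) (.node 1619 (.leaf 64 6 [1, 3, 1, 2, 1, 2, 2, 1, 3, 3, 1, 2, 1, 3, 3, 1, 3, 3, 4, 6, 4, 5, 5, 4, 6, 6, 6, 4, 5, 4, 2, 2, 1, 2, 1, 2]) (.leaf 76 22 [1, 2, 2, 6, 4, 5, 4, 6, 6, 4, 5, 5, 4, 6, 1, 2, 1, 3, 1, 2, 1, 2, 1, 3, 3, 1, 2, 2, 1, 3, 1, 2, 2, 1, 2, 2])))) (.node 1623 (.node 1621 (.leaf 83 19 [1, 2, 1, 2, 2, 1, 6, 6, 6, 4, 5, 5, 5, 4, 6, 1, 2, 1, 2, 1, 3, 1, 3, 1, 3, 3, 1, 2, 1, 2, 1, 3, 1, 2]) (.node 1622 (.leaf 103 27 [6, 4, 5, 4, 6, 6, 6, 4, 5, 5, 5, 4, 6, 2, 1, 2, 1, 2, 1, 3, 1, 3, 3, 1, 2, 2, 1, 3, 3, 1, 3, 1, 3, 1, 2, 2, 1, 3, 4, 6]) (.leaf 138 8 [3, 3, 1, 3, 3, 1, 3, 1, 3, 3, 1, 2, 1, 2, 2, 1, 2, 2, 6, 4, 5, 5, 4, 6, 4, 1, 3, 1, 3, 1, 2, 2, 1]))) (.node 1624 (.leaf 143 3 [2, 2, 1, 2, 2, 1, 3, 3, 1, 2, 1, 3, 3, 1, 3, 3, 1, 3, 3, 1, 3, 1, 3, 4, 6, 4, 5, 5, 5, 5, 4, 3, 3, 1]) (.node 1625 (.leaf 230 12 [2, 1, 2, 2, 1, 2, 1, 3, 1, 2, 1, 2, 2, 1, 3, 4, 5, 4, 6, 6, 4, 5, 5, 5, 4, 1, 2, 1, 3, 1, 3, 1, 3, 1, 2, 2, 1]) (.leaf 290 22 [3, 1, 3, 1, 3, 3, 5, 4, 6, 6, 6, 4, 5, 5, 5, 4, 1, 2, 1, 2, 2, 1, 3, 1, 3, 3, 1, 3, 1, 2, 2, 1, 2, 2, 1, 3, 3, 1]))))) (.node 1631 (.node 1628 (.node 1627 (.leaf 325 16 [1, 3, 1, 3, 1, 3, 3, 1, 2, 2, 1, 3, 4, 6, 4, 5, 5, 4, 6, 6, 6, 1, 3, 3, 1, 2, 1, 3, 1, 3, 1, 3, 1, 2, 2, 1, 3]) (.leaf 345 20 [2, 1, 3, 3, 1, 3, 1, 3, 6, 4, 5, 5, 5, 5, 4, 6, 6, 6, 4, 6, 2, 1, 2, 1, 2, 1, 3, 1, 3, 1, 3, 1, 3, 1, 2, 1, 2, 1, 2, 1])) (.node 1629 (.leaf 373 12 [2, 1, 3, 1, 2, 2, 1, 2, 2, 1, 3, 3, 1, 3, 3, 1, 4, 6, 6, 6, 4, 5, 5, 5, 4, 6, 4, 5, 5, 5, 4, 1, 3, 3, 1, 3, 1, 3, 1, 3, 1, 2, 1]) (.node 1630 (.leaf 22 26 [4, 5, 4, 3, 3, 1, 2, 1, 2, 1, 2, 1, 2, 2, 1, 3, 1, 2, 2, 1, 2, 2, 1, 3, 1, 5, 5, 4, 6]) (.leaf 216 8 [3, 1, 3, 3, 1, 2, 2, 1, 3, 1, 3, 1, 2, 1, 3, 3, 1, 3, 1, 6, 4, 5, 5, 4, 6, 2, 2, 1, 2, 1, 3, 3, 1])))) (.node 1634 (.node 1632 (.leaf 174 10 [1, 2, 2, 1, 3, 3, 1, 2, 1, 2, 1, 2, 1, 2, 1, 3, 1, 5, 5, 5, 5, 4, 3, 3, 1, 3, 1, 2, 2, 1, 3, 3]) (.node 1633 (.leaf 181 6 [3, 1, 2, 1, 3, 3, 1, 2, 1, 3, 3, 1, 2, 1, 3, 1, 3, 1, 3, 1, 3, 4, 5, 5, 4, 6, 4, 1, 3, 1, 2, 2, 1]) (.leaf 354 5 [3, 3, 1, 2, 2, 1, 2, 1, 2, 1, 3, 1, 3, 1, 3, 3, 1, 2, 2, 1, 3, 3, 1, 6, 6, 6, 1, 2, 1, 2, 1]))) (.node 1635 (.leaf 28 34 [5, 3, 3, 1, 2, 1, 2, 1, 3, 3, 1, 2, 2, 1, 3, 1, 3, 3, 1, 2, 1, 2, 1, 4, 5, 4, 6, 4, 5, 5, 4, 6, 4, 5, 5]) (.node 1636 (.leaf 210 1 [2, 2, 1, 3, 1, 2, 2, 1, 3, 1, 2, 2, 1, 2, 1, 2, 1, 3, 1, 2, 1, 3, 3, 1, 2, 1, 6, 4, 5, 4, 6, 4, 5, 4, 6, 6, 4, 5, 4, 1]) (.leaf 227 15 [3, 1, 2, 1, 2, 1, 3, 1, 3, 1, 3, 1, 4, 5, 5, 5, 4, 6, 6, 4, 2, 2, 1, 2, 2, 1, 3, 1, 3, 1, 3, 1, 2, 2, 1])))))) (.node 1648 (.node 1642 (.node 1639 (.node 1638 (.leaf 237 25 [3, 3, 6, 4, 5, 5, 4, 6, 1, 3, 1, 2, 2, 1, 2, 2, 1, 2, 2, 1, 3, 1, 2, 1, 2, 2, 1, 2, 2, 1, 2, 2, 1]) (.leaf 262 10 [1, 3, 3, 1, 3, 1, 3, 1, 2, 1, 2, 1, 2, 2, 1, 2, 1, 3, 5, 4, 6, 6, 4, 5, 4, 6, 4, 2, 1, 3, 3, 1, 3, 3, 1, 2, 2])) (.node 1640 (.leaf 384 3 [1, 2, 1, 3, 1, 2, 1, 3, 1, 2, 1, 3, 1, 2, 1, 2, 1, 3, 3, 1, 3, 1, 2, 2, 1, 6, 6, 6, 4, 5, 5, 5, 4, 6, 4, 2, 1, 3]) (.node 1641 (.leaf 172 15 [1, 2, 1, 2, 1, 2, 2, 1, 3, 3, 1, 3, 4, 6, 6, 4, 5, 4, 6, 4, 1, 3, 3, 1, 3, 1, 2, 1, 2, 2, 1, 2, 1, 2, 2]) (.leaf 262 5 [3, 3, 1, 2, 2, 1, 3, 3, 1, 3, 1, 3, 1, 2, 1, 2, 1, 2, 2, 1, 2, 1, 3, 5, 4, 6, 6, 4, 5, 4, 6, 4, 2, 1, 3, 3, 1])))) (.node 1645 (.node 1643 (.leaf 27 23 [6, 4, 5, 5, 4, 6, 4, 5, 5, 4, 1, 2, 1, 2, 2, 1, 3, 3, 1, 3, 1, 2, 1, 3, 1, 2, 2, 1, 2, 1, 2, 2, 4]) (.node 1644 (.leaf 80 19 [1, 3, 1, 2, 2, 1, 5, 4, 6, 4, 5, 5, 4, 6, 3, 3, 1, 2, 1, 3, 1, 3, 1, 2, 1, 2, 2, 1, 2, 1, 3, 1, 2]) (.leaf 152 7 [1, 2, 1, 3, 3, 1, 2, 1, 3, 3, 1, 2, 1, 2, 1, 2, 2, 1, 3, 5, 5, 5, 4, 6, 4, 5, 4, 6, 4, 5, 4, 6, 4, 5, 5, 1, 2, 2, 1, 3, 1, 3]))) (.node 1646 (.leaf 206 24 [1, 3, 3, 6, 4, 5, 5, 4, 6, 4, 6, 2, 1, 3, 1, 3, 1, 3, 3, 1, 2, 1, 3, 1, 2, 1, 2, 2, 1, 3, 1, 3, 3, 1, 3]) (.node 1647 (.leaf 241 25 [3, 1, 4, 5, 4, 6, 4, 5, 4, 6, 4, 5, 4, 6, 4, 5, 5, 3, 3, 1, 2, 2, 1, 3, 1, 3, 1, 2, 1, 2, 2, 1, 2, 1, 3, 3, 1, 3, 3, 1, 2, 1]) (.leaf 315 21 [2, 1, 2, 1, 2, 1, 3, 6, 4, 5, 5, 4, 6, 4, 5, 5, 4, 6, 4, 6, 2, 2, 1, 3, 1, 3, 1, 2, 1, 3, 3, 1, 3, 1, 2, 1, 2, 1, 2, 1, 2]))))) (.node 1653 (.node 1650 (.node 1649 (.leaf 326 43 [5, 2, 1, 2, 1, 2, 1, 2, 1, 3, 1, 2, 1, 2, 2, 1, 2, 1, 3, 3, 1, 3, 1, 2, 1, 3, 1, 3, 1, 5, 5, 4, 6, 6, 6, 4, 5, 4, 6, 6, 6, 4, 5, 5]) (.leaf 157 24 [1, 2, 1, 4, 6, 6, 6, 4, 5, 4, 6, 6, 6, 4, 6, 1, 2, 2, 1, 3, 1, 2, 2, 1, 2, 1, 2, 2, 1, 2, 1, 3, 1, 3, 1, 2, 1, 3, 3])) (.node 1651 (.leaf 246 14 [1, 3, 3, 1, 3, 1, 3, 3, 1, 3, 1, 3, 3, 6, 6, 6, 4, 5, 4, 6, 6, 4, 5, 4, 6, 4, 1, 2, 1, 2, 2, 1, 2, 2, 1, 2, 1, 2, 1, 2]) (.node 1652 (.leaf 373 4 [3, 1, 3, 1, 3, 1, 2, 1, 2, 1, 3, 1, 2, 2, 1, 2, 2, 1, 3, 3, 1, 3, 3, 1, 4, 6, 6, 6, 4, 5, 5, 5, 4, 6, 4, 5, 5, 5, 4, 1, 3, 3, 1]) (.leaf 107 31 [5, 5, 4, 6, 2, 1, 2, 1, 3, 3, 1, 3, 3, 1, 2, 1, 2, 2, 1, 3, 1, 3, 3, 1, 3, 3, 1, 3, 3, 5, 5, 5, 4, 6, 4])))) (.node 1656 (.node 1654 (.leaf 31 2 [2, 1, 2, 2, 1, 2, 2, 1, 2, 1, 2, 2, 1, 2, 2, 1, 3, 3, 1, 3, 4, 6, 4, 5, 5, 5, 4, 6, 4, 5, 4, 2, 1]) (.node 1655 (.leaf 74 30 [4, 2, 1, 3, 3, 1, 2, 1, 3, 1, 2, 1, 2, 1, 3, 1, 2, 1, 2, 2, 1, 3, 3, 1, 3, 3, 5, 5, 4, 6, 6]) (.leaf 79 37 [6, 1, 2, 1, 3, 3, 1, 2, 1, 2, 1, 2, 1, 2, 1, 3, 1, 3, 1, 3, 3, 1, 3, 1, 3, 3, 4, 5, 5, 5, 4, 6, 4, 5, 5, 4, 6, 6]))) (.node 1657 (.leaf 107 11 [1, 2, 2, 1, 3, 1, 3, 3, 1, 3, 3, 1, 3, 3, 5, 5, 5, 4, 6, 4, 5, 5, 4, 6, 2, 1, 2, 1, 3, 3, 1, 3, 3, 1, 2]) (.node 1658 (.leaf 122 35 [5, 4, 5, 1, 2, 1, 3, 3, 1, 2, 1, 2, 2, 1, 3, 3, 1, 3, 1, 2, 2, 1, 2, 2, 1, 3, 1, 2, 2, 4, 5, 5, 5, 4, 6, 4, 5, 5]) (.leaf 134 7 [3, 3, 1, 3, 1, 2, 1, 3, 1, 2, 1, 3, 3, 1, 2, 2, 1, 2, 2, 5, 4, 6, 4, 5, 4, 6, 4, 5, 4, 6, 4, 1, 2, 1, 2, 1, 3, 1])))))))) (.node 1703 (.node 1681 (.node 1670 (.node 1664 (.node 1661 (.node 1660 (.leaf 145 11 [1, 2, 1, 3, 3, 1, 3, 3, 1, 3, 1, 3, 1, 2, 1, 5, 4, 5, 5, 5, 4, 6, 4, 5, 4, 6, 2, 1, 3, 3, 1, 2, 2, 1, 3, 1, 3]) (.leaf 149 5 [1, 2, 2, 1, 2, 2, 1, 2, 1, 2, 1, 2, 1, 2, 1, 3, 1, 3, 1, 3, 1, 6, 4, 5, 5, 4, 6, 4, 5, 4, 6, 4, 5, 5, 5, 4, 1, 2, 2, 1, 3])) (.node 1662 (.leaf 166 33 [5, 5, 2, 1, 2, 1, 2, 1, 2, 2, 1, 3, 1, 2, 1, 2, 1, 3, 3, 1, 2, 2, 1, 3, 1, 2, 2, 1, 3, 5, 5, 4, 6, 6, 4]) (.node 1663 (.leaf 169 5 [3, 1, 2, 2, 1, 2, 1, 3, 1, 2, 1, 2, 1, 3, 1, 3, 3, 1, 2, 1, 3, 3, 4, 6, 4, 5, 5, 4, 6, 4, 5, 5, 2, 2, 1, 3, 1]) (.leaf 173 2 [2, 2, 1, 2, 1, 2, 2, 1, 3, 1, 2, 2, 1, 3, 1, 3, 3, 1, 2, 2, 1, 2, 1, 3, 1, 5, 4, 6, 4, 5, 4, 6, 4, 5, 4, 6, 4, 5, 4, 6, 6, 2, 1])))) (.node 1667 (.node 1665 (.leaf 209 20 [2, 1, 3, 1, 3, 1, 3, 4, 5, 5, 4, 6, 4, 5, 5, 4, 6, 4, 5, 5, 2, 1, 2, 1, 3, 3, 1, 2, 1, 2, 2, 1, 2, 1, 2, 2, 1, 2, 2, 1]) (.node 1666 (.leaf 217 42 [5, 1, 2, 1, 3, 1, 2, 2, 1, 3, 1, 3, 3, 1, 2, 1, 3, 1, 3, 1, 3, 1, 3, 1, 2, 1, 2, 2, 4, 5, 5, 5, 4, 6, 4, 5, 4, 6, 4, 5, 4, 6, 4]) (.leaf 217 4 [1, 2, 2, 1, 3, 1, 3, 3, 1, 2, 1, 3, 1, 3, 1, 3, 1, 3, 1, 2, 1, 2, 2, 4, 5, 5, 5, 4, 6, 4, 5, 4, 6, 4, 5, 4, 6, 4, 5, 1, 2, 1, 3]))) (.node 1668 (.leaf 243 12 [1, 2, 1, 2, 2, 1, 2, 1, 3, 3, 1, 2, 1, 2, 1, 4, 6, 4, 5, 5, 5, 4, 6, 4, 5, 5, 4, 6, 2, 2, 1, 2, 1, 3, 1, 3, 3, 1, 2, 2]) (.node 1669 (.leaf 324 37 [5, 4, 2, 2, 1, 2, 2, 1, 2, 1, 2, 1, 2, 2, 1, 3, 1, 3, 1, 3, 1, 2, 2, 1, 2, 1, 2, 1, 2, 2, 5, 5, 5, 5, 4, 6, 4, 5, 5]) (.leaf 330 7 [1, 3, 1, 2, 1, 3, 1, 3, 1, 3, 3, 1, 3, 1, 2, 1, 2, 1, 3, 3, 1, 6, 4, 5, 5, 5, 4, 6, 4, 5, 5, 5, 2, 1, 2, 1, 3, 1, 2]))))) (.node 1675 (.node 1672 (.node 1671 (.leaf 334 5 [2, 1, 2, 1, 3, 3, 1, 2, 2, 1, 3, 3, 1, 2, 1, 2, 1, 2, 2, 1, 3, 1, 3, 4, 5, 5, 4, 6, 4, 5, 4, 6, 4, 5, 4, 3, 3, 1, 2, 1]) (.leaf 351 9 [2, 1, 3, 1, 2, 1, 3, 3, 1, 3, 3, 1, 2, 1, 2, 2, 1, 3, 1, 5, 5, 5, 4, 6, 4, 5, 4, 6, 4, 5, 4, 2, 2, 1, 3, 3, 1, 3, 3, 1])) (.node 1673 (.leaf 367 27 [1, 4, 6, 4, 5, 5, 4, 6, 4, 5, 4, 6, 4, 5, 4, 1, 2, 1, 3, 3, 1, 2, 2, 1, 3, 3, 1, 2, 1, 2, 1, 2, 1, 3, 1, 3, 1, 3, 1, 3, 1, 2]) (.node 1674 (.leaf 376 8 [3, 1, 2, 2, 1, 2, 1, 3, 1, 3, 1, 3, 3, 1, 2, 1, 3, 1, 2, 1, 6, 4, 5, 5, 4, 6, 6, 6, 1, 3, 1, 3, 1, 3, 1, 3]) (.leaf 47 14 [3, 1, 3, 1, 2, 1, 2, 2, 1, 5, 5, 5, 4, 6, 6, 4, 2, 2, 1, 2, 1, 3, 1, 2, 2, 1, 2, 2, 1, 3])))) (.node 1678 (.node 1676 (.leaf 51 24 [5, 4, 6, 6, 6, 6, 4, 6, 1, 2, 1, 3, 1, 3, 3, 1, 2, 2, 1, 3, 1, 2, 1, 3, 1, 3, 1, 3, 3, 1, 2, 2]) (.node 1677 (.leaf 64 16 [1, 2, 1, 3, 3, 1, 3, 3, 4, 6, 4, 5, 5, 4, 6, 6, 6, 4, 5, 4, 2, 2, 1, 2, 1, 2, 1, 3, 1, 2, 1, 2, 2, 1, 3, 3]) (.leaf 76 35 [6, 1, 2, 1, 3, 1, 2, 1, 2, 1, 3, 3, 1, 2, 2, 1, 3, 1, 2, 2, 1, 2, 2, 1, 2, 2, 6, 4, 5, 4, 6, 6, 4, 5, 5, 4]))) (.node 1679 (.leaf 80 11 [2, 2, 1, 2, 1, 3, 1, 2, 1, 3, 1, 2, 2, 1, 5, 4, 6, 4, 5, 5, 4, 6, 3, 3, 1, 2, 1, 3, 1, 3, 1, 2, 1]) (.node 1680 (.leaf 92 17 [2, 1, 2, 1, 3, 1, 3, 3, 6, 4, 6, 6, 6, 6, 4, 2, 1, 2, 1, 3, 1, 2, 1, 2, 1, 2, 1, 2, 1, 3, 1, 2]) (.leaf 134 19 [3, 1, 2, 2, 1, 2, 2, 5, 4, 6, 4, 5, 4, 6, 4, 5, 4, 6, 4, 1, 2, 1, 2, 1, 3, 1, 3, 3, 1, 3, 1, 2, 1, 3, 1, 2, 1, 3])))))) (.node 1692 (.node 1686 (.node 1683 (.node 1682 (.leaf 180 12 [2, 2, 1, 3, 1, 3, 1, 3, 1, 2, 1, 2, 1, 2, 1, 6, 4, 6, 6, 6, 4, 5, 4, 6, 6, 6, 4, 5, 2, 1, 2, 1, 3, 1, 2, 1, 3, 1, 3, 1]) (.leaf 187 27 [5, 5, 5, 4, 6, 6, 6, 4, 5, 4, 6, 6, 6, 4, 5, 3, 3, 1, 2, 2, 1, 2, 2, 1, 3, 1, 3, 3, 1, 3, 1, 3, 3, 1, 2, 2, 1, 2, 1, 3, 3, 1])) (.node 1684 (.leaf 227 27 [4, 5, 5, 5, 4, 6, 6, 4, 2, 2, 1, 2, 2, 1, 3, 1, 3, 1, 3, 1, 2, 2, 1, 3, 1, 2, 1, 2, 1, 3, 1, 3, 1, 3, 1]) (.node 1685 (.leaf 275 4 [3, 1, 2, 1, 3, 1, 2, 1, 2, 1, 2, 2, 1, 2, 2, 1, 2, 2, 1, 3, 1, 2, 1, 3, 4, 5, 4, 6, 4, 5, 4, 6, 6, 6, 4, 6, 3, 3, 1, 3]) (.leaf 287 8 [3, 3, 1, 2, 1, 2, 1, 2, 1, 3, 1, 3, 3, 1, 2, 1, 3, 1, 2, 2, 4, 6, 4, 5, 5, 4, 6, 6, 4, 5, 4, 6, 6, 6, 4, 5, 2, 1, 3, 1, 3, 1, 3, 1])))) (.node 1689 (.node 1687 (.leaf 294 20 [3, 1, 3, 1, 2, 1, 2, 2, 6, 6, 6, 4, 5, 4, 6, 6, 4, 5, 2, 2, 1, 3, 3, 1, 2, 1, 3, 3, 1, 3, 1, 3, 1, 3, 1, 3, 1, 3]) (.node 1688 (.leaf 306 30 [5, 5, 4, 6, 4, 5, 5, 4, 6, 6, 4, 5, 5, 1, 2, 1, 2, 1, 3, 3, 1, 2, 1, 2, 1, 2, 1, 2, 1, 2, 1, 2, 1, 2, 1, 3, 1, 2, 2, 1, 3, 5, 5]) (.leaf 342 41 [6, 2, 1, 3, 3, 1, 3, 3, 1, 2, 1, 2, 1, 2, 2, 1, 3, 1, 2, 2, 1, 2, 1, 3, 1, 3, 1, 2, 2, 4, 6, 4, 5, 4, 6, 4, 5, 4, 6, 6, 6, 4]))) (.node 1690 (.leaf 390 6 [1, 3, 1, 2, 2, 1, 2, 1, 2, 1, 3, 3, 1, 2, 1, 3, 3, 1, 2, 1, 2, 2, 1, 5, 4, 6, 6, 6, 2, 1, 3, 1, 2, 2]) (.node 1691 (.leaf 31 18 [3, 3, 1, 3, 4, 6, 4, 5, 5, 5, 4, 6, 4, 5, 4, 2, 1, 2, 1, 2, 2, 1, 2, 2, 1, 2, 1, 2, 2, 1, 2, 2, 1]) (.leaf 42 17 [1, 3, 1, 3, 1, 3, 6, 4, 5, 4, 6, 4, 5, 4, 6, 4, 5, 4, 6, 4, 5, 2, 1, 2, 1, 2, 1, 2, 2, 1, 2, 2, 1, 3, 3, 1, 3, 3]))))) (.node 1697 (.node 1694 (.node 1693 (.leaf 49 10 [3, 3, 1, 3, 1, 3, 1, 2, 1, 2, 1, 2, 1, 3, 5, 5, 4, 6, 4, 5, 4, 6, 4, 5, 4, 6, 4, 2, 1, 2, 1, 3, 3, 1, 2, 2, 1]) (.leaf 104 25 [6, 6, 4, 5, 4, 6, 4, 5, 5, 4, 6, 4, 1, 3, 1, 2, 1, 2, 1, 3, 1, 3, 3, 1, 2, 2, 1, 3, 3, 1, 3, 1, 2, 2, 1, 2, 1])) (.node 1695 (.leaf 165 40 [6, 6, 2, 1, 3, 1, 3, 1, 3, 3, 1, 3, 1, 3, 3, 1, 2, 1, 2, 2, 1, 2, 1, 2, 2, 1, 2, 2, 1, 4, 5, 5, 4, 6, 4, 5, 5, 4, 6, 4, 5, 4]) (.node 1696 (.leaf 169 0 [2, 2, 1, 3, 1, 3, 1, 2, 2, 1, 2, 1, 3, 1, 2, 1, 2, 1, 3, 1, 3, 3, 1, 2, 1, 3, 3, 4, 6, 4, 5, 5, 4, 6, 4, 5, 5]) (.leaf 172 20 [2, 2, 1, 3, 3, 1, 3, 4, 6, 6, 4, 5, 4, 6, 4, 1, 3, 3, 1, 3, 1, 2, 1, 2, 2, 1, 2, 1, 2, 2, 1, 2, 1, 2, 1])))) (.node 1700 (.node 1698 (.leaf 173 42 [6, 2, 1, 2, 2, 1, 2, 1, 2, 2, 1, 3, 1, 2, 2, 1, 3, 1, 3, 3, 1, 2, 2, 1, 2, 1, 3, 1, 5, 4, 6, 4, 5, 4, 6, 4, 5, 4, 6, 4, 5, 4, 6]) (.node 1699 (.leaf 211 5 [3, 3, 1, 3, 1, 2, 1, 2, 2, 1, 2, 2, 1, 2, 2, 1, 2, 1, 2, 1, 3, 1, 5, 5, 4, 6, 4, 5, 5, 4, 6, 4, 5, 4, 6, 4, 5, 1, 3, 1, 2, 1]) (.leaf 230 36 [4, 1, 2, 1, 3, 1, 3, 1, 3, 1, 2, 2, 1, 2, 1, 2, 2, 1, 2, 1, 3, 1, 2, 1, 2, 2, 1, 3, 4, 5, 4, 6, 6, 4, 5, 5, 5]))) (.node 1701 (.leaf 231 39 [5, 5, 3, 3, 1, 3, 1, 2, 2, 1, 2, 1, 2, 1, 3, 1, 2, 1, 2, 1, 2, 2, 1, 3, 3, 1, 3, 1, 3, 4, 5, 5, 5, 4, 6, 4, 5, 4, 6, 6, 4]) (.node 1702 (.leaf 235 36 [5, 2, 2, 1, 3, 1, 3, 1, 2, 1, 2, 1, 2, 1, 2, 1, 3, 1, 2, 2, 1, 3, 1, 3, 1, 2, 1, 3, 4, 6, 6, 6, 4, 5, 5, 5, 4]) (.leaf 239 25 [2, 1, 5, 4, 6, 4, 5, 4, 6, 4, 5, 4, 6, 4, 5, 4, 6, 1, 3, 1, 2, 1, 2, 2, 1, 2, 1, 2, 1, 2, 1, 3, 1, 3, 1, 3, 1, 3, 3, 1, 3, 1]))))))) (.node 1725 (.node 1714 (.node 1708 (.node 1705 (.node 1704 (.leaf 245 4 [3, 1, 2, 2, 1, 3, 1, 2, 2, 1, 3, 1, 3, 1, 2, 1, 2, 2, 1, 2, 1, 3, 3, 5, 5, 4, 6, 6, 4, 5, 4, 6, 4, 5, 4, 6, 4, 2, 2, 1, 3]) (.leaf 295 28 [6, 4, 5, 4, 6, 6, 4, 5, 4, 5, 1, 2, 2, 1, 2, 1, 3, 1, 3, 3, 1, 3, 1, 2, 1, 3, 3, 1, 2, 1, 3, 1, 2, 1, 3, 1, 2, 2])) (.node 1706 (.leaf 304 0 [2, 1, 2, 1, 2, 2, 1, 3, 1, 3, 3, 1, 2, 2, 1, 3, 1, 2, 1, 3, 1, 2, 1, 3, 1, 3, 1, 3, 6, 4, 5, 5, 5, 4, 6, 4, 5, 4, 6, 6, 4, 5, 4]) (.node 1707 (.leaf 320 41 [6, 1, 3, 3, 1, 3, 3, 1, 3, 1, 2, 2, 1, 3, 3, 1, 3, 1, 3, 1, 2, 1, 2, 2, 1, 2, 2, 1, 3, 6, 4, 5, 5, 5, 5, 4, 6, 4, 5, 5, 5, 4]) (.leaf 344 8 [3, 3, 1, 3, 3, 1, 2, 1, 2, 1, 3, 1, 3, 3, 1, 3, 3, 1, 3, 3, 4, 6, 6, 4, 5, 5, 4, 6, 6, 2, 2, 1, 3, 3, 1, 2, 1])))) (.node 1711 (.node 1709 (.leaf 356 21 [1, 3, 1, 2, 1, 2, 2, 6, 4, 5, 4, 6, 4, 5, 4, 6, 6, 6, 1, 2, 2, 1, 3, 1, 3, 1, 3, 1, 2, 1, 3, 3, 1, 3, 3, 1, 2, 1, 3]) (.node 1710 (.leaf 362 11 [1, 3, 1, 2, 2, 1, 3, 1, 2, 1, 2, 2, 1, 3, 3, 1, 3, 5, 5, 5, 4, 6, 6, 4, 5, 4, 6, 4, 5, 5, 1, 3, 1, 2, 1, 2, 2, 1, 2, 1, 2]) (.leaf 371 39 [4, 3, 3, 1, 2, 1, 3, 3, 1, 2, 1, 2, 1, 3, 1, 3, 1, 3, 1, 3, 1, 2, 1, 2, 1, 3, 1, 2, 1, 5, 4, 6, 6, 4, 5, 4, 6, 4, 5, 5]))) (.node 1712 (.leaf 22 21 [1, 5, 5, 4, 6, 4, 5, 4, 3, 3, 1, 2, 1, 2, 1, 2, 1, 2, 2, 1, 3, 1, 2, 2, 1, 2, 2, 1, 3]) (.node 1713 (.leaf 33 20 [1, 3, 3, 4, 6, 6, 4, 5, 4, 6, 6, 6, 4, 5, 4, 6, 2, 2, 1, 3, 1, 3, 1, 3, 1, 3, 1, 2, 1, 2, 1, 3, 1, 2, 1, 3]) (.leaf 37 17 [3, 3, 1, 2, 1, 3, 5, 5, 4, 6, 4, 5, 4, 6, 4, 5, 4, 6, 4, 5, 4, 6, 3, 3, 1, 2, 1, 3, 3, 1, 3, 1, 2, 1, 3, 3, 1, 3, 1]))))) (.node 1719 (.node 1716 (.node 1715 (.leaf 54 14 [2, 1, 3, 1, 2, 1, 2, 1, 3, 3, 5, 5, 4, 6, 4, 5, 4, 6, 4, 5, 5, 4, 6, 4, 1, 2, 2, 1, 3, 3, 1, 2, 1, 2, 1, 2, 2, 1]) (.leaf 59 8 [1, 3, 3, 1, 2, 1, 3, 3, 1, 2, 2, 1, 2, 1, 3, 3, 5, 5, 4, 6, 6, 6, 4, 2, 1, 2, 1, 3, 1, 3, 3])) (.node 1717 (.leaf 69 12 [1, 2, 1, 3, 1, 3, 1, 3, 3, 1, 3, 3, 5, 5, 4, 6, 4, 5, 4, 6, 4, 5, 4, 6, 6, 4, 5, 4, 3, 3, 1, 2, 1, 3, 1, 3, 3, 1, 2, 2]) (.node 1718 (.leaf 69 7 [3, 3, 1, 2, 2, 1, 2, 1, 3, 1, 3, 1, 3, 3, 1, 3, 3, 5, 5, 4, 6, 4, 5, 4, 6, 4, 5, 4, 6, 6, 4, 5, 4, 3, 3, 1, 2, 1, 3, 1]) (.leaf 72 25 [6, 6, 6, 4, 5, 4, 6, 6, 4, 5, 2, 2, 1, 2, 1, 3, 1, 2, 1, 2, 2, 1, 2, 1, 2, 1, 2, 1, 2, 1, 2, 2, 1, 3, 1])))) (.node 1722 (.node 1720 (.leaf 101 18 [2, 1, 2, 2, 1, 2, 1, 4, 6, 4, 5, 4, 6, 6, 4, 5, 1, 3, 1, 2, 1, 2, 1, 2, 2, 1, 2, 1, 2, 2, 1, 2, 2, 1]) (.node 1721 (.leaf 112 27 [6, 6, 4, 5, 4, 6, 6, 4, 5, 5, 4, 6, 4, 1, 2, 2, 1, 2, 1, 2, 1, 3, 1, 3, 1, 2, 2, 1, 3, 1, 2, 1, 2, 1, 2, 2, 1, 3, 3, 4]) (.leaf 120 1 [3, 1, 3, 1, 3, 3, 1, 3, 1, 3, 1, 2, 1, 3, 1, 3, 1, 3, 1, 3, 3, 1, 2, 1, 3, 4, 6, 4, 6, 6, 6, 4, 5, 5, 1]))) (.node 1723 (.leaf 120 25 [3, 4, 6, 4, 6, 6, 6, 4, 5, 5, 1, 3, 1, 3, 1, 3, 3, 1, 3, 1, 3, 1, 2, 1, 3, 1, 3, 1, 3, 1, 3, 3, 1, 2, 1]) (.node 1724 (.leaf 126 13 [3, 1, 2, 1, 2, 1, 2, 1, 3, 3, 1, 3, 1, 6, 4, 5, 5, 4, 6, 4, 5, 5, 4, 6, 1, 3, 1, 2, 1, 2, 2, 1, 3, 3, 1, 2, 1]) (.leaf 131 26 [5, 4, 6, 6, 4, 5, 4, 6, 6, 6, 4, 5, 4, 2, 1, 3, 1, 2, 1, 3, 1, 3, 1, 2, 1, 2, 1, 2, 2, 1, 3, 3, 1, 3, 1, 3, 1, 2, 2])))))) (.node 1736 (.node 1730 (.node 1727 (.node 1726 (.leaf 133 21 [2, 1, 2, 1, 3, 4, 5, 5, 4, 6, 4, 5, 5, 4, 6, 4, 5, 5, 2, 1, 2, 1, 2, 2, 1, 2, 1, 3, 1, 2, 1, 2, 1, 2, 2, 1, 2, 1, 2]) (.leaf 134 11 [1, 2, 1, 3, 1, 2, 1, 3, 3, 1, 2, 2, 1, 2, 2, 5, 4, 6, 4, 5, 4, 6, 4, 5, 4, 6, 4, 1, 2, 1, 2, 1, 3, 1, 3, 3, 1, 3])) (.node 1728 (.leaf 141 17 [1, 2, 1, 2, 1, 3, 3, 1, 3, 5, 5, 4, 6, 4, 5, 4, 6, 4, 5, 4, 6, 4, 5, 4, 2, 2, 1, 2, 1, 3, 3, 1, 3, 1, 3, 1, 2, 1, 2, 1, 3]) (.node 1729 (.leaf 152 26 [5, 5, 5, 4, 6, 4, 5, 4, 6, 4, 5, 4, 6, 4, 5, 5, 1, 2, 2, 1, 3, 1, 3, 1, 2, 1, 3, 3, 1, 2, 1, 3, 3, 1, 2, 1, 2, 1, 2, 2, 1, 3]) (.leaf 173 5 [2, 1, 2, 2, 1, 3, 1, 2, 2, 1, 3, 1, 3, 3, 1, 2, 2, 1, 2, 1, 3, 1, 5, 4, 6, 4, 5, 4, 6, 4, 5, 4, 6, 4, 5, 4, 6, 6, 2, 1, 2, 2, 1])))) (.node 1733 (.node 1731 (.leaf 225 20 [1, 2, 1, 3, 1, 3, 3, 4, 6, 4, 5, 4, 6, 4, 5, 4, 6, 4, 5, 4, 6, 1, 2, 2, 1, 3, 1, 2, 2, 1, 3, 3, 1, 2, 2, 1, 3, 1, 2, 1, 3]) (.node 1732 (.leaf 226 20 [2, 2, 1, 2, 1, 3, 3, 6, 4, 5, 4, 6, 4, 5, 5, 5, 2, 2, 1, 2, 2, 1, 3, 1, 3, 3, 1, 3, 1, 2, 1, 2, 1, 2, 2, 1]) (.leaf 259 18 [3, 1, 3, 1, 3, 1, 3, 1, 2, 1, 6, 4, 5, 4, 6, 6, 6, 4, 6, 1, 2, 1, 2, 1, 2, 2, 1, 3, 1, 3, 1, 2, 2, 1, 2, 1, 3]))) (.node 1734 (.leaf 260 20 [2, 1, 3, 1, 3, 1, 3, 3, 4, 5, 4, 6, 6, 4, 5, 4, 6, 4, 3, 3, 1, 3, 1, 3, 3, 1, 2, 1, 2, 1, 2, 2, 1, 3, 3, 1, 2, 1]) (.node 1735 (.leaf 289 26 [1, 3, 6, 4, 6, 6, 6, 6, 4, 5, 4, 1, 3, 1, 3, 1, 3, 3, 1, 3, 1, 2, 1, 2, 2, 1, 3, 1, 2, 1, 2, 2, 1, 3, 3, 1, 3]) (.leaf 290 17 [2, 1, 3, 3, 1, 3, 1, 3, 1, 3, 3, 5, 4, 6, 6, 6, 4, 5, 5, 5, 4, 1, 2, 1, 2, 2, 1, 3, 1, 3, 3, 1, 3, 1, 2, 2, 1, 2]))))) (.node 1741 (.node 1738 (.node 1737 (.leaf 296 6 [2, 1, 2, 2, 1, 3, 1, 3, 1, 2, 1, 3, 1, 3, 3, 1, 2, 1, 3, 1, 2, 1, 6, 4, 5, 4, 6, 4, 5, 4, 6, 4, 5, 5, 4, 6, 1, 2, 1, 3, 3, 1]) (.leaf 318 40 [4, 6, 2, 1, 3, 1, 2, 1, 2, 2, 1, 3, 1, 3, 3, 1, 2, 1, 3, 3, 1, 3, 1, 2, 1, 2, 2, 1, 3, 1, 4, 5, 4, 6, 6, 4, 5, 4, 6, 4, 5, 5])) (.node 1739 (.leaf 318 3 [1, 2, 1, 2, 2, 1, 3, 1, 3, 3, 1, 2, 1, 3, 3, 1, 3, 1, 2, 1, 2, 2, 1, 3, 1, 4, 5, 4, 6, 6, 4, 5, 4, 6, 4, 5, 5, 4, 6, 2, 1, 3]) (.node 1740 (.leaf 337 11 [2, 1, 2, 1, 2, 1, 2, 2, 1, 3, 3, 1, 3, 3, 1, 3, 1, 5, 5, 4, 6, 4, 5, 4, 6, 4, 5, 5, 4, 6, 4, 5, 3, 3, 1, 2, 2, 1, 2, 1, 3, 1, 2]) (.leaf 347 19 [1, 3, 1, 2, 2, 1, 3, 3, 1, 5, 4, 6, 6, 6, 4, 5, 5, 5, 4, 5, 1, 3, 3, 1, 2, 1, 2, 2, 1, 3, 1, 2, 1, 2, 1, 2, 1, 3, 3])))) (.node 1744 (.node 1742 (.leaf 352 13 [3, 1, 3, 1, 2, 1, 3, 1, 2, 1, 2, 2, 1, 3, 3, 4, 6, 4, 5, 5, 4, 6, 4, 5, 5, 4, 6, 4, 5, 1, 3, 1, 3, 1, 3, 1, 2, 2, 1, 3, 1, 3]) (.node 1743 (.leaf 362 13 [1, 2, 2, 1, 3, 1, 2, 1, 2, 2, 1, 3, 3, 1, 3, 5, 5, 5, 4, 6, 6, 4, 5, 4, 6, 4, 5, 5, 1, 3, 1, 2, 1, 2, 2, 1, 2, 1, 2, 1, 3]) (.leaf 371 14 [3, 1, 3, 1, 3, 1, 2, 1, 2, 1, 3, 1, 2, 1, 5, 4, 6, 6, 4, 5, 4, 6, 4, 5, 5, 4, 3, 3, 1, 2, 1, 3, 3, 1, 2, 1, 2, 1, 3, 1]))) (.node 1745 (.leaf 374 6 [2, 1, 2, 1, 3, 1, 2, 1, 2, 2, 1, 3, 3, 1, 3, 3, 1, 2, 2, 1, 3, 1, 4, 5, 4, 6, 6, 4, 5, 4, 6, 4, 5, 4, 6, 6, 4, 5, 2, 1, 3, 1, 2, 1]) (.node 1746 (.leaf 22 19 [1, 3, 1, 5, 5, 4, 6, 4, 5, 4, 3, 3, 1, 2, 1, 2, 1, 2, 1, 2, 2, 1, 3, 1, 2, 2, 1, 2, 2]) (.leaf 36 18 [3, 3, 1, 3, 3, 4, 5, 5, 5, 4, 6, 6, 6, 4, 5, 4, 6, 3, 3, 1, 3, 1, 2, 1, 3, 1, 3, 1, 2, 2, 1, 3, 1, 2, 1])))))))))) (.node 1922 (.node 1834 (.node 1790 (.node 1768 (.node 1757 (.node 1752 (.node 1749 (.node 1748 (.leaf 151 12 [1, 2, 2, 1, 2, 2, 1, 3, 1, 2, 2, 1, 2, 2, 5, 5, 4, 6, 6, 4, 5, 2, 1, 3, 3, 1, 3, 3, 1, 3, 1, 2, 2]) (.leaf 206 0 [2, 1, 3, 1, 3, 1, 3, 3, 1, 2, 1, 3, 1, 2, 1, 2, 2, 1, 3, 1, 3, 3, 1, 3, 1, 3, 3, 6, 4, 5, 5, 4, 6, 4, 6])) (.node 1750 (.leaf 344 7 [1, 3, 3, 1, 3, 3, 1, 2, 1, 2, 1, 3, 1, 3, 3, 1, 3, 3, 1, 3, 3, 4, 6, 6, 4, 5, 5, 4, 6, 6, 2, 2, 1, 3, 3, 1, 2]) (.node 1751 (.leaf 372 16 [3, 3, 1, 2, 1, 3, 1, 3, 3, 1, 2, 1, 6, 4, 6, 6, 6, 4, 6, 1, 2, 2, 1, 3, 3, 1, 2, 1, 3, 3, 1, 3, 1, 2, 1]) (.leaf 380 28 [4, 6, 4, 5, 5, 4, 6, 4, 5, 4, 6, 4, 1, 3, 3, 1, 3, 1, 2, 1, 3, 3, 1, 3, 3, 1, 2, 1, 3, 3, 1, 2, 1, 2, 1, 3, 1, 3, 1, 3])))) (.node 1754 (.node 1753 (.leaf 383 30 [5, 5, 5, 5, 4, 6, 6, 6, 4, 5, 4, 6, 3, 3, 1, 2, 2, 1, 2, 1, 2, 2, 1, 3, 1, 2, 2, 1, 2, 1, 2, 1, 2, 1, 2, 1, 2, 1, 2, 1, 6, 4]) (.leaf 44 6 [2, 2, 1, 2, 1, 2, 1, 3, 1, 3, 3, 1, 2, 1, 2, 2, 1, 4, 6, 4, 5, 4, 6, 6, 4, 5, 5, 5, 4, 3, 3, 1, 3, 3, 1])) (.node 1755 (.leaf 46 15 [2, 1, 2, 1, 3, 1, 2, 1, 4, 5, 5, 5, 5, 4, 6, 6, 6, 1, 3, 1, 3, 3, 1, 2, 2, 1, 3, 3, 1, 2, 1, 2]) (.node 1756 (.leaf 84 16 [1, 2, 1, 2, 2, 1, 2, 1, 3, 5, 4, 5, 5, 5, 5, 4, 6, 6, 6, 4, 2, 2, 1, 3, 3, 1, 2, 2, 1, 3, 1, 2, 1, 3, 1, 3]) (.leaf 110 17 [2, 1, 2, 1, 3, 1, 3, 1, 5, 5, 5, 5, 4, 6, 6, 6, 4, 5, 4, 6, 2, 2, 1, 2, 1, 2, 1, 2, 1, 3, 1, 2, 2, 1, 2, 1, 2]))))) (.node 1762 (.node 1759 (.node 1758 (.leaf 138 23 [1, 2, 2, 6, 4, 5, 5, 4, 6, 4, 1, 3, 1, 3, 1, 2, 2, 1, 3, 3, 1, 3, 3, 1, 3, 1, 3, 3, 1, 2, 1, 2, 2]) (.leaf 166 8 [1, 3, 1, 2, 1, 2, 1, 3, 3, 1, 2, 2, 1, 3, 1, 2, 2, 1, 3, 5, 5, 4, 6, 6, 4, 5, 5, 2, 1, 2, 1, 2, 1, 2, 2])) (.node 1760 (.leaf 169 4 [1, 3, 1, 2, 2, 1, 2, 1, 3, 1, 2, 1, 2, 1, 3, 1, 3, 3, 1, 2, 1, 3, 3, 4, 6, 4, 5, 5, 4, 6, 4, 5, 5, 2, 2, 1, 3]) (.node 1761 (.leaf 230 3 [3, 1, 3, 1, 3, 1, 2, 2, 1, 2, 1, 2, 2, 1, 2, 1, 3, 1, 2, 1, 2, 2, 1, 3, 4, 5, 4, 6, 6, 4, 5, 5, 5, 4, 1, 2, 1]) (.leaf 298 11 [1, 2, 1, 3, 3, 1, 2, 1, 3, 1, 3, 1, 2, 1, 3, 3, 1, 4, 5, 5, 5, 4, 6, 6, 4, 5, 1, 3, 3, 1, 3, 1, 3, 3, 1, 3, 3])))) (.node 1765 (.node 1763 (.leaf 345 39 [6, 2, 1, 2, 1, 2, 1, 3, 1, 3, 1, 3, 1, 3, 1, 2, 1, 2, 1, 2, 1, 2, 1, 3, 3, 1, 3, 1, 3, 6, 4, 5, 5, 5, 5, 4, 6, 6, 6, 4]) (.node 1764 (.leaf 369 17 [1, 3, 3, 1, 3, 3, 1, 3, 1, 3, 3, 4, 5, 5, 4, 6, 4, 2, 1, 2, 2, 1, 2, 1, 2, 1, 2, 1, 2, 2, 1, 2, 1, 3]) (.leaf 373 28 [4, 6, 6, 6, 4, 5, 5, 5, 4, 6, 4, 5, 5, 5, 4, 1, 3, 3, 1, 3, 1, 3, 1, 3, 1, 2, 1, 2, 1, 3, 1, 2, 2, 1, 2, 2, 1, 3, 3, 1, 3, 3, 1]))) (.node 1766 (.leaf 143 5 [1, 2, 2, 1, 3, 3, 1, 2, 1, 3, 3, 1, 3, 3, 1, 3, 3, 1, 3, 1, 3, 4, 6, 4, 5, 5, 5, 5, 4, 3, 3, 1, 2, 2]) (.node 1767 (.leaf 179 20 [3, 3, 1, 3, 1, 2, 1, 5, 4, 5, 5, 5, 4, 6, 6, 6, 4, 3, 3, 1, 2, 1, 2, 1, 3, 1, 2, 1, 2, 2, 1, 3, 3, 1, 2, 2, 1]) (.leaf 218 8 [2, 1, 3, 1, 3, 1, 2, 1, 2, 2, 1, 2, 2, 1, 2, 1, 2, 1, 3, 4, 6, 4, 5, 5, 5, 4, 6, 4, 5, 4, 6, 6, 4, 5, 4, 2, 2, 1, 3, 1, 3, 1, 2])))))) (.node 1779 (.node 1773 (.node 1770 (.node 1769 (.leaf 130 23 [1, 3, 1, 6, 6, 4, 5, 5, 5, 4, 2, 2, 1, 2, 1, 2, 1, 3, 3, 1, 2, 1, 2, 1, 3, 1, 3, 1, 3, 1, 2, 1, 3]) (.leaf 252 28 [5, 5, 5, 4, 6, 6, 4, 5, 4, 6, 4, 5, 5, 5, 4, 6, 1, 2, 1, 2, 1, 2, 2, 1, 3, 3, 1, 2, 2, 1, 3, 3, 1, 2, 2, 1, 3, 3, 1, 3, 1, 3, 1, 4])) (.node 1771 (.leaf 84 25 [5, 4, 5, 5, 5, 5, 4, 6, 6, 6, 4, 2, 2, 1, 3, 3, 1, 2, 2, 1, 3, 1, 2, 1, 3, 1, 3, 1, 2, 1, 2, 2, 1, 2, 1, 3]) (.node 1772 (.leaf 169 19 [1, 3, 3, 1, 2, 1, 3, 3, 4, 6, 4, 5, 5, 4, 6, 4, 5, 5, 2, 2, 1, 3, 1, 3, 1, 2, 2, 1, 2, 1, 3, 1, 2, 1, 2, 1, 3]) (.leaf 9 21 [2, 2, 2, 1, 2, 2, 2, 1, 2, 2, 2, 1, 2, 2, 2, 1, 2, 2, 2, 1, 2, 2, 2, 1, 2, 2, 2, 1, 2, 2, 2, 1, 2, 2, 2, 1, 2, 2, 2, 1])))) (.node 1776 (.node 1774 (.leaf 35 15 [2, 1, 2, 1, 2, 2, 1, 3, 5, 4, 6, 4, 5, 5, 4, 6, 6, 4, 5, 2, 2, 1, 3, 3, 1, 3, 1, 2, 2, 1, 2, 1, 2, 1]) (.node 1775 (.leaf 92 16 [2, 2, 1, 2, 1, 3, 1, 3, 3, 6, 4, 6, 6, 6, 6, 4, 2, 1, 2, 1, 3, 1, 2, 1, 2, 1, 2, 1, 2, 1, 3, 1]) (.leaf 147 26 [5, 5, 4, 6, 4, 5, 5, 4, 6, 6, 4, 5, 2, 2, 1, 3, 1, 3, 3, 1, 3, 3, 1, 2, 2, 1, 3, 1, 3, 1, 2, 1, 2, 1, 2, 1, 3, 3]))) (.node 1777 (.leaf 204 2 [1, 3, 1, 2, 1, 2, 2, 1, 2, 1, 2, 1, 3, 1, 3, 1, 3, 1, 3, 1, 2, 1, 2, 1, 3, 5, 5, 4, 6, 4, 5, 4, 6, 4, 5, 4, 6, 4, 5, 5, 5, 1, 2]) (.node 1778 (.leaf 261 11 [1, 2, 1, 2, 1, 2, 2, 1, 2, 1, 3, 1, 2, 1, 2, 1, 3, 4, 6, 4, 5, 5, 5, 4, 6, 6, 6, 4, 6, 1, 3, 1, 3, 1, 2, 2, 1, 2, 1, 2]) (.leaf 370 25 [1, 2, 2, 4, 5, 4, 6, 6, 4, 5, 5, 5, 2, 2, 1, 3, 3, 1, 3, 1, 2, 2, 1, 3, 1, 3, 1, 3, 1, 3, 1, 3, 1, 3, 1, 3, 3]))))) (.node 1784 (.node 1781 (.node 1780 (.leaf 284 24 [1, 3, 1, 3, 4, 6, 4, 5, 5, 5, 4, 6, 6, 1, 3, 1, 3, 1, 2, 1, 3, 1, 2, 2, 1, 3, 1, 2, 2, 1, 3, 3, 1, 2, 1, 3, 3]) (.leaf 288 29 [6, 4, 5, 4, 6, 4, 5, 4, 6, 4, 5, 4, 6, 4, 5, 3, 3, 1, 2, 1, 3, 1, 3, 3, 1, 2, 1, 3, 1, 3, 1, 2, 2, 1, 3, 3, 1, 3, 3, 1, 3, 1, 3, 4])) (.node 1782 (.leaf 244 21 [1, 2, 1, 2, 1, 3, 5, 4, 6, 4, 5, 5, 4, 6, 4, 5, 5, 4, 6, 4, 1, 2, 2, 1, 2, 1, 2, 1, 2, 1, 3, 1, 2, 2, 1, 3, 3, 1, 3, 1, 3]) (.node 1783 (.leaf 80 30 [5, 4, 6, 3, 3, 1, 2, 1, 3, 1, 3, 1, 2, 1, 2, 2, 1, 2, 1, 3, 1, 2, 1, 3, 1, 2, 2, 1, 5, 4, 6, 4, 5]) (.leaf 126 25 [1, 6, 4, 5, 5, 4, 6, 4, 5, 5, 4, 6, 1, 3, 1, 2, 1, 2, 2, 1, 3, 3, 1, 2, 1, 3, 1, 2, 1, 2, 1, 2, 1, 3, 3, 1, 3])))) (.node 1787 (.node 1785 (.leaf 237 7 [2, 1, 2, 2, 1, 3, 1, 2, 1, 2, 2, 1, 2, 2, 1, 2, 2, 1, 3, 3, 6, 4, 5, 5, 4, 6, 1, 3, 1, 2, 2, 1, 2]) (.node 1786 (.leaf 388 26 [3, 1, 5, 4, 6, 4, 5, 4, 6, 4, 5, 5, 4, 6, 4, 1, 3, 3, 1, 3, 1, 3, 3, 1, 2, 1, 2, 1, 2, 1, 3, 1, 3, 1, 3, 1, 3, 1, 3, 1, 3]) (.leaf 94 20 [1, 3, 1, 3, 3, 4, 5, 5, 5, 5, 4, 6, 6, 6, 4, 6, 2, 2, 1, 3, 1, 3, 1, 2, 1, 2, 2, 1, 2, 1, 2, 1, 3, 1, 3, 3]))) (.node 1788 (.leaf 117 11 [3, 1, 2, 1, 3, 1, 2, 1, 3, 3, 1, 3, 3, 1, 3, 5, 5, 5, 5, 4, 6, 3, 3, 1, 2, 2, 1, 2, 1, 3, 1, 3]) (.node 1789 (.leaf 166 20 [1, 3, 1, 2, 2, 1, 3, 5, 5, 4, 6, 6, 4, 5, 5, 2, 1, 2, 1, 2, 1, 2, 2, 1, 3, 1, 2, 1, 2, 1, 3, 3, 1, 2, 2]) (.leaf 195 17 [3, 1, 2, 1, 2, 1, 2, 1, 2, 1, 6, 4, 5, 4, 6, 6, 4, 5, 4, 6, 4, 5, 1, 2, 1, 3, 1, 2, 2, 1, 2, 1, 3, 1, 3, 1, 3, 3, 1]))))))) (.node 1812 (.node 1801 (.node 1795 (.node 1792 (.node 1791 (.leaf 248 42 [4, 2, 2, 1, 3, 3, 1, 2, 1, 2, 1, 3, 3, 1, 2, 1, 3, 3, 1, 2, 1, 2, 2, 1, 2, 1, 2, 1, 5, 5, 5, 5, 4, 6, 4, 5, 5, 5, 4, 6, 4, 5, 5]) (.leaf 362 28 [5, 5, 5, 4, 6, 6, 4, 5, 4, 6, 4, 5, 5, 1, 3, 1, 2, 1, 2, 2, 1, 2, 1, 2, 1, 3, 1, 2, 2, 1, 3, 1, 2, 1, 2, 2, 1, 3, 3, 1, 3])) (.node 1793 (.leaf 390 13 [1, 2, 1, 3, 3, 1, 2, 1, 3, 3, 1, 2, 1, 2, 2, 1, 5, 4, 6, 6, 6, 2, 1, 3, 1, 2, 2, 1, 3, 1, 2, 2, 1, 2]) (.node 1794 (.leaf 18 22 [6, 6, 4, 5, 5, 5, 4, 2, 1, 3, 1, 2, 2, 1, 3, 1, 3, 1, 3, 1, 2, 1, 2, 2, 1, 3, 1, 3, 6]) (.leaf 110 19 [2, 1, 3, 1, 3, 1, 5, 5, 5, 5, 4, 6, 6, 6, 4, 5, 4, 6, 2, 2, 1, 2, 1, 2, 1, 2, 1, 3, 1, 2, 2, 1, 2, 1, 2, 2, 1])))) (.node 1798 (.node 1796 (.leaf 114 32 [5, 4, 6, 4, 5, 5, 5, 4, 6, 4, 1, 3, 3, 1, 3, 3, 1, 2, 1, 3, 1, 3, 1, 3, 1, 2, 1, 2, 1, 2, 1, 2, 1, 2, 2, 1, 4, 5, 4, 6, 6, 4]) (.node 1797 (.leaf 117 9 [1, 3, 3, 1, 2, 1, 3, 1, 2, 1, 3, 3, 1, 3, 3, 1, 3, 5, 5, 5, 5, 4, 6, 3, 3, 1, 2, 2, 1, 2, 1, 3]) (.leaf 133 12 [1, 2, 1, 2, 2, 1, 2, 1, 2, 2, 1, 2, 1, 3, 4, 5, 5, 4, 6, 4, 5, 5, 4, 6, 4, 5, 5, 2, 1, 2, 1, 2, 2, 1, 2, 1, 3, 1, 2]))) (.node 1799 (.leaf 190 16 [2, 1, 2, 1, 3, 1, 3, 1, 2, 1, 3, 4, 5, 5, 4, 6, 4, 5, 5, 4, 6, 4, 5, 4, 6, 1, 3, 1, 2, 1, 2, 2, 1, 2, 2, 1, 3, 1, 2, 2, 1]) (.node 1800 (.leaf 246 5 [1, 2, 2, 1, 2, 1, 2, 1, 2, 1, 3, 3, 1, 3, 1, 3, 3, 1, 3, 1, 3, 3, 6, 6, 6, 4, 5, 4, 6, 6, 4, 5, 4, 6, 4, 1, 2, 1, 2, 2]) (.leaf 262 4 [1, 3, 3, 1, 2, 2, 1, 3, 3, 1, 3, 1, 3, 1, 2, 1, 2, 1, 2, 2, 1, 2, 1, 3, 5, 4, 6, 6, 4, 5, 4, 6, 4, 2, 1, 3, 3]))))) (.node 1806 (.node 1803 (.node 1802 (.leaf 290 36 [5, 4, 1, 2, 1, 2, 2, 1, 3, 1, 3, 3, 1, 3, 1, 2, 2, 1, 2, 2, 1, 3, 3, 1, 3, 1, 3, 1, 3, 3, 5, 4, 6, 6, 6, 4, 5, 5]) (.leaf 299 2 [1, 2, 1, 3, 1, 3, 3, 1, 2, 2, 1, 2, 2, 1, 3, 1, 2, 1, 3, 1, 2, 1, 2, 1, 2, 2, 6, 6, 4, 5, 4, 6, 4, 5, 5, 5, 4, 5, 1, 3])) (.node 1804 (.leaf 303 38 [5, 2, 1, 3, 3, 1, 3, 1, 3, 1, 3, 1, 2, 1, 2, 2, 1, 3, 3, 1, 3, 1, 3, 1, 3, 3, 1, 2, 1, 6, 6, 6, 4, 5, 5, 5, 4, 6, 4]) (.node 1805 (.leaf 305 8 [1, 3, 1, 3, 3, 1, 2, 1, 2, 1, 2, 1, 2, 1, 2, 2, 1, 3, 3, 1, 4, 6, 4, 5, 5, 4, 6, 4, 5, 5, 4, 6, 1, 3, 1, 3, 3, 1, 2, 2]) (.leaf 352 41 [5, 1, 3, 1, 3, 1, 3, 1, 2, 2, 1, 3, 1, 3, 3, 1, 3, 1, 2, 1, 3, 1, 2, 1, 2, 2, 1, 3, 3, 4, 6, 4, 5, 5, 4, 6, 4, 5, 5, 4, 6, 4])))) (.node 1809 (.node 1807 (.leaf 352 19 [3, 1, 2, 1, 2, 2, 1, 3, 3, 4, 6, 4, 5, 5, 4, 6, 4, 5, 5, 4, 6, 4, 5, 1, 3, 1, 3, 1, 3, 1, 2, 2, 1, 3, 1, 3, 3, 1, 3, 1, 2, 1]) (.node 1808 (.leaf 16 33 [6, 1, 2, 1, 3, 1, 2, 1, 3, 1, 2, 2, 1, 2, 1, 2, 1, 2, 2, 1, 6, 4, 5, 4, 6, 6, 4, 5, 4, 6, 4, 5, 4, 6]) (.leaf 61 8 [2, 1, 3, 1, 2, 1, 2, 1, 2, 2, 1, 3, 3, 1, 2, 2, 4, 6, 6, 6, 4, 5, 4, 6, 6, 6, 4, 5, 4, 6, 2, 1, 3, 1, 3, 3, 1, 2]))) (.node 1810 (.leaf 76 10 [3, 1, 2, 2, 1, 3, 1, 2, 2, 1, 2, 2, 1, 2, 2, 6, 4, 5, 4, 6, 6, 4, 5, 5, 4, 6, 1, 2, 1, 3, 1, 2, 1, 2, 1, 3]) (.node 1811 (.leaf 102 24 [3, 5, 5, 4, 6, 4, 5, 5, 4, 6, 6, 4, 5, 4, 6, 6, 2, 1, 3, 3, 1, 3, 1, 2, 1, 2, 1, 3, 1, 2, 1, 3, 1, 3, 1, 2, 1, 2, 2, 1]) (.leaf 106 5 [3, 1, 2, 1, 2, 2, 1, 2, 1, 3, 1, 3, 1, 3, 1, 2, 2, 1, 2, 2, 5, 4, 6, 6, 6, 6, 4, 2, 1, 3, 3, 1])))))) (.node 1823 (.node 1817 (.node 1814 (.node 1813 (.leaf 120 26 [4, 6, 4, 6, 6, 6, 4, 5, 5, 1, 3, 1, 3, 1, 3, 3, 1, 3, 1, 3, 1, 2, 1, 3, 1, 3, 1, 3, 1, 3, 3, 1, 2, 1, 3]) (.leaf 126 11 [2, 1, 3, 1, 2, 1, 2, 1, 2, 1, 3, 3, 1, 3, 1, 6, 4, 5, 5, 4, 6, 4, 5, 5, 4, 6, 1, 3, 1, 2, 1, 2, 2, 1, 3, 3, 1])) (.node 1815 (.leaf 129 26 [5, 5, 5, 4, 6, 6, 6, 4, 5, 5, 1, 2, 1, 3, 1, 2, 1, 2, 2, 1, 3, 1, 2, 2, 1, 3, 1, 2, 1, 2, 2, 1, 2, 1, 3, 3]) (.node 1816 (.leaf 144 16 [3, 1, 2, 1, 2, 1, 3, 1, 3, 1, 5, 4, 6, 4, 5, 5, 4, 6, 4, 5, 4, 6, 6, 4, 3, 3, 1, 3, 1, 2, 1, 3, 3, 1, 2, 2, 1, 3, 3, 1]) (.leaf 145 20 [3, 1, 3, 1, 2, 1, 5, 4, 5, 5, 5, 4, 6, 4, 5, 4, 6, 2, 1, 3, 3, 1, 2, 2, 1, 3, 1, 3, 1, 2, 1, 3, 3, 1, 3, 3, 1])))) (.node 1820 (.node 1818 (.leaf 153 34 [4, 5, 1, 3, 1, 3, 1, 2, 2, 1, 2, 1, 2, 1, 2, 2, 1, 2, 1, 2, 2, 1, 2, 1, 3, 3, 1, 3, 4, 6, 6, 6, 4, 5, 5, 5]) (.node 1819 (.leaf 153 21 [1, 3, 3, 1, 3, 4, 6, 6, 6, 4, 5, 5, 5, 4, 5, 1, 3, 1, 3, 1, 2, 2, 1, 2, 1, 2, 1, 2, 2, 1, 2, 1, 2, 2, 1, 2]) (.leaf 161 11 [3, 1, 2, 1, 3, 3, 1, 3, 3, 1, 2, 1, 3, 3, 1, 3, 5, 5, 5, 4, 6, 4, 5, 4, 6, 6, 4, 5, 1, 2, 1, 2, 1, 2, 2, 1, 3, 3, 1]))) (.node 1821 (.leaf 199 27 [5, 4, 6, 6, 6, 4, 5, 5, 5, 4, 6, 2, 2, 1, 2, 1, 3, 1, 3, 1, 2, 2, 1, 3, 1, 2, 2, 1, 2, 2, 1, 3, 1, 2, 2, 1, 2, 1]) (.node 1822 (.leaf 210 25 [2, 1, 6, 4, 5, 4, 6, 4, 5, 4, 6, 6, 4, 5, 4, 1, 2, 2, 1, 3, 1, 2, 2, 1, 3, 1, 2, 2, 1, 2, 1, 2, 1, 3, 1, 2, 1, 3, 3, 1]) (.leaf 240 42 [5, 2, 2, 1, 2, 1, 2, 2, 1, 3, 1, 3, 3, 1, 2, 1, 3, 1, 3, 1, 3, 1, 2, 2, 1, 3, 1, 3, 6, 6, 4, 5, 5, 4, 6, 4, 5, 4, 6, 6, 4, 5, 5]))))) (.node 1828 (.node 1825 (.node 1824 (.leaf 260 0 [3, 3, 1, 3, 1, 3, 3, 1, 2, 1, 2, 1, 2, 2, 1, 3, 3, 1, 2, 1, 2, 1, 3, 1, 3, 1, 3, 3, 4, 5, 4, 6, 6, 4, 5, 4, 6, 4]) (.leaf 294 37 [5, 2, 2, 1, 3, 3, 1, 2, 1, 3, 3, 1, 3, 1, 3, 1, 3, 1, 3, 1, 3, 3, 1, 3, 1, 2, 1, 2, 2, 6, 6, 6, 4, 5, 4, 6, 6, 4])) (.node 1826 (.leaf 295 5 [1, 3, 1, 3, 3, 1, 3, 1, 2, 1, 3, 3, 1, 2, 1, 3, 1, 2, 1, 3, 1, 2, 2, 6, 4, 5, 4, 6, 6, 4, 5, 4, 5, 1, 2, 2, 1, 2]) (.node 1827 (.leaf 311 22 [3, 1, 2, 1, 2, 2, 5, 4, 5, 5, 5, 4, 6, 4, 5, 5, 4, 2, 1, 3, 1, 2, 1, 3, 1, 2, 1, 3, 3, 1, 2, 2, 1, 2, 1, 2, 2, 1, 3]) (.leaf 325 36 [6, 1, 3, 3, 1, 2, 1, 3, 1, 3, 1, 3, 1, 2, 2, 1, 3, 1, 3, 1, 3, 1, 3, 3, 1, 2, 2, 1, 3, 4, 6, 4, 5, 5, 4, 6, 6])))) (.node 1831 (.node 1829 (.leaf 344 11 [3, 3, 1, 2, 1, 2, 1, 3, 1, 3, 3, 1, 3, 3, 1, 3, 3, 4, 6, 6, 4, 5, 5, 4, 6, 6, 2, 2, 1, 3, 3, 1, 2, 1, 3, 3, 1]) (.node 1830 (.leaf 356 13 [3, 1, 3, 3, 1, 2, 1, 3, 1, 3, 1, 2, 1, 2, 2, 6, 4, 5, 4, 6, 4, 5, 4, 6, 6, 6, 1, 2, 2, 1, 3, 1, 3, 1, 3, 1, 2, 1, 3]) (.leaf 359 27 [3, 6, 6, 6, 4, 5, 4, 6, 6, 4, 5, 4, 6, 4, 5, 3, 3, 1, 3, 1, 2, 1, 3, 1, 2, 1, 2, 1, 2, 1, 2, 1, 3, 1, 3, 3, 1, 2, 2, 1, 2, 1]))) (.node 1832 (.leaf 390 19 [2, 1, 3, 3, 1, 2, 1, 2, 2, 1, 5, 4, 6, 6, 6, 2, 1, 3, 1, 2, 2, 1, 3, 1, 2, 2, 1, 2, 1, 2, 1, 3, 3, 1]) (.node 1833 (.leaf 135 34 [6, 6, 4, 5, 4, 1, 3, 1, 2, 2, 1, 2, 1, 3, 1, 2, 2, 1, 2, 1, 2, 1, 2, 1, 2, 2, 1, 2, 1, 2, 1, 4, 6, 4, 5, 5, 5, 4, 6]) (.leaf 156 42 [6, 4, 1, 2, 1, 2, 1, 3, 3, 1, 3, 3, 1, 2, 1, 2, 2, 1, 3, 1, 3, 1, 2, 1, 3, 3, 1, 3, 3, 5, 5, 4, 6, 6, 6, 4, 5, 4, 6, 6, 4, 5, 5, 4])))))))) (.node 1878 (.node 1856 (.node 1845 (.node 1839 (.node 1836 (.node 1835 (.leaf 24 27 [6, 4, 5, 5, 1, 2, 1, 3, 1, 3, 3, 1, 3, 3, 1, 3, 1, 2, 1, 2, 1, 3, 3, 1, 3, 1, 5, 5, 5, 5, 4]) (.leaf 32 6 [2, 2, 1, 3, 3, 1, 2, 2, 1, 2, 1, 2, 1, 2, 1, 3, 1, 4, 6, 4, 5, 5, 5, 4, 6, 6, 4, 5, 4, 1, 3, 3, 1, 3, 1])) (.node 1837 (.leaf 40 12 [2, 1, 3, 3, 1, 3, 1, 2, 2, 1, 3, 5, 4, 6, 4, 5, 4, 6, 4, 5, 5, 4, 3, 3, 1, 2, 1, 3, 3, 1, 2, 1, 3, 1]) (.node 1838 (.leaf 58 21 [3, 3, 1, 4, 6, 4, 5, 5, 5, 4, 6, 6, 4, 1, 3, 1, 3, 1, 2, 1, 3, 3, 1, 2, 2, 1, 2, 2, 1, 3, 1, 3, 3, 1]) (.leaf 74 18 [2, 1, 3, 3, 1, 3, 3, 5, 5, 4, 6, 6, 4, 2, 1, 3, 3, 1, 2, 1, 3, 1, 2, 1, 2, 1, 3, 1, 2, 1, 2])))) (.node 1842 (.node 1840 (.leaf 93 20 [1, 2, 1, 2, 2, 5, 5, 5, 4, 6, 4, 5, 4, 6, 4, 5, 4, 6, 6, 6, 2, 1, 2, 2, 1, 2, 1, 3, 3, 1, 3, 1, 2, 1, 2, 1, 2, 1, 3, 3]) (.node 1841 (.leaf 109 23 [2, 2, 6, 4, 5, 5, 5, 2, 2, 1, 2, 1, 2, 1, 3, 3, 1, 3, 1, 2, 2, 1, 2, 1, 3, 1, 2, 1, 2, 1]) (.leaf 169 28 [6, 4, 5, 5, 4, 6, 4, 5, 5, 2, 2, 1, 3, 1, 3, 1, 2, 2, 1, 2, 1, 3, 1, 2, 1, 2, 1, 3, 1, 3, 3, 1, 2, 1, 3, 3, 4]))) (.node 1843 (.leaf 181 32 [4, 1, 3, 1, 2, 2, 1, 3, 1, 2, 1, 3, 3, 1, 2, 1, 3, 3, 1, 2, 1, 3, 1, 3, 1, 3, 1, 3, 4, 5, 5, 4, 6]) (.node 1844 (.leaf 208 27 [5, 5, 4, 6, 4, 5, 5, 4, 6, 4, 5, 5, 5, 4, 5, 3, 3, 1, 3, 3, 1, 3, 1, 3, 3, 1, 2, 2, 1, 2, 2, 1, 2, 1, 2, 2, 1, 2, 1, 3, 1, 3]) (.leaf 213 8 [1, 3, 1, 3, 1, 2, 1, 3, 1, 3, 1, 3, 3, 1, 3, 1, 3, 1, 3, 5, 4, 5, 5, 5, 5, 4, 5, 1, 3, 1, 3, 3, 1, 3, 3]))))) (.node 1850 (.node 1847 (.node 1846 (.leaf 256 2 [2, 1, 3, 1, 3, 1, 3, 3, 1, 2, 1, 2, 2, 1, 2, 2, 1, 3, 1, 2, 1, 2, 1, 3, 1, 4, 5, 5, 4, 6, 4, 5, 4, 6, 4, 5, 4, 1, 2]) (.leaf 281 28 [6, 6, 4, 5, 5, 4, 6, 4, 5, 5, 5, 4, 6, 6, 6, 4, 2, 1, 3, 3, 1, 3, 3, 1, 3, 3, 1, 3, 3, 1, 2, 1, 3, 3, 1, 2, 2, 1, 2, 1, 3, 1, 3, 1])) (.node 1848 (.leaf 292 41 [5, 5, 5, 1, 2, 1, 3, 1, 2, 2, 1, 2, 1, 3, 3, 1, 3, 1, 3, 1, 2, 2, 1, 3, 1, 2, 1, 3, 3, 1, 3, 5, 5, 4, 6, 4, 5, 5, 5, 4, 6, 6, 6, 4]) (.node 1849 (.leaf 351 7 [3, 1, 2, 1, 3, 1, 2, 1, 3, 3, 1, 3, 3, 1, 2, 1, 2, 2, 1, 3, 1, 5, 5, 5, 4, 6, 4, 5, 4, 6, 4, 5, 4, 2, 2, 1, 3, 3, 1, 3]) (.leaf 356 17 [1, 2, 1, 3, 1, 3, 1, 2, 1, 2, 2, 6, 4, 5, 4, 6, 4, 5, 4, 6, 6, 6, 1, 2, 2, 1, 3, 1, 3, 1, 3, 1, 2, 1, 3, 3, 1, 3, 3])))) (.node 1853 (.node 1851 (.leaf 66 4 [2, 1, 3, 1, 3, 3, 1, 2, 2, 1, 2, 1, 3, 3, 1, 2, 2, 1, 2, 2, 5, 5, 4, 6, 4, 5, 4, 6, 6, 4, 5, 5, 1, 3, 3, 1]) (.node 1852 (.leaf 106 13 [1, 3, 1, 3, 1, 3, 1, 2, 2, 1, 2, 2, 5, 4, 6, 6, 6, 6, 4, 2, 1, 3, 3, 1, 3, 1, 2, 1, 2, 2, 1, 2]) (.leaf 159 28 [5, 4, 5, 5, 5, 4, 6, 4, 5, 4, 6, 6, 3, 3, 1, 3, 1, 3, 1, 3, 3, 1, 3, 1, 2, 1, 2, 2, 1, 2, 2, 1, 3, 3, 1, 3, 1, 3, 1, 4]))) (.node 1854 (.leaf 175 18 [1, 3, 1, 2, 1, 3, 1, 2, 2, 6, 6, 4, 5, 5, 5, 4, 6, 6, 6, 4, 5, 5, 1, 3, 1, 3, 1, 2, 2, 1, 3, 1, 2, 1, 3, 1, 3, 3, 1, 3]) (.node 1855 (.leaf 242 4 [2, 1, 2, 2, 1, 3, 3, 1, 3, 1, 3, 3, 1, 3, 1, 3, 3, 1, 3, 1, 2, 1, 3, 5, 5, 5, 4, 6, 6, 6, 4, 5, 5, 5, 4, 6, 6, 1, 3, 3, 1]) (.leaf 246 39 [4, 1, 2, 1, 2, 2, 1, 2, 2, 1, 2, 1, 2, 1, 2, 1, 3, 3, 1, 3, 1, 3, 3, 1, 3, 1, 3, 3, 6, 6, 6, 4, 5, 4, 6, 6, 4, 5, 4, 6])))))) (.node 1867 (.node 1861 (.node 1858 (.node 1857 (.leaf 268 16 [3, 3, 1, 2, 1, 2, 1, 2, 2, 1, 2, 2, 4, 6, 4, 5, 5, 5, 4, 6, 4, 5, 4, 6, 6, 4, 5, 4, 1, 3, 3, 1, 3, 1, 3, 3, 1, 2, 1, 3, 3, 1, 2, 1]) (.leaf 308 9 [3, 1, 2, 1, 3, 1, 2, 1, 3, 1, 3, 1, 2, 1, 2, 1, 3, 3, 1, 4, 6, 4, 5, 5, 4, 6, 6, 6, 4, 6, 1, 2, 2, 1, 2, 2, 1, 3, 1])) (.node 1859 (.leaf 329 37 [6, 1, 3, 1, 2, 2, 1, 2, 1, 2, 1, 3, 1, 2, 2, 1, 2, 1, 2, 1, 3, 3, 1, 3, 1, 3, 3, 1, 3, 4, 6, 6, 6, 4, 5, 4, 6, 6]) (.node 1860 (.leaf 336 24 [3, 3, 1, 3, 5, 4, 6, 6, 6, 4, 5, 4, 6, 6, 4, 5, 5, 5, 2, 1, 3, 1, 2, 1, 2, 1, 3, 1, 2, 1, 3, 1, 3, 1, 3, 1, 2, 2, 1, 3, 3, 1]) (.leaf 364 20 [2, 1, 2, 1, 2, 1, 2, 1, 4, 5, 5, 5, 4, 6, 6, 6, 4, 5, 4, 6, 6, 4, 5, 5, 4, 6, 1, 2, 2, 1, 3, 1, 3, 3, 1, 3, 1, 2, 1, 2, 1, 3, 1, 3, 1, 2])))) (.node 1864 (.node 1862 (.leaf 390 8 [1, 2, 2, 1, 2, 1, 2, 1, 3, 3, 1, 2, 1, 3, 3, 1, 2, 1, 2, 2, 1, 5, 4, 6, 6, 6, 2, 1, 3, 1, 2, 2, 1, 3]) (.node 1863 (.leaf 47 1 [2, 1, 2, 1, 3, 1, 2, 2, 1, 2, 2, 1, 3, 3, 1, 3, 1, 2, 1, 2, 2, 1, 5, 5, 5, 4, 6, 6, 4, 2]) (.leaf 22 9 [2, 2, 1, 3, 1, 2, 2, 1, 2, 2, 1, 3, 1, 5, 5, 4, 6, 4, 5, 4, 3, 3, 1, 2, 1, 2, 1, 2, 1]))) (.node 1865 (.leaf 113 39 [5, 2, 2, 1, 3, 1, 2, 1, 3, 1, 2, 1, 3, 1, 2, 2, 1, 2, 2, 1, 3, 3, 1, 3, 3, 1, 3, 4, 6, 4, 5, 5, 5, 4, 6, 6, 6, 4, 5, 5]) (.node 1866 (.leaf 283 9 [3, 1, 2, 2, 1, 2, 2, 1, 3, 1, 2, 1, 3, 1, 3, 1, 3, 1, 3, 4, 5, 5, 5, 5, 4, 6, 4, 5, 5, 4, 6, 4, 5, 4, 1, 2, 1, 2, 1, 2, 1, 3, 1]) (.leaf 151 4 [1, 3, 3, 1, 3, 1, 2, 2, 1, 2, 2, 1, 2, 2, 1, 3, 1, 2, 2, 1, 2, 2, 5, 5, 4, 6, 6, 4, 5, 2, 1, 3, 3]))))) (.node 1872 (.node 1869 (.node 1868 (.leaf 289 35 [5, 4, 1, 3, 1, 3, 1, 3, 3, 1, 3, 1, 2, 1, 2, 2, 1, 3, 1, 2, 1, 2, 2, 1, 3, 3, 1, 3, 1, 3, 6, 4, 6, 6, 6, 6, 4]) (.leaf 82 21 [3, 3, 1, 3, 6, 4, 5, 5, 5, 5, 4, 6, 4, 5, 5, 4, 6, 6, 4, 5, 2, 2, 1, 2, 2, 1, 2, 1, 2, 1, 2, 1, 2, 2, 1, 2, 1, 2, 1, 3, 1])) (.node 1870 (.leaf 142 2 [3, 3, 1, 2, 1, 3, 1, 3, 1, 2, 2, 1, 3, 3, 1, 3, 1, 3, 1, 2, 1, 3, 1, 3, 4, 5, 4, 5, 5, 5, 5, 4, 2, 1]) (.node 1871 (.leaf 181 17 [1, 2, 1, 3, 1, 3, 1, 3, 1, 3, 4, 5, 5, 4, 6, 4, 1, 3, 1, 2, 2, 1, 3, 1, 2, 1, 3, 3, 1, 2, 1, 3, 3]) (.leaf 267 13 [2, 2, 1, 2, 1, 2, 2, 1, 2, 2, 1, 2, 2, 1, 3, 4, 5, 5, 4, 6, 1, 3, 1, 2, 1, 2, 1, 3, 3, 1, 2, 2, 1])))) (.node 1875 (.node 1873 (.leaf 270 22 [2, 1, 2, 2, 1, 3, 5, 5, 5, 5, 4, 6, 4, 5, 2, 1, 3, 1, 3, 1, 2, 2, 1, 2, 1, 2, 1, 3, 1, 3, 1, 2, 1, 2, 2, 1]) (.node 1874 (.leaf 172 27 [4, 6, 6, 4, 5, 4, 6, 4, 1, 3, 3, 1, 3, 1, 2, 1, 2, 2, 1, 2, 1, 2, 2, 1, 2, 1, 2, 1, 2, 2, 1, 3, 3, 1, 3]) (.leaf 372 30 [6, 6, 6, 4, 6, 1, 2, 2, 1, 3, 3, 1, 2, 1, 3, 3, 1, 3, 1, 2, 1, 3, 3, 1, 2, 1, 3, 1, 3, 3, 1, 2, 1, 6, 4]))) (.node 1876 (.leaf 130 13 [1, 3, 1, 3, 1, 3, 1, 2, 1, 3, 1, 3, 1, 6, 6, 4, 5, 5, 5, 4, 2, 2, 1, 2, 1, 2, 1, 3, 3, 1, 2, 1, 2]) (.node 1877 (.leaf 385 3 [3, 3, 1, 3, 3, 1, 2, 2, 1, 3, 1, 3, 3, 1, 3, 1, 2, 1, 2, 1, 2, 1, 3, 3, 1, 6, 6, 4, 5, 5, 4, 2, 2, 1]) (.leaf 385 5 [1, 3, 3, 1, 2, 2, 1, 3, 1, 3, 3, 1, 3, 1, 2, 1, 2, 1, 2, 1, 3, 3, 1, 6, 6, 4, 5, 5, 4, 2, 2, 1, 3, 3]))))))) (.node 1900 (.node 1889 (.node 1883 (.node 1880 (.node 1879 (.leaf 9 26 [2, 2, 1, 2, 2, 2, 1, 2, 2, 2, 1, 2, 2, 2, 1, 2, 2, 2, 1, 2, 2, 2, 1, 2, 2, 2, 1, 2, 2, 2, 1, 2, 2, 2, 1, 2, 2, 2, 1, 2]) (.leaf 213 29 [5, 5, 5, 5, 4, 5, 1, 3, 1, 3, 3, 1, 3, 3, 1, 3, 1, 3, 1, 2, 1, 3, 1, 3, 1, 3, 3, 1, 3, 1, 3, 1, 3, 5, 4])) (.node 1881 (.leaf 126 23 [1, 3, 1, 6, 4, 5, 5, 4, 6, 4, 5, 5, 4, 6, 1, 3, 1, 2, 1, 2, 2, 1, 3, 3, 1, 2, 1, 3, 1, 2, 1, 2, 1, 2, 1, 3, 3]) (.node 1882 (.leaf 138 6 [2, 1, 3, 3, 1, 3, 3, 1, 3, 1, 3, 3, 1, 2, 1, 2, 2, 1, 2, 2, 6, 4, 5, 5, 4, 6, 4, 1, 3, 1, 3, 1, 2]) (.leaf 72 13 [1, 2, 1, 2, 1, 2, 1, 2, 2, 1, 3, 1, 6, 6, 6, 4, 5, 4, 6, 6, 4, 5, 2, 2, 1, 2, 1, 3, 1, 2, 1, 2, 2, 1, 2])))) (.node 1886 (.node 1884 (.leaf 53 19 [1, 3, 3, 1, 3, 5, 4, 5, 5, 5, 4, 6, 6, 4, 5, 4, 1, 2, 2, 1, 2, 1, 2, 2, 1, 2, 1, 2, 2, 1, 3, 1, 3, 1, 2]) (.node 1885 (.leaf 24 29 [5, 5, 1, 2, 1, 3, 1, 3, 3, 1, 3, 3, 1, 3, 1, 2, 1, 2, 1, 3, 3, 1, 3, 1, 5, 5, 5, 5, 4, 6, 4]) (.leaf 74 16 [1, 2, 2, 1, 3, 3, 1, 3, 3, 5, 5, 4, 6, 6, 4, 2, 1, 3, 3, 1, 2, 1, 3, 1, 2, 1, 2, 1, 3, 1, 2]))) (.node 1887 (.leaf 75 26 [6, 4, 5, 5, 5, 4, 6, 4, 5, 5, 5, 4, 1, 2, 1, 3, 1, 2, 1, 3, 3, 1, 3, 3, 1, 2, 2, 1, 3, 3, 1, 2, 1, 2, 1, 3, 3, 6]) (.node 1888 (.leaf 109 16 [1, 3, 1, 2, 1, 2, 1, 2, 2, 6, 4, 5, 5, 5, 2, 2, 1, 2, 1, 2, 1, 3, 3, 1, 3, 1, 2, 2, 1, 2]) (.leaf 155 22 [1, 3, 1, 2, 1, 6, 4, 5, 5, 4, 6, 4, 5, 5, 5, 4, 6, 4, 5, 5, 4, 1, 2, 1, 3, 1, 2, 2, 1, 3, 1, 2, 2, 1, 2, 2, 1, 3, 1, 2, 1, 3, 3]))))) (.node 1894 (.node 1891 (.node 1890 (.leaf 167 26 [1, 5, 4, 6, 6, 4, 5, 5, 5, 1, 3, 1, 3, 1, 3, 1, 2, 1, 3, 1, 2, 1, 2, 1, 2, 1, 2, 2, 1, 3, 1, 3, 3, 1, 3]) (.leaf 219 10 [1, 2, 1, 2, 2, 1, 2, 2, 1, 3, 3, 1, 3, 1, 3, 3, 1, 5, 4, 5, 5, 5, 4, 6, 4, 5, 5, 5, 4, 2, 1, 2, 2, 1, 2, 1, 3, 1, 2])) (.node 1892 (.leaf 258 28 [6, 4, 5, 5, 5, 5, 4, 6, 4, 5, 5, 5, 4, 6, 2, 1, 3, 3, 1, 3, 1, 2, 1, 2, 1, 2, 1, 2, 1, 2, 1, 3, 1, 3, 3, 1, 3, 1, 3, 1, 3, 3]) (.node 1893 (.leaf 262 28 [5, 4, 6, 6, 4, 5, 4, 6, 4, 2, 1, 3, 3, 1, 3, 3, 1, 2, 2, 1, 3, 3, 1, 3, 1, 3, 1, 2, 1, 2, 1, 2, 2, 1, 2, 1, 3]) (.leaf 263 25 [1, 2, 1, 4, 5, 5, 5, 4, 6, 6, 4, 5, 5, 4, 6, 3, 3, 1, 3, 3, 1, 3, 1, 3, 1, 3, 1, 2, 2, 1, 2, 1, 3, 1, 2, 1, 2, 1, 2, 2])))) (.node 1897 (.node 1895 (.leaf 327 28 [4, 6, 4, 5, 5, 5, 5, 4, 6, 4, 5, 5, 5, 4, 6, 4, 2, 2, 1, 2, 1, 2, 2, 1, 2, 1, 3, 1, 2, 1, 3, 3, 1, 2, 1, 2, 1, 3, 1, 2, 2, 1, 3, 1]) (.node 1896 (.leaf 361 15 [2, 2, 1, 2, 1, 3, 1, 2, 2, 1, 2, 2, 1, 6, 6, 4, 5, 5, 4, 6, 4, 5, 5, 5, 4, 6, 6, 6, 4, 2, 1, 3, 1, 3, 3, 1, 2, 2, 1, 2, 1, 2, 2, 1]) (.leaf 394 4 [1, 2, 2, 1, 2, 2, 1, 2, 2, 1, 2, 1, 2, 2, 1, 3, 1, 3, 1, 3, 1, 3, 3, 1, 3, 5, 4, 5, 5, 5, 4, 6, 4, 5, 5, 5, 4, 6, 4, 5, 2, 2, 1, 3]))) (.node 1898 (.leaf 36 10 [1, 2, 2, 1, 3, 1, 2, 1, 3, 3, 1, 3, 3, 4, 5, 5, 5, 4, 6, 6, 6, 4, 5, 4, 6, 3, 3, 1, 3, 1, 2, 1, 3, 1, 3]) (.node 1899 (.leaf 95 10 [1, 2, 1, 3, 1, 3, 3, 1, 3, 1, 3, 1, 3, 3, 1, 6, 6, 4, 5, 4, 6, 4, 5, 5, 1, 2, 2, 1, 2, 1, 2, 1, 2, 2]) (.leaf 110 15 [1, 2, 2, 1, 2, 1, 3, 1, 3, 1, 5, 5, 5, 5, 4, 6, 6, 6, 4, 5, 4, 6, 2, 2, 1, 2, 1, 2, 1, 2, 1, 3, 1, 2, 2, 1, 2])))))) (.node 1911 (.node 1905 (.node 1902 (.node 1901 (.leaf 181 4 [2, 1, 3, 1, 2, 1, 3, 3, 1, 2, 1, 3, 3, 1, 2, 1, 3, 1, 3, 1, 3, 1, 3, 4, 5, 5, 4, 6, 4, 1, 3, 1, 2]) (.leaf 236 10 [3, 3, 1, 2, 1, 2, 1, 3, 3, 1, 3, 1, 2, 1, 3, 3, 1, 4, 6, 6, 4, 5, 4, 6, 6, 6, 4, 5, 5, 1, 3, 1, 3, 3, 1, 2, 1, 3, 1])) (.node 1903 (.leaf 238 4 [3, 1, 3, 3, 1, 3, 1, 3, 1, 2, 1, 2, 1, 2, 2, 1, 2, 1, 3, 1, 3, 3, 1, 4, 5, 4, 6, 6, 4, 5, 5, 4, 6, 6, 2, 1, 2, 1]) (.node 1904 (.leaf 284 30 [4, 5, 5, 5, 4, 6, 6, 1, 3, 1, 3, 1, 2, 1, 3, 1, 2, 2, 1, 3, 1, 2, 2, 1, 3, 3, 1, 2, 1, 3, 3, 1, 3, 1, 3, 4, 6]) (.leaf 314 7 [1, 2, 1, 2, 1, 3, 1, 3, 1, 2, 2, 1, 2, 2, 1, 3, 1, 2, 1, 2, 1, 4, 5, 5, 5, 4, 6, 6, 6, 4, 5, 4, 6, 6, 6, 4, 5, 1, 3, 3, 1, 2, 1, 3])))) (.node 1908 (.node 1906 (.leaf 365 8 [2, 2, 1, 2, 1, 2, 2, 1, 2, 2, 1, 2, 2, 1, 3, 1, 3, 1, 3, 1, 5, 4, 5, 5, 5, 5, 4, 6, 6, 6, 4, 5, 4, 2, 2, 1, 2, 1, 2, 2, 1]) (.node 1907 (.leaf 8 24 [1, 3, 3, 1, 3, 3, 1, 3, 3, 1, 3, 3, 1, 3, 3, 1, 3, 3, 1, 3, 3, 1, 3, 3, 1, 3, 3, 1, 3, 3]) (.leaf 18 8 [1, 3, 1, 3, 1, 2, 1, 2, 2, 1, 3, 1, 3, 6, 6, 6, 4, 5, 5, 5, 4, 2, 1, 3, 1, 2, 2, 1, 3]))) (.node 1909 (.leaf 317 11 [1, 3, 1, 2, 1, 3, 3, 1, 2, 1, 2, 2, 1, 3, 3, 1, 3, 4, 6, 6, 4, 5, 4, 6, 6, 6, 4, 5, 5, 1, 3, 1, 2, 1, 2, 1, 2, 1, 3, 3]) (.node 1910 (.leaf 70 9 [3, 1, 3, 1, 2, 1, 3, 1, 2, 1, 3, 1, 2, 1, 2, 1, 6, 4, 5, 5, 5, 4, 5, 1, 2, 1, 2, 1, 3, 1, 2, 1]) (.leaf 130 30 [5, 5, 4, 2, 2, 1, 2, 1, 2, 1, 3, 3, 1, 2, 1, 2, 1, 3, 1, 3, 1, 3, 1, 2, 1, 3, 1, 3, 1, 6, 6, 4, 5]))))) (.node 1916 (.node 1913 (.node 1912 (.leaf 31 31 [5, 4, 2, 1, 2, 1, 2, 2, 1, 2, 2, 1, 2, 1, 2, 2, 1, 2, 2, 1, 3, 3, 1, 3, 4, 6, 4, 5, 5, 5, 4, 6, 4]) (.leaf 34 19 [3, 1, 2, 2, 4, 5, 5, 5, 4, 6, 4, 5, 4, 2, 2, 1, 2, 2, 1, 3, 1, 3, 1, 2, 1, 2, 1, 2, 2, 1, 2, 1])) (.node 1914 (.leaf 58 33 [4, 1, 3, 1, 3, 1, 2, 1, 3, 3, 1, 2, 2, 1, 2, 2, 1, 3, 1, 3, 3, 1, 3, 3, 1, 4, 6, 4, 5, 5, 5, 4, 6, 6]) (.node 1915 (.leaf 119 26 [4, 6, 6, 4, 5, 5, 5, 4, 5, 1, 3, 3, 1, 3, 1, 2, 2, 1, 2, 1, 2, 2, 1, 3, 3, 1, 3, 1, 3, 1, 3, 1, 3, 3, 1]) (.leaf 277 35 [5, 1, 2, 2, 1, 2, 2, 1, 2, 1, 2, 1, 2, 1, 3, 1, 2, 1, 3, 1, 2, 1, 2, 1, 3, 3, 1, 2, 2, 5, 5, 4, 6, 6, 4, 5])))) (.node 1919 (.node 1917 (.leaf 193 22 [3, 1, 2, 2, 1, 4, 6, 4, 5, 4, 6, 6, 4, 5, 5, 5, 4, 1, 2, 1, 3, 3, 1, 3, 3, 1, 3, 1, 2, 1, 2, 1, 2, 1, 2, 1, 3, 1, 3]) (.node 1918 (.leaf 238 29 [4, 6, 6, 4, 5, 5, 4, 6, 6, 2, 1, 2, 1, 3, 1, 3, 3, 1, 3, 1, 3, 1, 2, 1, 2, 1, 2, 2, 1, 2, 1, 3, 1, 3, 3, 1, 4, 5]) (.leaf 230 2 [1, 3, 1, 3, 1, 3, 1, 2, 2, 1, 2, 1, 2, 2, 1, 2, 1, 3, 1, 2, 1, 2, 2, 1, 3, 4, 5, 4, 6, 6, 4, 5, 5, 5, 4, 1, 2]))) (.node 1920 (.leaf 243 19 [1, 3, 3, 1, 2, 1, 2, 1, 4, 6, 4, 5, 5, 5, 4, 6, 4, 5, 5, 4, 6, 2, 2, 1, 2, 1, 3, 1, 3, 3, 1, 2, 2, 1, 2, 1, 2, 2, 1, 2]) (.node 1921 (.leaf 98 36 [6, 6, 4, 3, 3, 1, 3, 3, 1, 3, 3, 1, 3, 1, 2, 2, 1, 3, 1, 3, 3, 1, 2, 1, 2, 1, 3, 1, 6, 6, 4, 5, 4, 6, 6, 6, 4, 5, 4]) (.leaf 334 31 [4, 6, 4, 5, 4, 6, 4, 5, 4, 3, 3, 1, 2, 1, 2, 1, 2, 1, 3, 3, 1, 2, 2, 1, 3, 3, 1, 2, 1, 2, 1, 2, 2, 1, 3, 1, 3, 4, 5, 5]))))))))) (.node 2009 (.node 1965 (.node 1943 (.node 1932 (.node 1927 (.node 1924 (.node 1923 (.leaf 365 40 [4, 2, 2, 1, 2, 1, 2, 2, 1, 2, 2, 1, 2, 1, 2, 2, 1, 2, 2, 1, 2, 2, 1, 3, 1, 3, 1, 3, 1, 5, 4, 5, 5, 5, 5, 4, 6, 6, 6, 4, 5]) (.leaf 10 3 [3, 1, 3, 3, 3, 1, 3, 3, 3, 1, 3, 3, 3, 1, 3, 3, 3, 1, 3, 3, 3, 1, 3, 3, 3, 1, 3, 3, 3, 1, 3, 3, 3, 1, 3, 3, 3, 1, 3, 3])) (.node 1925 (.leaf 354 13 [2, 1, 3, 1, 3, 1, 3, 3, 1, 2, 2, 1, 3, 3, 1, 6, 6, 6, 1, 2, 1, 2, 1, 3, 3, 1, 2, 2, 1, 2, 1]) (.node 1926 (.leaf 129 16 [1, 2, 1, 2, 2, 1, 2, 1, 3, 3, 5, 5, 5, 4, 6, 6, 6, 4, 5, 5, 1, 2, 1, 3, 1, 2, 1, 2, 2, 1, 3, 1, 2, 2, 1, 3]) (.leaf 267 26 [1, 3, 4, 5, 5, 4, 6, 1, 3, 1, 2, 1, 2, 1, 3, 3, 1, 2, 2, 1, 2, 2, 1, 2, 1, 2, 2, 1, 2, 2, 1, 2, 2])))) (.node 1929 (.node 1928 (.leaf 390 17 [3, 1, 2, 1, 3, 3, 1, 2, 1, 2, 2, 1, 5, 4, 6, 6, 6, 2, 1, 3, 1, 2, 2, 1, 3, 1, 2, 2, 1, 2, 1, 2, 1, 3]) (.leaf 262 22 [2, 2, 1, 2, 1, 3, 5, 4, 6, 6, 4, 5, 4, 6, 4, 2, 1, 3, 3, 1, 3, 3, 1, 2, 2, 1, 3, 3, 1, 3, 1, 3, 1, 2, 1, 2, 1])) (.node 1930 (.leaf 379 29 [6, 4, 5, 5, 5, 4, 6, 3, 3, 1, 2, 1, 2, 1, 3, 1, 2, 1, 3, 1, 2, 2, 1, 2, 1, 2, 1, 2, 1, 2, 1, 2, 1, 3, 1, 4]) (.node 1931 (.leaf 336 41 [5, 2, 1, 3, 1, 2, 1, 2, 1, 3, 1, 2, 1, 3, 1, 3, 1, 3, 1, 2, 2, 1, 3, 3, 1, 3, 3, 1, 3, 5, 4, 6, 6, 6, 4, 5, 4, 6, 6, 4, 5, 5]) (.leaf 354 25 [3, 3, 1, 6, 6, 6, 1, 2, 1, 2, 1, 3, 3, 1, 2, 2, 1, 2, 1, 2, 1, 3, 1, 3, 1, 3, 3, 1, 2, 2, 1]))))) (.node 1937 (.node 1934 (.node 1933 (.leaf 270 9 [2, 1, 2, 1, 3, 1, 3, 1, 2, 1, 2, 2, 1, 2, 1, 2, 2, 1, 3, 5, 5, 5, 5, 4, 6, 4, 5, 2, 1, 3, 1, 3, 1, 2, 2, 1]) (.leaf 294 10 [1, 3, 1, 3, 1, 3, 1, 3, 1, 3, 3, 1, 3, 1, 2, 1, 2, 2, 6, 6, 6, 4, 5, 4, 6, 6, 4, 5, 2, 2, 1, 3, 3, 1, 2, 1, 3, 3])) (.node 1935 (.leaf 25 35 [6, 4, 2, 2, 1, 2, 2, 1, 3, 3, 1, 2, 1, 2, 2, 1, 3, 1, 2, 1, 2, 1, 2, 2, 4, 5, 4, 6, 4, 5, 4, 6, 4, 5, 4, 6, 6]) (.node 1936 (.leaf 72 7 [2, 1, 2, 2, 1, 2, 1, 2, 1, 2, 1, 2, 1, 2, 2, 1, 3, 1, 6, 6, 6, 4, 5, 4, 6, 6, 4, 5, 2, 2, 1, 2, 1, 3, 1]) (.leaf 174 23 [2, 1, 3, 1, 5, 5, 5, 5, 4, 3, 3, 1, 3, 1, 2, 2, 1, 3, 3, 1, 2, 2, 1, 3, 3, 1, 2, 1, 2, 1, 2, 1])))) (.node 1940 (.node 1938 (.leaf 282 17 [1, 2, 1, 3, 3, 1, 2, 1, 3, 1, 3, 6, 6, 6, 4, 5, 5, 5, 4, 6, 1, 2, 1, 2, 1, 3, 3, 1, 2, 1, 3, 3, 1, 3, 1, 3, 3]) (.node 1939 (.leaf 31 10 [2, 1, 2, 2, 1, 2, 2, 1, 3, 3, 1, 3, 4, 6, 4, 5, 5, 5, 4, 6, 4, 5, 4, 2, 1, 2, 1, 2, 2, 1, 2, 2, 1]) (.leaf 158 16 [3, 1, 3, 3, 1, 3, 1, 2, 1, 2, 1, 6, 4, 5, 5, 5, 4, 6, 4, 5, 4, 6, 6, 4, 5, 1, 2, 2, 1, 2, 1, 2, 1, 2, 1, 3, 1, 3, 1, 2, 1]))) (.node 1941 (.leaf 268 6 [3, 3, 1, 2, 1, 3, 3, 1, 2, 1, 3, 3, 1, 2, 1, 2, 1, 2, 2, 1, 2, 2, 4, 6, 4, 5, 5, 5, 4, 6, 4, 5, 4, 6, 6, 4, 5, 4, 1, 3, 3, 1, 3, 1]) (.node 1942 (.leaf 304 12 [2, 2, 1, 3, 1, 2, 1, 3, 1, 2, 1, 3, 1, 3, 1, 3, 6, 4, 5, 5, 5, 4, 6, 4, 5, 4, 6, 6, 4, 5, 4, 2, 1, 2, 1, 2, 2, 1, 3, 1, 3, 3, 1]) (.leaf 233 5 [1, 3, 1, 2, 1, 3, 1, 2, 1, 2, 2, 1, 2, 1, 2, 1, 2, 2, 1, 2, 1, 3, 5, 4, 6, 6, 4, 5, 4, 6, 6, 2, 1, 2, 1, 3])))))) (.node 1954 (.node 1948 (.node 1945 (.node 1944 (.leaf 332 8 [1, 3, 1, 3, 1, 2, 2, 1, 3, 1, 3, 1, 2, 1, 3, 1, 2, 1, 2, 2, 4, 6, 4, 5, 4, 6, 4, 5, 4, 6, 6, 6, 4, 5, 4, 2, 2, 1, 3, 1, 2, 1, 3]) (.leaf 309 40 [6, 3, 3, 1, 2, 2, 1, 3, 1, 2, 1, 2, 2, 1, 2, 1, 2, 2, 1, 3, 3, 1, 2, 2, 1, 3, 3, 1, 3, 6, 4, 5, 4, 6, 4, 5, 4, 6, 6, 6, 4])) (.node 1946 (.leaf 372 6 [1, 2, 1, 3, 3, 1, 3, 1, 2, 1, 3, 3, 1, 2, 1, 3, 1, 3, 3, 1, 2, 1, 6, 4, 6, 6, 6, 4, 6, 1, 2, 2, 1, 3, 3]) (.node 1947 (.leaf 143 10 [3, 1, 2, 1, 3, 3, 1, 3, 3, 1, 3, 3, 1, 3, 1, 3, 4, 6, 4, 5, 5, 5, 5, 4, 3, 3, 1, 2, 2, 1, 2, 2, 1, 3]) (.leaf 40 6 [3, 1, 2, 1, 3, 1, 2, 1, 3, 3, 1, 3, 1, 2, 2, 1, 3, 5, 4, 6, 4, 5, 4, 6, 4, 5, 5, 4, 3, 3, 1, 2, 1, 3])))) (.node 1951 (.node 1949 (.leaf 74 24 [3, 5, 5, 4, 6, 6, 4, 2, 1, 3, 3, 1, 2, 1, 3, 1, 2, 1, 2, 1, 3, 1, 2, 1, 2, 2, 1, 3, 3, 1, 3]) (.node 1950 (.leaf 95 25 [6, 6, 4, 5, 4, 6, 4, 5, 5, 1, 2, 2, 1, 2, 1, 2, 1, 2, 2, 1, 2, 1, 3, 1, 3, 3, 1, 3, 1, 3, 1, 3, 3, 1]) (.leaf 98 8 [1, 3, 1, 2, 2, 1, 3, 1, 3, 3, 1, 2, 1, 2, 1, 3, 1, 6, 6, 4, 5, 4, 6, 6, 6, 4, 5, 4, 6, 6, 4, 3, 3, 1, 3, 3, 1, 3, 3]))) (.node 1952 (.leaf 101 3 [2, 1, 2, 1, 2, 2, 1, 2, 1, 2, 2, 1, 2, 2, 1, 2, 1, 2, 2, 1, 2, 1, 4, 6, 4, 5, 4, 6, 6, 4, 5, 1, 3, 1]) (.node 1953 (.leaf 144 26 [5, 4, 6, 4, 5, 5, 4, 6, 4, 5, 4, 6, 6, 4, 3, 3, 1, 3, 1, 2, 1, 3, 3, 1, 2, 2, 1, 3, 3, 1, 3, 1, 2, 1, 2, 1, 3, 1, 3, 1]) (.leaf 161 18 [3, 3, 1, 2, 1, 3, 3, 1, 3, 5, 5, 5, 4, 6, 4, 5, 4, 6, 6, 4, 5, 1, 2, 1, 2, 1, 2, 2, 1, 3, 3, 1, 3, 1, 2, 1, 3, 3, 1]))))) (.node 1959 (.node 1956 (.node 1955 (.leaf 163 18 [1, 2, 1, 2, 1, 3, 3, 1, 3, 4, 6, 6, 4, 5, 5, 4, 6, 4, 5, 5, 5, 4, 6, 4, 5, 3, 3, 1, 3, 3, 1, 3, 1, 2, 1, 2, 1, 2, 2, 1, 3, 1, 3]) (.leaf 289 6 [3, 1, 3, 1, 2, 1, 2, 2, 1, 3, 1, 2, 1, 2, 2, 1, 3, 3, 1, 3, 1, 3, 6, 4, 6, 6, 6, 6, 4, 5, 4, 1, 3, 1, 3, 1, 3])) (.node 1957 (.leaf 289 30 [6, 6, 6, 6, 4, 5, 4, 1, 3, 1, 3, 1, 3, 3, 1, 3, 1, 2, 1, 2, 2, 1, 3, 1, 2, 1, 2, 2, 1, 3, 3, 1, 3, 1, 3, 6, 4]) (.node 1958 (.leaf 356 20 [3, 1, 3, 1, 2, 1, 2, 2, 6, 4, 5, 4, 6, 4, 5, 4, 6, 6, 6, 1, 2, 2, 1, 3, 1, 3, 1, 3, 1, 2, 1, 3, 3, 1, 3, 3, 1, 2, 1]) (.leaf 49 36 [4, 2, 1, 2, 1, 3, 3, 1, 2, 2, 1, 3, 3, 1, 3, 1, 3, 1, 2, 1, 2, 1, 2, 1, 3, 5, 5, 4, 6, 4, 5, 4, 6, 4, 5, 4, 6])))) (.node 1962 (.node 1960 (.leaf 93 38 [6, 6, 2, 1, 2, 2, 1, 2, 1, 3, 3, 1, 3, 1, 2, 1, 2, 1, 2, 1, 3, 3, 1, 2, 1, 2, 2, 5, 5, 5, 4, 6, 4, 5, 4, 6, 4, 5, 4, 6]) (.node 1961 (.leaf 109 18 [1, 2, 1, 2, 1, 2, 2, 6, 4, 5, 5, 5, 2, 2, 1, 2, 1, 2, 1, 3, 3, 1, 3, 1, 2, 2, 1, 2, 1, 3]) (.leaf 121 26 [6, 4, 5, 5, 5, 4, 6, 4, 5, 4, 6, 4, 5, 2, 1, 2, 1, 2, 2, 1, 2, 1, 3, 1, 3, 1, 2, 2, 1, 2, 1, 3, 1, 3, 3, 1, 3, 3, 1]))) (.node 1963 (.leaf 132 27 [6, 4, 5, 4, 6, 4, 5, 4, 6, 4, 1, 3, 1, 3, 1, 2, 1, 2, 1, 2, 2, 1, 2, 1, 3, 1, 2, 1, 2, 1, 2, 1, 2, 1, 3, 1, 6]) (.node 1964 (.leaf 143 7 [2, 1, 3, 3, 1, 2, 1, 3, 3, 1, 3, 3, 1, 3, 3, 1, 3, 1, 3, 4, 6, 4, 5, 5, 5, 5, 4, 3, 3, 1, 2, 2, 1, 2]) (.leaf 151 18 [1, 3, 1, 2, 2, 1, 2, 2, 5, 5, 4, 6, 6, 4, 5, 2, 1, 3, 3, 1, 3, 3, 1, 3, 1, 2, 2, 1, 2, 2, 1, 2, 2]))))))) (.node 1987 (.node 1976 (.node 1970 (.node 1967 (.node 1966 (.leaf 152 8 [2, 1, 3, 3, 1, 2, 1, 3, 3, 1, 2, 1, 2, 1, 2, 2, 1, 3, 5, 5, 5, 4, 6, 4, 5, 4, 6, 4, 5, 4, 6, 4, 5, 5, 1, 2, 2, 1, 3, 1, 3, 1]) (.leaf 169 17 [1, 3, 1, 3, 3, 1, 2, 1, 3, 3, 4, 6, 4, 5, 5, 4, 6, 4, 5, 5, 2, 2, 1, 3, 1, 3, 1, 2, 2, 1, 2, 1, 3, 1, 2, 1, 2])) (.node 1968 (.leaf 171 4 [3, 1, 3, 3, 1, 2, 1, 3, 3, 1, 2, 2, 1, 3, 1, 2, 2, 1, 2, 2, 1, 2, 1, 4, 5, 5, 5, 4, 6, 4, 5, 4, 6, 4, 5, 4, 6, 6, 1, 3, 1, 3]) (.node 1969 (.leaf 171 14 [2, 2, 1, 3, 1, 2, 2, 1, 2, 2, 1, 2, 1, 4, 5, 5, 5, 4, 6, 4, 5, 4, 6, 4, 5, 4, 6, 6, 1, 3, 1, 3, 3, 1, 3, 3, 1, 2, 1, 3, 3, 1]) (.leaf 177 21 [2, 1, 2, 1, 3, 1, 5, 5, 4, 6, 6, 6, 4, 5, 4, 6, 6, 4, 5, 5, 4, 6, 4, 1, 3, 3, 1, 3, 1, 3, 1, 2, 1, 2, 1, 2, 1, 3, 1, 3, 1, 2, 2, 1])))) (.node 1973 (.node 1971 (.leaf 188 23 [2, 2, 1, 3, 4, 5, 4, 6, 4, 5, 4, 6, 4, 5, 4, 6, 4, 5, 4, 6, 2, 1, 3, 3, 1, 3, 1, 3, 1, 3, 3, 1, 3, 1, 2, 1, 2, 2, 1, 2, 1, 2, 1]) (.node 1972 (.leaf 191 2 [1, 3, 3, 1, 3, 3, 1, 3, 1, 2, 1, 2, 1, 3, 3, 1, 3, 1, 3, 1, 3, 1, 3, 1, 3, 6, 4, 5, 5, 5, 4, 6, 4, 5, 5, 5, 4, 6, 6, 6, 2, 2]) (.leaf 193 25 [2, 1, 4, 6, 4, 5, 4, 6, 6, 4, 5, 5, 5, 4, 1, 2, 1, 3, 3, 1, 3, 3, 1, 3, 1, 2, 1, 2, 1, 2, 1, 2, 1, 3, 1, 3, 3, 1, 2]))) (.node 1974 (.leaf 217 3 [3, 1, 2, 2, 1, 3, 1, 3, 3, 1, 2, 1, 3, 1, 3, 1, 3, 1, 3, 1, 2, 1, 2, 2, 4, 5, 5, 5, 4, 6, 4, 5, 4, 6, 4, 5, 4, 6, 4, 5, 1, 2, 1]) (.node 1975 (.leaf 227 34 [4, 2, 2, 1, 2, 2, 1, 3, 1, 3, 1, 3, 1, 2, 2, 1, 3, 1, 2, 1, 2, 1, 3, 1, 3, 1, 3, 1, 4, 5, 5, 5, 4, 6, 6]) (.leaf 237 3 [2, 2, 1, 2, 2, 1, 2, 2, 1, 3, 1, 2, 1, 2, 2, 1, 2, 2, 1, 2, 2, 1, 3, 3, 6, 4, 5, 5, 4, 6, 1, 3, 1]))))) (.node 1981 (.node 1978 (.node 1977 (.leaf 256 28 [5, 5, 4, 6, 4, 5, 4, 6, 4, 5, 4, 1, 2, 2, 1, 3, 1, 3, 1, 3, 3, 1, 2, 1, 2, 2, 1, 2, 2, 1, 3, 1, 2, 1, 2, 1, 3, 1, 4]) (.leaf 267 12 [1, 2, 2, 1, 2, 1, 2, 2, 1, 2, 2, 1, 2, 2, 1, 3, 4, 5, 5, 4, 6, 1, 3, 1, 2, 1, 2, 1, 3, 3, 1, 2, 2])) (.node 1979 (.leaf 271 23 [1, 2, 1, 3, 1, 4, 5, 4, 6, 4, 5, 4, 6, 4, 5, 4, 6, 6, 4, 5, 4, 2, 2, 1, 2, 1, 2, 1, 2, 1, 3, 1, 2, 1, 2, 1, 3, 1, 2, 1, 2, 2, 1, 3]) (.node 1980 (.leaf 297 7 [3, 1, 2, 1, 2, 1, 3, 1, 2, 1, 3, 3, 1, 2, 1, 2, 1, 3, 3, 1, 3, 4, 6, 6, 4, 5, 4, 6, 6, 6, 4, 5, 4, 6, 6, 4, 5, 5, 1, 3, 3, 1, 2, 2, 1]) (.leaf 363 24 [1, 3, 1, 3, 4, 6, 6, 4, 5, 4, 6, 4, 5, 4, 6, 4, 5, 4, 6, 4, 1, 3, 1, 3, 3, 1, 2, 2, 1, 2, 2, 1, 3, 3, 1, 3, 3, 1, 3, 1, 3, 3, 1, 2])))) (.node 1984 (.node 1982 (.leaf 369 11 [2, 2, 1, 2, 1, 3, 1, 3, 3, 1, 3, 3, 1, 3, 1, 3, 3, 4, 5, 5, 4, 6, 4, 2, 1, 2, 2, 1, 2, 1, 2, 1, 2, 1]) (.node 1983 (.leaf 375 29 [5, 4, 5, 5, 5, 4, 6, 4, 5, 4, 6, 4, 5, 4, 6, 6, 2, 2, 1, 3, 1, 2, 2, 1, 3, 1, 2, 2, 1, 2, 2, 1, 3, 1, 3, 3, 1, 3, 3, 1, 2, 1, 3, 1, 4]) (.leaf 108 19 [3, 1, 2, 1, 2, 2, 4, 5, 4, 6, 4, 5, 5, 4, 6, 4, 5, 5, 5, 4, 2, 2, 1, 3, 1, 3, 3, 1, 2, 2, 1, 2, 2, 1, 2, 1, 3, 3, 1]))) (.node 1985 (.leaf 214 27 [6, 4, 5, 5, 5, 4, 6, 6, 6, 4, 5, 5, 5, 1, 3, 1, 3, 3, 1, 2, 1, 3, 3, 1, 2, 1, 2, 1, 3, 3, 1, 3, 3, 1, 2, 1, 3, 1, 2, 1]) (.node 1986 (.leaf 228 40 [5, 1, 3, 3, 1, 3, 3, 1, 2, 1, 2, 1, 3, 1, 2, 1, 2, 1, 2, 1, 2, 1, 2, 2, 1, 2, 1, 3, 6, 4, 6, 6, 6, 4, 5, 4, 6, 6, 4, 5, 4]) (.leaf 232 27 [6, 6, 4, 5, 5, 5, 4, 6, 6, 6, 4, 5, 5, 5, 1, 3, 1, 3, 3, 1, 2, 1, 3, 1, 2, 2, 1, 2, 1, 3, 1, 2, 1, 2, 2, 1, 3, 1, 3, 3, 1])))))) (.node 1998 (.node 1992 (.node 1989 (.node 1988 (.leaf 265 24 [1, 2, 1, 3, 5, 4, 6, 4, 5, 4, 6, 4, 5, 5, 4, 6, 6, 3, 3, 1, 2, 2, 1, 2, 1, 3, 1, 2, 1, 2, 2, 1, 2, 1, 3, 3, 1, 2, 1, 3, 3]) (.leaf 267 9 [1, 2, 2, 1, 2, 2, 1, 2, 1, 2, 2, 1, 2, 2, 1, 2, 2, 1, 3, 4, 5, 5, 4, 6, 1, 3, 1, 2, 1, 2, 1, 3, 3])) (.node 1990 (.leaf 35 25 [6, 4, 5, 5, 4, 6, 6, 4, 5, 2, 2, 1, 3, 3, 1, 3, 1, 2, 2, 1, 2, 1, 2, 1, 2, 1, 2, 1, 2, 2, 1, 3, 5, 4]) (.node 1991 (.leaf 39 9 [1, 3, 1, 2, 1, 3, 3, 1, 3, 3, 1, 2, 2, 1, 4, 5, 5, 4, 6, 4, 5, 5, 4, 6, 6, 4, 5, 5, 1, 3, 3, 1, 2, 2, 1, 2, 2]) (.leaf 72 21 [2, 1, 3, 1, 6, 6, 6, 4, 5, 4, 6, 6, 4, 5, 2, 2, 1, 2, 1, 3, 1, 2, 1, 2, 2, 1, 2, 1, 2, 1, 2, 1, 2, 1, 2])))) (.node 1995 (.node 1993 (.leaf 164 30 [5, 4, 6, 6, 6, 4, 5, 4, 6, 6, 4, 5, 4, 3, 3, 1, 3, 3, 1, 2, 1, 2, 2, 1, 3, 3, 1, 3, 1, 3, 1, 2, 1, 2, 2, 1, 3, 1, 2, 1, 6, 6, 4]) (.node 1994 (.leaf 244 27 [5, 4, 6, 4, 5, 5, 4, 6, 4, 5, 5, 4, 6, 4, 1, 2, 2, 1, 2, 1, 2, 1, 2, 1, 3, 1, 2, 2, 1, 3, 3, 1, 3, 1, 3, 1, 2, 1, 2, 1, 3]) (.leaf 260 10 [2, 1, 2, 2, 1, 3, 3, 1, 2, 1, 2, 1, 3, 1, 3, 1, 3, 3, 4, 5, 4, 6, 6, 4, 5, 4, 6, 4, 3, 3, 1, 3, 1, 3, 3, 1, 2, 1]))) (.node 1996 (.leaf 294 17 [3, 1, 3, 3, 1, 3, 1, 2, 1, 2, 2, 6, 6, 6, 4, 5, 4, 6, 6, 4, 5, 2, 2, 1, 3, 3, 1, 2, 1, 3, 3, 1, 3, 1, 3, 1, 3, 1]) (.node 1997 (.leaf 26 7 [1, 3, 1, 2, 1, 3, 1, 3, 1, 2, 2, 1, 3, 1, 3, 4, 5, 4, 6, 4, 5, 5, 4, 6, 4, 5, 5, 5, 4, 6, 4, 5, 2, 2, 1, 2, 2, 1, 2]) (.leaf 28 4 [1, 2, 1, 3, 3, 1, 2, 2, 1, 3, 1, 3, 3, 1, 2, 1, 2, 1, 4, 5, 4, 6, 4, 5, 5, 4, 6, 4, 5, 5, 5, 3, 3, 1, 2]))))) (.node 2003 (.node 2000 (.node 1999 (.leaf 227 8 [3, 1, 3, 1, 2, 2, 1, 3, 1, 2, 1, 2, 1, 3, 1, 3, 1, 3, 1, 4, 5, 5, 5, 4, 6, 6, 4, 2, 2, 1, 2, 2, 1, 3, 1]) (.leaf 298 0 [1, 3, 3, 1, 3, 1, 3, 3, 1, 3, 3, 1, 2, 1, 3, 3, 1, 2, 1, 3, 1, 3, 1, 2, 1, 3, 3, 1, 4, 5, 5, 5, 4, 6, 6, 4, 5])) (.node 2001 (.leaf 106 4 [1, 3, 1, 2, 1, 2, 2, 1, 2, 1, 3, 1, 3, 1, 3, 1, 2, 2, 1, 2, 2, 5, 4, 6, 6, 6, 6, 4, 2, 1, 3, 3]) (.node 2002 (.leaf 68 9 [1, 3, 1, 2, 2, 1, 3, 1, 2, 1, 2, 2, 1, 3, 3, 4, 5, 4, 5, 5, 5, 5, 4, 5, 1, 2, 1, 2, 1, 2, 1, 3, 3]) (.leaf 213 23 [1, 3, 1, 3, 5, 4, 5, 5, 5, 5, 4, 5, 1, 3, 1, 3, 3, 1, 3, 3, 1, 3, 1, 3, 1, 2, 1, 3, 1, 3, 1, 3, 3, 1, 3])))) (.node 2006 (.node 2004 (.leaf 95 28 [5, 4, 6, 4, 5, 5, 1, 2, 2, 1, 2, 1, 2, 1, 2, 2, 1, 2, 1, 3, 1, 3, 3, 1, 3, 1, 3, 1, 3, 3, 1, 6, 6, 4]) (.node 2005 (.leaf 120 11 [1, 2, 1, 3, 1, 3, 1, 3, 1, 3, 3, 1, 2, 1, 3, 4, 6, 4, 6, 6, 6, 4, 5, 5, 1, 3, 1, 3, 1, 3, 3, 1, 3, 1, 3]) (.leaf 143 16 [1, 3, 3, 1, 3, 3, 1, 3, 1, 3, 4, 6, 4, 5, 5, 5, 5, 4, 3, 3, 1, 2, 2, 1, 2, 2, 1, 3, 3, 1, 2, 1, 3, 3]))) (.node 2007 (.leaf 148 6 [2, 1, 3, 3, 1, 2, 1, 2, 2, 1, 2, 1, 3, 1, 2, 1, 3, 1, 2, 2, 4, 5, 5, 5, 5, 4, 6, 6, 6, 4, 5, 4, 6, 6, 6, 4, 2, 1, 3, 3, 1, 2]) (.node 2008 (.leaf 270 21 [1, 2, 1, 2, 2, 1, 3, 5, 5, 5, 5, 4, 6, 4, 5, 2, 1, 3, 1, 3, 1, 2, 2, 1, 2, 1, 2, 1, 3, 1, 3, 1, 2, 1, 2, 2]) (.leaf 324 36 [5, 5, 4, 2, 2, 1, 2, 2, 1, 2, 1, 2, 1, 2, 2, 1, 3, 1, 3, 1, 3, 1, 2, 2, 1, 2, 1, 2, 1, 2, 2, 5, 5, 5, 5, 4, 6, 4, 5])))))))) (.node 2053 (.node 2031 (.node 2020 (.node 2014 (.node 2011 (.node 2010 (.leaf 325 35 [6, 6, 1, 3, 3, 1, 2, 1, 3, 1, 3, 1, 3, 1, 2, 2, 1, 3, 1, 3, 1, 3, 1, 3, 3, 1, 2, 2, 1, 3, 4, 6, 4, 5, 5, 4, 6]) (.leaf 376 10 [2, 2, 1, 2, 1, 3, 1, 3, 1, 3, 3, 1, 2, 1, 3, 1, 2, 1, 6, 4, 5, 5, 4, 6, 6, 6, 1, 3, 1, 3, 1, 3, 1, 3, 3, 1])) (.node 2012 (.leaf 157 15 [1, 3, 1, 3, 1, 2, 1, 3, 3, 1, 2, 1, 4, 6, 6, 6, 4, 5, 4, 6, 6, 6, 4, 6, 1, 2, 2, 1, 3, 1, 2, 2, 1, 2, 1, 2, 2, 1, 2]) (.node 2013 (.leaf 23 14 [1, 2, 1, 3, 1, 2, 1, 3, 4, 5, 4, 5, 5, 5, 4, 6, 4, 5, 1, 2, 1, 3, 1, 3, 3, 1, 3, 1, 2, 1, 3, 3]) (.leaf 83 5 [3, 1, 3, 1, 3, 3, 1, 2, 1, 2, 1, 3, 1, 2, 1, 2, 1, 2, 2, 1, 6, 6, 6, 4, 5, 5, 5, 4, 6, 1, 2, 1, 2, 1])))) (.node 2017 (.node 2015 (.leaf 365 14 [2, 1, 2, 2, 1, 2, 2, 1, 3, 1, 3, 1, 3, 1, 5, 4, 5, 5, 5, 5, 4, 6, 6, 6, 4, 5, 4, 2, 2, 1, 2, 1, 2, 2, 1, 2, 2, 1, 2, 1, 2]) (.node 2016 (.leaf 107 16 [1, 3, 3, 1, 3, 3, 1, 3, 3, 5, 5, 5, 4, 6, 4, 5, 5, 4, 6, 2, 1, 2, 1, 3, 3, 1, 3, 3, 1, 2, 1, 2, 2, 1, 3]) (.leaf 317 36 [6, 4, 5, 5, 1, 3, 1, 2, 1, 2, 1, 2, 1, 3, 3, 1, 3, 1, 2, 1, 3, 3, 1, 2, 1, 2, 2, 1, 3, 3, 1, 3, 4, 6, 6, 4, 5, 4, 6, 6]))) (.node 2018 (.leaf 298 36 [5, 1, 3, 3, 1, 3, 1, 3, 3, 1, 3, 3, 1, 2, 1, 3, 3, 1, 2, 1, 3, 1, 3, 1, 2, 1, 3, 3, 1, 4, 5, 5, 5, 4, 6, 6, 4]) (.node 2019 (.leaf 303 10 [1, 2, 1, 2, 2, 1, 3, 3, 1, 3, 1, 3, 1, 3, 3, 1, 2, 1, 6, 6, 6, 4, 5, 5, 5, 4, 6, 4, 5, 2, 1, 3, 3, 1, 3, 1, 3, 1, 3]) (.leaf 35 33 [5, 2, 2, 1, 3, 3, 1, 3, 1, 2, 2, 1, 2, 1, 2, 1, 2, 1, 2, 1, 2, 2, 1, 3, 5, 4, 6, 4, 5, 5, 4, 6, 6, 4]))))) (.node 2025 (.node 2022 (.node 2021 (.leaf 225 9 [3, 3, 1, 2, 2, 1, 3, 1, 2, 1, 3, 1, 2, 1, 3, 1, 3, 3, 4, 6, 4, 5, 4, 6, 4, 5, 4, 6, 4, 5, 4, 6, 1, 2, 2, 1, 3, 1, 2, 2, 1]) (.leaf 142 20 [1, 2, 1, 3, 1, 3, 4, 5, 4, 5, 5, 5, 5, 4, 2, 1, 3, 3, 1, 2, 1, 3, 1, 3, 1, 2, 2, 1, 3, 3, 1, 3, 1, 3])) (.node 2023 (.leaf 259 36 [6, 1, 2, 1, 2, 1, 2, 2, 1, 3, 1, 3, 1, 2, 2, 1, 2, 1, 3, 3, 1, 3, 1, 3, 1, 3, 1, 2, 1, 6, 4, 5, 4, 6, 6, 6, 4]) (.node 2024 (.leaf 10 21 [3, 3, 3, 1, 3, 3, 3, 1, 3, 3, 3, 1, 3, 3, 3, 1, 3, 3, 3, 1, 3, 3, 3, 1, 3, 3, 3, 1, 3, 3, 3, 1, 3, 3, 3, 1, 3, 3, 3, 1]) (.leaf 210 39 [4, 1, 2, 2, 1, 3, 1, 2, 2, 1, 3, 1, 2, 2, 1, 2, 1, 2, 1, 3, 1, 2, 1, 3, 3, 1, 2, 1, 6, 4, 5, 4, 6, 4, 5, 4, 6, 6, 4, 5])))) (.node 2028 (.node 2026 (.leaf 170 17 [2, 1, 2, 2, 1, 3, 3, 1, 2, 2, 5, 5, 4, 6, 4, 5, 4, 6, 6, 4, 5, 4, 5, 1, 2, 1, 2, 1, 3, 1, 3, 1, 3, 3, 1, 3, 1, 2, 1, 2]) (.node 2027 (.leaf 238 21 [1, 3, 1, 3, 3, 1, 4, 5, 4, 6, 6, 4, 5, 5, 4, 6, 6, 2, 1, 2, 1, 3, 1, 3, 3, 1, 3, 1, 3, 1, 2, 1, 2, 1, 2, 2, 1, 2]) (.leaf 35 23 [5, 4, 6, 4, 5, 5, 4, 6, 6, 4, 5, 2, 2, 1, 3, 3, 1, 3, 1, 2, 2, 1, 2, 1, 2, 1, 2, 1, 2, 1, 2, 2, 1, 3]))) (.node 2029 (.leaf 39 23 [4, 5, 5, 4, 6, 4, 5, 5, 4, 6, 6, 4, 5, 5, 1, 3, 3, 1, 2, 2, 1, 2, 2, 1, 3, 1, 2, 1, 3, 3, 1, 3, 3, 1, 2, 2, 1]) (.node 2030 (.leaf 151 10 [2, 2, 1, 2, 2, 1, 2, 2, 1, 3, 1, 2, 2, 1, 2, 2, 5, 5, 4, 6, 6, 4, 5, 2, 1, 3, 3, 1, 3, 3, 1, 3, 1]) (.leaf 230 11 [1, 2, 1, 2, 2, 1, 2, 1, 3, 1, 2, 1, 2, 2, 1, 3, 4, 5, 4, 6, 6, 4, 5, 5, 5, 4, 1, 2, 1, 3, 1, 3, 1, 3, 1, 2, 2])))))) (.node 2042 (.node 2036 (.node 2033 (.node 2032 (.leaf 331 14 [1, 3, 1, 2, 1, 3, 3, 1, 3, 1, 2, 1, 3, 1, 4, 5, 5, 4, 6, 4, 5, 4, 6, 6, 6, 4, 2, 1, 2, 1, 2, 2, 1, 3, 3, 1, 2, 1, 2, 2]) (.leaf 384 22 [1, 3, 1, 2, 2, 1, 6, 6, 6, 4, 5, 5, 5, 4, 6, 4, 2, 1, 3, 1, 2, 1, 3, 1, 2, 1, 3, 1, 2, 1, 3, 1, 2, 1, 2, 1, 3, 3])) (.node 2034 (.leaf 159 39 [6, 3, 3, 1, 3, 1, 3, 1, 3, 3, 1, 3, 1, 2, 1, 2, 2, 1, 2, 2, 1, 3, 3, 1, 3, 1, 3, 1, 4, 5, 4, 5, 5, 5, 4, 6, 4, 5, 4, 6]) (.node 2035 (.leaf 227 3 [2, 2, 1, 3, 1, 3, 1, 3, 1, 2, 2, 1, 3, 1, 2, 1, 2, 1, 3, 1, 3, 1, 3, 1, 4, 5, 5, 5, 4, 6, 6, 4, 2, 2, 1]) (.leaf 387 11 [1, 2, 2, 1, 3, 1, 3, 1, 2, 2, 1, 3, 3, 1, 2, 2, 1, 4, 6, 4, 6, 6, 6, 6, 4, 5, 4, 2, 1, 2, 1, 3, 3, 1, 2, 2, 1, 2])))) (.node 2039 (.node 2037 (.leaf 209 11 [1, 2, 1, 2, 2, 1, 2, 2, 1, 2, 1, 3, 1, 3, 1, 3, 4, 5, 5, 4, 6, 4, 5, 5, 4, 6, 4, 5, 5, 2, 1, 2, 1, 3, 3, 1, 2, 1, 2, 2]) (.node 2038 (.leaf 212 4 [2, 1, 3, 1, 2, 1, 3, 1, 3, 1, 3, 1, 2, 2, 1, 3, 1, 3, 1, 3, 1, 3, 1, 6, 4, 6, 6, 6, 4, 5, 4, 6, 6, 6, 4, 5, 2, 1, 3, 1]) (.leaf 233 27 [5, 4, 6, 6, 4, 5, 4, 6, 6, 2, 1, 2, 1, 3, 1, 3, 1, 2, 1, 3, 1, 2, 1, 2, 2, 1, 2, 1, 2, 1, 2, 2, 1, 2, 1, 3]))) (.node 2040 (.leaf 241 23 [2, 1, 3, 1, 4, 5, 4, 6, 4, 5, 4, 6, 4, 5, 4, 6, 4, 5, 5, 3, 3, 1, 2, 2, 1, 3, 1, 3, 1, 2, 1, 2, 2, 1, 2, 1, 3, 3, 1, 3, 3, 1]) (.node 2041 (.leaf 286 24 [3, 1, 3, 1, 5, 4, 6, 4, 5, 4, 6, 4, 5, 4, 6, 4, 5, 4, 2, 2, 1, 3, 3, 1, 3, 1, 2, 1, 2, 1, 2, 1, 2, 1, 3, 3, 1, 3, 3, 1, 3, 1]) (.leaf 49 24 [5, 5, 4, 6, 4, 5, 4, 6, 4, 5, 4, 6, 4, 2, 1, 2, 1, 3, 3, 1, 2, 2, 1, 3, 3, 1, 3, 1, 3, 1, 2, 1, 2, 1, 2, 1, 3]))))) (.node 2047 (.node 2044 (.node 2043 (.leaf 295 24 [3, 1, 2, 2, 6, 4, 5, 4, 6, 6, 4, 5, 4, 5, 1, 2, 2, 1, 2, 1, 3, 1, 3, 3, 1, 3, 1, 2, 1, 3, 3, 1, 2, 1, 3, 1, 2, 1]) (.leaf 346 0 [1, 2, 1, 3, 1, 3, 1, 3, 1, 2, 1, 2, 2, 1, 2, 1, 3, 3, 1, 3, 1, 3, 3, 1, 3, 3, 1, 3, 5])) (.node 2045 (.leaf 370 9 [2, 1, 3, 1, 3, 1, 3, 1, 3, 1, 3, 1, 3, 1, 3, 3, 1, 2, 2, 4, 5, 4, 6, 6, 4, 5, 5, 5, 2, 2, 1, 3, 3, 1, 3, 1, 2]) (.node 2046 (.leaf 27 32 [4, 1, 2, 1, 2, 2, 1, 3, 3, 1, 3, 1, 2, 1, 3, 1, 2, 2, 1, 2, 1, 2, 2, 4, 6, 4, 5, 5, 4, 6, 4, 5, 5]) (.leaf 66 34 [5, 5, 1, 3, 3, 1, 2, 1, 3, 1, 3, 3, 1, 2, 2, 1, 2, 1, 3, 3, 1, 2, 2, 1, 2, 2, 5, 5, 4, 6, 4, 5, 4, 6, 6, 4])))) (.node 2050 (.node 2048 (.leaf 80 5 [3, 1, 3, 1, 2, 1, 2, 2, 1, 2, 1, 3, 1, 2, 1, 3, 1, 2, 2, 1, 5, 4, 6, 4, 5, 5, 4, 6, 3, 3, 1, 2, 1]) (.node 2049 (.leaf 101 20 [2, 2, 1, 2, 1, 4, 6, 4, 5, 4, 6, 6, 4, 5, 1, 3, 1, 2, 1, 2, 1, 2, 2, 1, 2, 1, 2, 2, 1, 2, 2, 1, 2, 1]) (.leaf 158 27 [6, 4, 5, 5, 5, 4, 6, 4, 5, 4, 6, 6, 4, 5, 1, 2, 2, 1, 2, 1, 2, 1, 2, 1, 3, 1, 3, 1, 2, 1, 3, 1, 3, 3, 1, 3, 1, 2, 1, 2, 1]))) (.node 2051 (.leaf 165 23 [1, 2, 2, 1, 4, 5, 5, 4, 6, 4, 5, 5, 4, 6, 4, 5, 4, 6, 6, 2, 1, 3, 1, 3, 1, 3, 3, 1, 3, 1, 3, 3, 1, 2, 1, 2, 2, 1, 2, 1, 2, 2]) (.node 2052 (.leaf 169 33 [6, 4, 5, 5, 2, 2, 1, 3, 1, 3, 1, 2, 2, 1, 2, 1, 3, 1, 2, 1, 2, 1, 3, 1, 3, 3, 1, 2, 1, 3, 3, 4, 6, 4, 5, 5, 4]) (.leaf 196 17 [2, 1, 2, 2, 1, 2, 1, 2, 1, 3, 5, 4, 5, 5, 5, 4, 6, 4, 5, 5, 4, 6, 3, 3, 1, 2, 1, 3, 1, 2, 1, 3, 3, 1, 2, 2, 1, 3, 1]))))))) (.node 2075 (.node 2064 (.node 2058 (.node 2055 (.node 2054 (.leaf 201 18 [1, 3, 1, 3, 1, 2, 2, 1, 3, 4, 5, 5, 5, 4, 6, 4, 5, 5, 4, 6, 4, 5, 5, 2, 2, 1, 3, 1, 3, 3, 1, 3, 1, 3, 1, 2, 2, 1, 3, 1, 3]) (.leaf 215 28 [5, 5, 5, 5, 4, 6, 4, 5, 5, 4, 6, 4, 1, 3, 1, 3, 1, 2, 1, 3, 1, 3, 1, 2, 1, 2, 2, 1, 2, 2, 1, 2, 1, 3, 1, 2, 1, 2, 2, 4])) (.node 2056 (.leaf 218 27 [4, 6, 4, 5, 5, 5, 4, 6, 4, 5, 4, 6, 6, 4, 5, 4, 2, 2, 1, 3, 1, 3, 1, 2, 2, 1, 3, 1, 3, 1, 2, 1, 2, 2, 1, 2, 2, 1, 2, 1, 2, 1, 3]) (.node 2057 (.leaf 296 28 [6, 4, 5, 4, 6, 4, 5, 4, 6, 4, 5, 5, 4, 6, 1, 2, 1, 3, 3, 1, 2, 1, 2, 2, 1, 3, 1, 3, 1, 2, 1, 3, 1, 3, 3, 1, 2, 1, 3, 1, 2, 1]) (.leaf 318 28 [4, 5, 4, 6, 6, 4, 5, 4, 6, 4, 5, 5, 4, 6, 2, 1, 3, 1, 2, 1, 2, 2, 1, 3, 1, 3, 3, 1, 2, 1, 3, 3, 1, 3, 1, 2, 1, 2, 2, 1, 3, 1])))) (.node 2061 (.node 2059 (.leaf 324 7 [1, 2, 1, 2, 2, 1, 3, 1, 3, 1, 3, 1, 2, 2, 1, 2, 1, 2, 1, 2, 2, 5, 5, 5, 5, 4, 6, 4, 5, 5, 5, 4, 2, 2, 1, 2, 2, 1, 2]) (.node 2060 (.leaf 340 13 [3, 1, 2, 2, 1, 3, 1, 2, 1, 2, 1, 3, 1, 3, 3, 6, 6, 4, 5, 5, 4, 6, 4, 5, 5, 5, 4, 6, 1, 3, 1, 3, 3, 1, 3, 3, 1, 2, 2, 1, 3]) (.leaf 352 2 [1, 3, 1, 3, 1, 2, 2, 1, 3, 1, 3, 3, 1, 3, 1, 2, 1, 3, 1, 2, 1, 2, 2, 1, 3, 3, 4, 6, 4, 5, 5, 4, 6, 4, 5, 5, 4, 6, 4, 5, 1, 3]))) (.node 2062 (.leaf 379 17 [1, 2, 1, 2, 1, 2, 1, 2, 1, 3, 1, 4, 6, 4, 5, 5, 5, 4, 6, 3, 3, 1, 2, 1, 2, 1, 3, 1, 2, 1, 3, 1, 2, 2, 1, 2]) (.node 2063 (.leaf 388 27 [1, 5, 4, 6, 4, 5, 4, 6, 4, 5, 5, 4, 6, 4, 1, 3, 3, 1, 3, 1, 3, 3, 1, 2, 1, 2, 1, 2, 1, 3, 1, 3, 1, 3, 1, 3, 1, 3, 1, 3, 3]) (.leaf 55 36 [6, 2, 1, 2, 1, 3, 3, 1, 2, 1, 3, 1, 3, 1, 2, 1, 2, 1, 3, 1, 3, 3, 1, 2, 2, 4, 6, 6, 4, 5, 4, 6, 6, 4, 5, 4, 6]))))) (.node 2069 (.node 2066 (.node 2065 (.leaf 363 22 [1, 2, 1, 3, 1, 3, 4, 6, 6, 4, 5, 4, 6, 4, 5, 4, 6, 4, 5, 4, 6, 4, 1, 3, 1, 3, 3, 1, 2, 2, 1, 2, 2, 1, 3, 3, 1, 3, 3, 1, 3, 1, 3, 3]) (.leaf 13 10 [2, 2, 1, 3, 3, 1, 2, 1, 4, 6, 4, 5, 4, 6, 6, 4, 5, 4, 5, 1, 3, 3, 1, 2, 1, 2, 1, 2, 1])) (.node 2067 (.leaf 38 17 [2, 1, 3, 1, 3, 3, 4, 5, 5, 5, 4, 6, 6, 4, 5, 5, 4, 1, 3, 1, 3, 1, 2, 1, 2, 1, 3, 1, 2, 2, 1, 3, 1, 2]) (.node 2068 (.leaf 53 17 [1, 2, 1, 3, 3, 1, 3, 5, 4, 5, 5, 5, 4, 6, 6, 4, 5, 4, 1, 2, 2, 1, 2, 1, 2, 2, 1, 2, 1, 2, 2, 1, 3, 1, 3]) (.leaf 58 25 [6, 4, 5, 5, 5, 4, 6, 6, 4, 1, 3, 1, 3, 1, 2, 1, 3, 3, 1, 2, 2, 1, 2, 2, 1, 3, 1, 3, 3, 1, 3, 3, 1, 4])))) (.node 2072 (.node 2070 (.leaf 81 11 [3, 1, 2, 1, 3, 1, 2, 2, 1, 2, 1, 3, 1, 3, 5, 4, 5, 5, 5, 4, 6, 6, 4, 5, 5, 4, 6, 2, 1, 2, 1, 3, 1, 3, 3, 1, 2, 1]) (.node 2071 (.leaf 117 30 [4, 6, 3, 3, 1, 2, 2, 1, 2, 1, 3, 1, 3, 3, 1, 2, 1, 3, 1, 2, 1, 3, 3, 1, 3, 3, 1, 3, 5, 5, 5, 5]) (.leaf 193 23 [1, 2, 2, 1, 4, 6, 4, 5, 4, 6, 6, 4, 5, 5, 5, 4, 1, 2, 1, 3, 3, 1, 3, 3, 1, 3, 1, 2, 1, 2, 1, 2, 1, 2, 1, 3, 1, 3, 3]))) (.node 2073 (.leaf 205 32 [6, 4, 5, 4, 6, 4, 5, 5, 4, 6, 4, 2, 1, 2, 1, 3, 3, 1, 2, 1, 3, 3, 1, 2, 2, 1, 2, 2, 1, 2, 2, 1, 3, 1, 2, 1, 2, 1, 4, 6, 4, 5, 4]) (.node 2074 (.leaf 269 29 [5, 4, 6, 6, 4, 5, 4, 6, 4, 5, 5, 4, 6, 4, 2, 1, 3, 1, 2, 1, 2, 2, 1, 3, 1, 3, 1, 2, 1, 2, 2, 1, 3, 1, 2, 1, 3, 3, 1, 2, 1, 3, 5]) (.leaf 92 19 [2, 1, 3, 1, 3, 3, 6, 4, 6, 6, 6, 6, 4, 2, 1, 2, 1, 3, 1, 2, 1, 2, 1, 2, 1, 2, 1, 3, 1, 2, 2, 1])))))) (.node 2086 (.node 2080 (.node 2077 (.node 2076 (.leaf 92 23 [3, 3, 6, 4, 6, 6, 6, 6, 4, 2, 1, 2, 1, 3, 1, 2, 1, 2, 1, 2, 1, 2, 1, 3, 1, 2, 2, 1, 2, 1, 3, 1]) (.leaf 104 2 [1, 2, 1, 2, 1, 3, 1, 3, 3, 1, 2, 2, 1, 3, 3, 1, 3, 1, 2, 2, 1, 2, 1, 6, 6, 4, 5, 4, 6, 4, 5, 5, 4, 6, 4, 1, 3])) (.node 2078 (.leaf 132 20 [2, 1, 2, 1, 3, 1, 6, 6, 4, 5, 4, 6, 4, 5, 4, 6, 4, 1, 3, 1, 3, 1, 2, 1, 2, 1, 2, 2, 1, 2, 1, 3, 1, 2, 1, 2, 1]) (.node 2079 (.leaf 195 27 [6, 4, 5, 4, 6, 6, 4, 5, 4, 6, 4, 5, 1, 2, 1, 3, 1, 2, 2, 1, 2, 1, 3, 1, 3, 1, 3, 3, 1, 3, 1, 2, 1, 2, 1, 2, 1, 2, 1]) (.leaf 206 6 [3, 3, 1, 2, 1, 3, 1, 2, 1, 2, 2, 1, 3, 1, 3, 3, 1, 3, 1, 3, 3, 6, 4, 5, 5, 4, 6, 4, 6, 2, 1, 3, 1, 3, 1])))) (.node 2083 (.node 2081 (.leaf 216 5 [3, 3, 1, 3, 1, 3, 3, 1, 2, 2, 1, 3, 1, 3, 1, 2, 1, 3, 3, 1, 3, 1, 6, 4, 5, 5, 4, 6, 2, 2, 1, 2, 1]) (.node 2082 (.leaf 308 15 [2, 1, 3, 1, 3, 1, 2, 1, 2, 1, 3, 3, 1, 4, 6, 4, 5, 5, 4, 6, 6, 6, 4, 6, 1, 2, 2, 1, 2, 2, 1, 3, 1, 3, 1, 2, 1, 3, 1]) (.leaf 372 5 [3, 1, 2, 1, 3, 3, 1, 3, 1, 2, 1, 3, 3, 1, 2, 1, 3, 1, 3, 3, 1, 2, 1, 6, 4, 6, 6, 6, 4, 6, 1, 2, 2, 1, 3]))) (.node 2084 (.leaf 376 0 [1, 3, 1, 3, 1, 3, 1, 3, 3, 1, 2, 2, 1, 2, 1, 3, 1, 3, 1, 3, 3, 1, 2, 1, 3, 1, 2, 1, 6, 4, 5, 5, 4, 6, 6, 6]) (.node 2085 (.leaf 377 7 [1, 3, 3, 1, 3, 3, 1, 2, 1, 2, 2, 1, 2, 1, 3, 1, 2, 1, 2, 2, 1, 5, 4, 6, 6, 4, 5, 4, 6, 4, 5, 5, 4, 6, 6, 1, 2, 2, 1, 3, 1, 2]) (.leaf 389 15 [2, 2, 1, 2, 1, 3, 1, 3, 3, 1, 2, 1, 3, 4, 5, 4, 6, 6, 4, 5, 4, 6, 4, 5, 4, 6, 4, 2, 1, 3, 3, 1, 3, 1, 2, 1, 3, 1, 3, 1, 2, 1]))))) (.node 2091 (.node 2088 (.node 2087 (.leaf 9 7 [2, 1, 2, 2, 2, 1, 2, 2, 2, 1, 2, 2, 2, 1, 2, 2, 2, 1, 2, 2, 2, 1, 2, 2, 2, 1, 2, 2, 2, 1, 2, 2, 2, 1, 2, 2, 2, 1, 2, 2]) (.leaf 215 27 [4, 5, 5, 5, 5, 4, 6, 4, 5, 5, 4, 6, 4, 1, 3, 1, 3, 1, 2, 1, 3, 1, 3, 1, 2, 1, 2, 2, 1, 2, 2, 1, 2, 1, 3, 1, 2, 1, 2, 2])) (.node 2089 (.leaf 50 24 [4, 6, 4, 5, 5, 5, 5, 1, 3, 3, 1, 2, 1, 3, 3, 1, 2, 2, 1, 2, 1, 3, 3, 1, 3, 3, 1, 2, 2, 1, 3]) (.node 2090 (.leaf 180 6 [2, 1, 3, 1, 3, 1, 2, 2, 1, 3, 1, 3, 1, 3, 1, 2, 1, 2, 1, 2, 1, 6, 4, 6, 6, 6, 4, 5, 4, 6, 6, 6, 4, 5, 2, 1, 2, 1, 3, 1]) (.leaf 241 2 [1, 2, 2, 1, 3, 1, 3, 1, 2, 1, 2, 2, 1, 2, 1, 3, 3, 1, 3, 3, 1, 2, 1, 3, 1, 4, 5, 4, 6, 4, 5, 4, 6, 4, 5, 4, 6, 4, 5, 5, 3, 3])))) (.node 2094 (.node 2092 (.leaf 325 34 [6, 6, 6, 1, 3, 3, 1, 2, 1, 3, 1, 3, 1, 3, 1, 2, 2, 1, 3, 1, 3, 1, 3, 1, 3, 3, 1, 2, 2, 1, 3, 4, 6, 4, 5, 5, 4]) (.node 2093 (.leaf 216 18 [3, 1, 2, 1, 3, 3, 1, 3, 1, 6, 4, 5, 5, 4, 6, 2, 2, 1, 2, 1, 3, 3, 1, 3, 1, 3, 3, 1, 2, 2, 1, 3, 1]) (.leaf 332 21 [1, 3, 1, 2, 1, 2, 2, 4, 6, 4, 5, 4, 6, 4, 5, 4, 6, 6, 6, 4, 5, 4, 2, 2, 1, 3, 1, 2, 1, 3, 1, 3, 1, 3, 1, 2, 2, 1, 3, 1, 3, 1, 2]))) (.node 2095 (.leaf 333 8 [3, 1, 2, 2, 1, 2, 1, 3, 3, 1, 3, 3, 1, 2, 2, 1, 3, 1, 3, 3, 4, 6, 4, 5, 5, 5, 4, 6, 6, 6, 4, 5, 4, 2, 1, 2, 2, 1, 2, 1, 3]) (.node 2096 (.leaf 339 13 [1, 2, 2, 1, 3, 1, 2, 2, 1, 2, 1, 3, 1, 2, 2, 6, 6, 6, 4, 5, 5, 5, 4, 6, 6, 6, 4, 2, 1, 3, 3, 1, 2, 1, 3, 1, 2, 2, 1, 3]) (.leaf 354 15 [3, 1, 3, 1, 3, 3, 1, 2, 2, 1, 3, 3, 1, 6, 6, 6, 1, 2, 1, 2, 1, 3, 3, 1, 2, 2, 1, 2, 1, 2, 1]))))))))))) (.node 2446 (.node 2271 (.node 2184 (.node 2140 (.node 2118 (.node 2107 (.node 2102 (.node 2099 (.node 2098 (.leaf 381 10 [3, 1, 3, 1, 2, 1, 3, 3, 1, 2, 2, 1, 2, 1, 3, 1, 3, 3, 4, 5, 5, 4, 6, 4, 5, 5, 4, 6, 6, 4, 2, 2, 1, 2, 1, 2, 1, 3, 1, 3]) (.leaf 372 1 [2, 2, 1, 3, 3, 1, 2, 1, 3, 3, 1, 3, 1, 2, 1, 3, 3, 1, 2, 1, 3, 1, 3, 3, 1, 2, 1, 6, 4, 6, 6, 6, 4, 6, 1])) (.node 2100 (.leaf 31 22 [4, 6, 4, 5, 5, 5, 4, 6, 4, 5, 4, 2, 1, 2, 1, 2, 2, 1, 2, 2, 1, 2, 1, 2, 2, 1, 2, 2, 1, 3, 3, 1, 3]) (.node 2101 (.leaf 25 15 [1, 2, 1, 2, 1, 2, 2, 4, 5, 4, 6, 4, 5, 4, 6, 4, 5, 4, 6, 6, 6, 4, 2, 2, 1, 2, 2, 1, 3, 3, 1, 2, 1, 2, 2, 1, 3]) (.leaf 58 15 [1, 3, 1, 3, 3, 1, 3, 3, 1, 4, 6, 4, 5, 5, 5, 4, 6, 6, 4, 1, 3, 1, 3, 1, 2, 1, 3, 3, 1, 2, 2, 1, 2, 2])))) (.node 2104 (.node 2103 (.leaf 66 17 [3, 1, 2, 2, 1, 2, 2, 5, 5, 4, 6, 4, 5, 4, 6, 6, 4, 5, 5, 1, 3, 3, 1, 2, 1, 3, 1, 3, 3, 1, 2, 2, 1, 2, 1, 3]) (.leaf 69 39 [4, 3, 3, 1, 2, 1, 3, 1, 3, 3, 1, 2, 2, 1, 2, 1, 3, 1, 3, 1, 3, 3, 1, 3, 3, 5, 5, 4, 6, 4, 5, 4, 6, 4, 5, 4, 6, 6, 4, 5])) (.node 2105 (.leaf 117 28 [5, 5, 4, 6, 3, 3, 1, 2, 2, 1, 2, 1, 3, 1, 3, 3, 1, 2, 1, 3, 1, 2, 1, 3, 3, 1, 3, 3, 1, 3, 5, 5]) (.node 2106 (.leaf 117 20 [3, 1, 3, 3, 1, 3, 5, 5, 5, 5, 4, 6, 3, 3, 1, 2, 2, 1, 2, 1, 3, 1, 3, 3, 1, 2, 1, 3, 1, 2, 1, 3]) (.leaf 132 18 [2, 1, 2, 1, 2, 1, 3, 1, 6, 6, 4, 5, 4, 6, 4, 5, 4, 6, 4, 1, 3, 1, 3, 1, 2, 1, 2, 1, 2, 2, 1, 2, 1, 3, 1, 2, 1]))))) (.node 2112 (.node 2109 (.node 2108 (.leaf 171 28 [5, 5, 5, 4, 6, 4, 5, 4, 6, 4, 5, 4, 6, 6, 1, 3, 1, 3, 3, 1, 3, 3, 1, 2, 1, 3, 3, 1, 2, 2, 1, 3, 1, 2, 2, 1, 2, 2, 1, 2, 1, 4]) (.leaf 197 28 [6, 4, 5, 5, 4, 6, 4, 5, 4, 6, 4, 5, 5, 1, 2, 1, 3, 1, 3, 3, 1, 2, 1, 2, 1, 3, 1, 3, 1, 3, 3, 1, 2, 1, 3, 3, 1, 3, 3, 1, 4])) (.node 2110 (.leaf 210 7 [2, 1, 3, 1, 2, 2, 1, 2, 1, 2, 1, 3, 1, 2, 1, 3, 3, 1, 2, 1, 6, 4, 5, 4, 6, 4, 5, 4, 6, 6, 4, 5, 4, 1, 2, 2, 1, 3, 1, 2]) (.node 2111 (.leaf 218 3 [3, 1, 3, 1, 2, 2, 1, 3, 1, 3, 1, 2, 1, 2, 2, 1, 2, 2, 1, 2, 1, 2, 1, 3, 4, 6, 4, 5, 5, 5, 4, 6, 4, 5, 4, 6, 6, 4, 5, 4, 2, 2, 1]) (.leaf 227 25 [3, 1, 4, 5, 5, 5, 4, 6, 6, 4, 2, 2, 1, 2, 2, 1, 3, 1, 3, 1, 3, 1, 2, 2, 1, 3, 1, 2, 1, 2, 1, 3, 1, 3, 1])))) (.node 2115 (.node 2113 (.leaf 266 9 [1, 2, 1, 2, 2, 1, 3, 1, 3, 3, 1, 2, 1, 2, 1, 3, 1, 3, 3, 6, 6, 4, 5, 5, 5, 4, 6, 6, 2, 1, 2, 1, 2, 1, 3, 1, 2]) (.node 2114 (.leaf 270 35 [5, 2, 1, 3, 1, 3, 1, 2, 2, 1, 2, 1, 2, 1, 3, 1, 3, 1, 2, 1, 2, 2, 1, 2, 1, 2, 2, 1, 3, 5, 5, 5, 5, 4, 6, 4]) (.leaf 301 20 [3, 1, 2, 1, 3, 3, 1, 3, 5, 4, 6, 4, 5, 4, 6, 4, 5, 4, 6, 6, 4, 5, 5, 1, 3, 1, 3, 1, 3, 1, 2, 1, 3, 1, 2, 2, 1, 2, 2, 1, 3, 1, 3]))) (.node 2116 (.leaf 334 25 [3, 1, 3, 4, 5, 5, 4, 6, 4, 5, 4, 6, 4, 5, 4, 3, 3, 1, 2, 1, 2, 1, 2, 1, 3, 3, 1, 2, 2, 1, 3, 3, 1, 2, 1, 2, 1, 2, 2, 1]) (.node 2117 (.leaf 351 15 [3, 3, 1, 3, 3, 1, 2, 1, 2, 2, 1, 3, 1, 5, 5, 5, 4, 6, 4, 5, 4, 6, 4, 5, 4, 2, 2, 1, 3, 3, 1, 3, 3, 1, 2, 1, 3, 1, 2, 1]) (.leaf 351 1 [2, 1, 3, 3, 1, 3, 3, 1, 2, 1, 3, 1, 2, 1, 3, 3, 1, 3, 3, 1, 2, 1, 2, 2, 1, 3, 1, 5, 5, 5, 4, 6, 4, 5, 4, 6, 4, 5, 4, 2])))))) (.node 2129 (.node 2123 (.node 2120 (.node 2119 (.leaf 25 12 [2, 1, 3, 1, 2, 1, 2, 1, 2, 2, 4, 5, 4, 6, 4, 5, 4, 6, 4, 5, 4, 6, 6, 6, 4, 2, 2, 1, 2, 2, 1, 3, 3, 1, 2, 1, 2]) (.leaf 34 16 [1, 2, 1, 3, 1, 2, 2, 4, 5, 5, 5, 4, 6, 4, 5, 4, 2, 2, 1, 2, 2, 1, 3, 1, 3, 1, 2, 1, 2, 1, 2, 2])) (.node 2121 (.leaf 46 17 [2, 1, 3, 1, 2, 1, 4, 5, 5, 5, 5, 4, 6, 6, 6, 1, 3, 1, 3, 3, 1, 2, 2, 1, 3, 3, 1, 2, 1, 2, 2, 1]) (.node 2122 (.leaf 47 10 [2, 2, 1, 3, 3, 1, 3, 1, 2, 1, 2, 2, 1, 5, 5, 5, 4, 6, 6, 4, 2, 2, 1, 2, 1, 3, 1, 2, 2, 1]) (.leaf 92 10 [2, 1, 2, 1, 3, 1, 2, 2, 1, 2, 1, 3, 1, 3, 3, 6, 4, 6, 6, 6, 6, 4, 2, 1, 2, 1, 3, 1, 2, 1, 2, 1])))) (.node 2126 (.node 2124 (.leaf 93 14 [2, 1, 2, 1, 3, 3, 1, 2, 1, 2, 2, 5, 5, 5, 4, 6, 4, 5, 4, 6, 4, 5, 4, 6, 6, 6, 2, 1, 2, 2, 1, 2, 1, 3, 3, 1, 3, 1, 2, 1]) (.node 2125 (.leaf 108 6 [3, 1, 2, 2, 1, 2, 2, 1, 2, 1, 3, 3, 1, 3, 1, 2, 1, 2, 2, 4, 5, 4, 6, 4, 5, 5, 4, 6, 4, 5, 5, 5, 4, 2, 2, 1, 3, 1, 3]) (.leaf 117 3 [2, 2, 1, 2, 1, 3, 1, 3, 3, 1, 2, 1, 3, 1, 2, 1, 3, 3, 1, 3, 3, 1, 3, 5, 5, 5, 5, 4, 6, 3, 3, 1]))) (.node 2127 (.leaf 190 28 [5, 5, 4, 6, 4, 5, 5, 4, 6, 4, 5, 4, 6, 1, 3, 1, 2, 1, 2, 2, 1, 2, 2, 1, 3, 1, 2, 2, 1, 2, 1, 2, 1, 3, 1, 3, 1, 2, 1, 3, 4]) (.node 2128 (.leaf 210 19 [1, 2, 1, 3, 3, 1, 2, 1, 6, 4, 5, 4, 6, 4, 5, 4, 6, 6, 4, 5, 4, 1, 2, 2, 1, 3, 1, 2, 2, 1, 3, 1, 2, 2, 1, 2, 1, 2, 1, 3]) (.leaf 211 15 [2, 2, 1, 2, 2, 1, 2, 1, 2, 1, 3, 1, 5, 5, 4, 6, 4, 5, 5, 4, 6, 4, 5, 4, 6, 4, 5, 1, 3, 1, 2, 1, 3, 3, 1, 3, 1, 2, 1, 2, 2, 1]))))) (.node 2134 (.node 2131 (.node 2130 (.leaf 225 7 [2, 1, 3, 3, 1, 2, 2, 1, 3, 1, 2, 1, 3, 1, 2, 1, 3, 1, 3, 3, 4, 6, 4, 5, 4, 6, 4, 5, 4, 6, 4, 5, 4, 6, 1, 2, 2, 1, 3, 1, 2]) (.leaf 234 6 [1, 3, 1, 2, 1, 3, 1, 2, 1, 3, 3, 1, 3, 1, 2, 1, 3, 3, 1, 3, 3, 5, 5, 4, 6, 4, 5, 4, 6, 4, 5, 4, 6, 6, 4, 5, 4, 2, 1, 2, 1, 2, 2])) (.node 2132 (.leaf 248 38 [6, 4, 5, 5, 4, 2, 2, 1, 3, 3, 1, 2, 1, 2, 1, 3, 3, 1, 2, 1, 3, 3, 1, 2, 1, 2, 2, 1, 2, 1, 2, 1, 5, 5, 5, 5, 4, 6, 4, 5, 5, 5, 4]) (.node 2133 (.leaf 270 13 [3, 1, 3, 1, 2, 1, 2, 2, 1, 2, 1, 2, 2, 1, 3, 5, 5, 5, 5, 4, 6, 4, 5, 2, 1, 3, 1, 3, 1, 2, 2, 1, 2, 1, 2, 1]) (.leaf 282 11 [3, 1, 3, 1, 3, 3, 1, 2, 1, 3, 3, 1, 2, 1, 3, 1, 3, 6, 6, 6, 4, 5, 5, 5, 4, 6, 1, 2, 1, 2, 1, 3, 3, 1, 2, 1, 3])))) (.node 2137 (.node 2135 (.leaf 289 27 [3, 6, 4, 6, 6, 6, 6, 4, 5, 4, 1, 3, 1, 3, 1, 3, 3, 1, 3, 1, 2, 1, 2, 2, 1, 3, 1, 2, 1, 2, 2, 1, 3, 3, 1, 3, 1]) (.node 2136 (.leaf 299 37 [5, 4, 5, 1, 3, 1, 2, 1, 3, 1, 3, 3, 1, 2, 2, 1, 2, 2, 1, 3, 1, 2, 1, 3, 1, 2, 1, 2, 1, 2, 2, 6, 6, 4, 5, 4, 6, 4, 5, 5]) (.leaf 330 38 [5, 2, 1, 2, 1, 3, 1, 2, 1, 3, 1, 2, 1, 3, 1, 3, 1, 3, 3, 1, 3, 1, 2, 1, 2, 1, 3, 3, 1, 6, 4, 5, 5, 5, 4, 6, 4, 5, 5]))) (.node 2138 (.leaf 340 12 [3, 3, 1, 2, 2, 1, 3, 1, 2, 1, 2, 1, 3, 1, 3, 3, 6, 6, 4, 5, 5, 4, 6, 4, 5, 5, 5, 4, 6, 1, 3, 1, 3, 3, 1, 3, 3, 1, 2, 2, 1]) (.node 2139 (.leaf 349 27 [1, 5, 4, 5, 5, 5, 4, 6, 4, 5, 4, 6, 4, 5, 4, 6, 4, 1, 2, 1, 3, 1, 3, 3, 1, 2, 1, 2, 2, 1, 2, 2, 1, 2, 1, 2, 2, 1, 3, 1, 2, 2, 1, 3]) (.leaf 351 4 [3, 1, 3, 3, 1, 2, 1, 3, 1, 2, 1, 3, 3, 1, 3, 3, 1, 2, 1, 2, 2, 1, 3, 1, 5, 5, 5, 4, 6, 4, 5, 4, 6, 4, 5, 4, 2, 2, 1, 3]))))))) (.node 2162 (.node 2151 (.node 2145 (.node 2142 (.node 2141 (.leaf 358 24 [2, 1, 3, 1, 4, 5, 5, 4, 6, 4, 5, 5, 4, 6, 4, 5, 4, 6, 6, 6, 1, 3, 1, 3, 3, 1, 3, 1, 2, 2, 1, 2, 1, 2, 1, 3, 3, 1, 2, 1, 3, 1, 3, 1]) (.leaf 372 12 [3, 1, 2, 1, 3, 3, 1, 2, 1, 3, 1, 3, 3, 1, 2, 1, 6, 4, 6, 6, 6, 4, 6, 1, 2, 2, 1, 3, 3, 1, 2, 1, 3, 3, 1])) (.node 2143 (.leaf 32 1 [3, 3, 1, 3, 1, 2, 2, 1, 3, 3, 1, 2, 2, 1, 2, 1, 2, 1, 2, 1, 3, 1, 4, 6, 4, 5, 5, 5, 4, 6, 6, 4, 5, 4, 1]) (.node 2144 (.leaf 53 23 [3, 5, 4, 5, 5, 5, 4, 6, 6, 4, 5, 4, 1, 2, 2, 1, 2, 1, 2, 2, 1, 2, 1, 2, 2, 1, 3, 1, 3, 1, 2, 1, 3, 3, 1]) (.leaf 100 9 [3, 3, 1, 2, 2, 1, 2, 2, 1, 2, 1, 3, 3, 1, 2, 1, 5, 4, 5, 5, 5, 4, 6, 6, 4, 5, 5, 2, 1, 2, 1, 2, 1, 3, 3, 1])))) (.node 2148 (.node 2146 (.leaf 153 26 [4, 6, 6, 6, 4, 5, 5, 5, 4, 5, 1, 3, 1, 3, 1, 2, 2, 1, 2, 1, 2, 1, 2, 2, 1, 2, 1, 2, 2, 1, 2, 1, 3, 3, 1, 3]) (.node 2147 (.leaf 182 16 [3, 1, 3, 3, 1, 3, 3, 1, 2, 1, 3, 4, 5, 4, 5, 5, 5, 4, 6, 4, 6, 2, 1, 3, 1, 2, 2, 1, 2, 2, 1, 2, 1, 3, 1, 2, 1]) (.leaf 306 12 [2, 1, 2, 1, 2, 1, 2, 1, 2, 1, 3, 1, 2, 2, 1, 3, 5, 5, 5, 5, 4, 6, 4, 5, 5, 4, 6, 6, 4, 5, 5, 1, 2, 1, 2, 1, 3, 3, 1, 2, 1, 2, 1]))) (.node 2149 (.leaf 325 28 [4, 6, 4, 5, 5, 4, 6, 6, 6, 1, 3, 3, 1, 2, 1, 3, 1, 3, 1, 3, 1, 2, 2, 1, 3, 1, 3, 1, 3, 1, 3, 3, 1, 2, 2, 1, 3]) (.node 2150 (.leaf 18 11 [3, 1, 2, 1, 2, 2, 1, 3, 1, 3, 6, 6, 6, 4, 5, 5, 5, 4, 2, 1, 3, 1, 2, 2, 1, 3, 1, 3, 1]) (.leaf 83 33 [6, 1, 2, 1, 2, 1, 3, 1, 3, 1, 3, 3, 1, 2, 1, 2, 1, 3, 1, 2, 1, 2, 1, 2, 2, 1, 6, 6, 6, 4, 5, 5, 5, 4]))))) (.node 2156 (.node 2153 (.node 2152 (.leaf 88 23 [2, 1, 5, 4, 6, 4, 5, 5, 4, 6, 6, 4, 5, 4, 2, 2, 1, 2, 2, 1, 3, 3, 1, 3, 1, 2, 2, 1, 3, 1, 3, 1, 3, 1, 3, 3, 1]) (.leaf 282 15 [3, 3, 1, 2, 1, 3, 3, 1, 2, 1, 3, 1, 3, 6, 6, 6, 4, 5, 5, 5, 4, 6, 1, 2, 1, 2, 1, 3, 3, 1, 2, 1, 3, 3, 1, 3, 1])) (.node 2154 (.leaf 368 22 [2, 1, 2, 1, 2, 2, 4, 5, 5, 5, 4, 6, 6, 6, 4, 5, 5, 5, 4, 6, 2, 2, 1, 3, 3, 1, 3, 3, 1, 2, 1, 3, 3, 1, 2, 2, 1, 3, 3, 1, 3, 1]) (.node 2155 (.leaf 59 16 [1, 2, 2, 1, 2, 1, 3, 3, 5, 5, 4, 6, 6, 6, 4, 2, 1, 2, 1, 3, 1, 3, 3, 1, 3, 3, 1, 2, 1, 3, 3]) (.leaf 267 1 [3, 1, 2, 1, 2, 1, 3, 3, 1, 2, 2, 1, 2, 2, 1, 2, 1, 2, 2, 1, 2, 2, 1, 2, 2, 1, 3, 4, 5, 5, 4, 6, 1])))) (.node 2159 (.node 2157 (.leaf 83 8 [1, 3, 3, 1, 2, 1, 2, 1, 3, 1, 2, 1, 2, 1, 2, 2, 1, 6, 6, 6, 4, 5, 5, 5, 4, 6, 1, 2, 1, 2, 1, 3, 1, 3]) (.node 2158 (.leaf 109 24 [2, 6, 4, 5, 5, 5, 2, 2, 1, 2, 1, 2, 1, 3, 3, 1, 3, 1, 2, 2, 1, 2, 1, 3, 1, 2, 1, 2, 1, 2]) (.leaf 59 28 [6, 6, 4, 2, 1, 2, 1, 3, 1, 3, 3, 1, 3, 3, 1, 2, 1, 3, 3, 1, 2, 2, 1, 2, 1, 3, 3, 5, 5, 4, 6]))) (.node 2160 (.leaf 298 29 [5, 5, 5, 4, 6, 6, 4, 5, 1, 3, 3, 1, 3, 1, 3, 3, 1, 3, 3, 1, 2, 1, 3, 3, 1, 2, 1, 3, 1, 3, 1, 2, 1, 3, 3, 1, 4]) (.node 2161 (.leaf 376 27 [1, 6, 4, 5, 5, 4, 6, 6, 6, 1, 3, 1, 3, 1, 3, 1, 3, 3, 1, 2, 2, 1, 2, 1, 3, 1, 3, 1, 3, 3, 1, 2, 1, 3, 1, 2]) (.leaf 92 3 [1, 3, 1, 2, 1, 2, 1, 2, 1, 2, 1, 3, 1, 2, 2, 1, 2, 1, 3, 1, 3, 3, 6, 4, 6, 6, 6, 6, 4, 2, 1, 2])))))) (.node 2173 (.node 2167 (.node 2164 (.node 2163 (.leaf 257 21 [1, 3, 1, 3, 3, 1, 6, 6, 4, 5, 4, 1, 2, 2, 1, 3, 1, 3, 1, 3, 3, 1, 3, 1, 2, 2, 1, 2, 1, 2, 1, 2]) (.leaf 284 19 [1, 2, 1, 3, 3, 1, 3, 1, 3, 4, 6, 4, 5, 5, 5, 4, 6, 6, 1, 3, 1, 3, 1, 2, 1, 3, 1, 2, 2, 1, 3, 1, 2, 2, 1, 3, 3])) (.node 2165 (.leaf 238 34 [5, 4, 6, 6, 2, 1, 2, 1, 3, 1, 3, 3, 1, 3, 1, 3, 1, 2, 1, 2, 1, 2, 2, 1, 2, 1, 3, 1, 3, 3, 1, 4, 5, 4, 6, 6, 4, 5]) (.node 2166 (.leaf 181 3 [2, 2, 1, 3, 1, 2, 1, 3, 3, 1, 2, 1, 3, 3, 1, 2, 1, 3, 1, 3, 1, 3, 1, 3, 4, 5, 5, 4, 6, 4, 1, 3, 1]) (.leaf 359 32 [5, 4, 6, 6, 4, 5, 4, 6, 4, 5, 3, 3, 1, 3, 1, 2, 1, 3, 1, 2, 1, 2, 1, 2, 1, 2, 1, 3, 1, 3, 3, 1, 2, 2, 1, 2, 1, 3, 6, 6, 6, 4])))) (.node 2170 (.node 2168 (.leaf 315 31 [5, 4, 6, 4, 5, 5, 4, 6, 4, 6, 2, 2, 1, 3, 1, 3, 1, 2, 1, 3, 3, 1, 3, 1, 2, 1, 2, 1, 2, 1, 2, 2, 1, 2, 1, 2, 1, 3, 6, 4, 5]) (.node 2169 (.leaf 334 36 [6, 4, 5, 4, 3, 3, 1, 2, 1, 2, 1, 2, 1, 3, 3, 1, 2, 2, 1, 3, 3, 1, 2, 1, 2, 1, 2, 2, 1, 3, 1, 3, 4, 5, 5, 4, 6, 4, 5, 4]) (.leaf 130 32 [4, 2, 2, 1, 2, 1, 2, 1, 3, 3, 1, 2, 1, 2, 1, 3, 1, 3, 1, 3, 1, 2, 1, 3, 1, 3, 1, 6, 6, 4, 5, 5, 5]))) (.node 2171 (.leaf 70 28 [5, 5, 4, 5, 1, 2, 1, 2, 1, 3, 1, 2, 1, 3, 1, 3, 1, 2, 1, 3, 1, 2, 1, 3, 1, 2, 1, 2, 1, 6, 4, 5]) (.node 2172 (.leaf 379 16 [2, 1, 2, 1, 2, 1, 2, 1, 2, 1, 3, 1, 4, 6, 4, 5, 5, 5, 4, 6, 3, 3, 1, 2, 1, 2, 1, 3, 1, 2, 1, 3, 1, 2, 2, 1]) (.leaf 368 41 [6, 2, 2, 1, 3, 3, 1, 3, 3, 1, 2, 1, 3, 3, 1, 2, 2, 1, 3, 3, 1, 3, 1, 2, 1, 2, 1, 2, 2, 4, 5, 5, 5, 4, 6, 6, 6, 4, 5, 5, 5, 4]))))) (.node 2178 (.node 2175 (.node 2174 (.leaf 379 8 [1, 2, 1, 3, 1, 2, 2, 1, 2, 1, 2, 1, 2, 1, 2, 1, 2, 1, 3, 1, 4, 6, 4, 5, 5, 5, 4, 6, 3, 3, 1, 2, 1, 2, 1, 3]) (.leaf 146 2 [3, 1, 2, 2, 1, 3, 1, 3, 1, 2, 1, 2, 1, 3, 3, 1, 3, 3, 1, 2, 2, 1, 3, 3, 5, 5, 5, 4, 6, 4, 5, 4, 6, 4, 5, 4, 6, 6, 6, 1, 3])) (.node 2176 (.leaf 320 33 [5, 4, 6, 4, 5, 5, 5, 4, 6, 1, 3, 3, 1, 3, 3, 1, 3, 1, 2, 2, 1, 3, 3, 1, 3, 1, 3, 1, 2, 1, 2, 2, 1, 2, 2, 1, 3, 6, 4, 5, 5, 5]) (.node 2177 (.leaf 359 17 [3, 1, 3, 3, 1, 2, 2, 1, 2, 1, 3, 6, 6, 6, 4, 5, 4, 6, 6, 4, 5, 4, 6, 4, 5, 3, 3, 1, 3, 1, 2, 1, 3, 1, 2, 1, 2, 1, 2, 1, 2, 1]) (.leaf 388 10 [1, 2, 1, 2, 1, 3, 1, 3, 1, 3, 1, 3, 1, 3, 1, 3, 3, 1, 5, 4, 6, 4, 5, 4, 6, 4, 5, 5, 4, 6, 4, 1, 3, 3, 1, 3, 1, 3, 3, 1, 2])))) (.node 2181 (.node 2179 (.leaf 83 25 [6, 6, 6, 4, 5, 5, 5, 4, 6, 1, 2, 1, 2, 1, 3, 1, 3, 1, 3, 3, 1, 2, 1, 2, 1, 3, 1, 2, 1, 2, 1, 2, 2, 1]) (.node 2180 (.leaf 109 15 [2, 1, 3, 1, 2, 1, 2, 1, 2, 2, 6, 4, 5, 5, 5, 2, 2, 1, 2, 1, 2, 1, 3, 3, 1, 3, 1, 2, 2, 1]) (.leaf 260 3 [3, 1, 3, 3, 1, 2, 1, 2, 1, 2, 2, 1, 3, 3, 1, 2, 1, 2, 1, 3, 1, 3, 1, 3, 3, 4, 5, 4, 6, 6, 4, 5, 4, 6, 4, 3, 3, 1]))) (.node 2182 (.leaf 282 18 [2, 1, 3, 3, 1, 2, 1, 3, 1, 3, 6, 6, 6, 4, 5, 5, 5, 4, 6, 1, 2, 1, 2, 1, 3, 3, 1, 2, 1, 3, 3, 1, 3, 1, 3, 3, 1]) (.node 2183 (.leaf 337 28 [5, 5, 4, 6, 4, 5, 4, 6, 4, 5, 5, 4, 6, 4, 5, 3, 3, 1, 2, 2, 1, 2, 1, 3, 1, 2, 2, 1, 2, 1, 2, 1, 2, 2, 1, 3, 3, 1, 3, 3, 1, 3, 1]) (.leaf 95 22 [3, 3, 1, 6, 6, 4, 5, 4, 6, 4, 5, 5, 1, 2, 2, 1, 2, 1, 2, 1, 2, 2, 1, 2, 1, 3, 1, 3, 3, 1, 3, 1, 3, 1])))))))) (.node 2227 (.node 2205 (.node 2194 (.node 2189 (.node 2186 (.node 2185 (.leaf 226 15 [2, 1, 2, 2, 1, 2, 2, 1, 2, 1, 3, 3, 6, 4, 5, 4, 6, 4, 5, 5, 5, 2, 2, 1, 2, 2, 1, 3, 1, 3, 3, 1, 3, 1, 2, 1]) (.leaf 246 10 [1, 2, 1, 2, 1, 3, 3, 1, 3, 1, 3, 3, 1, 3, 1, 3, 3, 6, 6, 6, 4, 5, 4, 6, 6, 4, 5, 4, 6, 4, 1, 2, 1, 2, 2, 1, 2, 2, 1, 2])) (.node 2187 (.leaf 257 14 [2, 1, 2, 1, 2, 1, 2, 1, 3, 1, 3, 3, 1, 6, 6, 4, 5, 4, 1, 2, 2, 1, 3, 1, 3, 1, 3, 3, 1, 3, 1, 2]) (.node 2188 (.leaf 260 16 [3, 1, 2, 1, 2, 1, 3, 1, 3, 1, 3, 3, 4, 5, 4, 6, 6, 4, 5, 4, 6, 4, 3, 3, 1, 3, 1, 3, 3, 1, 2, 1, 2, 1, 2, 2, 1, 3]) (.leaf 262 1 [1, 3, 3, 1, 3, 3, 1, 2, 2, 1, 3, 3, 1, 3, 1, 3, 1, 2, 1, 2, 1, 2, 2, 1, 2, 1, 3, 5, 4, 6, 6, 4, 5, 4, 6, 4, 2])))) (.node 2191 (.node 2190 (.leaf 88 16 [3, 1, 3, 1, 3, 3, 1, 2, 1, 5, 4, 6, 4, 5, 5, 4, 6, 6, 4, 5, 4, 2, 2, 1, 2, 2, 1, 3, 3, 1, 3, 1, 2, 2, 1, 3, 1]) (.leaf 244 16 [3, 1, 3, 1, 3, 1, 2, 1, 2, 1, 3, 5, 4, 6, 4, 5, 5, 4, 6, 4, 5, 5, 4, 6, 4, 1, 2, 2, 1, 2, 1, 2, 1, 2, 1, 3, 1, 2, 2, 1, 3])) (.node 2192 (.leaf 260 7 [1, 2, 1, 2, 1, 2, 2, 1, 3, 3, 1, 2, 1, 2, 1, 3, 1, 3, 1, 3, 3, 4, 5, 4, 6, 6, 4, 5, 4, 6, 4, 3, 3, 1, 3, 1, 3, 3]) (.node 2193 (.leaf 277 17 [3, 1, 2, 1, 2, 1, 3, 3, 1, 2, 2, 5, 5, 4, 6, 6, 4, 5, 5, 1, 2, 2, 1, 2, 2, 1, 2, 1, 2, 1, 2, 1, 3, 1, 2, 1]) (.leaf 312 26 [1, 3, 5, 4, 6, 4, 5, 4, 6, 4, 5, 5, 4, 6, 4, 2, 1, 2, 1, 3, 3, 1, 3, 3, 1, 3, 1, 2, 2, 1, 2, 1, 2, 1, 2, 2, 1, 3, 1, 2, 2]))))) (.node 2199 (.node 2196 (.node 2195 (.leaf 104 14 [1, 3, 3, 1, 3, 1, 2, 2, 1, 2, 1, 6, 6, 4, 5, 4, 6, 4, 5, 5, 4, 6, 4, 1, 3, 1, 2, 1, 2, 1, 3, 1, 3, 3, 1, 2, 2]) (.leaf 167 29 [6, 6, 4, 5, 5, 5, 1, 3, 1, 3, 1, 3, 1, 2, 1, 3, 1, 2, 1, 2, 1, 2, 1, 2, 2, 1, 3, 1, 3, 3, 1, 3, 1, 5, 4])) (.node 2197 (.leaf 169 34 [4, 5, 5, 2, 2, 1, 3, 1, 3, 1, 2, 2, 1, 2, 1, 3, 1, 2, 1, 2, 1, 3, 1, 3, 3, 1, 2, 1, 3, 3, 4, 6, 4, 5, 5, 4, 6]) (.node 2198 (.leaf 169 14 [2, 1, 2, 1, 3, 1, 3, 3, 1, 2, 1, 3, 3, 4, 6, 4, 5, 5, 4, 6, 4, 5, 5, 2, 2, 1, 3, 1, 3, 1, 2, 2, 1, 2, 1, 3, 1]) (.leaf 305 4 [3, 1, 2, 2, 1, 3, 1, 3, 3, 1, 2, 1, 2, 1, 2, 1, 2, 1, 2, 2, 1, 3, 3, 1, 4, 6, 4, 5, 5, 4, 6, 4, 5, 5, 4, 6, 1, 3, 1, 3])))) (.node 2202 (.node 2200 (.leaf 340 28 [6, 6, 4, 5, 5, 4, 6, 4, 5, 5, 5, 4, 6, 1, 3, 1, 3, 3, 1, 3, 3, 1, 2, 2, 1, 3, 3, 1, 2, 2, 1, 3, 1, 2, 1, 2, 1, 3, 1, 3, 3]) (.node 2201 (.leaf 92 4 [3, 1, 2, 1, 2, 1, 2, 1, 2, 1, 3, 1, 2, 2, 1, 2, 1, 3, 1, 3, 3, 6, 4, 6, 6, 6, 6, 4, 2, 1, 2, 1]) (.leaf 156 10 [1, 2, 1, 2, 2, 1, 3, 1, 3, 1, 2, 1, 3, 3, 1, 3, 3, 5, 5, 4, 6, 6, 6, 4, 5, 4, 6, 6, 4, 5, 5, 4, 6, 4, 1, 2, 1, 2, 1, 3, 3, 1, 3, 3]))) (.node 2203 (.leaf 167 25 [3, 1, 5, 4, 6, 6, 4, 5, 5, 5, 1, 3, 1, 3, 1, 3, 1, 2, 1, 3, 1, 2, 1, 2, 1, 2, 1, 2, 2, 1, 3, 1, 3, 3, 1]) (.node 2204 (.leaf 294 11 [3, 1, 3, 1, 3, 1, 3, 1, 3, 3, 1, 3, 1, 2, 1, 2, 2, 6, 6, 6, 4, 5, 4, 6, 6, 4, 5, 2, 2, 1, 3, 3, 1, 2, 1, 3, 3, 1]) (.leaf 372 25 [1, 2, 1, 6, 4, 6, 6, 6, 4, 6, 1, 2, 2, 1, 3, 3, 1, 2, 1, 3, 3, 1, 3, 1, 2, 1, 3, 3, 1, 2, 1, 3, 1, 3, 3])))))) (.node 2216 (.node 2210 (.node 2207 (.node 2206 (.leaf 376 2 [1, 3, 1, 3, 1, 3, 3, 1, 2, 2, 1, 2, 1, 3, 1, 3, 1, 3, 3, 1, 2, 1, 3, 1, 2, 1, 6, 4, 5, 5, 4, 6, 6, 6, 1, 3]) (.leaf 122 37 [5, 1, 2, 1, 3, 3, 1, 2, 1, 2, 2, 1, 3, 3, 1, 3, 1, 2, 2, 1, 2, 2, 1, 3, 1, 2, 2, 4, 5, 5, 5, 4, 6, 4, 5, 5, 5, 4])) (.node 2208 (.leaf 201 40 [5, 2, 2, 1, 3, 1, 3, 3, 1, 3, 1, 3, 1, 2, 2, 1, 3, 1, 3, 1, 3, 1, 3, 1, 2, 2, 1, 3, 4, 5, 5, 5, 4, 6, 4, 5, 5, 4, 6, 4, 5]) (.node 2209 (.leaf 226 27 [6, 4, 5, 4, 6, 4, 5, 5, 5, 2, 2, 1, 2, 2, 1, 3, 1, 3, 3, 1, 3, 1, 2, 1, 2, 1, 2, 2, 1, 2, 2, 1, 2, 1, 3, 3]) (.leaf 369 25 [1, 3, 3, 4, 5, 5, 4, 6, 4, 2, 1, 2, 2, 1, 2, 1, 2, 1, 2, 1, 2, 2, 1, 2, 1, 3, 1, 3, 3, 1, 3, 3, 1, 3])))) (.node 2213 (.node 2211 (.leaf 83 26 [6, 6, 4, 5, 5, 5, 4, 6, 1, 2, 1, 2, 1, 3, 1, 3, 1, 3, 3, 1, 2, 1, 2, 1, 3, 1, 2, 1, 2, 1, 2, 2, 1, 6]) (.node 2212 (.leaf 126 29 [5, 4, 6, 4, 5, 5, 4, 6, 1, 3, 1, 2, 1, 2, 2, 1, 3, 3, 1, 2, 1, 3, 1, 2, 1, 2, 1, 2, 1, 3, 3, 1, 3, 1, 6, 4, 5]) (.leaf 335 24 [3, 1, 2, 2, 6, 6, 6, 4, 5, 5, 5, 4, 6, 6, 6, 4, 3, 3, 1, 2, 1, 3, 3, 1, 2, 1, 3, 3, 1, 2, 1, 3, 1, 2, 2, 1, 3, 1, 2, 1]))) (.node 2214 (.leaf 379 25 [1, 3, 1, 4, 6, 4, 5, 5, 5, 4, 6, 3, 3, 1, 2, 1, 2, 1, 3, 1, 2, 1, 3, 1, 2, 2, 1, 2, 1, 2, 1, 2, 1, 2, 1, 2]) (.node 2215 (.leaf 117 21 [1, 3, 3, 1, 3, 5, 5, 5, 5, 4, 6, 3, 3, 1, 2, 2, 1, 2, 1, 3, 1, 3, 3, 1, 2, 1, 3, 1, 2, 1, 3, 3]) (.leaf 227 9 [1, 3, 1, 2, 2, 1, 3, 1, 2, 1, 2, 1, 3, 1, 3, 1, 3, 1, 4, 5, 5, 5, 4, 6, 6, 4, 2, 2, 1, 2, 2, 1, 3, 1, 3]))))) (.node 2221 (.node 2218 (.node 2217 (.leaf 298 12 [2, 1, 3, 3, 1, 2, 1, 3, 1, 3, 1, 2, 1, 3, 3, 1, 4, 5, 5, 5, 4, 6, 6, 4, 5, 1, 3, 3, 1, 3, 1, 3, 3, 1, 3, 3, 1]) (.leaf 370 28 [4, 5, 4, 6, 6, 4, 5, 5, 5, 2, 2, 1, 3, 3, 1, 3, 1, 2, 2, 1, 3, 1, 3, 1, 3, 1, 3, 1, 3, 1, 3, 1, 3, 3, 1, 2, 2])) (.node 2219 (.leaf 378 29 [6, 4, 5, 5, 5, 4, 6, 6, 6, 4, 5, 4, 6, 3, 3, 1, 3, 3, 1, 3, 3, 1, 3, 1, 2, 1, 2, 1, 3, 1, 3, 3, 1, 2, 1, 2, 1, 2, 1, 3, 3, 4]) (.node 2220 (.leaf 309 0 [3, 3, 1, 2, 2, 1, 3, 1, 2, 1, 2, 2, 1, 2, 1, 2, 2, 1, 3, 3, 1, 2, 2, 1, 3, 3, 1, 3, 6, 4, 5, 4, 6, 4, 5, 4, 6, 6, 6, 4, 6]) (.leaf 390 9 [2, 2, 1, 2, 1, 2, 1, 3, 3, 1, 2, 1, 3, 3, 1, 2, 1, 2, 2, 1, 5, 4, 6, 6, 6, 2, 1, 3, 1, 2, 2, 1, 3, 1])))) (.node 2224 (.node 2222 (.leaf 46 23 [4, 5, 5, 5, 5, 4, 6, 6, 6, 1, 3, 1, 3, 3, 1, 2, 2, 1, 3, 3, 1, 2, 1, 2, 2, 1, 2, 1, 3, 1, 2, 1]) (.node 2223 (.leaf 330 10 [2, 1, 3, 1, 3, 1, 3, 3, 1, 3, 1, 2, 1, 2, 1, 3, 3, 1, 6, 4, 5, 5, 5, 4, 6, 4, 5, 5, 5, 2, 1, 2, 1, 3, 1, 2, 1, 3, 1]) (.leaf 9 19 [2, 1, 2, 2, 2, 1, 2, 2, 2, 1, 2, 2, 2, 1, 2, 2, 2, 1, 2, 2, 2, 1, 2, 2, 2, 1, 2, 2, 2, 1, 2, 2, 2, 1, 2, 2, 2, 1, 2, 2]))) (.node 2225 (.leaf 80 9 [2, 1, 2, 2, 1, 2, 1, 3, 1, 2, 1, 3, 1, 2, 2, 1, 5, 4, 6, 4, 5, 5, 4, 6, 3, 3, 1, 2, 1, 3, 1, 3, 1]) (.node 2226 (.leaf 92 5 [1, 2, 1, 2, 1, 2, 1, 2, 1, 3, 1, 2, 2, 1, 2, 1, 3, 1, 3, 3, 6, 4, 6, 6, 6, 6, 4, 2, 1, 2, 1, 3]) (.leaf 206 28 [4, 5, 5, 4, 6, 4, 6, 2, 1, 3, 1, 3, 1, 3, 3, 1, 2, 1, 3, 1, 2, 1, 2, 2, 1, 3, 1, 3, 3, 1, 3, 1, 3, 3, 6]))))))) (.node 2249 (.node 2238 (.node 2232 (.node 2229 (.node 2228 (.leaf 236 19 [1, 3, 1, 2, 1, 3, 3, 1, 4, 6, 6, 4, 5, 4, 6, 6, 6, 4, 5, 5, 1, 3, 1, 3, 3, 1, 2, 1, 3, 1, 3, 3, 1, 2, 1, 2, 1, 3, 3]) (.leaf 380 31 [5, 5, 4, 6, 4, 5, 4, 6, 4, 1, 3, 3, 1, 3, 1, 2, 1, 3, 3, 1, 3, 3, 1, 2, 1, 3, 3, 1, 2, 1, 2, 1, 3, 1, 3, 1, 3, 4, 6, 4])) (.node 2230 (.leaf 56 5 [1, 3, 1, 3, 1, 2, 1, 3, 1, 3, 1, 3, 1, 3, 1, 2, 1, 3, 1, 4, 5, 5, 5, 4, 6, 4, 5, 5, 5, 4, 6, 6, 6, 4, 5, 2, 1, 2, 1, 2]) (.node 2231 (.leaf 57 25 [6, 6, 4, 5, 4, 6, 6, 4, 5, 5, 2, 2, 1, 3, 3, 1, 3, 1, 3, 1, 3, 1, 2, 1, 3, 1, 3, 1, 3, 3, 1, 3, 3, 1, 6]) (.leaf 127 30 [5, 4, 6, 4, 5, 5, 5, 4, 6, 4, 5, 5, 5, 3, 3, 1, 3, 1, 2, 2, 1, 3, 1, 2, 1, 2, 2, 1, 2, 1, 3, 1, 2, 1, 2, 2, 1, 2, 1, 4, 6, 4, 5])))) (.node 2235 (.node 2233 (.leaf 130 1 [2, 1, 2, 1, 2, 1, 3, 3, 1, 2, 1, 2, 1, 3, 1, 3, 1, 3, 1, 2, 1, 3, 1, 3, 1, 6, 6, 4, 5, 5, 5, 4, 2]) (.node 2234 (.leaf 179 29 [5, 5, 5, 4, 6, 6, 6, 4, 3, 3, 1, 2, 1, 2, 1, 3, 1, 2, 1, 2, 2, 1, 3, 3, 1, 2, 2, 1, 3, 3, 1, 3, 1, 2, 1, 5, 4]) (.leaf 270 16 [1, 2, 1, 2, 2, 1, 2, 1, 2, 2, 1, 3, 5, 5, 5, 5, 4, 6, 4, 5, 2, 1, 3, 1, 3, 1, 2, 2, 1, 2, 1, 2, 1, 3, 1, 3]))) (.node 2236 (.leaf 259 33 [6, 6, 4, 6, 1, 2, 1, 2, 1, 2, 2, 1, 3, 1, 3, 1, 2, 2, 1, 2, 1, 3, 3, 1, 3, 1, 3, 1, 3, 1, 2, 1, 6, 4, 5, 4, 6]) (.node 2237 (.leaf 260 31 [6, 6, 4, 5, 4, 6, 4, 3, 3, 1, 3, 1, 3, 3, 1, 2, 1, 2, 1, 2, 2, 1, 3, 3, 1, 2, 1, 2, 1, 3, 1, 3, 1, 3, 3, 4, 5, 4]) (.leaf 344 29 [6, 6, 4, 5, 5, 4, 6, 6, 2, 2, 1, 3, 3, 1, 2, 1, 3, 3, 1, 3, 3, 1, 2, 1, 2, 1, 3, 1, 3, 3, 1, 3, 3, 1, 3, 3, 4]))))) (.node 2243 (.node 2240 (.node 2239 (.leaf 100 25 [5, 4, 5, 5, 5, 4, 6, 6, 4, 5, 5, 2, 1, 2, 1, 2, 1, 3, 3, 1, 3, 3, 1, 2, 2, 1, 2, 2, 1, 2, 1, 3, 3, 1, 2, 1]) (.leaf 107 14 [1, 3, 1, 3, 3, 1, 3, 3, 1, 3, 3, 5, 5, 5, 4, 6, 4, 5, 5, 4, 6, 2, 1, 2, 1, 3, 3, 1, 3, 3, 1, 2, 1, 2, 2])) (.node 2241 (.leaf 108 27 [4, 6, 4, 5, 5, 4, 6, 4, 5, 5, 5, 4, 2, 2, 1, 3, 1, 3, 3, 1, 2, 2, 1, 2, 2, 1, 2, 1, 3, 3, 1, 3, 1, 2, 1, 2, 2, 4, 5]) (.node 2242 (.leaf 143 6 [2, 2, 1, 3, 3, 1, 2, 1, 3, 3, 1, 3, 3, 1, 3, 3, 1, 3, 1, 3, 4, 6, 4, 5, 5, 5, 5, 4, 3, 3, 1, 2, 2, 1]) (.leaf 162 40 [5, 1, 2, 2, 1, 2, 2, 1, 3, 1, 3, 1, 3, 1, 2, 2, 1, 2, 2, 1, 2, 1, 2, 1, 3, 1, 2, 2, 5, 4, 5, 5, 5, 4, 6, 4, 5, 5, 4, 6, 4])))) (.node 2246 (.node 2244 (.leaf 174 14 [3, 3, 1, 2, 1, 2, 1, 2, 1, 2, 1, 3, 1, 5, 5, 5, 5, 4, 3, 3, 1, 3, 1, 2, 2, 1, 3, 3, 1, 2, 2, 1]) (.node 2245 (.leaf 178 28 [5, 5, 4, 6, 4, 5, 5, 4, 6, 4, 5, 5, 5, 4, 5, 1, 3, 3, 1, 2, 1, 3, 3, 1, 2, 1, 2, 2, 1, 2, 1, 2, 1, 2, 1, 3, 1, 3, 3, 1, 3, 1, 5]) (.leaf 185 4 [3, 3, 1, 2, 1, 2, 2, 1, 2, 2, 1, 2, 1, 3, 1, 3, 1, 2, 1, 3, 1, 3, 1, 5, 5, 4, 6, 4, 5, 5, 4, 6, 4, 5, 5, 5, 4, 1, 3, 3, 1]))) (.node 2247 (.leaf 201 1 [2, 1, 3, 1, 3, 3, 1, 3, 1, 3, 1, 2, 2, 1, 3, 1, 3, 1, 3, 1, 3, 1, 2, 2, 1, 3, 4, 5, 5, 5, 4, 6, 4, 5, 5, 4, 6, 4, 5, 5, 2]) (.node 2248 (.leaf 244 17 [1, 3, 1, 3, 1, 2, 1, 2, 1, 3, 5, 4, 6, 4, 5, 5, 4, 6, 4, 5, 5, 4, 6, 4, 1, 2, 2, 1, 2, 1, 2, 1, 2, 1, 3, 1, 2, 2, 1, 3, 3]) (.leaf 283 42 [4, 1, 2, 1, 2, 1, 2, 1, 3, 1, 3, 1, 2, 2, 1, 2, 2, 1, 3, 1, 2, 1, 3, 1, 3, 1, 3, 1, 3, 4, 5, 5, 5, 5, 4, 6, 4, 5, 5, 4, 6, 4, 5])))))) (.node 2260 (.node 2254 (.node 2251 (.node 2250 (.leaf 157 3 [1, 3, 1, 2, 2, 1, 2, 1, 2, 2, 1, 2, 1, 3, 1, 3, 1, 2, 1, 3, 3, 1, 2, 1, 4, 6, 6, 6, 4, 5, 4, 6, 6, 6, 4, 6, 1, 2, 2]) (.leaf 390 27 [2, 1, 5, 4, 6, 6, 6, 2, 1, 3, 1, 2, 2, 1, 3, 1, 2, 2, 1, 2, 1, 2, 1, 3, 3, 1, 2, 1, 3, 3, 1, 2, 1, 2])) (.node 2252 (.leaf 92 30 [6, 4, 2, 1, 2, 1, 3, 1, 2, 1, 2, 1, 2, 1, 2, 1, 3, 1, 2, 2, 1, 2, 1, 3, 1, 3, 3, 6, 4, 6, 6, 6]) (.node 2253 (.leaf 387 29 [6, 4, 6, 6, 6, 6, 4, 5, 4, 2, 1, 2, 1, 3, 3, 1, 2, 2, 1, 2, 1, 2, 2, 1, 3, 1, 3, 1, 2, 2, 1, 3, 3, 1, 2, 2, 1, 4]) (.leaf 70 19 [3, 1, 2, 1, 2, 1, 6, 4, 5, 5, 5, 4, 5, 1, 2, 1, 2, 1, 3, 1, 2, 1, 3, 1, 3, 1, 2, 1, 3, 1, 2, 1])))) (.node 2257 (.node 2255 (.leaf 145 26 [5, 4, 5, 5, 5, 4, 6, 4, 5, 4, 6, 2, 1, 3, 3, 1, 2, 2, 1, 3, 1, 3, 1, 2, 1, 3, 3, 1, 3, 3, 1, 3, 1, 3, 1, 2, 1]) (.node 2256 (.leaf 167 17 [2, 2, 1, 3, 1, 3, 3, 1, 3, 1, 5, 4, 6, 6, 4, 5, 5, 5, 1, 3, 1, 3, 1, 3, 1, 2, 1, 3, 1, 2, 1, 2, 1, 2, 1]) (.leaf 270 8 [1, 2, 1, 2, 1, 3, 1, 3, 1, 2, 1, 2, 2, 1, 2, 1, 2, 2, 1, 3, 5, 5, 5, 5, 4, 6, 4, 5, 2, 1, 3, 1, 3, 1, 2, 2]))) (.node 2258 (.leaf 277 25 [1, 2, 2, 5, 5, 4, 6, 6, 4, 5, 5, 1, 2, 2, 1, 2, 2, 1, 2, 1, 2, 1, 2, 1, 3, 1, 2, 1, 3, 1, 2, 1, 2, 1, 3, 3]) (.node 2259 (.leaf 322 24 [3, 3, 1, 3, 6, 6, 4, 5, 5, 1, 3, 1, 2, 2, 1, 3, 1, 3, 1, 3, 3, 1, 3, 1, 2, 1, 2, 1, 3, 1, 3, 3, 1]) (.leaf 370 22 [1, 3, 3, 1, 2, 2, 4, 5, 4, 6, 6, 4, 5, 5, 5, 2, 2, 1, 3, 3, 1, 3, 1, 2, 2, 1, 3, 1, 3, 1, 3, 1, 3, 1, 3, 1, 3]))))) (.node 2265 (.node 2262 (.node 2261 (.leaf 384 25 [2, 2, 1, 6, 6, 6, 4, 5, 5, 5, 4, 6, 4, 2, 1, 3, 1, 2, 1, 3, 1, 2, 1, 3, 1, 2, 1, 3, 1, 2, 1, 2, 1, 3, 3, 1, 3, 1]) (.leaf 30 23 [5, 5, 5, 4, 6, 6, 6, 4, 5, 4, 6, 6, 6, 4, 5, 2, 2, 1, 2, 1, 3, 3, 1, 3, 1, 2, 1, 3, 3, 1, 2, 1, 3, 3, 1, 2, 1, 4])) (.node 2263 (.leaf 131 17 [3, 3, 1, 3, 1, 3, 1, 2, 2, 5, 4, 6, 6, 4, 5, 4, 6, 6, 6, 4, 5, 4, 2, 1, 3, 1, 2, 1, 3, 1, 3, 1, 2, 1, 2, 1, 2, 2, 1]) (.node 2264 (.leaf 150 12 [1, 2, 1, 2, 2, 1, 2, 1, 3, 3, 1, 2, 1, 3, 4, 6, 6, 4, 5, 4, 6, 6, 6, 4, 5, 4, 6, 6, 4, 5, 1, 2, 1, 3, 1, 2, 1, 2, 2, 1, 2, 2]) (.leaf 161 25 [1, 3, 5, 5, 5, 4, 6, 4, 5, 4, 6, 6, 4, 5, 1, 2, 1, 2, 1, 2, 2, 1, 3, 3, 1, 3, 1, 2, 1, 3, 3, 1, 3, 3, 1, 2, 1, 3, 3])))) (.node 2268 (.node 2266 (.leaf 180 1 [1, 2, 1, 3, 1, 2, 1, 3, 1, 3, 1, 2, 2, 1, 3, 1, 3, 1, 3, 1, 2, 1, 2, 1, 2, 1, 6, 4, 6, 6, 6, 4, 5, 4, 6, 6, 6, 4, 5, 2]) (.node 2267 (.leaf 186 27 [6, 4, 5, 5, 4, 6, 6, 4, 5, 5, 5, 4, 2, 1, 3, 1, 3, 3, 1, 2, 1, 3, 1, 2, 2, 1, 2, 1, 2, 2, 1, 3, 1, 2, 1, 2, 2, 1, 3]) (.leaf 210 20 [2, 1, 3, 3, 1, 2, 1, 6, 4, 5, 4, 6, 4, 5, 4, 6, 6, 4, 5, 4, 1, 2, 2, 1, 3, 1, 2, 2, 1, 3, 1, 2, 2, 1, 2, 1, 2, 1, 3, 1]))) (.node 2269 (.leaf 212 10 [3, 1, 3, 1, 3, 1, 2, 2, 1, 3, 1, 3, 1, 3, 1, 3, 1, 6, 4, 6, 6, 6, 4, 5, 4, 6, 6, 6, 4, 5, 2, 1, 3, 1, 2, 1, 3, 1, 2, 1]) (.node 2270 (.leaf 233 21 [2, 2, 1, 2, 1, 3, 5, 4, 6, 6, 4, 5, 4, 6, 6, 2, 1, 2, 1, 3, 1, 3, 1, 2, 1, 3, 1, 2, 1, 2, 2, 1, 2, 1, 2, 1]) (.leaf 250 16 [1, 2, 2, 1, 3, 1, 3, 1, 3, 3, 1, 6, 4, 6, 6, 6, 4, 5, 4, 6, 6, 6, 4, 5, 4, 3, 3, 1, 3, 1, 2, 1, 2, 1, 2, 1, 2, 1, 2, 1, 3]))))))))) (.node 2358 (.node 2314 (.node 2292 (.node 2281 (.node 2276 (.node 2273 (.node 2272 (.leaf 254 8 [1, 3, 1, 2, 1, 2, 1, 2, 1, 2, 2, 1, 3, 1, 3, 3, 1, 2, 2, 4, 5, 5, 5, 4, 6, 4, 5, 4, 6, 6, 4, 5, 5, 5, 3, 3, 1, 3, 1, 3, 1, 2]) (.leaf 256 0 [1, 2, 2, 1, 3, 1, 3, 1, 3, 3, 1, 2, 1, 2, 2, 1, 2, 2, 1, 3, 1, 2, 1, 2, 1, 3, 1, 4, 5, 5, 4, 6, 4, 5, 4, 6, 4, 5, 4])) (.node 2274 (.leaf 268 29 [6, 4, 5, 5, 5, 4, 6, 4, 5, 4, 6, 6, 4, 5, 4, 1, 3, 3, 1, 3, 1, 3, 3, 1, 2, 1, 3, 3, 1, 2, 1, 3, 3, 1, 2, 1, 2, 1, 2, 2, 1, 2, 2, 4]) (.node 2275 (.leaf 304 10 [3, 1, 2, 2, 1, 3, 1, 2, 1, 3, 1, 2, 1, 3, 1, 3, 1, 3, 6, 4, 5, 5, 5, 4, 6, 4, 5, 4, 6, 6, 4, 5, 4, 2, 1, 2, 1, 2, 2, 1, 3, 1, 3]) (.leaf 327 33 [5, 5, 4, 6, 4, 5, 5, 5, 4, 6, 4, 2, 2, 1, 2, 1, 2, 2, 1, 2, 1, 3, 1, 2, 1, 3, 3, 1, 2, 1, 2, 1, 3, 1, 2, 2, 1, 3, 1, 4, 6, 4, 5, 5])))) (.node 2278 (.node 2277 (.leaf 329 11 [1, 2, 2, 1, 2, 1, 2, 1, 3, 3, 1, 3, 1, 3, 3, 1, 3, 4, 6, 6, 6, 4, 5, 4, 6, 6, 6, 1, 3, 1, 2, 2, 1, 2, 1, 2, 1, 3]) (.leaf 331 5 [2, 1, 3, 3, 1, 2, 1, 2, 2, 1, 3, 1, 2, 1, 3, 3, 1, 3, 1, 2, 1, 3, 1, 4, 5, 5, 4, 6, 4, 5, 4, 6, 6, 6, 4, 2, 1, 2, 1, 2])) (.node 2279 (.leaf 334 1 [3, 1, 2, 1, 2, 1, 2, 1, 3, 3, 1, 2, 2, 1, 3, 3, 1, 2, 1, 2, 1, 2, 2, 1, 3, 1, 3, 4, 5, 5, 4, 6, 4, 5, 4, 6, 4, 5, 4, 3]) (.node 2280 (.leaf 339 28 [6, 6, 6, 4, 5, 5, 5, 4, 6, 6, 6, 4, 2, 1, 3, 3, 1, 2, 1, 3, 1, 2, 2, 1, 3, 1, 2, 2, 1, 3, 1, 2, 2, 1, 2, 1, 3, 1, 2, 2]) (.leaf 348 27 [1, 6, 6, 4, 5, 4, 6, 6, 6, 4, 5, 4, 6, 6, 6, 1, 3, 1, 3, 1, 3, 1, 2, 2, 1, 3, 3, 1, 2, 1, 3, 1, 2, 1, 3, 1, 3, 3, 1, 2, 1, 3]))))) (.node 2286 (.node 2283 (.node 2282 (.leaf 367 4 [3, 1, 2, 2, 1, 3, 3, 1, 2, 1, 2, 1, 2, 1, 3, 1, 3, 1, 3, 1, 3, 1, 2, 1, 4, 6, 4, 5, 5, 4, 6, 4, 5, 4, 6, 4, 5, 4, 1, 2, 1, 3]) (.leaf 370 26 [2, 2, 4, 5, 4, 6, 6, 4, 5, 5, 5, 2, 2, 1, 3, 3, 1, 3, 1, 2, 2, 1, 3, 1, 3, 1, 3, 1, 3, 1, 3, 1, 3, 1, 3, 3, 1])) (.node 2284 (.leaf 27 22 [4, 6, 4, 5, 5, 4, 6, 4, 5, 5, 4, 1, 2, 1, 2, 2, 1, 3, 3, 1, 3, 1, 2, 1, 3, 1, 2, 2, 1, 2, 1, 2, 2]) (.node 2285 (.leaf 31 32 [4, 2, 1, 2, 1, 2, 2, 1, 2, 2, 1, 2, 1, 2, 2, 1, 2, 2, 1, 3, 3, 1, 3, 4, 6, 4, 5, 5, 5, 4, 6, 4, 5]) (.leaf 38 12 [2, 1, 3, 1, 2, 2, 1, 3, 1, 3, 3, 4, 5, 5, 5, 4, 6, 6, 4, 5, 5, 4, 1, 3, 1, 3, 1, 2, 1, 2, 1, 3, 1, 2])))) (.node 2289 (.node 2287 (.leaf 40 27 [5, 4, 6, 4, 5, 5, 4, 3, 3, 1, 2, 1, 3, 3, 1, 2, 1, 3, 1, 2, 1, 3, 3, 1, 3, 1, 2, 2, 1, 3, 5, 4, 6, 4]) (.node 2288 (.leaf 43 39 [4, 2, 2, 1, 2, 1, 3, 1, 2, 2, 1, 3, 1, 3, 3, 1, 2, 2, 1, 2, 1, 3, 1, 3, 4, 5, 5, 4, 6, 6, 4, 5, 4, 6, 6, 6, 4, 5, 5, 5]) (.leaf 64 21 [1, 3, 3, 4, 6, 4, 5, 5, 4, 6, 6, 6, 4, 5, 4, 2, 2, 1, 2, 1, 2, 1, 3, 1, 2, 1, 2, 2, 1, 3, 3, 1, 2, 1, 3, 3]))) (.node 2290 (.leaf 66 21 [1, 2, 2, 5, 5, 4, 6, 4, 5, 4, 6, 6, 4, 5, 5, 1, 3, 3, 1, 2, 1, 3, 1, 3, 3, 1, 2, 2, 1, 2, 1, 3, 3, 1, 2, 2]) (.node 2291 (.leaf 74 15 [2, 1, 2, 2, 1, 3, 3, 1, 3, 3, 5, 5, 4, 6, 6, 4, 2, 1, 3, 3, 1, 2, 1, 3, 1, 2, 1, 2, 1, 3, 1]) (.leaf 75 25 [6, 6, 4, 5, 5, 5, 4, 6, 4, 5, 5, 5, 4, 1, 2, 1, 3, 1, 2, 1, 3, 3, 1, 3, 3, 1, 2, 2, 1, 3, 3, 1, 2, 1, 2, 1, 3, 3])))))) (.node 2303 (.node 2297 (.node 2294 (.node 2293 (.leaf 99 15 [1, 3, 1, 3, 1, 2, 1, 3, 1, 3, 6, 4, 5, 5, 4, 6, 4, 5, 4, 6, 4, 5, 5, 5, 4, 1, 2, 2, 1, 2, 2, 1, 3, 1, 3, 3, 1, 2, 1, 2]) (.leaf 122 17 [2, 1, 2, 2, 1, 3, 1, 2, 2, 4, 5, 5, 5, 4, 6, 4, 5, 5, 5, 4, 5, 1, 2, 1, 3, 3, 1, 2, 1, 2, 2, 1, 3, 3, 1, 3, 1, 2])) (.node 2295 (.leaf 126 1 [3, 1, 2, 1, 2, 2, 1, 3, 3, 1, 2, 1, 3, 1, 2, 1, 2, 1, 2, 1, 3, 3, 1, 3, 1, 6, 4, 5, 5, 4, 6, 4, 5, 5, 4, 6, 1]) (.node 2296 (.leaf 126 26 [6, 4, 5, 5, 4, 6, 4, 5, 5, 4, 6, 1, 3, 1, 2, 1, 2, 2, 1, 3, 3, 1, 2, 1, 3, 1, 2, 1, 2, 1, 2, 1, 3, 3, 1, 3, 1]) (.leaf 128 3 [3, 1, 2, 1, 2, 1, 2, 1, 3, 1, 2, 1, 3, 1, 2, 1, 3, 3, 1, 2, 1, 2, 2, 5, 4, 5, 5, 5, 4, 6, 4, 5, 5, 5, 4, 6, 4, 5, 2, 1, 3])))) (.node 2300 (.node 2298 (.leaf 129 19 [2, 2, 1, 2, 1, 3, 3, 5, 5, 5, 4, 6, 6, 6, 4, 5, 5, 1, 2, 1, 3, 1, 2, 1, 2, 2, 1, 3, 1, 2, 2, 1, 3, 1, 2, 1]) (.node 2299 (.leaf 138 1 [3, 1, 3, 1, 2, 2, 1, 3, 3, 1, 3, 3, 1, 3, 1, 3, 3, 1, 2, 1, 2, 2, 1, 2, 2, 6, 4, 5, 5, 4, 6, 4, 1]) (.leaf 147 4 [1, 3, 3, 1, 3, 3, 1, 2, 2, 1, 3, 1, 3, 1, 2, 1, 2, 1, 2, 1, 3, 3, 5, 5, 4, 6, 4, 5, 5, 4, 6, 6, 4, 5, 2, 2, 1, 3]))) (.node 2301 (.leaf 148 9 [3, 1, 2, 1, 2, 2, 1, 2, 1, 3, 1, 2, 1, 3, 1, 2, 2, 4, 5, 5, 5, 5, 4, 6, 6, 6, 4, 5, 4, 6, 6, 6, 4, 2, 1, 3, 3, 1, 2, 2, 1, 3]) (.node 2302 (.leaf 151 19 [3, 1, 2, 2, 1, 2, 2, 5, 5, 4, 6, 6, 4, 5, 2, 1, 3, 3, 1, 3, 3, 1, 3, 1, 2, 2, 1, 2, 2, 1, 2, 2, 1]) (.leaf 153 4 [1, 2, 2, 1, 2, 1, 2, 1, 2, 2, 1, 2, 1, 2, 2, 1, 2, 1, 3, 3, 1, 3, 4, 6, 6, 6, 4, 5, 5, 5, 4, 5, 1, 3, 1, 3]))))) (.node 2308 (.node 2305 (.node 2304 (.leaf 154 17 [1, 3, 1, 2, 1, 3, 1, 2, 2, 4, 5, 4, 5, 5, 5, 4, 6, 4, 5, 5, 5, 4, 6, 6, 6, 2, 1, 2, 2, 1, 3, 1, 2, 1, 2, 1, 2, 1, 2, 2, 1, 3]) (.leaf 175 39 [5, 1, 3, 1, 3, 1, 2, 2, 1, 3, 1, 2, 1, 3, 1, 3, 3, 1, 3, 1, 3, 1, 2, 1, 3, 1, 2, 2, 6, 6, 4, 5, 5, 5, 4, 6, 6, 6, 4, 5])) (.node 2306 (.leaf 214 39 [5, 1, 3, 1, 3, 3, 1, 2, 1, 3, 3, 1, 2, 1, 2, 1, 3, 3, 1, 3, 3, 1, 2, 1, 3, 1, 2, 1, 6, 4, 5, 5, 5, 4, 6, 6, 6, 4, 5, 5]) (.node 2307 (.leaf 215 14 [2, 1, 2, 2, 1, 2, 1, 3, 1, 2, 1, 2, 2, 4, 5, 5, 5, 5, 4, 6, 4, 5, 5, 4, 6, 4, 1, 3, 1, 3, 1, 2, 1, 3, 1, 3, 1, 2, 1, 2]) (.leaf 221 0 [2, 1, 2, 1, 2, 1, 3, 3, 1, 2, 1, 3, 1, 2, 1, 3, 1, 2, 2, 1, 3, 1, 2, 2, 1, 3, 1, 4, 6, 4, 5, 5, 5, 4, 6, 6, 6, 4, 5, 5])))) (.node 2311 (.node 2309 (.leaf 237 14 [2, 1, 2, 2, 1, 2, 2, 1, 2, 2, 1, 3, 3, 6, 4, 5, 5, 4, 6, 1, 3, 1, 2, 2, 1, 2, 2, 1, 2, 2, 1, 3, 1]) (.node 2310 (.leaf 253 27 [6, 6, 4, 5, 5, 4, 6, 4, 5, 5, 5, 4, 6, 2, 1, 3, 1, 3, 3, 1, 2, 1, 3, 1, 2, 1, 2, 2, 1, 2, 1, 3, 1, 3, 3, 1, 2, 1, 3, 1]) (.leaf 270 2 [3, 1, 3, 1, 2, 2, 1, 2, 1, 2, 1, 3, 1, 3, 1, 2, 1, 2, 2, 1, 2, 1, 2, 2, 1, 3, 5, 5, 5, 5, 4, 6, 4, 5, 2, 1]))) (.node 2312 (.leaf 273 23 [1, 2, 1, 2, 2, 5, 5, 5, 5, 4, 6, 4, 5, 5, 5, 4, 6, 6, 1, 3, 3, 1, 2, 1, 3, 1, 2, 1, 3, 1, 2, 1, 2, 2, 1, 2, 1, 2, 1, 2, 2]) (.node 2313 (.leaf 281 23 [1, 3, 1, 3, 1, 6, 6, 4, 5, 5, 4, 6, 4, 5, 5, 5, 4, 6, 6, 6, 4, 2, 1, 3, 3, 1, 3, 3, 1, 3, 3, 1, 3, 3, 1, 2, 1, 3, 3, 1, 2, 2, 1, 2]) (.leaf 307 27 [1, 6, 6, 4, 5, 5, 5, 4, 6, 6, 6, 4, 5, 5, 5, 4, 1, 2, 1, 3, 1, 3, 3, 1, 3, 1, 2, 2, 1, 2, 1, 3, 3, 1, 3, 3, 1, 2, 1, 3, 3, 1, 3]))))))) (.node 2336 (.node 2325 (.node 2319 (.node 2316 (.node 2315 (.leaf 312 40 [4, 2, 1, 2, 1, 3, 3, 1, 3, 3, 1, 3, 1, 2, 2, 1, 2, 1, 2, 1, 2, 2, 1, 3, 1, 2, 2, 1, 3, 5, 4, 6, 4, 5, 4, 6, 4, 5, 5, 4, 6]) (.leaf 316 11 [1, 3, 1, 2, 1, 3, 1, 2, 1, 2, 2, 1, 3, 3, 1, 2, 2, 6, 4, 5, 5, 4, 6, 4, 5, 5, 4, 6, 4, 5, 4, 2, 1, 3, 3, 1, 2, 1, 2, 2, 1, 2])) (.node 2317 (.leaf 328 28 [6, 6, 4, 5, 4, 6, 4, 5, 4, 6, 6, 6, 4, 2, 1, 3, 1, 2, 1, 2, 1, 3, 3, 1, 2, 2, 1, 3, 1, 3, 3, 1, 3, 1, 3, 3, 1, 3, 1, 3, 1]) (.node 2318 (.leaf 347 27 [1, 5, 4, 6, 6, 6, 4, 5, 5, 5, 4, 5, 1, 3, 3, 1, 2, 1, 2, 2, 1, 3, 1, 2, 1, 2, 1, 2, 1, 3, 3, 1, 3, 1, 2, 2, 1, 3, 3]) (.leaf 347 3 [1, 2, 1, 2, 2, 1, 3, 1, 2, 1, 2, 1, 2, 1, 3, 3, 1, 3, 1, 2, 2, 1, 3, 3, 1, 5, 4, 6, 6, 6, 4, 5, 5, 5, 4, 5, 1, 3, 3])))) (.node 2322 (.node 2320 (.leaf 379 27 [1, 4, 6, 4, 5, 5, 5, 4, 6, 3, 3, 1, 2, 1, 2, 1, 3, 1, 2, 1, 3, 1, 2, 2, 1, 2, 1, 2, 1, 2, 1, 2, 1, 2, 1, 3]) (.node 2321 (.leaf 384 23 [3, 1, 2, 2, 1, 6, 6, 6, 4, 5, 5, 5, 4, 6, 4, 2, 1, 3, 1, 2, 1, 3, 1, 2, 1, 3, 1, 2, 1, 3, 1, 2, 1, 2, 1, 3, 3, 1]) (.leaf 386 29 [5, 4, 6, 4, 5, 4, 6, 4, 5, 4, 6, 4, 5, 5, 4, 2, 2, 1, 2, 2, 1, 2, 2, 1, 3, 3, 1, 2, 1, 2, 1, 2, 1, 3, 1, 3, 3, 1, 2, 2, 1, 2, 2, 4]))) (.node 2323 (.leaf 392 12 [2, 2, 1, 3, 3, 1, 2, 1, 3, 1, 3, 3, 1, 3, 3, 1, 3, 6, 6, 4, 5, 5, 5, 4, 6, 6, 6, 4, 5, 5, 2, 1, 2, 2, 1, 2, 2, 1, 2, 1, 3, 1]) (.node 2324 (.leaf 393 22 [3, 1, 3, 3, 1, 3, 1, 4, 6, 4, 5, 5, 5, 4, 6, 4, 5, 5, 5, 4, 6, 4, 5, 1, 3, 3, 1, 3, 1, 3, 1, 3, 1, 3, 3, 1, 3, 1, 3, 1, 2, 1, 3, 1, 3]) (.leaf 22 3 [2, 1, 2, 1, 2, 1, 2, 2, 1, 3, 1, 2, 2, 1, 2, 2, 1, 3, 1, 5, 5, 4, 6, 4, 5, 4, 3, 3, 1]))))) (.node 2330 (.node 2327 (.node 2326 (.leaf 74 8 [1, 2, 1, 2, 1, 3, 1, 2, 1, 2, 2, 1, 3, 3, 1, 3, 3, 5, 5, 4, 6, 6, 4, 2, 1, 3, 3, 1, 2, 1, 3]) (.leaf 166 21 [3, 1, 2, 2, 1, 3, 5, 5, 4, 6, 6, 4, 5, 5, 2, 1, 2, 1, 2, 1, 2, 2, 1, 3, 1, 2, 1, 2, 1, 3, 3, 1, 2, 2, 1])) (.node 2328 (.leaf 181 27 [4, 5, 5, 4, 6, 4, 1, 3, 1, 2, 2, 1, 3, 1, 2, 1, 3, 3, 1, 2, 1, 3, 3, 1, 2, 1, 3, 1, 3, 1, 3, 1, 3]) (.node 2329 (.leaf 210 38 [5, 4, 1, 2, 2, 1, 3, 1, 2, 2, 1, 3, 1, 2, 2, 1, 2, 1, 2, 1, 3, 1, 2, 1, 3, 3, 1, 2, 1, 6, 4, 5, 4, 6, 4, 5, 4, 6, 6, 4]) (.leaf 366 28 [4, 6, 4, 5, 4, 6, 6, 4, 5, 4, 6, 6, 4, 2, 1, 2, 1, 3, 1, 2, 2, 1, 3, 3, 1, 2, 2, 1, 3, 3, 1, 2, 2, 1, 3, 1, 3, 1, 3, 3, 1])))) (.node 2333 (.node 2331 (.leaf 40 32 [5, 4, 3, 3, 1, 2, 1, 3, 3, 1, 2, 1, 3, 1, 2, 1, 3, 3, 1, 3, 1, 2, 2, 1, 3, 5, 4, 6, 4, 5, 4, 6, 4, 5]) (.node 2332 (.leaf 47 22 [1, 5, 5, 5, 4, 6, 6, 4, 2, 2, 1, 2, 1, 3, 1, 2, 2, 1, 2, 2, 1, 3, 3, 1, 3, 1, 2, 1, 2, 2]) (.leaf 74 17 [2, 2, 1, 3, 3, 1, 3, 3, 5, 5, 4, 6, 6, 4, 2, 1, 3, 3, 1, 2, 1, 3, 1, 2, 1, 2, 1, 3, 1, 2, 1]))) (.node 2334 (.leaf 107 25 [5, 5, 5, 4, 6, 4, 5, 5, 4, 6, 2, 1, 2, 1, 3, 3, 1, 3, 3, 1, 2, 1, 2, 2, 1, 3, 1, 3, 3, 1, 3, 3, 1, 3, 3]) (.node 2335 (.leaf 197 11 [1, 3, 1, 3, 1, 3, 3, 1, 2, 1, 3, 3, 1, 3, 3, 1, 4, 6, 4, 5, 5, 4, 6, 4, 5, 4, 6, 4, 5, 5, 1, 2, 1, 3, 1, 3, 3, 1, 2, 1, 2]) (.leaf 201 27 [4, 5, 5, 5, 4, 6, 4, 5, 5, 4, 6, 4, 5, 5, 2, 2, 1, 3, 1, 3, 3, 1, 3, 1, 3, 1, 2, 2, 1, 3, 1, 3, 1, 3, 1, 3, 1, 2, 2, 1, 3])))))) (.node 2347 (.node 2341 (.node 2338 (.node 2337 (.leaf 215 21 [3, 1, 2, 1, 2, 2, 4, 5, 5, 5, 5, 4, 6, 4, 5, 5, 4, 6, 4, 1, 3, 1, 3, 1, 2, 1, 3, 1, 3, 1, 2, 1, 2, 2, 1, 2, 2, 1, 2, 1]) (.leaf 227 23 [3, 1, 3, 1, 4, 5, 5, 5, 4, 6, 6, 4, 2, 2, 1, 2, 2, 1, 3, 1, 3, 1, 3, 1, 2, 2, 1, 3, 1, 2, 1, 2, 1, 3, 1])) (.node 2339 (.leaf 283 18 [1, 2, 1, 3, 1, 3, 1, 3, 1, 3, 4, 5, 5, 5, 5, 4, 6, 4, 5, 5, 4, 6, 4, 5, 4, 1, 2, 1, 2, 1, 2, 1, 3, 1, 3, 1, 2, 2, 1, 2, 2, 1, 3]) (.node 2340 (.leaf 305 21 [1, 2, 2, 1, 3, 3, 1, 4, 6, 4, 5, 5, 4, 6, 4, 5, 5, 4, 6, 1, 3, 1, 3, 3, 1, 2, 2, 1, 3, 1, 3, 3, 1, 2, 1, 2, 1, 2, 1, 2]) (.leaf 316 10 [2, 1, 3, 1, 2, 1, 3, 1, 2, 1, 2, 2, 1, 3, 3, 1, 2, 2, 6, 4, 5, 5, 4, 6, 4, 5, 5, 4, 6, 4, 5, 4, 2, 1, 3, 3, 1, 2, 1, 2, 2, 1])))) (.node 2344 (.node 2342 (.leaf 371 28 [5, 4, 6, 6, 4, 5, 4, 6, 4, 5, 5, 4, 3, 3, 1, 2, 1, 3, 3, 1, 2, 1, 2, 1, 3, 1, 3, 1, 3, 1, 3, 1, 2, 1, 2, 1, 3, 1, 2, 1]) (.node 2343 (.leaf 380 19 [2, 1, 2, 1, 3, 1, 3, 1, 3, 4, 6, 4, 5, 5, 4, 6, 4, 5, 4, 6, 4, 1, 3, 3, 1, 3, 1, 2, 1, 3, 3, 1, 3, 3, 1, 2, 1, 3, 3, 1]) (.leaf 382 16 [3, 1, 3, 3, 1, 3, 3, 1, 3, 1, 2, 1, 4, 5, 5, 5, 5, 4, 6, 4, 5, 5, 4, 6, 1, 3, 1, 2, 2, 1, 3, 1, 2, 1, 3, 1, 2, 2, 1, 3]))) (.node 2345 (.leaf 379 35 [6, 3, 3, 1, 2, 1, 2, 1, 3, 1, 2, 1, 3, 1, 2, 2, 1, 2, 1, 2, 1, 2, 1, 2, 1, 2, 1, 3, 1, 4, 6, 4, 5, 5, 5, 4]) (.node 2346 (.leaf 162 1 [2, 2, 1, 2, 2, 1, 3, 1, 3, 1, 3, 1, 2, 2, 1, 2, 2, 1, 2, 1, 2, 1, 3, 1, 2, 2, 5, 4, 5, 5, 5, 4, 6, 4, 5, 5, 4, 6, 4, 5, 1]) (.leaf 182 1 [1, 3, 1, 2, 2, 1, 2, 2, 1, 2, 1, 3, 1, 2, 1, 3, 1, 3, 3, 1, 3, 3, 1, 2, 1, 3, 4, 5, 4, 5, 5, 5, 4, 6, 4, 6, 2]))))) (.node 2352 (.node 2349 (.node 2348 (.leaf 372 29 [4, 6, 6, 6, 4, 6, 1, 2, 2, 1, 3, 3, 1, 2, 1, 3, 3, 1, 3, 1, 2, 1, 3, 3, 1, 2, 1, 3, 1, 3, 3, 1, 2, 1, 6]) (.leaf 27 19 [1, 2, 2, 4, 6, 4, 5, 5, 4, 6, 4, 5, 5, 4, 1, 2, 1, 2, 2, 1, 3, 3, 1, 3, 1, 2, 1, 3, 1, 2, 2, 1, 2])) (.node 2350 (.leaf 27 5 [1, 3, 3, 1, 3, 1, 2, 1, 3, 1, 2, 2, 1, 2, 1, 2, 2, 4, 6, 4, 5, 5, 4, 6, 4, 5, 5, 4, 1, 2, 1, 2, 2]) (.node 2351 (.leaf 277 15 [2, 1, 3, 1, 2, 1, 2, 1, 3, 3, 1, 2, 2, 5, 5, 4, 6, 6, 4, 5, 5, 1, 2, 2, 1, 2, 2, 1, 2, 1, 2, 1, 2, 1, 3, 1]) (.leaf 316 6 [1, 2, 2, 1, 2, 1, 3, 1, 2, 1, 3, 1, 2, 1, 2, 2, 1, 3, 3, 1, 2, 2, 6, 4, 5, 5, 4, 6, 4, 5, 5, 4, 6, 4, 5, 4, 2, 1, 3, 3, 1, 2])))) (.node 2355 (.node 2353 (.leaf 9 34 [2, 2, 1, 2, 2, 2, 1, 2, 2, 2, 1, 2, 2, 2, 1, 2, 2, 2, 1, 2, 2, 2, 1, 2, 2, 2, 1, 2, 2, 2, 1, 2, 2, 2, 1, 2, 2, 2, 1, 2]) (.node 2354 (.leaf 23 27 [5, 4, 6, 4, 5, 1, 2, 1, 3, 1, 3, 3, 1, 3, 1, 2, 1, 3, 3, 1, 2, 1, 3, 1, 2, 1, 3, 4, 5, 4, 5, 5]) (.leaf 31 26 [5, 5, 4, 6, 4, 5, 4, 2, 1, 2, 1, 2, 2, 1, 2, 2, 1, 2, 1, 2, 2, 1, 2, 2, 1, 3, 3, 1, 3, 4, 6, 4, 5]))) (.node 2356 (.leaf 166 18 [2, 2, 1, 3, 1, 2, 2, 1, 3, 5, 5, 4, 6, 6, 4, 5, 5, 2, 1, 2, 1, 2, 1, 2, 2, 1, 3, 1, 2, 1, 2, 1, 3, 3, 1]) (.node 2357 (.leaf 227 24 [1, 3, 1, 4, 5, 5, 5, 4, 6, 6, 4, 2, 2, 1, 2, 2, 1, 3, 1, 3, 1, 3, 1, 2, 2, 1, 3, 1, 2, 1, 2, 1, 3, 1, 3]) (.leaf 262 36 [4, 2, 1, 3, 3, 1, 3, 3, 1, 2, 2, 1, 3, 3, 1, 3, 1, 3, 1, 2, 1, 2, 1, 2, 2, 1, 2, 1, 3, 5, 4, 6, 6, 4, 5, 4, 6])))))))) (.node 2402 (.node 2380 (.node 2369 (.node 2363 (.node 2360 (.node 2359 (.leaf 119 32 [5, 4, 5, 1, 3, 3, 1, 3, 1, 2, 2, 1, 2, 1, 2, 2, 1, 3, 3, 1, 3, 1, 3, 1, 3, 1, 3, 3, 1, 4, 6, 6, 4, 5, 5]) (.leaf 175 4 [1, 2, 2, 1, 3, 1, 2, 1, 3, 1, 3, 3, 1, 3, 1, 3, 1, 2, 1, 3, 1, 2, 2, 6, 6, 4, 5, 5, 5, 4, 6, 6, 6, 4, 5, 5, 1, 3, 1, 3])) (.node 2361 (.leaf 290 35 [5, 5, 4, 1, 2, 1, 2, 2, 1, 3, 1, 3, 3, 1, 3, 1, 2, 2, 1, 2, 2, 1, 3, 3, 1, 3, 1, 3, 1, 3, 3, 5, 4, 6, 6, 6, 4, 5]) (.node 2362 (.leaf 325 20 [1, 3, 3, 1, 2, 2, 1, 3, 4, 6, 4, 5, 5, 4, 6, 6, 6, 1, 3, 3, 1, 2, 1, 3, 1, 3, 1, 3, 1, 2, 2, 1, 3, 1, 3, 1, 3]) (.leaf 370 35 [5, 5, 2, 2, 1, 3, 3, 1, 3, 1, 2, 2, 1, 3, 1, 3, 1, 3, 1, 3, 1, 3, 1, 3, 1, 3, 3, 1, 2, 2, 4, 5, 4, 6, 6, 4, 5])))) (.node 2366 (.node 2364 (.leaf 384 33 [5, 5, 4, 6, 4, 2, 1, 3, 1, 2, 1, 3, 1, 2, 1, 3, 1, 2, 1, 3, 1, 2, 1, 2, 1, 3, 3, 1, 3, 1, 2, 2, 1, 6, 6, 6, 4, 5]) (.node 2365 (.leaf 28 26 [4, 5, 5, 4, 6, 4, 5, 5, 5, 3, 3, 1, 2, 1, 2, 1, 3, 3, 1, 2, 2, 1, 3, 1, 3, 3, 1, 2, 1, 2, 1, 4, 5, 4, 6]) (.leaf 70 23 [2, 1, 6, 4, 5, 5, 5, 4, 5, 1, 2, 1, 2, 1, 3, 1, 2, 1, 3, 1, 3, 1, 2, 1, 3, 1, 2, 1, 3, 1, 2, 1]))) (.node 2367 (.leaf 100 34 [5, 5, 2, 1, 2, 1, 2, 1, 3, 3, 1, 3, 3, 1, 2, 2, 1, 2, 2, 1, 2, 1, 3, 3, 1, 2, 1, 5, 4, 5, 5, 5, 4, 6, 6, 4]) (.node 2368 (.leaf 119 21 [3, 1, 3, 3, 1, 4, 6, 6, 4, 5, 5, 5, 4, 5, 1, 3, 3, 1, 3, 1, 2, 2, 1, 2, 1, 2, 2, 1, 3, 3, 1, 3, 1, 3, 1]) (.leaf 229 20 [1, 2, 2, 1, 2, 2, 1, 4, 6, 6, 4, 5, 4, 6, 4, 5, 5, 4, 6, 4, 5, 5, 5, 2, 1, 2, 2, 1, 2, 1, 3, 1, 3, 1, 2, 1, 2, 1, 3, 1, 2, 1, 2]))))) (.node 2374 (.node 2371 (.node 2370 (.leaf 92 15 [1, 2, 2, 1, 2, 1, 3, 1, 3, 3, 6, 4, 6, 6, 6, 6, 4, 2, 1, 2, 1, 3, 1, 2, 1, 2, 1, 2, 1, 2, 1, 3]) (.leaf 94 7 [2, 1, 2, 2, 1, 2, 1, 2, 1, 3, 1, 3, 3, 1, 3, 1, 3, 3, 4, 5, 5, 5, 5, 4, 6, 6, 6, 4, 6, 2, 2, 1, 3, 1, 3, 1])) (.node 2372 (.leaf 106 9 [2, 2, 1, 2, 1, 3, 1, 3, 1, 3, 1, 2, 2, 1, 2, 2, 5, 4, 6, 6, 6, 6, 4, 2, 1, 3, 3, 1, 3, 1, 2, 1]) (.node 2373 (.leaf 106 24 [2, 5, 4, 6, 6, 6, 6, 4, 2, 1, 3, 3, 1, 3, 1, 2, 1, 2, 2, 1, 2, 1, 3, 1, 3, 1, 3, 1, 2, 2, 1, 2]) (.leaf 112 3 [1, 2, 1, 2, 1, 3, 1, 3, 1, 2, 2, 1, 3, 1, 2, 1, 2, 1, 2, 2, 1, 3, 3, 4, 6, 6, 4, 5, 4, 6, 6, 4, 5, 5, 4, 6, 4, 1, 2, 2])))) (.node 2377 (.node 2375 (.leaf 130 11 [1, 2, 1, 3, 1, 3, 1, 3, 1, 2, 1, 3, 1, 3, 1, 6, 6, 4, 5, 5, 5, 4, 2, 2, 1, 2, 1, 2, 1, 3, 3, 1, 2]) (.node 2376 (.leaf 195 28 [4, 5, 4, 6, 6, 4, 5, 4, 6, 4, 5, 1, 2, 1, 3, 1, 2, 2, 1, 2, 1, 3, 1, 3, 1, 3, 3, 1, 3, 1, 2, 1, 2, 1, 2, 1, 2, 1, 6]) (.leaf 230 5 [3, 1, 3, 1, 2, 2, 1, 2, 1, 2, 2, 1, 2, 1, 3, 1, 2, 1, 2, 2, 1, 3, 4, 5, 4, 6, 6, 4, 5, 5, 5, 4, 1, 2, 1, 3, 1]))) (.node 2378 (.leaf 235 0 [2, 2, 1, 3, 1, 3, 1, 2, 1, 2, 1, 2, 1, 2, 1, 3, 1, 2, 2, 1, 3, 1, 3, 1, 2, 1, 3, 4, 6, 6, 6, 4, 5, 5, 5, 4, 5]) (.node 2379 (.leaf 246 28 [6, 6, 4, 5, 4, 6, 6, 4, 5, 4, 6, 4, 1, 2, 1, 2, 2, 1, 2, 2, 1, 2, 1, 2, 1, 2, 1, 3, 3, 1, 3, 1, 3, 3, 1, 3, 1, 3, 3, 6]) (.leaf 249 30 [4, 6, 6, 4, 5, 4, 6, 6, 4, 1, 2, 2, 1, 2, 2, 1, 2, 2, 1, 2, 1, 2, 1, 2, 2, 1, 3, 3, 1, 3, 3, 1, 2, 1, 2, 1, 6, 4, 5])))))) (.node 2391 (.node 2385 (.node 2382 (.node 2381 (.leaf 295 11 [3, 1, 2, 1, 3, 3, 1, 2, 1, 3, 1, 2, 1, 3, 1, 2, 2, 6, 4, 5, 4, 6, 6, 4, 5, 4, 5, 1, 2, 2, 1, 2, 1, 3, 1, 3, 3, 1]) (.leaf 360 22 [2, 1, 3, 3, 1, 3, 6, 4, 5, 4, 6, 6, 4, 5, 4, 6, 6, 6, 4, 5, 4, 6, 2, 1, 2, 1, 2, 1, 3, 3, 1, 3, 1, 3, 3, 1, 2, 2, 1, 3, 1, 2, 2, 1])) (.node 2383 (.leaf 381 19 [2, 2, 1, 2, 1, 3, 1, 3, 3, 4, 5, 5, 4, 6, 4, 5, 5, 4, 6, 6, 4, 2, 2, 1, 2, 1, 2, 1, 3, 1, 3, 3, 1, 3, 1, 2, 1, 3, 3, 1]) (.node 2384 (.leaf 57 21 [3, 3, 1, 6, 6, 6, 4, 5, 4, 6, 6, 4, 5, 5, 2, 2, 1, 3, 3, 1, 3, 1, 3, 1, 3, 1, 2, 1, 3, 1, 3, 1, 3, 3, 1]) (.leaf 36 30 [6, 4, 5, 4, 6, 3, 3, 1, 3, 1, 2, 1, 3, 1, 3, 1, 2, 2, 1, 3, 1, 2, 1, 3, 3, 1, 3, 3, 4, 5, 5, 5, 4, 6, 6])))) (.node 2388 (.node 2386 (.leaf 171 36 [6, 4, 5, 4, 6, 6, 1, 3, 1, 3, 3, 1, 3, 3, 1, 2, 1, 3, 3, 1, 2, 2, 1, 3, 1, 2, 2, 1, 2, 2, 1, 2, 1, 4, 5, 5, 5, 4, 6, 4, 5, 4]) (.node 2387 (.leaf 255 26 [3, 5, 4, 6, 6, 4, 5, 4, 6, 4, 5, 4, 6, 6, 4, 1, 2, 2, 1, 3, 3, 1, 2, 1, 2, 2, 1, 2, 1, 2, 1, 3, 3, 1, 3, 1, 2, 2, 1, 2, 1]) (.leaf 58 4 [1, 2, 1, 3, 3, 1, 2, 2, 1, 2, 2, 1, 3, 1, 3, 3, 1, 3, 3, 1, 4, 6, 4, 5, 5, 5, 4, 6, 6, 4, 1, 3, 1, 3]))) (.node 2389 (.leaf 86 26 [5, 5, 4, 6, 4, 5, 5, 5, 4, 6, 6, 1, 3, 1, 3, 1, 3, 3, 1, 2, 2, 1, 2, 1, 3, 3, 1, 2, 2, 1, 2, 1, 2, 1, 2, 2, 4]) (.node 2390 (.leaf 174 19 [2, 1, 2, 1, 2, 1, 3, 1, 5, 5, 5, 5, 4, 3, 3, 1, 3, 1, 2, 2, 1, 3, 3, 1, 2, 2, 1, 3, 3, 1, 2, 1]) (.leaf 181 20 [3, 1, 3, 1, 3, 1, 3, 4, 5, 5, 4, 6, 4, 1, 3, 1, 2, 2, 1, 3, 1, 2, 1, 3, 3, 1, 2, 1, 3, 3, 1, 2, 1]))))) (.node 2396 (.node 2393 (.node 2392 (.leaf 215 38 [6, 4, 1, 3, 1, 3, 1, 2, 1, 3, 1, 3, 1, 2, 1, 2, 2, 1, 2, 2, 1, 2, 1, 3, 1, 2, 1, 2, 2, 4, 5, 5, 5, 5, 4, 6, 4, 5, 5, 4]) (.leaf 237 0 [1, 3, 1, 2, 2, 1, 2, 2, 1, 2, 2, 1, 3, 1, 2, 1, 2, 2, 1, 2, 2, 1, 2, 2, 1, 3, 3, 6, 4, 5, 5, 4, 6])) (.node 2394 (.leaf 282 1 [2, 1, 2, 1, 3, 3, 1, 2, 1, 3, 3, 1, 3, 1, 3, 3, 1, 2, 1, 3, 3, 1, 2, 1, 3, 1, 3, 6, 6, 6, 4, 5, 5, 5, 4, 6, 1]) (.node 2395 (.leaf 284 11 [1, 3, 1, 2, 2, 1, 3, 3, 1, 2, 1, 3, 3, 1, 3, 1, 3, 4, 6, 4, 5, 5, 5, 4, 6, 6, 1, 3, 1, 3, 1, 2, 1, 3, 1, 2, 2]) (.leaf 308 7 [3, 1, 3, 1, 2, 1, 3, 1, 2, 1, 3, 1, 3, 1, 2, 1, 2, 1, 3, 3, 1, 4, 6, 4, 5, 5, 4, 6, 6, 6, 4, 6, 1, 2, 2, 1, 2, 2, 1])))) (.node 2399 (.node 2397 (.leaf 347 2 [3, 1, 2, 1, 2, 2, 1, 3, 1, 2, 1, 2, 1, 2, 1, 3, 3, 1, 3, 1, 2, 2, 1, 3, 3, 1, 5, 4, 6, 6, 6, 4, 5, 5, 5, 4, 5, 1, 3]) (.node 2398 (.leaf 370 29 [5, 4, 6, 6, 4, 5, 5, 5, 2, 2, 1, 3, 3, 1, 3, 1, 2, 2, 1, 3, 1, 3, 1, 3, 1, 3, 1, 3, 1, 3, 1, 3, 3, 1, 2, 2, 4]) (.leaf 45 28 [5, 5, 5, 4, 6, 4, 5, 5, 5, 4, 6, 6, 1, 2, 2, 1, 3, 1, 3, 3, 1, 2, 1, 2, 2, 1, 2, 1, 2, 2, 1, 2, 1, 2, 2, 4, 6, 6, 6, 4]))) (.node 2400 (.leaf 64 25 [6, 4, 5, 5, 4, 6, 6, 6, 4, 5, 4, 2, 2, 1, 2, 1, 2, 1, 3, 1, 2, 1, 2, 2, 1, 3, 3, 1, 2, 1, 3, 3, 1, 3, 3, 4]) (.node 2401 (.leaf 267 17 [1, 2, 2, 1, 2, 2, 1, 2, 2, 1, 3, 4, 5, 5, 4, 6, 1, 3, 1, 2, 1, 2, 1, 3, 3, 1, 2, 2, 1, 2, 2, 1, 2]) (.leaf 294 30 [6, 4, 5, 4, 6, 6, 4, 5, 2, 2, 1, 3, 3, 1, 2, 1, 3, 3, 1, 3, 1, 3, 1, 3, 1, 3, 1, 3, 3, 1, 3, 1, 2, 1, 2, 2, 6, 6]))))))) (.node 2424 (.node 2413 (.node 2407 (.node 2404 (.node 2403 (.leaf 324 28 [5, 5, 5, 5, 4, 6, 4, 5, 5, 5, 4, 2, 2, 1, 2, 2, 1, 2, 1, 2, 1, 2, 2, 1, 3, 1, 3, 1, 3, 1, 2, 2, 1, 2, 1, 2, 1, 2, 2]) (.leaf 336 3 [1, 2, 1, 2, 1, 3, 1, 2, 1, 3, 1, 3, 1, 3, 1, 2, 2, 1, 3, 3, 1, 3, 3, 1, 3, 5, 4, 6, 6, 6, 4, 5, 4, 6, 6, 4, 5, 5, 5, 2, 1, 3])) (.node 2405 (.leaf 384 16 [2, 1, 2, 1, 3, 3, 1, 3, 1, 2, 2, 1, 6, 6, 6, 4, 5, 5, 5, 4, 6, 4, 2, 1, 3, 1, 2, 1, 3, 1, 2, 1, 3, 1, 2, 1, 3, 1]) (.node 2406 (.leaf 395 4 [1, 2, 1, 3, 3, 1, 3, 1, 3, 3, 1, 2, 1, 2, 2, 1, 2, 1, 2, 2, 1, 2, 1, 3, 3, 6, 6, 6, 4, 5, 5, 5, 4, 6, 4, 5, 5, 4, 6, 4, 1, 3, 1, 3]) (.leaf 29 16 [1, 3, 3, 1, 2, 1, 4, 5, 4, 6, 6, 4, 5, 4, 6, 4, 5, 4, 6, 6, 4, 1, 3, 1, 2, 1, 3, 3, 1, 2, 1, 3, 1, 2, 2, 1, 3])))) (.node 2410 (.node 2408 (.leaf 38 7 [2, 1, 3, 1, 2, 2, 1, 3, 1, 2, 2, 1, 3, 1, 3, 3, 4, 5, 5, 5, 4, 6, 6, 4, 5, 5, 4, 1, 3, 1, 3, 1, 2, 1]) (.node 2409 (.leaf 44 3 [3, 3, 1, 2, 2, 1, 2, 1, 2, 1, 3, 1, 3, 3, 1, 2, 1, 2, 2, 1, 4, 6, 4, 5, 4, 6, 6, 4, 5, 5, 5, 4, 3, 3, 1]) (.leaf 51 28 [6, 6, 4, 6, 1, 2, 1, 3, 1, 3, 3, 1, 2, 2, 1, 3, 1, 2, 1, 3, 1, 3, 1, 3, 3, 1, 2, 2, 5, 4, 6, 6]))) (.node 2411 (.leaf 67 2 [1, 3, 3, 1, 3, 1, 3, 1, 3, 1, 2, 1, 2, 1, 3, 3, 1, 3, 3, 1, 3, 3, 4, 6, 6, 6, 4, 5, 4, 6, 6, 6, 4, 5, 4, 6, 6, 4, 5, 4, 1, 2]) (.node 2412 (.leaf 71 29 [5, 4, 6, 6, 4, 5, 5, 5, 2, 1, 2, 1, 2, 1, 3, 1, 2, 1, 2, 2, 1, 3, 3, 1, 3, 3, 1, 2, 2, 1, 3, 1, 3, 6, 6, 6, 4]) (.leaf 73 40 [4, 2, 2, 1, 2, 1, 3, 3, 1, 3, 3, 1, 3, 1, 3, 1, 3, 3, 1, 2, 1, 3, 3, 1, 3, 3, 4, 6, 6, 6, 4, 5, 4, 6, 6, 6, 4, 5, 4, 6, 6]))))) (.node 2418 (.node 2415 (.node 2414 (.leaf 88 4 [2, 1, 3, 3, 1, 3, 1, 2, 2, 1, 3, 1, 3, 1, 3, 1, 3, 3, 1, 2, 1, 5, 4, 6, 4, 5, 5, 4, 6, 6, 4, 5, 4, 2, 2, 1, 2]) (.leaf 132 23 [1, 3, 1, 6, 6, 4, 5, 4, 6, 4, 5, 4, 6, 4, 1, 3, 1, 3, 1, 2, 1, 2, 1, 2, 2, 1, 2, 1, 3, 1, 2, 1, 2, 1, 2, 1, 2])) (.node 2416 (.leaf 157 38 [6, 1, 2, 2, 1, 3, 1, 2, 2, 1, 2, 1, 2, 2, 1, 2, 1, 3, 1, 3, 1, 2, 1, 3, 3, 1, 2, 1, 4, 6, 6, 6, 4, 5, 4, 6, 6, 6, 4]) (.node 2417 (.leaf 166 6 [2, 2, 1, 3, 1, 2, 1, 2, 1, 3, 3, 1, 2, 2, 1, 3, 1, 2, 2, 1, 3, 5, 5, 4, 6, 6, 4, 5, 5, 2, 1, 2, 1, 2, 1]) (.leaf 167 16 [1, 2, 2, 1, 3, 1, 3, 3, 1, 3, 1, 5, 4, 6, 6, 4, 5, 5, 5, 1, 3, 1, 3, 1, 3, 1, 2, 1, 3, 1, 2, 1, 2, 1, 2])))) (.node 2421 (.node 2419 (.leaf 187 11 [3, 3, 1, 3, 1, 3, 3, 1, 2, 2, 1, 2, 1, 3, 3, 1, 5, 5, 5, 4, 6, 6, 6, 4, 5, 4, 6, 6, 6, 4, 5, 3, 3, 1, 2, 2, 1, 2, 2, 1, 3, 1]) (.node 2420 (.leaf 189 0 [1, 3, 1, 2, 1, 3, 3, 1, 3, 1, 3, 1, 2, 1, 3, 3, 1, 3, 3, 1, 2, 2, 1, 3, 3, 1, 3, 4, 5, 5, 5, 4, 6, 6, 6, 4, 5]) (.leaf 203 19 [3, 1, 2, 2, 1, 2, 1, 3, 5, 5, 4, 6, 6, 4, 5, 4, 6, 4, 5, 4, 6, 6, 4, 5, 5, 2, 2, 1, 3, 3, 1, 2, 1, 3, 1, 2, 1, 2, 2, 1, 3, 1, 3, 1]))) (.node 2422 (.leaf 216 16 [3, 1, 3, 1, 2, 1, 3, 3, 1, 3, 1, 6, 4, 5, 5, 4, 6, 2, 2, 1, 2, 1, 3, 3, 1, 3, 1, 3, 3, 1, 2, 2, 1]) (.node 2423 (.leaf 220 30 [5, 5, 5, 4, 6, 4, 5, 5, 4, 6, 6, 4, 5, 3, 3, 1, 2, 1, 3, 3, 1, 2, 1, 2, 2, 1, 2, 1, 2, 1, 2, 1, 2, 2, 1, 2, 1, 3, 1, 3, 4, 6, 4]) (.leaf 227 11 [1, 2, 2, 1, 3, 1, 2, 1, 2, 1, 3, 1, 3, 1, 3, 1, 4, 5, 5, 5, 4, 6, 6, 4, 2, 2, 1, 2, 2, 1, 3, 1, 3, 1, 3])))))) (.node 2435 (.node 2429 (.node 2426 (.node 2425 (.leaf 249 8 [2, 1, 2, 1, 2, 1, 2, 2, 1, 3, 3, 1, 3, 3, 1, 2, 1, 2, 1, 6, 4, 5, 4, 6, 6, 4, 5, 4, 6, 6, 4, 1, 2, 2, 1, 2, 2, 1, 2]) (.leaf 252 5 [2, 2, 1, 3, 3, 1, 2, 2, 1, 3, 3, 1, 2, 2, 1, 3, 3, 1, 3, 1, 3, 1, 4, 5, 5, 5, 4, 6, 6, 4, 5, 4, 6, 4, 5, 5, 5, 4, 6, 1, 2, 1, 2, 1])) (.node 2427 (.leaf 260 12 [2, 2, 1, 3, 3, 1, 2, 1, 2, 1, 3, 1, 3, 1, 3, 3, 4, 5, 4, 6, 6, 4, 5, 4, 6, 4, 3, 3, 1, 3, 1, 3, 3, 1, 2, 1, 2, 1]) (.node 2428 (.leaf 295 7 [1, 3, 3, 1, 3, 1, 2, 1, 3, 3, 1, 2, 1, 3, 1, 2, 1, 3, 1, 2, 2, 6, 4, 5, 4, 6, 6, 4, 5, 4, 5, 1, 2, 2, 1, 2, 1, 3]) (.leaf 321 19 [1, 2, 1, 2, 1, 3, 1, 2, 1, 4, 6, 4, 5, 4, 6, 6, 4, 5, 4, 6, 6, 6, 4, 6, 2, 1, 3, 1, 2, 2, 1, 2, 1, 3, 3, 1, 2, 1, 2, 1, 3, 1, 3])))) (.node 2432 (.node 2430 (.leaf 332 28 [4, 6, 4, 5, 4, 6, 4, 5, 4, 6, 6, 6, 4, 5, 4, 2, 2, 1, 3, 1, 2, 1, 3, 1, 3, 1, 3, 1, 2, 2, 1, 3, 1, 3, 1, 2, 1, 3, 1, 2, 1, 2, 2]) (.node 2431 (.leaf 332 2 [1, 3, 1, 2, 1, 3, 1, 3, 1, 3, 1, 2, 2, 1, 3, 1, 3, 1, 2, 1, 3, 1, 2, 1, 2, 2, 4, 6, 4, 5, 4, 6, 4, 5, 4, 6, 6, 6, 4, 5, 4, 2, 2]) (.leaf 342 18 [2, 1, 2, 1, 3, 1, 3, 1, 2, 2, 4, 6, 4, 5, 4, 6, 4, 5, 4, 6, 6, 6, 4, 6, 2, 1, 3, 3, 1, 3, 3, 1, 2, 1, 2, 1, 2, 2, 1, 3, 1, 2]))) (.node 2433 (.leaf 348 12 [1, 2, 1, 3, 1, 2, 1, 3, 1, 3, 3, 1, 2, 1, 3, 1, 6, 6, 4, 5, 4, 6, 6, 6, 4, 5, 4, 6, 6, 6, 1, 3, 1, 3, 1, 3, 1, 2, 2, 1, 3, 3]) (.node 2434 (.leaf 348 9 [1, 3, 3, 1, 2, 1, 3, 1, 2, 1, 3, 1, 3, 3, 1, 2, 1, 3, 1, 6, 6, 4, 5, 4, 6, 6, 6, 4, 5, 4, 6, 6, 6, 1, 3, 1, 3, 1, 3, 1, 2, 2]) (.leaf 356 3 [1, 3, 1, 3, 1, 3, 1, 2, 1, 3, 3, 1, 3, 3, 1, 2, 1, 3, 1, 3, 1, 2, 1, 2, 2, 6, 4, 5, 4, 6, 4, 5, 4, 6, 6, 6, 1, 2, 2]))))) (.node 2440 (.node 2437 (.node 2436 (.leaf 357 23 [2, 1, 2, 1, 3, 6, 6, 6, 4, 5, 4, 6, 6, 6, 4, 5, 4, 6, 6, 4, 5, 2, 1, 2, 2, 1, 2, 1, 3, 1, 2, 2, 1, 2, 2, 1, 2, 2, 1, 3, 1, 2, 1, 2]) (.leaf 362 15 [2, 1, 3, 1, 2, 1, 2, 2, 1, 3, 3, 1, 3, 5, 5, 5, 4, 6, 6, 4, 5, 4, 6, 4, 5, 5, 1, 3, 1, 2, 1, 2, 2, 1, 2, 1, 2, 1, 3, 1, 2])) (.node 2438 (.leaf 372 0 [1, 2, 2, 1, 3, 3, 1, 2, 1, 3, 3, 1, 3, 1, 2, 1, 3, 3, 1, 2, 1, 3, 1, 3, 3, 1, 2, 1, 6, 4, 6, 6, 6, 4, 6]) (.node 2439 (.leaf 376 17 [3, 1, 3, 3, 1, 2, 1, 3, 1, 2, 1, 6, 4, 5, 5, 4, 6, 6, 6, 1, 3, 1, 3, 1, 3, 1, 3, 3, 1, 2, 2, 1, 2, 1, 3, 1]) (.leaf 378 8 [1, 3, 1, 2, 1, 2, 1, 3, 1, 3, 3, 1, 2, 1, 2, 1, 2, 1, 3, 3, 4, 6, 4, 5, 5, 5, 4, 6, 6, 6, 4, 5, 4, 6, 3, 3, 1, 3, 3, 1, 3, 3])))) (.node 2443 (.node 2441 (.leaf 17 16 [3, 1, 2, 2, 1, 4, 5, 5, 4, 6, 6, 4, 5, 4, 6, 6, 6, 4, 5, 5, 1, 2, 1, 3, 3, 1, 2, 2, 1, 2, 1, 3, 1, 3, 3, 1]) (.node 2442 (.leaf 24 19 [1, 3, 1, 5, 5, 5, 5, 4, 6, 4, 5, 5, 1, 2, 1, 3, 1, 3, 3, 1, 3, 3, 1, 3, 1, 2, 1, 2, 1, 3, 3]) (.leaf 26 20 [1, 3, 4, 5, 4, 6, 4, 5, 5, 4, 6, 4, 5, 5, 5, 4, 6, 4, 5, 2, 2, 1, 2, 2, 1, 2, 1, 3, 1, 2, 1, 3, 1, 3, 1, 2, 2, 1, 3]))) (.node 2444 (.leaf 49 11 [3, 1, 3, 1, 3, 1, 2, 1, 2, 1, 2, 1, 3, 5, 5, 4, 6, 4, 5, 4, 6, 4, 5, 4, 6, 4, 2, 1, 2, 1, 3, 3, 1, 2, 2, 1, 3]) (.node 2445 (.leaf 54 5 [3, 1, 2, 1, 2, 1, 2, 2, 1, 2, 1, 3, 1, 2, 1, 2, 1, 3, 3, 5, 5, 4, 6, 4, 5, 4, 6, 4, 5, 5, 4, 6, 4, 1, 2, 2, 1, 3]) (.leaf 97 40 [6, 2, 1, 3, 1, 3, 1, 2, 1, 2, 2, 1, 3, 1, 2, 1, 3, 3, 1, 3, 1, 2, 1, 2, 1, 3, 4, 6, 4, 5, 5, 4, 6, 6, 4, 5, 4, 6, 6, 6, 4])))))))))) (.node 2621 (.node 2533 (.node 2489 (.node 2467 (.node 2456 (.node 2451 (.node 2448 (.node 2447 (.leaf 111 12 [2, 1, 2, 1, 3, 1, 3, 3, 1, 3, 3, 1, 2, 1, 4, 6, 4, 5, 5, 5, 5, 4, 6, 4, 5, 5, 5, 4, 6, 1, 2, 2, 1, 2, 1, 2, 1, 3, 1, 3, 1]) (.leaf 113 23 [3, 1, 3, 4, 6, 4, 5, 5, 5, 4, 6, 6, 6, 4, 5, 5, 5, 2, 2, 1, 3, 1, 2, 1, 3, 1, 2, 1, 3, 1, 2, 2, 1, 2, 2, 1, 3, 3, 1, 3])) (.node 2449 (.leaf 119 16 [1, 3, 1, 3, 1, 3, 1, 3, 3, 1, 4, 6, 6, 4, 5, 5, 5, 4, 5, 1, 3, 3, 1, 3, 1, 2, 2, 1, 2, 1, 2, 2, 1, 3, 3]) (.node 2450 (.leaf 120 5 [3, 3, 1, 3, 1, 3, 1, 2, 1, 3, 1, 3, 1, 3, 1, 3, 3, 1, 2, 1, 3, 4, 6, 4, 6, 6, 6, 4, 5, 5, 1, 3, 1, 3, 1]) (.leaf 128 12 [1, 2, 1, 3, 1, 2, 1, 3, 3, 1, 2, 1, 2, 2, 5, 4, 5, 5, 5, 4, 6, 4, 5, 5, 5, 4, 6, 4, 5, 2, 1, 3, 3, 1, 2, 1, 2, 1, 2, 1, 3])))) (.node 2453 (.node 2452 (.leaf 136 9 [3, 1, 2, 1, 2, 1, 2, 2, 1, 2, 2, 1, 3, 3, 1, 3, 3, 4, 5, 4, 6, 6, 4, 5, 5, 4, 6, 4, 5, 5, 5, 4, 6, 6, 2, 1, 2, 1, 3, 1, 2, 1, 3]) (.leaf 147 11 [2, 2, 1, 3, 1, 3, 1, 2, 1, 2, 1, 2, 1, 3, 3, 5, 5, 4, 6, 4, 5, 5, 4, 6, 6, 4, 5, 2, 2, 1, 3, 1, 3, 3, 1, 3, 3, 1])) (.node 2454 (.leaf 147 3 [3, 1, 3, 3, 1, 3, 3, 1, 2, 2, 1, 3, 1, 3, 1, 2, 1, 2, 1, 2, 1, 3, 3, 5, 5, 4, 6, 4, 5, 5, 4, 6, 6, 4, 5, 2, 2, 1]) (.node 2455 (.leaf 147 16 [3, 1, 2, 1, 2, 1, 2, 1, 3, 3, 5, 5, 4, 6, 4, 5, 5, 4, 6, 6, 4, 5, 2, 2, 1, 3, 1, 3, 3, 1, 3, 3, 1, 2, 2, 1, 3, 1]) (.leaf 154 14 [2, 1, 3, 1, 3, 1, 2, 1, 3, 1, 2, 2, 4, 5, 4, 5, 5, 5, 4, 6, 4, 5, 5, 5, 4, 6, 6, 6, 2, 1, 2, 2, 1, 3, 1, 2, 1, 2, 1, 2, 1, 2]))))) (.node 2461 (.node 2458 (.node 2457 (.leaf 155 19 [1, 3, 3, 1, 3, 1, 2, 1, 6, 4, 5, 5, 4, 6, 4, 5, 5, 5, 4, 6, 4, 5, 5, 4, 1, 2, 1, 3, 1, 2, 2, 1, 3, 1, 2, 2, 1, 2, 2, 1, 3, 1, 2]) (.leaf 168 11 [1, 3, 1, 3, 1, 2, 1, 3, 3, 1, 3, 1, 3, 1, 3, 1, 5, 4, 6, 4, 5, 5, 5, 4, 6, 4, 5, 5, 4, 1, 2, 1, 3, 3, 1, 3, 1, 2, 1, 3])) (.node 2459 (.leaf 168 14 [3, 1, 2, 1, 3, 3, 1, 3, 1, 3, 1, 3, 1, 5, 4, 6, 4, 5, 5, 5, 4, 6, 4, 5, 5, 4, 1, 2, 1, 3, 3, 1, 3, 1, 2, 1, 3, 1, 3, 1]) (.node 2460 (.leaf 202 1 [3, 1, 2, 2, 1, 2, 1, 2, 2, 1, 2, 2, 1, 3, 3, 1, 2, 1, 2, 2, 1, 2, 1, 2, 2, 1, 5, 5, 5, 5, 4, 6, 4, 5, 5, 5, 4, 6, 4, 5, 5, 5, 1]) (.leaf 202 15 [3, 1, 2, 1, 2, 2, 1, 2, 1, 2, 2, 1, 5, 5, 5, 5, 4, 6, 4, 5, 5, 5, 4, 6, 4, 5, 5, 5, 1, 3, 1, 2, 2, 1, 2, 1, 2, 2, 1, 2, 2, 1, 3])))) (.node 2464 (.node 2462 (.leaf 208 5 [1, 3, 1, 3, 3, 1, 2, 2, 1, 2, 2, 1, 2, 1, 2, 2, 1, 2, 1, 3, 1, 3, 5, 5, 4, 6, 4, 5, 5, 4, 6, 4, 5, 5, 5, 4, 5, 3, 3, 1, 3, 3]) (.node 2463 (.leaf 211 9 [1, 2, 1, 2, 2, 1, 2, 2, 1, 2, 2, 1, 2, 1, 2, 1, 3, 1, 5, 5, 4, 6, 4, 5, 5, 4, 6, 4, 5, 4, 6, 4, 5, 1, 3, 1, 2, 1, 3, 3, 1, 3]) (.leaf 219 1 [1, 2, 2, 1, 2, 1, 3, 1, 2, 1, 2, 1, 2, 2, 1, 2, 2, 1, 3, 3, 1, 3, 1, 3, 3, 1, 5, 4, 5, 5, 5, 4, 6, 4, 5, 5, 5, 4, 2]))) (.node 2465 (.leaf 232 5 [1, 2, 1, 3, 1, 2, 2, 1, 2, 1, 3, 1, 2, 1, 2, 2, 1, 3, 1, 3, 3, 1, 6, 6, 4, 5, 5, 5, 4, 6, 6, 6, 4, 5, 5, 5, 1, 3, 1, 3, 3]) (.node 2466 (.leaf 235 12 [1, 2, 1, 3, 1, 2, 2, 1, 3, 1, 3, 1, 2, 1, 3, 4, 6, 6, 6, 4, 5, 5, 5, 4, 5, 2, 2, 1, 3, 1, 3, 1, 2, 1, 2, 1, 2]) (.leaf 243 9 [1, 2, 2, 1, 2, 1, 2, 2, 1, 2, 1, 3, 3, 1, 2, 1, 2, 1, 4, 6, 4, 5, 5, 5, 4, 6, 4, 5, 5, 4, 6, 2, 2, 1, 2, 1, 3, 1, 3, 3])))))) (.node 2478 (.node 2472 (.node 2469 (.node 2468 (.leaf 248 5 [1, 2, 1, 2, 1, 3, 3, 1, 2, 1, 3, 3, 1, 2, 1, 2, 2, 1, 2, 1, 2, 1, 5, 5, 5, 5, 4, 6, 4, 5, 5, 5, 4, 6, 4, 5, 5, 4, 2, 2, 1, 3, 3]) (.leaf 251 18 [3, 3, 1, 2, 1, 2, 1, 3, 1, 5, 5, 4, 6, 4, 5, 5, 5, 4, 6, 4, 5, 5, 4, 6, 6, 2, 1, 2, 1, 2, 1, 3, 1, 2, 1, 3, 3, 1, 2, 2, 1, 2, 1])) (.node 2470 (.leaf 258 22 [3, 1, 3, 1, 3, 3, 6, 4, 5, 5, 5, 5, 4, 6, 4, 5, 5, 5, 4, 6, 2, 1, 3, 3, 1, 3, 1, 2, 1, 2, 1, 2, 1, 2, 1, 2, 1, 3, 1, 3, 3, 1]) (.node 2471 (.leaf 276 6 [3, 3, 1, 2, 2, 1, 2, 2, 1, 2, 2, 1, 2, 2, 1, 3, 1, 3, 3, 1, 3, 1, 6, 6, 6, 4, 5, 5, 5, 4, 6, 6, 6, 4, 5, 5, 5, 1, 2, 1, 2, 2, 1]) (.leaf 281 11 [3, 3, 1, 2, 1, 3, 3, 1, 2, 2, 1, 2, 1, 3, 1, 3, 1, 6, 6, 4, 5, 5, 4, 6, 4, 5, 5, 5, 4, 6, 6, 6, 4, 2, 1, 3, 3, 1, 3, 3, 1, 3, 3, 1])))) (.node 2475 (.node 2473 (.leaf 296 18 [1, 3, 3, 1, 2, 1, 3, 1, 2, 1, 6, 4, 5, 4, 6, 4, 5, 4, 6, 4, 5, 5, 4, 6, 1, 2, 1, 3, 3, 1, 2, 1, 2, 2, 1, 3, 1, 3, 1, 2, 1, 3]) (.node 2474 (.leaf 298 27 [1, 4, 5, 5, 5, 4, 6, 6, 4, 5, 1, 3, 3, 1, 3, 1, 3, 3, 1, 3, 3, 1, 2, 1, 3, 3, 1, 2, 1, 3, 1, 3, 1, 2, 1, 3, 3]) (.leaf 313 7 [1, 2, 2, 1, 3, 3, 1, 3, 1, 3, 3, 1, 3, 1, 2, 2, 1, 3, 1, 3, 1, 5, 5, 5, 4, 6, 4, 5, 5, 4, 6, 6, 4, 5, 3, 3, 1, 2, 2, 1, 3]))) (.node 2476 (.leaf 315 12 [3, 1, 2, 1, 2, 1, 2, 1, 2, 2, 1, 2, 1, 2, 1, 3, 6, 4, 5, 5, 4, 6, 4, 5, 5, 4, 6, 4, 6, 2, 2, 1, 3, 1, 3, 1, 2, 1, 3, 3, 1]) (.node 2477 (.leaf 319 4 [3, 1, 2, 1, 3, 1, 2, 1, 3, 3, 1, 3, 1, 2, 2, 1, 3, 1, 2, 1, 3, 1, 3, 3, 4, 6, 6, 6, 4, 5, 5, 5, 4, 6, 4, 5, 5, 4, 6, 6, 1, 2, 2, 1]) (.leaf 324 27 [2, 5, 5, 5, 5, 4, 6, 4, 5, 5, 5, 4, 2, 2, 1, 2, 2, 1, 2, 1, 2, 1, 2, 2, 1, 3, 1, 3, 1, 3, 1, 2, 2, 1, 2, 1, 2, 1, 2]))))) (.node 2483 (.node 2480 (.node 2479 (.leaf 324 12 [1, 3, 1, 3, 1, 3, 1, 2, 2, 1, 2, 1, 2, 1, 2, 2, 5, 5, 5, 5, 4, 6, 4, 5, 5, 5, 4, 2, 2, 1, 2, 2, 1, 2, 1, 2, 1, 2, 2]) (.leaf 334 10 [3, 1, 2, 2, 1, 3, 3, 1, 2, 1, 2, 1, 2, 2, 1, 3, 1, 3, 4, 5, 5, 4, 6, 4, 5, 4, 6, 4, 5, 4, 3, 3, 1, 2, 1, 2, 1, 2, 1, 3])) (.node 2481 (.leaf 334 6 [1, 2, 1, 3, 3, 1, 2, 2, 1, 3, 3, 1, 2, 1, 2, 1, 2, 2, 1, 3, 1, 3, 4, 5, 5, 4, 6, 4, 5, 4, 6, 4, 5, 4, 3, 3, 1, 2, 1, 2]) (.node 2482 (.leaf 373 15 [1, 2, 2, 1, 2, 2, 1, 3, 3, 1, 3, 3, 1, 4, 6, 6, 6, 4, 5, 5, 5, 4, 6, 4, 5, 5, 5, 4, 1, 3, 3, 1, 3, 1, 3, 1, 3, 1, 2, 1, 2, 1, 3]) (.leaf 394 12 [2, 1, 2, 1, 2, 2, 1, 3, 1, 3, 1, 3, 1, 3, 3, 1, 3, 5, 4, 5, 5, 5, 4, 6, 4, 5, 5, 5, 4, 6, 4, 5, 2, 2, 1, 3, 1, 2, 2, 1, 2, 2, 1, 2])))) (.node 2486 (.node 2484 (.leaf 394 19 [3, 1, 3, 1, 3, 1, 3, 3, 1, 3, 5, 4, 5, 5, 5, 4, 6, 4, 5, 5, 5, 4, 6, 4, 5, 2, 2, 1, 3, 1, 2, 2, 1, 2, 2, 1, 2, 2, 1, 2, 1, 2, 2, 1]) (.node 2485 (.leaf 57 33 [5, 5, 2, 2, 1, 3, 3, 1, 3, 1, 3, 1, 3, 1, 2, 1, 3, 1, 3, 1, 3, 3, 1, 3, 3, 1, 6, 6, 6, 4, 5, 4, 6, 6, 4]) (.leaf 317 30 [6, 4, 5, 4, 6, 6, 6, 4, 5, 5, 1, 3, 1, 2, 1, 2, 1, 2, 1, 3, 3, 1, 3, 1, 2, 1, 3, 3, 1, 2, 1, 2, 2, 1, 3, 3, 1, 3, 4, 6]))) (.node 2487 (.leaf 92 1 [1, 2, 1, 3, 1, 2, 1, 2, 1, 2, 1, 2, 1, 3, 1, 2, 2, 1, 2, 1, 3, 1, 3, 3, 6, 4, 6, 6, 6, 6, 4, 2]) (.node 2488 (.leaf 173 0 [2, 1, 2, 2, 1, 2, 1, 2, 2, 1, 3, 1, 2, 2, 1, 3, 1, 3, 3, 1, 2, 2, 1, 2, 1, 3, 1, 5, 4, 6, 4, 5, 4, 6, 4, 5, 4, 6, 4, 5, 4, 6, 6]) (.leaf 193 5 [1, 3, 3, 1, 3, 1, 2, 1, 2, 1, 2, 1, 2, 1, 3, 1, 3, 3, 1, 2, 2, 1, 4, 6, 4, 5, 4, 6, 6, 4, 5, 5, 5, 4, 1, 2, 1, 3, 3]))))))) (.node 2511 (.node 2500 (.node 2494 (.node 2491 (.node 2490 (.leaf 279 18 [2, 1, 2, 1, 3, 1, 2, 1, 3, 1, 5, 5, 4, 6, 6, 6, 4, 5, 4, 6, 6, 6, 4, 5, 4, 6, 1, 3, 1, 3, 1, 2, 2, 1, 2, 2, 1, 3, 1, 2, 1, 2, 2, 1]) (.leaf 284 31 [5, 5, 5, 4, 6, 6, 1, 3, 1, 3, 1, 2, 1, 3, 1, 2, 2, 1, 3, 1, 2, 2, 1, 3, 3, 1, 2, 1, 3, 3, 1, 3, 1, 3, 4, 6, 4])) (.node 2492 (.leaf 289 31 [6, 6, 6, 4, 5, 4, 1, 3, 1, 3, 1, 3, 3, 1, 3, 1, 2, 1, 2, 2, 1, 3, 1, 2, 1, 2, 2, 1, 3, 3, 1, 3, 1, 3, 6, 4, 6]) (.node 2493 (.leaf 309 30 [5, 4, 6, 4, 5, 4, 6, 6, 6, 4, 6, 3, 3, 1, 2, 2, 1, 3, 1, 2, 1, 2, 2, 1, 2, 1, 2, 2, 1, 3, 3, 1, 2, 2, 1, 3, 3, 1, 3, 6, 4]) (.leaf 8 1 [3, 3, 1, 3, 3, 1, 3, 3, 1, 3, 3, 1, 3, 3, 1, 3, 3, 1, 3, 3, 1, 3, 3, 1, 3, 3, 1, 3, 3, 1])))) (.node 2497 (.node 2495 (.leaf 59 11 [1, 2, 1, 3, 3, 1, 2, 2, 1, 2, 1, 3, 3, 5, 5, 4, 6, 6, 6, 4, 2, 1, 2, 1, 3, 1, 3, 3, 1, 3, 3]) (.node 2496 (.leaf 84 17 [2, 1, 2, 2, 1, 2, 1, 3, 5, 4, 5, 5, 5, 5, 4, 6, 6, 6, 4, 2, 2, 1, 3, 3, 1, 2, 2, 1, 3, 1, 2, 1, 3, 1, 3, 1]) (.leaf 240 33 [6, 4, 5, 4, 6, 6, 4, 5, 5, 5, 2, 2, 1, 2, 1, 2, 2, 1, 3, 1, 3, 3, 1, 2, 1, 3, 1, 3, 1, 3, 1, 2, 2, 1, 3, 1, 3, 6, 6, 4, 5, 5, 4]))) (.node 2498 (.leaf 71 21 [1, 3, 1, 3, 6, 6, 6, 4, 5, 4, 6, 6, 4, 5, 5, 5, 2, 1, 2, 1, 2, 1, 3, 1, 2, 1, 2, 2, 1, 3, 3, 1, 3, 3, 1, 2, 2]) (.node 2499 (.leaf 168 0 [1, 2, 1, 3, 3, 1, 3, 1, 2, 1, 3, 1, 3, 1, 3, 1, 2, 1, 3, 3, 1, 3, 1, 3, 1, 3, 1, 5, 4, 6, 4, 5, 5, 5, 4, 6, 4, 5, 5, 4]) (.leaf 5 18 [1, 2, 1, 2, 1, 2, 1, 2, 1, 2, 1, 2, 1, 2, 1, 2, 1, 2, 1, 2, 1, 2, 1, 2, 1, 2, 1, 2, 1, 2, 1, 2, 1, 2, 1, 2, 1, 2]))))) (.node 2505 (.node 2502 (.node 2501 (.leaf 71 36 [5, 2, 1, 2, 1, 2, 1, 3, 1, 2, 1, 2, 2, 1, 3, 3, 1, 3, 3, 1, 2, 2, 1, 3, 1, 3, 6, 6, 6, 4, 5, 4, 6, 6, 4, 5, 5]) (.leaf 384 5 [1, 3, 1, 2, 1, 3, 1, 2, 1, 3, 1, 2, 1, 2, 1, 3, 3, 1, 3, 1, 2, 2, 1, 6, 6, 6, 4, 5, 5, 5, 4, 6, 4, 2, 1, 3, 1, 2])) (.node 2503 (.leaf 71 2 [2, 1, 2, 1, 3, 1, 2, 1, 2, 2, 1, 3, 3, 1, 3, 3, 1, 2, 2, 1, 3, 1, 3, 6, 6, 6, 4, 5, 4, 6, 6, 4, 5, 5, 5, 2, 1]) (.node 2504 (.leaf 330 15 [1, 3, 3, 1, 3, 1, 2, 1, 2, 1, 3, 3, 1, 6, 4, 5, 5, 5, 4, 6, 4, 5, 5, 5, 2, 1, 2, 1, 3, 1, 2, 1, 3, 1, 2, 1, 3, 1, 3]) (.leaf 389 24 [1, 2, 1, 3, 4, 5, 4, 6, 6, 4, 5, 4, 6, 4, 5, 4, 6, 4, 2, 1, 3, 3, 1, 3, 1, 2, 1, 3, 1, 3, 1, 2, 1, 2, 2, 1, 2, 1, 3, 1, 3, 3])))) (.node 2508 (.node 2506 (.leaf 10 12 [1, 3, 3, 3, 1, 3, 3, 3, 1, 3, 3, 3, 1, 3, 3, 3, 1, 3, 3, 3, 1, 3, 3, 3, 1, 3, 3, 3, 1, 3, 3, 3, 1, 3, 3, 3, 1, 3, 3, 3]) (.node 2507 (.leaf 226 30 [4, 6, 4, 5, 5, 5, 2, 2, 1, 2, 2, 1, 3, 1, 3, 3, 1, 3, 1, 2, 1, 2, 1, 2, 2, 1, 2, 2, 1, 2, 1, 3, 3, 6, 4, 5]) (.leaf 246 16 [3, 1, 3, 1, 3, 3, 1, 3, 1, 3, 3, 6, 6, 6, 4, 5, 4, 6, 6, 4, 5, 4, 6, 4, 1, 2, 1, 2, 2, 1, 2, 2, 1, 2, 1, 2, 1, 2, 1, 3]))) (.node 2509 (.leaf 97 25 [4, 6, 4, 5, 5, 4, 6, 6, 4, 5, 4, 6, 6, 6, 4, 6, 2, 1, 3, 1, 3, 1, 2, 1, 2, 2, 1, 3, 1, 2, 1, 3, 3, 1, 3, 1, 2, 1, 2, 1, 3]) (.node 2510 (.leaf 262 30 [6, 6, 4, 5, 4, 6, 4, 2, 1, 3, 3, 1, 3, 3, 1, 2, 2, 1, 3, 3, 1, 3, 1, 3, 1, 2, 1, 2, 1, 2, 2, 1, 2, 1, 3, 5, 4]) (.leaf 193 17 [2, 1, 3, 1, 3, 3, 1, 2, 2, 1, 4, 6, 4, 5, 4, 6, 6, 4, 5, 5, 5, 4, 1, 2, 1, 3, 3, 1, 3, 3, 1, 3, 1, 2, 1, 2, 1, 2, 1])))))) (.node 2522 (.node 2516 (.node 2513 (.node 2512 (.leaf 289 9 [1, 2, 1, 2, 2, 1, 3, 1, 2, 1, 2, 2, 1, 3, 3, 1, 3, 1, 3, 6, 4, 6, 6, 6, 6, 4, 5, 4, 1, 3, 1, 3, 1, 3, 3, 1, 3]) (.leaf 84 6 [2, 2, 1, 3, 1, 2, 1, 3, 1, 3, 1, 2, 1, 2, 2, 1, 2, 1, 3, 5, 4, 5, 5, 5, 5, 4, 6, 6, 6, 4, 2, 2, 1, 3, 3, 1])) (.node 2514 (.leaf 195 6 [2, 1, 2, 1, 3, 1, 3, 1, 3, 3, 1, 3, 1, 2, 1, 2, 1, 2, 1, 2, 1, 6, 4, 5, 4, 6, 6, 4, 5, 4, 6, 4, 5, 1, 2, 1, 3, 1, 2]) (.node 2515 (.leaf 196 6 [1, 2, 1, 3, 3, 1, 2, 2, 1, 3, 1, 2, 1, 2, 2, 1, 2, 1, 2, 1, 3, 5, 4, 5, 5, 5, 4, 6, 4, 5, 5, 4, 6, 3, 3, 1, 2, 1, 3]) (.leaf 233 29 [6, 6, 4, 5, 4, 6, 6, 2, 1, 2, 1, 3, 1, 3, 1, 2, 1, 3, 1, 2, 1, 2, 2, 1, 2, 1, 2, 1, 2, 2, 1, 2, 1, 3, 5, 4])))) (.node 2519 (.node 2517 (.leaf 309 23 [1, 3, 3, 1, 3, 6, 4, 5, 4, 6, 4, 5, 4, 6, 6, 6, 4, 6, 3, 3, 1, 2, 2, 1, 3, 1, 2, 1, 2, 2, 1, 2, 1, 2, 2, 1, 3, 3, 1, 2, 2]) (.node 2518 (.leaf 70 11 [3, 1, 2, 1, 3, 1, 2, 1, 3, 1, 2, 1, 2, 1, 6, 4, 5, 5, 5, 4, 5, 1, 2, 1, 2, 1, 3, 1, 2, 1, 3, 1]) (.leaf 266 36 [6, 2, 1, 2, 1, 2, 1, 3, 1, 2, 1, 2, 1, 2, 2, 1, 3, 1, 3, 3, 1, 2, 1, 2, 1, 3, 1, 3, 3, 6, 6, 4, 5, 5, 5, 4, 6]))) (.node 2520 (.leaf 345 16 [2, 1, 2, 1, 2, 1, 3, 3, 1, 3, 1, 3, 6, 4, 5, 5, 5, 5, 4, 6, 6, 6, 4, 6, 2, 1, 2, 1, 2, 1, 3, 1, 3, 1, 3, 1, 3, 1, 2, 1]) (.node 2521 (.leaf 5 7 [2, 1, 2, 1, 2, 1, 2, 1, 2, 1, 2, 1, 2, 1, 2, 1, 2, 1, 2, 1, 2, 1, 2, 1, 2, 1, 2, 1, 2, 1, 2, 1, 2, 1, 2, 1, 2, 1]) (.leaf 58 3 [3, 1, 2, 1, 3, 3, 1, 2, 2, 1, 2, 2, 1, 3, 1, 3, 3, 1, 3, 3, 1, 4, 6, 4, 5, 5, 5, 4, 6, 6, 4, 1, 3, 1]))))) (.node 2527 (.node 2524 (.node 2523 (.leaf 121 36 [6, 4, 5, 2, 1, 2, 1, 2, 2, 1, 2, 1, 3, 1, 3, 1, 2, 2, 1, 2, 1, 3, 1, 3, 3, 1, 3, 3, 1, 6, 4, 5, 5, 5, 4, 6, 4, 5, 4]) (.leaf 135 16 [1, 2, 1, 2, 2, 1, 2, 1, 2, 1, 4, 6, 4, 5, 5, 5, 4, 6, 6, 6, 4, 5, 4, 1, 3, 1, 2, 2, 1, 2, 1, 3, 1, 2, 2, 1, 2, 1, 2])) (.node 2525 (.leaf 145 29 [5, 5, 4, 6, 4, 5, 4, 6, 2, 1, 3, 3, 1, 2, 2, 1, 3, 1, 3, 1, 2, 1, 3, 3, 1, 3, 3, 1, 3, 1, 3, 1, 2, 1, 5, 4, 5]) (.node 2526 (.leaf 231 40 [5, 3, 3, 1, 3, 1, 2, 2, 1, 2, 1, 2, 1, 3, 1, 2, 1, 2, 1, 2, 2, 1, 3, 3, 1, 3, 1, 3, 4, 5, 5, 5, 4, 6, 4, 5, 4, 6, 6, 4, 5]) (.leaf 320 10 [2, 1, 3, 3, 1, 3, 1, 3, 1, 2, 1, 2, 2, 1, 2, 2, 1, 3, 6, 4, 5, 5, 5, 5, 4, 6, 4, 5, 5, 5, 4, 6, 1, 3, 3, 1, 3, 3, 1, 3, 1, 2])))) (.node 2530 (.node 2528 (.leaf 379 32 [5, 5, 4, 6, 3, 3, 1, 2, 1, 2, 1, 3, 1, 2, 1, 3, 1, 2, 2, 1, 2, 1, 2, 1, 2, 1, 2, 1, 2, 1, 3, 1, 4, 6, 4, 5]) (.node 2529 (.leaf 213 25 [1, 3, 5, 4, 5, 5, 5, 5, 4, 5, 1, 3, 1, 3, 3, 1, 3, 3, 1, 3, 1, 3, 1, 2, 1, 3, 1, 3, 1, 3, 3, 1, 3, 1, 3]) (.leaf 38 16 [2, 2, 1, 3, 1, 3, 3, 4, 5, 5, 5, 4, 6, 6, 4, 5, 5, 4, 1, 3, 1, 3, 1, 2, 1, 2, 1, 3, 1, 2, 2, 1, 3, 1]))) (.node 2531 (.leaf 47 9 [1, 2, 2, 1, 3, 3, 1, 3, 1, 2, 1, 2, 2, 1, 5, 5, 5, 4, 6, 6, 4, 2, 2, 1, 2, 1, 3, 1, 2, 2]) (.node 2532 (.leaf 174 6 [2, 1, 3, 3, 1, 2, 2, 1, 3, 3, 1, 2, 1, 2, 1, 2, 1, 2, 1, 3, 1, 5, 5, 5, 5, 4, 3, 3, 1, 3, 1, 2]) (.leaf 267 21 [2, 2, 1, 2, 2, 1, 3, 4, 5, 5, 4, 6, 1, 3, 1, 2, 1, 2, 1, 3, 3, 1, 2, 2, 1, 2, 2, 1, 2, 1, 2, 2, 1])))))))) (.node 2577 (.node 2555 (.node 2544 (.node 2538 (.node 2535 (.node 2534 (.leaf 295 17 [1, 2, 1, 3, 1, 2, 1, 3, 1, 2, 2, 6, 4, 5, 4, 6, 6, 4, 5, 4, 5, 1, 2, 2, 1, 2, 1, 3, 1, 3, 3, 1, 3, 1, 2, 1, 3, 3]) (.leaf 27 4 [2, 1, 3, 3, 1, 3, 1, 2, 1, 3, 1, 2, 2, 1, 2, 1, 2, 2, 4, 6, 4, 5, 5, 4, 6, 4, 5, 5, 4, 1, 2, 1, 2])) (.node 2536 (.leaf 51 2 [1, 3, 1, 3, 3, 1, 2, 2, 1, 3, 1, 2, 1, 3, 1, 3, 1, 3, 3, 1, 2, 2, 5, 4, 6, 6, 6, 6, 4, 6, 1, 2]) (.node 2537 (.leaf 104 21 [2, 1, 2, 1, 6, 6, 4, 5, 4, 6, 4, 5, 5, 4, 6, 4, 1, 3, 1, 2, 1, 2, 1, 3, 1, 3, 3, 1, 2, 2, 1, 3, 3, 1, 3, 1, 2]) (.leaf 185 40 [4, 1, 3, 3, 1, 3, 3, 1, 2, 1, 2, 2, 1, 2, 2, 1, 2, 1, 3, 1, 3, 1, 2, 1, 3, 1, 3, 1, 5, 5, 4, 6, 4, 5, 5, 4, 6, 4, 5, 5, 5])))) (.node 2541 (.node 2539 (.leaf 206 32 [6, 4, 6, 2, 1, 3, 1, 3, 1, 3, 3, 1, 2, 1, 3, 1, 2, 1, 2, 2, 1, 3, 1, 3, 3, 1, 3, 1, 3, 3, 6, 4, 5, 5, 4]) (.node 2540 (.leaf 229 27 [4, 6, 6, 4, 5, 4, 6, 4, 5, 5, 4, 6, 4, 5, 5, 5, 2, 1, 2, 2, 1, 2, 1, 3, 1, 3, 1, 2, 1, 2, 1, 3, 1, 2, 1, 2, 1, 2, 2, 1, 2, 2, 1]) (.leaf 305 28 [4, 6, 4, 5, 5, 4, 6, 4, 5, 5, 4, 6, 1, 3, 1, 3, 3, 1, 2, 2, 1, 3, 1, 3, 3, 1, 2, 1, 2, 1, 2, 1, 2, 1, 2, 2, 1, 3, 3, 1]))) (.node 2542 (.leaf 340 40 [6, 1, 3, 1, 3, 3, 1, 3, 3, 1, 2, 2, 1, 3, 3, 1, 2, 2, 1, 3, 1, 2, 1, 2, 1, 3, 1, 3, 3, 6, 6, 4, 5, 5, 4, 6, 4, 5, 5, 5, 4]) (.node 2543 (.leaf 352 27 [3, 4, 6, 4, 5, 5, 4, 6, 4, 5, 5, 4, 6, 4, 5, 1, 3, 1, 3, 1, 3, 1, 2, 2, 1, 3, 1, 3, 3, 1, 3, 1, 2, 1, 3, 1, 2, 1, 2, 2, 1, 3]) (.leaf 372 4 [3, 3, 1, 2, 1, 3, 3, 1, 3, 1, 2, 1, 3, 3, 1, 2, 1, 3, 1, 3, 3, 1, 2, 1, 6, 4, 6, 6, 6, 4, 6, 1, 2, 2, 1]))))) (.node 2549 (.node 2546 (.node 2545 (.leaf 377 25 [2, 2, 1, 5, 4, 6, 6, 4, 5, 4, 6, 4, 5, 5, 4, 6, 6, 1, 2, 2, 1, 3, 1, 2, 1, 3, 3, 1, 3, 3, 1, 2, 1, 2, 2, 1, 2, 1, 3, 1, 2, 1]) (.leaf 108 22 [1, 2, 2, 4, 5, 4, 6, 4, 5, 5, 4, 6, 4, 5, 5, 5, 4, 2, 2, 1, 3, 1, 3, 3, 1, 2, 2, 1, 2, 2, 1, 2, 1, 3, 3, 1, 3, 1, 2])) (.node 2547 (.leaf 179 21 [3, 1, 3, 1, 2, 1, 5, 4, 5, 5, 5, 4, 6, 6, 6, 4, 3, 3, 1, 2, 1, 2, 1, 3, 1, 2, 1, 2, 2, 1, 3, 3, 1, 2, 2, 1, 3]) (.node 2548 (.leaf 72 0 [2, 2, 1, 2, 1, 3, 1, 2, 1, 2, 2, 1, 2, 1, 2, 1, 2, 1, 2, 1, 2, 2, 1, 3, 1, 6, 6, 6, 4, 5, 4, 6, 6, 4, 5]) (.leaf 229 10 [1, 2, 1, 2, 1, 3, 1, 2, 1, 2, 1, 2, 2, 1, 2, 2, 1, 4, 6, 6, 4, 5, 4, 6, 4, 5, 5, 4, 6, 4, 5, 5, 5, 2, 1, 2, 2, 1, 2, 1, 3, 1, 3])))) (.node 2552 (.node 2550 (.leaf 282 12 [1, 3, 1, 3, 3, 1, 2, 1, 3, 3, 1, 2, 1, 3, 1, 3, 6, 6, 6, 4, 5, 5, 5, 4, 6, 1, 2, 1, 2, 1, 3, 3, 1, 2, 1, 3, 3]) (.node 2551 (.leaf 356 11 [1, 3, 3, 1, 3, 3, 1, 2, 1, 3, 1, 3, 1, 2, 1, 2, 2, 6, 4, 5, 4, 6, 4, 5, 4, 6, 6, 6, 1, 2, 2, 1, 3, 1, 3, 1, 3, 1, 2]) (.leaf 121 7 [2, 1, 3, 1, 3, 1, 2, 2, 1, 2, 1, 3, 1, 3, 3, 1, 3, 3, 1, 6, 4, 5, 5, 5, 4, 6, 4, 5, 4, 6, 4, 5, 2, 1, 2, 1, 2, 2, 1]))) (.node 2553 (.leaf 129 32 [6, 4, 5, 5, 1, 2, 1, 3, 1, 2, 1, 2, 2, 1, 3, 1, 2, 2, 1, 3, 1, 2, 1, 2, 2, 1, 2, 1, 3, 3, 5, 5, 5, 4, 6, 6]) (.node 2554 (.leaf 145 18 [3, 1, 3, 1, 3, 1, 2, 1, 5, 4, 5, 5, 5, 4, 6, 4, 5, 4, 6, 2, 1, 3, 3, 1, 2, 2, 1, 3, 1, 3, 1, 2, 1, 3, 3, 1, 3]) (.leaf 269 34 [5, 4, 6, 4, 5, 5, 4, 6, 4, 2, 1, 3, 1, 2, 1, 2, 2, 1, 3, 1, 3, 1, 2, 1, 2, 2, 1, 3, 1, 2, 1, 3, 3, 1, 2, 1, 3, 5, 5, 4, 6, 6, 4])))))) (.node 2566 (.node 2560 (.node 2557 (.node 2556 (.leaf 385 20 [1, 2, 1, 2, 1, 3, 3, 1, 6, 6, 4, 5, 5, 4, 2, 2, 1, 3, 3, 1, 3, 3, 1, 2, 2, 1, 3, 1, 3, 3, 1, 3, 1, 2]) (.leaf 130 9 [1, 2, 1, 2, 1, 3, 1, 3, 1, 3, 1, 2, 1, 3, 1, 3, 1, 6, 6, 4, 5, 5, 5, 4, 2, 2, 1, 2, 1, 2, 1, 3, 3])) (.node 2558 (.leaf 162 26 [2, 5, 4, 5, 5, 5, 4, 6, 4, 5, 5, 4, 6, 4, 5, 1, 2, 2, 1, 2, 2, 1, 3, 1, 3, 1, 3, 1, 2, 2, 1, 2, 2, 1, 2, 1, 2, 1, 3, 1, 2]) (.node 2559 (.leaf 172 22 [1, 3, 3, 1, 3, 4, 6, 6, 4, 5, 4, 6, 4, 1, 3, 3, 1, 3, 1, 2, 1, 2, 2, 1, 2, 1, 2, 2, 1, 2, 1, 2, 1, 2, 2]) (.leaf 186 6 [1, 2, 1, 3, 1, 2, 2, 1, 2, 1, 2, 2, 1, 3, 1, 2, 1, 2, 2, 1, 3, 6, 4, 5, 5, 4, 6, 6, 4, 5, 5, 5, 4, 2, 1, 3, 1, 3, 3])))) (.node 2563 (.node 2561 (.leaf 395 42 [6, 4, 1, 3, 1, 3, 1, 2, 1, 3, 3, 1, 3, 1, 3, 3, 1, 2, 1, 2, 2, 1, 2, 1, 2, 2, 1, 2, 1, 3, 3, 6, 6, 6, 4, 5, 5, 5, 4, 6, 4, 5, 5, 4]) (.node 2562 (.leaf 35 29 [4, 6, 6, 4, 5, 2, 2, 1, 3, 3, 1, 3, 1, 2, 2, 1, 2, 1, 2, 1, 2, 1, 2, 1, 2, 2, 1, 3, 5, 4, 6, 4, 5, 5]) (.leaf 74 5 [2, 1, 3, 1, 2, 1, 2, 1, 3, 1, 2, 1, 2, 2, 1, 3, 3, 1, 3, 3, 5, 5, 4, 6, 6, 4, 2, 1, 3, 3, 1]))) (.node 2564 (.leaf 222 26 [1, 4, 5, 5, 5, 5, 4, 6, 4, 5, 5, 4, 6, 6, 4, 1, 2, 1, 3, 3, 1, 2, 2, 1, 3, 1, 3, 1, 2, 2, 1, 3, 1, 2, 1, 3, 3, 1, 2, 1, 3]) (.node 2565 (.leaf 153 31 [5, 5, 5, 4, 5, 1, 3, 1, 3, 1, 2, 2, 1, 2, 1, 2, 1, 2, 2, 1, 2, 1, 2, 2, 1, 2, 1, 3, 3, 1, 3, 4, 6, 6, 6, 4]) (.leaf 196 0 [3, 3, 1, 2, 1, 3, 1, 2, 1, 3, 3, 1, 2, 2, 1, 3, 1, 2, 1, 2, 2, 1, 2, 1, 2, 1, 3, 5, 4, 5, 5, 5, 4, 6, 4, 5, 5, 4, 6]))))) (.node 2571 (.node 2568 (.node 2567 (.leaf 305 12 [3, 1, 2, 1, 2, 1, 2, 1, 2, 1, 2, 2, 1, 3, 3, 1, 4, 6, 4, 5, 5, 4, 6, 4, 5, 5, 4, 6, 1, 3, 1, 3, 3, 1, 2, 2, 1, 3, 1, 3]) (.leaf 49 20 [1, 2, 1, 3, 5, 5, 4, 6, 4, 5, 4, 6, 4, 5, 4, 6, 4, 2, 1, 2, 1, 3, 3, 1, 2, 2, 1, 3, 3, 1, 3, 1, 3, 1, 2, 1, 2])) (.node 2569 (.leaf 110 2 [1, 2, 1, 2, 1, 2, 1, 3, 1, 2, 2, 1, 2, 1, 2, 2, 1, 2, 1, 3, 1, 3, 1, 5, 5, 5, 5, 4, 6, 6, 6, 4, 5, 4, 6, 2, 2]) (.node 2570 (.leaf 168 27 [5, 4, 6, 4, 5, 5, 5, 4, 6, 4, 5, 5, 4, 1, 2, 1, 3, 3, 1, 3, 1, 2, 1, 3, 1, 3, 1, 3, 1, 2, 1, 3, 3, 1, 3, 1, 3, 1, 3, 1]) (.leaf 282 22 [1, 2, 1, 3, 1, 3, 6, 6, 6, 4, 5, 5, 5, 4, 6, 1, 2, 1, 2, 1, 3, 3, 1, 2, 1, 3, 3, 1, 3, 1, 3, 3, 1, 2, 1, 3, 3])))) (.node 2574 (.node 2572 (.leaf 8 20 [3, 1, 3, 3, 1, 3, 3, 1, 3, 3, 1, 3, 3, 1, 3, 3, 1, 3, 3, 1, 3, 3, 1, 3, 3, 1, 3, 3, 1, 3]) (.node 2573 (.leaf 289 32 [6, 6, 4, 5, 4, 1, 3, 1, 3, 1, 3, 3, 1, 3, 1, 2, 1, 2, 2, 1, 3, 1, 2, 1, 2, 2, 1, 3, 3, 1, 3, 1, 3, 6, 4, 6, 6]) (.leaf 85 29 [5, 4, 6, 6, 6, 4, 5, 4, 6, 6, 6, 2, 2, 1, 2, 1, 3, 1, 3, 1, 3, 1, 3, 1, 3, 1, 2, 1, 3, 3, 1, 2, 2, 1, 2, 1, 6, 6, 6, 4]))) (.node 2575 (.leaf 250 27 [6, 4, 6, 6, 6, 4, 5, 4, 6, 6, 6, 4, 5, 4, 3, 3, 1, 3, 1, 2, 1, 2, 1, 2, 1, 2, 1, 2, 1, 3, 1, 2, 2, 1, 3, 1, 3, 1, 3, 3, 1]) (.node 2576 (.leaf 87 19 [1, 3, 1, 2, 2, 1, 5, 5, 4, 6, 4, 5, 5, 5, 4, 6, 4, 5, 5, 5, 1, 3, 3, 1, 2, 2, 1, 2, 2, 1, 3, 3, 1, 3, 1, 2, 2, 1, 2]) (.leaf 95 30 [6, 4, 5, 5, 1, 2, 2, 1, 2, 1, 2, 1, 2, 2, 1, 2, 1, 3, 1, 3, 3, 1, 3, 1, 3, 1, 3, 3, 1, 6, 6, 4, 5, 4]))))))) (.node 2599 (.node 2588 (.node 2582 (.node 2579 (.node 2578 (.leaf 107 26 [5, 5, 4, 6, 4, 5, 5, 4, 6, 2, 1, 2, 1, 3, 3, 1, 3, 3, 1, 2, 1, 2, 2, 1, 3, 1, 3, 3, 1, 3, 3, 1, 3, 3, 5]) (.leaf 181 11 [3, 1, 2, 1, 3, 3, 1, 2, 1, 3, 1, 3, 1, 3, 1, 3, 4, 5, 5, 4, 6, 4, 1, 3, 1, 2, 2, 1, 3, 1, 2, 1, 3])) (.node 2580 (.leaf 206 15 [2, 2, 1, 3, 1, 3, 3, 1, 3, 1, 3, 3, 6, 4, 5, 5, 4, 6, 4, 6, 2, 1, 3, 1, 3, 1, 3, 3, 1, 2, 1, 3, 1, 2, 1]) (.node 2581 (.leaf 270 6 [2, 2, 1, 2, 1, 2, 1, 3, 1, 3, 1, 2, 1, 2, 2, 1, 2, 1, 2, 2, 1, 3, 5, 5, 5, 5, 4, 6, 4, 5, 2, 1, 3, 1, 3, 1]) (.leaf 299 28 [6, 6, 4, 5, 4, 6, 4, 5, 5, 5, 4, 5, 1, 3, 1, 2, 1, 3, 1, 3, 3, 1, 2, 2, 1, 2, 2, 1, 3, 1, 2, 1, 3, 1, 2, 1, 2, 1, 2, 2])))) (.node 2585 (.node 2583 (.leaf 106 10 [2, 1, 2, 1, 3, 1, 3, 1, 3, 1, 2, 2, 1, 2, 2, 5, 4, 6, 6, 6, 6, 4, 2, 1, 3, 3, 1, 3, 1, 2, 1, 2]) (.node 2584 (.leaf 143 11 [1, 2, 1, 3, 3, 1, 3, 3, 1, 3, 3, 1, 3, 1, 3, 4, 6, 4, 5, 5, 5, 5, 4, 3, 3, 1, 2, 2, 1, 2, 2, 1, 3, 3]) (.leaf 181 19 [1, 3, 1, 3, 1, 3, 1, 3, 4, 5, 5, 4, 6, 4, 1, 3, 1, 2, 2, 1, 3, 1, 2, 1, 3, 3, 1, 2, 1, 3, 3, 1, 2]))) (.node 2586 (.leaf 165 41 [6, 2, 1, 3, 1, 3, 1, 3, 3, 1, 3, 1, 3, 3, 1, 2, 1, 2, 2, 1, 2, 1, 2, 2, 1, 2, 2, 1, 4, 5, 5, 4, 6, 4, 5, 5, 4, 6, 4, 5, 4, 6]) (.node 2587 (.leaf 270 24 [2, 2, 1, 3, 5, 5, 5, 5, 4, 6, 4, 5, 2, 1, 3, 1, 3, 1, 2, 2, 1, 2, 1, 2, 1, 3, 1, 3, 1, 2, 1, 2, 2, 1, 2, 1]) (.leaf 276 28 [6, 6, 6, 4, 5, 5, 5, 4, 6, 6, 6, 4, 5, 5, 5, 1, 2, 1, 2, 2, 1, 3, 3, 1, 2, 2, 1, 2, 2, 1, 2, 2, 1, 2, 2, 1, 3, 1, 3, 3, 1, 3, 1]))))) (.node 2593 (.node 2590 (.node 2589 (.leaf 18 28 [4, 2, 1, 3, 1, 2, 2, 1, 3, 1, 3, 1, 3, 1, 2, 1, 2, 2, 1, 3, 1, 3, 6, 6, 6, 4, 5, 5, 5]) (.leaf 282 36 [6, 1, 2, 1, 2, 1, 3, 3, 1, 2, 1, 3, 3, 1, 3, 1, 3, 3, 1, 2, 1, 3, 3, 1, 2, 1, 3, 1, 3, 6, 6, 6, 4, 5, 5, 5, 4])) (.node 2591 (.leaf 70 6 [1, 2, 1, 3, 1, 3, 1, 2, 1, 3, 1, 2, 1, 3, 1, 2, 1, 2, 1, 6, 4, 5, 5, 5, 4, 5, 1, 2, 1, 2, 1, 3]) (.node 2592 (.leaf 271 32 [4, 5, 4, 6, 4, 5, 4, 6, 6, 4, 5, 4, 2, 2, 1, 2, 1, 2, 1, 2, 1, 3, 1, 2, 1, 2, 1, 3, 1, 2, 1, 2, 2, 1, 3, 1, 2, 1, 3, 1, 4, 5, 4, 6]) (.leaf 301 19 [3, 3, 1, 2, 1, 3, 3, 1, 3, 5, 4, 6, 4, 5, 4, 6, 4, 5, 4, 6, 6, 4, 5, 5, 1, 3, 1, 3, 1, 3, 1, 2, 1, 3, 1, 2, 2, 1, 2, 2, 1, 3, 1])))) (.node 2596 (.node 2594 (.leaf 379 22 [2, 1, 2, 1, 3, 1, 4, 6, 4, 5, 5, 5, 4, 6, 3, 3, 1, 2, 1, 2, 1, 3, 1, 2, 1, 3, 1, 2, 2, 1, 2, 1, 2, 1, 2, 1]) (.node 2595 (.leaf 17 22 [5, 5, 4, 6, 6, 4, 5, 4, 6, 6, 6, 4, 5, 5, 1, 2, 1, 3, 3, 1, 2, 2, 1, 2, 1, 3, 1, 3, 3, 1, 3, 1, 2, 2, 1, 4]) (.leaf 134 36 [6, 4, 1, 2, 1, 2, 1, 3, 1, 3, 3, 1, 3, 1, 2, 1, 3, 1, 2, 1, 3, 3, 1, 2, 2, 1, 2, 2, 5, 4, 6, 4, 5, 4, 6, 4, 5, 4]))) (.node 2597 (.leaf 142 14 [3, 3, 1, 3, 1, 3, 1, 2, 1, 3, 1, 3, 4, 5, 4, 5, 5, 5, 5, 4, 2, 1, 3, 3, 1, 2, 1, 3, 1, 3, 1, 2, 2, 1]) (.node 2598 (.leaf 344 4 [3, 1, 2, 1, 3, 3, 1, 3, 3, 1, 2, 1, 2, 1, 3, 1, 3, 3, 1, 3, 3, 1, 3, 3, 4, 6, 6, 4, 5, 5, 4, 6, 6, 2, 2, 1, 3]) (.leaf 244 6 [2, 1, 2, 1, 3, 1, 2, 2, 1, 3, 3, 1, 3, 1, 3, 1, 2, 1, 2, 1, 3, 5, 4, 6, 4, 5, 5, 4, 6, 4, 5, 5, 4, 6, 4, 1, 2, 2, 1, 2, 1])))))) (.node 2610 (.node 2604 (.node 2601 (.node 2600 (.leaf 64 1 [2, 1, 2, 1, 2, 1, 3, 1, 2, 1, 2, 2, 1, 3, 3, 1, 2, 1, 3, 3, 1, 3, 3, 4, 6, 4, 5, 5, 4, 6, 6, 6, 4, 5, 4, 2]) (.leaf 108 26 [5, 4, 6, 4, 5, 5, 4, 6, 4, 5, 5, 5, 4, 2, 2, 1, 3, 1, 3, 3, 1, 2, 2, 1, 2, 2, 1, 2, 1, 3, 3, 1, 3, 1, 2, 1, 2, 2, 4])) (.node 2602 (.leaf 385 12 [3, 1, 3, 3, 1, 3, 1, 2, 1, 2, 1, 2, 1, 3, 3, 1, 6, 6, 4, 5, 5, 4, 2, 2, 1, 3, 3, 1, 3, 3, 1, 2, 2, 1]) (.node 2603 (.leaf 31 19 [3, 1, 3, 4, 6, 4, 5, 5, 5, 4, 6, 4, 5, 4, 2, 1, 2, 1, 2, 2, 1, 2, 2, 1, 2, 1, 2, 2, 1, 2, 2, 1, 3]) (.leaf 34 5 [1, 3, 1, 3, 1, 2, 1, 2, 1, 2, 2, 1, 2, 1, 3, 1, 2, 2, 4, 5, 5, 5, 4, 6, 4, 5, 4, 2, 2, 1, 2, 2])))) (.node 2607 (.node 2605 (.leaf 376 26 [2, 1, 6, 4, 5, 5, 4, 6, 6, 6, 1, 3, 1, 3, 1, 3, 1, 3, 3, 1, 2, 2, 1, 2, 1, 3, 1, 3, 1, 3, 3, 1, 2, 1, 3, 1]) (.node 2606 (.leaf 381 31 [4, 6, 4, 5, 5, 4, 6, 6, 4, 2, 2, 1, 2, 1, 2, 1, 3, 1, 3, 3, 1, 3, 1, 2, 1, 3, 3, 1, 2, 2, 1, 2, 1, 3, 1, 3, 3, 4, 5, 5]) (.leaf 261 39 [6, 1, 3, 1, 3, 1, 2, 2, 1, 2, 1, 2, 1, 2, 1, 2, 1, 2, 2, 1, 2, 1, 3, 1, 2, 1, 2, 1, 3, 4, 6, 4, 5, 5, 5, 4, 6, 6, 6, 4]))) (.node 2608 (.leaf 312 7 [3, 3, 1, 3, 1, 2, 2, 1, 2, 1, 2, 1, 2, 2, 1, 3, 1, 2, 2, 1, 3, 5, 4, 6, 4, 5, 4, 6, 4, 5, 5, 4, 6, 4, 2, 1, 2, 1, 3, 3, 1]) (.node 2609 (.leaf 369 27 [3, 4, 5, 5, 4, 6, 4, 2, 1, 2, 2, 1, 2, 1, 2, 1, 2, 1, 2, 2, 1, 2, 1, 3, 1, 3, 3, 1, 3, 3, 1, 3, 1, 3]) (.leaf 44 31 [5, 5, 5, 4, 3, 3, 1, 3, 3, 1, 2, 2, 1, 2, 1, 2, 1, 3, 1, 3, 3, 1, 2, 1, 2, 2, 1, 4, 6, 4, 5, 4, 6, 6, 4]))))) (.node 2615 (.node 2612 (.node 2611 (.leaf 184 41 [6, 6, 2, 1, 3, 1, 3, 1, 3, 1, 2, 1, 2, 2, 1, 2, 2, 1, 3, 3, 1, 3, 1, 2, 2, 1, 3, 3, 1, 6, 6, 6, 4, 5, 5, 5, 4, 6, 4, 5, 5, 4, 6]) (.leaf 370 21 [3, 1, 3, 3, 1, 2, 2, 4, 5, 4, 6, 6, 4, 5, 5, 5, 2, 2, 1, 3, 3, 1, 3, 1, 2, 2, 1, 3, 1, 3, 1, 3, 1, 3, 1, 3, 1])) (.node 2613 (.leaf 9 11 [2, 1, 2, 2, 2, 1, 2, 2, 2, 1, 2, 2, 2, 1, 2, 2, 2, 1, 2, 2, 2, 1, 2, 2, 2, 1, 2, 2, 2, 1, 2, 2, 2, 1, 2, 2, 2, 1, 2, 2]) (.node 2614 (.leaf 9 35 [2, 1, 2, 2, 2, 1, 2, 2, 2, 1, 2, 2, 2, 1, 2, 2, 2, 1, 2, 2, 2, 1, 2, 2, 2, 1, 2, 2, 2, 1, 2, 2, 2, 1, 2, 2, 2, 1, 2, 2]) (.leaf 99 16 [3, 1, 3, 1, 2, 1, 3, 1, 3, 6, 4, 5, 5, 4, 6, 4, 5, 4, 6, 4, 5, 5, 5, 4, 1, 2, 2, 1, 2, 2, 1, 3, 1, 3, 3, 1, 2, 1, 2, 1])))) (.node 2618 (.node 2616 (.leaf 206 14 [1, 2, 2, 1, 3, 1, 3, 3, 1, 3, 1, 3, 3, 6, 4, 5, 5, 4, 6, 4, 6, 2, 1, 3, 1, 3, 1, 3, 3, 1, 2, 1, 3, 1, 2]) (.node 2617 (.leaf 249 14 [2, 2, 1, 3, 3, 1, 3, 3, 1, 2, 1, 2, 1, 6, 4, 5, 4, 6, 6, 4, 5, 4, 6, 6, 4, 1, 2, 2, 1, 2, 2, 1, 2, 2, 1, 2, 1, 2, 1]) (.leaf 328 32 [4, 6, 4, 5, 4, 6, 6, 6, 4, 2, 1, 3, 1, 2, 1, 2, 1, 3, 3, 1, 2, 2, 1, 3, 1, 3, 3, 1, 3, 1, 3, 3, 1, 3, 1, 3, 1, 6, 6, 4, 5]))) (.node 2619 (.leaf 329 26 [1, 3, 4, 6, 6, 6, 4, 5, 4, 6, 6, 6, 1, 3, 1, 2, 2, 1, 2, 1, 2, 1, 3, 1, 2, 2, 1, 2, 1, 2, 1, 3, 3, 1, 3, 1, 3, 3]) (.node 2620 (.leaf 9 38 [2, 2, 1, 2, 2, 2, 1, 2, 2, 2, 1, 2, 2, 2, 1, 2, 2, 2, 1, 2, 2, 2, 1, 2, 2, 2, 1, 2, 2, 2, 1, 2, 2, 2, 1, 2, 2, 2, 1, 2]) (.leaf 153 1 [3, 1, 3, 1, 2, 2, 1, 2, 1, 2, 1, 2, 2, 1, 2, 1, 2, 2, 1, 2, 1, 3, 3, 1, 3, 4, 6, 6, 6, 4, 5, 5, 5, 4, 5, 1]))))))))) (.node 2708 (.node 2664 (.node 2642 (.node 2631 (.node 2626 (.node 2623 (.node 2622 (.leaf 209 25 [1, 3, 4, 5, 5, 4, 6, 4, 5, 5, 4, 6, 4, 5, 5, 2, 1, 2, 1, 3, 3, 1, 2, 1, 2, 2, 1, 2, 1, 2, 2, 1, 2, 2, 1, 2, 1, 3, 1, 3]) (.leaf 236 20 [3, 1, 2, 1, 3, 3, 1, 4, 6, 6, 4, 5, 4, 6, 6, 6, 4, 5, 5, 1, 3, 1, 3, 3, 1, 2, 1, 3, 1, 3, 3, 1, 2, 1, 2, 1, 3, 3, 1])) (.node 2624 (.leaf 90 36 [6, 4, 5, 1, 2, 2, 1, 2, 1, 3, 1, 2, 2, 1, 2, 1, 2, 2, 1, 3, 1, 3, 1, 2, 1, 2, 2, 1, 6, 6, 4, 5, 4, 6, 6, 4, 5, 5, 4]) (.node 2625 (.leaf 260 29 [5, 4, 6, 6, 4, 5, 4, 6, 4, 3, 3, 1, 3, 1, 3, 3, 1, 2, 1, 2, 1, 2, 2, 1, 3, 3, 1, 2, 1, 2, 1, 3, 1, 3, 1, 3, 3, 4]) (.leaf 262 9 [2, 1, 3, 3, 1, 3, 1, 3, 1, 2, 1, 2, 1, 2, 2, 1, 2, 1, 3, 5, 4, 6, 6, 4, 5, 4, 6, 4, 2, 1, 3, 3, 1, 3, 3, 1, 2])))) (.node 2628 (.node 2627 (.leaf 280 41 [5, 5, 2, 1, 3, 3, 1, 2, 2, 1, 2, 1, 2, 1, 3, 1, 3, 1, 2, 1, 3, 1, 2, 2, 1, 3, 1, 2, 1, 3, 6, 4, 5, 4, 6, 6, 4, 5, 5, 4, 6, 4, 5]) (.leaf 53 18 [2, 1, 3, 3, 1, 3, 5, 4, 5, 5, 5, 4, 6, 6, 4, 5, 4, 1, 2, 2, 1, 2, 1, 2, 2, 1, 2, 1, 2, 2, 1, 3, 1, 3, 1])) (.node 2629 (.leaf 80 22 [2, 2, 1, 5, 4, 6, 4, 5, 5, 4, 6, 3, 3, 1, 2, 1, 3, 1, 3, 1, 2, 1, 2, 2, 1, 2, 1, 3, 1, 2, 1, 3, 1]) (.node 2630 (.leaf 90 13 [2, 2, 1, 3, 1, 3, 1, 2, 1, 2, 2, 1, 6, 6, 4, 5, 4, 6, 6, 4, 5, 5, 4, 6, 4, 5, 1, 2, 2, 1, 2, 1, 3, 1, 2, 2, 1, 2, 1]) (.leaf 249 36 [6, 6, 4, 1, 2, 2, 1, 2, 2, 1, 2, 2, 1, 2, 1, 2, 1, 2, 2, 1, 3, 3, 1, 3, 3, 1, 2, 1, 2, 1, 6, 4, 5, 4, 6, 6, 4, 5, 4]))))) (.node 2636 (.node 2633 (.node 2632 (.leaf 266 18 [3, 1, 2, 1, 2, 1, 3, 1, 3, 3, 6, 6, 4, 5, 5, 5, 4, 6, 6, 2, 1, 2, 1, 2, 1, 3, 1, 2, 1, 2, 1, 2, 2, 1, 3, 1, 3]) (.leaf 380 13 [1, 2, 1, 3, 3, 1, 2, 1, 2, 1, 3, 1, 3, 1, 3, 4, 6, 4, 5, 5, 4, 6, 4, 5, 4, 6, 4, 1, 3, 3, 1, 3, 1, 2, 1, 3, 3, 1, 3, 3])) (.node 2634 (.leaf 384 26 [2, 1, 6, 6, 6, 4, 5, 5, 5, 4, 6, 4, 2, 1, 3, 1, 2, 1, 3, 1, 2, 1, 3, 1, 2, 1, 3, 1, 2, 1, 2, 1, 3, 3, 1, 3, 1, 2]) (.node 2635 (.leaf 385 14 [3, 3, 1, 3, 1, 2, 1, 2, 1, 2, 1, 3, 3, 1, 6, 6, 4, 5, 5, 4, 2, 2, 1, 3, 3, 1, 3, 3, 1, 2, 2, 1, 3, 1]) (.leaf 21 26 [6, 4, 5, 4, 6, 6, 6, 4, 6, 2, 1, 2, 1, 2, 1, 3, 3, 1, 2, 2, 1, 2, 2, 1, 2, 1, 3, 3, 1, 2, 2, 4, 5, 4, 6])))) (.node 2639 (.node 2637 (.leaf 41 4 [2, 2, 1, 2, 1, 3, 1, 2, 1, 3, 1, 2, 1, 3, 1, 2, 2, 1, 3, 5, 4, 6, 6, 4, 5, 4, 6, 6, 6, 4, 5, 4, 6, 6, 4, 5, 5, 1, 2, 2, 1]) (.node 2638 (.leaf 123 3 [3, 1, 3, 3, 1, 2, 1, 2, 2, 1, 3, 1, 2, 1, 3, 1, 2, 2, 1, 2, 1, 3, 1, 5, 4, 6, 4, 5, 4, 6, 6, 4, 5, 4, 6, 6, 6, 4, 6, 2, 2, 1]) (.leaf 355 3 [3, 1, 2, 1, 3, 3, 1, 2, 1, 2, 2, 1, 2, 2, 1, 2, 1, 3, 3, 1, 2, 1, 3, 3, 1, 5, 4, 6, 6, 4, 5, 4, 6, 6, 6, 4, 5, 4, 6, 2, 1, 3]))) (.node 2640 (.leaf 130 21 [1, 3, 1, 3, 1, 6, 6, 4, 5, 5, 5, 4, 2, 2, 1, 2, 1, 2, 1, 3, 3, 1, 2, 1, 2, 1, 3, 1, 3, 1, 3, 1, 2]) (.node 2641 (.leaf 238 3 [1, 3, 1, 3, 3, 1, 3, 1, 3, 1, 2, 1, 2, 1, 2, 2, 1, 2, 1, 3, 1, 3, 3, 1, 4, 5, 4, 6, 6, 4, 5, 5, 4, 6, 6, 2, 1, 2]) (.leaf 117 14 [1, 3, 1, 2, 1, 3, 3, 1, 3, 3, 1, 3, 5, 5, 5, 5, 4, 6, 3, 3, 1, 2, 2, 1, 2, 1, 3, 1, 3, 3, 1, 2])))))) (.node 2653 (.node 2647 (.node 2644 (.node 2643 (.leaf 151 21 [2, 2, 1, 2, 2, 5, 5, 4, 6, 6, 4, 5, 2, 1, 3, 3, 1, 3, 3, 1, 3, 1, 2, 2, 1, 2, 2, 1, 2, 2, 1, 3, 1]) (.leaf 275 38 [4, 6, 3, 3, 1, 3, 3, 1, 2, 1, 3, 1, 2, 1, 2, 1, 2, 2, 1, 2, 2, 1, 2, 2, 1, 3, 1, 2, 1, 3, 4, 5, 4, 6, 4, 5, 4, 6, 6, 6])) (.node 2645 (.leaf 260 25 [1, 3, 3, 4, 5, 4, 6, 6, 4, 5, 4, 6, 4, 3, 3, 1, 3, 1, 3, 3, 1, 2, 1, 2, 1, 2, 2, 1, 3, 3, 1, 2, 1, 2, 1, 3, 1, 3]) (.node 2646 (.leaf 381 38 [6, 4, 2, 2, 1, 2, 1, 2, 1, 3, 1, 3, 3, 1, 3, 1, 2, 1, 3, 3, 1, 2, 2, 1, 2, 1, 3, 1, 3, 3, 4, 5, 5, 4, 6, 4, 5, 5, 4, 6]) (.leaf 31 14 [1, 2, 2, 1, 3, 3, 1, 3, 4, 6, 4, 5, 5, 5, 4, 6, 4, 5, 4, 2, 1, 2, 1, 2, 2, 1, 2, 2, 1, 2, 1, 2, 2])))) (.node 2650 (.node 2648 (.leaf 59 4 [3, 1, 3, 3, 1, 3, 3, 1, 2, 1, 3, 3, 1, 2, 2, 1, 2, 1, 3, 3, 5, 5, 4, 6, 6, 6, 4, 2, 1, 2, 1]) (.node 2649 (.leaf 277 11 [2, 1, 3, 1, 2, 1, 3, 1, 2, 1, 2, 1, 3, 3, 1, 2, 2, 5, 5, 4, 6, 6, 4, 5, 5, 1, 2, 2, 1, 2, 2, 1, 2, 1, 2, 1]) (.leaf 341 12 [2, 1, 3, 1, 3, 3, 1, 3, 1, 2, 1, 3, 3, 1, 3, 1, 4, 5, 4, 6, 4, 5, 4, 6, 4, 5, 4, 6, 4, 5, 5, 3, 3, 1, 2, 2, 1, 2, 1, 2, 2, 1, 2]))) (.node 2651 (.leaf 367 40 [5, 4, 1, 2, 1, 3, 3, 1, 2, 2, 1, 3, 3, 1, 2, 1, 2, 1, 2, 1, 3, 1, 3, 1, 3, 1, 3, 1, 2, 1, 4, 6, 4, 5, 5, 4, 6, 4, 5, 4, 6, 4]) (.node 2652 (.leaf 380 3 [1, 3, 1, 2, 1, 3, 3, 1, 3, 3, 1, 2, 1, 3, 3, 1, 2, 1, 2, 1, 3, 1, 3, 1, 3, 4, 6, 4, 5, 5, 4, 6, 4, 5, 4, 6, 4, 1, 3, 3]) (.leaf 390 10 [2, 1, 2, 1, 2, 1, 3, 3, 1, 2, 1, 3, 3, 1, 2, 1, 2, 2, 1, 5, 4, 6, 6, 6, 2, 1, 3, 1, 2, 2, 1, 3, 1, 2]))))) (.node 2658 (.node 2655 (.node 2654 (.leaf 23 19 [2, 1, 3, 4, 5, 4, 5, 5, 5, 4, 6, 4, 5, 1, 2, 1, 3, 1, 3, 3, 1, 3, 1, 2, 1, 3, 3, 1, 2, 1, 3, 1]) (.leaf 119 31 [5, 5, 4, 5, 1, 3, 3, 1, 3, 1, 2, 2, 1, 2, 1, 2, 2, 1, 3, 3, 1, 3, 1, 3, 1, 3, 1, 3, 3, 1, 4, 6, 6, 4, 5])) (.node 2656 (.leaf 130 6 [1, 3, 3, 1, 2, 1, 2, 1, 3, 1, 3, 1, 3, 1, 2, 1, 3, 1, 3, 1, 6, 6, 4, 5, 5, 5, 4, 2, 2, 1, 2, 1, 2]) (.node 2657 (.leaf 143 20 [3, 3, 1, 3, 1, 3, 4, 6, 4, 5, 5, 5, 5, 4, 3, 3, 1, 2, 2, 1, 2, 2, 1, 3, 3, 1, 2, 1, 3, 3, 1, 3, 3, 1]) (.leaf 143 14 [3, 3, 1, 3, 3, 1, 3, 3, 1, 3, 1, 3, 4, 6, 4, 5, 5, 5, 5, 4, 3, 3, 1, 2, 2, 1, 2, 2, 1, 3, 3, 1, 2, 1])))) (.node 2661 (.node 2659 (.leaf 145 35 [4, 6, 2, 1, 3, 3, 1, 2, 2, 1, 3, 1, 3, 1, 2, 1, 3, 3, 1, 3, 3, 1, 3, 1, 3, 1, 2, 1, 5, 4, 5, 5, 5, 4, 6, 4, 5]) (.node 2660 (.leaf 233 15 [2, 1, 2, 1, 2, 1, 2, 2, 1, 2, 1, 3, 5, 4, 6, 6, 4, 5, 4, 6, 6, 2, 1, 2, 1, 3, 1, 3, 1, 2, 1, 3, 1, 2, 1, 2]) (.leaf 233 24 [2, 1, 3, 5, 4, 6, 6, 4, 5, 4, 6, 6, 2, 1, 2, 1, 3, 1, 3, 1, 2, 1, 3, 1, 2, 1, 2, 2, 1, 2, 1, 2, 1, 2, 2, 1]))) (.node 2662 (.leaf 288 43 [5, 3, 3, 1, 2, 1, 3, 1, 3, 3, 1, 2, 1, 3, 1, 3, 1, 2, 2, 1, 3, 3, 1, 3, 3, 1, 3, 1, 3, 4, 6, 4, 5, 4, 6, 4, 5, 4, 6, 4, 5, 4, 6, 4]) (.node 2663 (.leaf 387 24 [1, 2, 2, 1, 4, 6, 4, 6, 6, 6, 6, 4, 5, 4, 2, 1, 2, 1, 3, 3, 1, 2, 2, 1, 2, 1, 2, 2, 1, 3, 1, 3, 1, 2, 2, 1, 3, 3]) (.leaf 35 19 [2, 2, 1, 3, 5, 4, 6, 4, 5, 5, 4, 6, 6, 4, 5, 2, 2, 1, 3, 3, 1, 3, 1, 2, 2, 1, 2, 1, 2, 1, 2, 1, 2, 1]))))))) (.node 2686 (.node 2675 (.node 2669 (.node 2666 (.node 2665 (.leaf 38 15 [1, 2, 2, 1, 3, 1, 3, 3, 4, 5, 5, 5, 4, 6, 6, 4, 5, 5, 4, 1, 3, 1, 3, 1, 2, 1, 2, 1, 3, 1, 2, 2, 1, 3]) (.leaf 179 10 [1, 2, 2, 1, 3, 3, 1, 2, 2, 1, 3, 3, 1, 3, 1, 2, 1, 5, 4, 5, 5, 5, 4, 6, 6, 6, 4, 3, 3, 1, 2, 1, 2, 1, 3, 1, 2])) (.node 2667 (.leaf 263 32 [4, 6, 6, 4, 5, 5, 4, 6, 3, 3, 1, 3, 3, 1, 3, 1, 3, 1, 3, 1, 2, 2, 1, 2, 1, 3, 1, 2, 1, 2, 1, 2, 2, 1, 2, 1, 4, 5, 5, 5]) (.node 2668 (.leaf 340 4 [3, 1, 3, 3, 1, 2, 2, 1, 3, 3, 1, 2, 2, 1, 3, 1, 2, 1, 2, 1, 3, 1, 3, 3, 6, 6, 4, 5, 5, 4, 6, 4, 5, 5, 5, 4, 6, 1, 3, 1, 3]) (.leaf 370 0 [2, 2, 1, 3, 3, 1, 3, 1, 2, 2, 1, 3, 1, 3, 1, 3, 1, 3, 1, 3, 1, 3, 1, 3, 3, 1, 2, 2, 4, 5, 4, 6, 6, 4, 5, 5, 5])))) (.node 2672 (.node 2670 (.leaf 390 0 [2, 1, 3, 1, 2, 2, 1, 3, 1, 2, 2, 1, 2, 1, 2, 1, 3, 3, 1, 2, 1, 3, 3, 1, 2, 1, 2, 2, 1, 5, 4, 6, 6, 6]) (.node 2671 (.leaf 6 31 [3, 1, 3, 1, 3, 1, 3, 1, 3, 1, 3, 1, 3, 1, 3, 1, 3, 1, 3, 1, 3, 1, 3, 1, 3, 1, 3, 1, 3, 1, 3, 1, 3, 1, 3, 1, 3, 1]) (.leaf 45 39 [6, 1, 2, 2, 1, 3, 1, 3, 3, 1, 2, 1, 2, 2, 1, 2, 1, 2, 2, 1, 2, 1, 2, 2, 4, 6, 6, 6, 4, 5, 5, 5, 4, 6, 4, 5, 5, 5, 4, 6]))) (.node 2673 (.leaf 166 24 [2, 1, 3, 5, 5, 4, 6, 6, 4, 5, 5, 2, 1, 2, 1, 2, 1, 2, 2, 1, 3, 1, 2, 1, 2, 1, 3, 3, 1, 2, 2, 1, 3, 1, 2]) (.node 2674 (.leaf 233 10 [3, 1, 2, 1, 2, 2, 1, 2, 1, 2, 1, 2, 2, 1, 2, 1, 3, 5, 4, 6, 6, 4, 5, 4, 6, 6, 2, 1, 2, 1, 3, 1, 3, 1, 2, 1]) (.leaf 267 7 [3, 3, 1, 2, 2, 1, 2, 2, 1, 2, 1, 2, 2, 1, 2, 2, 1, 2, 2, 1, 3, 4, 5, 5, 4, 6, 1, 3, 1, 2, 1, 2, 1]))))) (.node 2680 (.node 2677 (.node 2676 (.leaf 273 15 [2, 1, 2, 1, 2, 1, 2, 2, 1, 2, 1, 2, 2, 5, 5, 5, 5, 4, 6, 4, 5, 5, 5, 4, 6, 6, 1, 3, 3, 1, 2, 1, 3, 1, 2, 1, 3, 1, 2, 1, 2]) (.leaf 363 13 [3, 1, 3, 3, 1, 3, 1, 3, 3, 1, 2, 1, 3, 1, 3, 4, 6, 6, 4, 5, 4, 6, 4, 5, 4, 6, 4, 5, 4, 6, 4, 1, 3, 1, 3, 3, 1, 2, 2, 1, 2, 2, 1, 3])) (.node 2678 (.leaf 388 28 [5, 4, 6, 4, 5, 4, 6, 4, 5, 5, 4, 6, 4, 1, 3, 3, 1, 3, 1, 3, 3, 1, 2, 1, 2, 1, 2, 1, 3, 1, 3, 1, 3, 1, 3, 1, 3, 1, 3, 3, 1]) (.node 2679 (.leaf 69 13 [2, 1, 3, 1, 3, 1, 3, 3, 1, 3, 3, 5, 5, 4, 6, 4, 5, 4, 6, 4, 5, 4, 6, 6, 4, 5, 4, 3, 3, 1, 2, 1, 3, 1, 3, 3, 1, 2, 2, 1]) (.leaf 70 20 [1, 2, 1, 2, 1, 6, 4, 5, 5, 5, 4, 5, 1, 2, 1, 2, 1, 3, 1, 2, 1, 3, 1, 3, 1, 2, 1, 3, 1, 2, 1, 3])))) (.node 2683 (.node 2681 (.leaf 81 0 [2, 1, 2, 1, 3, 1, 3, 3, 1, 2, 1, 3, 1, 2, 1, 3, 1, 2, 2, 1, 2, 1, 3, 1, 3, 5, 4, 5, 5, 5, 4, 6, 6, 4, 5, 5, 4, 6]) (.node 2682 (.leaf 221 39 [5, 2, 1, 2, 1, 2, 1, 3, 3, 1, 2, 1, 3, 1, 2, 1, 3, 1, 2, 2, 1, 3, 1, 2, 2, 1, 3, 1, 4, 6, 4, 5, 5, 5, 4, 6, 6, 6, 4, 5]) (.leaf 276 42 [5, 1, 2, 1, 2, 2, 1, 3, 3, 1, 2, 2, 1, 2, 2, 1, 2, 2, 1, 2, 2, 1, 3, 1, 3, 3, 1, 3, 1, 6, 6, 6, 4, 5, 5, 5, 4, 6, 6, 6, 4, 5, 5]))) (.node 2684 (.leaf 51 29 [6, 4, 6, 1, 2, 1, 3, 1, 3, 3, 1, 2, 2, 1, 3, 1, 2, 1, 3, 1, 3, 1, 3, 3, 1, 2, 2, 5, 4, 6, 6, 6]) (.node 2685 (.leaf 76 5 [2, 1, 2, 1, 3, 3, 1, 2, 2, 1, 3, 1, 2, 2, 1, 2, 2, 1, 2, 2, 6, 4, 5, 4, 6, 6, 4, 5, 5, 4, 6, 1, 2, 1, 3, 1]) (.leaf 80 18 [2, 1, 3, 1, 2, 2, 1, 5, 4, 6, 4, 5, 5, 4, 6, 3, 3, 1, 2, 1, 3, 1, 3, 1, 2, 1, 2, 2, 1, 2, 1, 3, 1])))))) (.node 2697 (.node 2691 (.node 2688 (.node 2687 (.leaf 200 33 [5, 4, 6, 4, 5, 5, 4, 1, 2, 2, 1, 3, 1, 3, 1, 2, 2, 1, 2, 1, 2, 2, 1, 2, 1, 2, 1, 3, 3, 1, 3, 3, 1, 3, 5, 4, 6, 4, 5, 5]) (.leaf 208 41 [5, 3, 3, 1, 3, 3, 1, 3, 1, 3, 3, 1, 2, 2, 1, 2, 2, 1, 2, 1, 2, 2, 1, 2, 1, 3, 1, 3, 5, 5, 4, 6, 4, 5, 5, 4, 6, 4, 5, 5, 5, 4])) (.node 2689 (.leaf 311 8 [2, 1, 3, 3, 1, 2, 2, 1, 2, 1, 2, 2, 1, 3, 3, 1, 2, 1, 2, 2, 5, 4, 5, 5, 5, 4, 6, 4, 5, 5, 4, 2, 1, 3, 1, 2, 1, 3, 1]) (.node 2690 (.leaf 263 3 [3, 3, 1, 3, 1, 3, 1, 3, 1, 2, 2, 1, 2, 1, 3, 1, 2, 1, 2, 1, 2, 2, 1, 2, 1, 4, 5, 5, 5, 4, 6, 6, 4, 5, 5, 4, 6, 3, 3, 1]) (.leaf 365 2 [1, 2, 1, 2, 2, 1, 2, 2, 1, 2, 1, 2, 2, 1, 2, 2, 1, 2, 2, 1, 3, 1, 3, 1, 3, 1, 5, 4, 5, 5, 5, 5, 4, 6, 6, 6, 4, 5, 4, 2, 2])))) (.node 2694 (.node 2692 (.leaf 369 1 [1, 2, 2, 1, 2, 1, 2, 1, 2, 1, 2, 2, 1, 2, 1, 3, 1, 3, 3, 1, 3, 3, 1, 3, 1, 3, 3, 4, 5, 5, 4, 6, 4, 2]) (.node 2693 (.leaf 296 41 [6, 1, 2, 1, 3, 3, 1, 2, 1, 2, 2, 1, 3, 1, 3, 1, 2, 1, 3, 1, 3, 3, 1, 2, 1, 3, 1, 2, 1, 6, 4, 5, 4, 6, 4, 5, 4, 6, 4, 5, 5, 4]) (.leaf 329 9 [1, 3, 1, 2, 2, 1, 2, 1, 2, 1, 3, 3, 1, 3, 1, 3, 3, 1, 3, 4, 6, 6, 6, 4, 5, 4, 6, 6, 6, 1, 3, 1, 2, 2, 1, 2, 1, 2]))) (.node 2695 (.leaf 19 13 [2, 1, 3, 1, 3, 1, 2, 1, 4, 5, 4, 6, 6, 6, 4, 5, 5, 5, 4, 6, 4, 5, 5, 1, 3, 1, 2, 1, 2, 1, 3, 1, 2, 1, 3, 1]) (.node 2696 (.leaf 22 18 [2, 1, 3, 1, 5, 5, 4, 6, 4, 5, 4, 3, 3, 1, 2, 1, 2, 1, 2, 1, 2, 2, 1, 3, 1, 2, 2, 1, 2]) (.leaf 29 6 [3, 1, 2, 1, 3, 1, 2, 2, 1, 3, 1, 3, 3, 1, 2, 1, 4, 5, 4, 6, 6, 4, 5, 4, 6, 4, 5, 4, 6, 6, 4, 1, 3, 1, 2, 1, 3]))))) (.node 2702 (.node 2699 (.node 2698 (.leaf 36 1 [3, 1, 3, 1, 2, 1, 3, 1, 3, 1, 2, 2, 1, 3, 1, 2, 1, 3, 3, 1, 3, 3, 4, 5, 5, 5, 4, 6, 6, 6, 4, 5, 4, 6, 3]) (.leaf 38 8 [1, 3, 1, 2, 2, 1, 3, 1, 2, 2, 1, 3, 1, 3, 3, 4, 5, 5, 5, 4, 6, 6, 4, 5, 5, 4, 1, 3, 1, 3, 1, 2, 1, 2])) (.node 2700 (.leaf 54 7 [2, 1, 2, 1, 2, 2, 1, 2, 1, 3, 1, 2, 1, 2, 1, 3, 3, 5, 5, 4, 6, 4, 5, 4, 6, 4, 5, 5, 4, 6, 4, 1, 2, 2, 1, 3, 3, 1]) (.node 2701 (.leaf 58 2 [1, 3, 1, 2, 1, 3, 3, 1, 2, 2, 1, 2, 2, 1, 3, 1, 3, 3, 1, 3, 3, 1, 4, 6, 4, 5, 5, 5, 4, 6, 6, 4, 1, 3]) (.leaf 68 22 [3, 3, 4, 5, 4, 5, 5, 5, 5, 4, 5, 1, 2, 1, 2, 1, 2, 1, 3, 3, 1, 3, 1, 2, 2, 1, 3, 1, 2, 1, 2, 2, 1])))) (.node 2705 (.node 2703 (.leaf 69 9 [1, 2, 2, 1, 2, 1, 3, 1, 3, 1, 3, 3, 1, 3, 3, 5, 5, 4, 6, 4, 5, 4, 6, 4, 5, 4, 6, 6, 4, 5, 4, 3, 3, 1, 2, 1, 3, 1, 3, 3]) (.node 2704 (.leaf 76 7 [2, 1, 3, 3, 1, 2, 2, 1, 3, 1, 2, 2, 1, 2, 2, 1, 2, 2, 6, 4, 5, 4, 6, 6, 4, 5, 5, 4, 6, 1, 2, 1, 3, 1, 2, 1]) (.leaf 81 7 [3, 1, 2, 1, 3, 1, 2, 1, 3, 1, 2, 2, 1, 2, 1, 3, 1, 3, 5, 4, 5, 5, 5, 4, 6, 6, 4, 5, 5, 4, 6, 2, 1, 2, 1, 3, 1, 3]))) (.node 2706 (.leaf 83 17 [1, 2, 1, 2, 1, 2, 2, 1, 6, 6, 6, 4, 5, 5, 5, 4, 6, 1, 2, 1, 2, 1, 3, 1, 3, 1, 3, 3, 1, 2, 1, 2, 1, 3]) (.node 2707 (.leaf 104 26 [6, 4, 5, 4, 6, 4, 5, 5, 4, 6, 4, 1, 3, 1, 2, 1, 2, 1, 3, 1, 3, 3, 1, 2, 2, 1, 3, 3, 1, 3, 1, 2, 2, 1, 2, 1, 6]) (.leaf 113 9 [2, 1, 3, 1, 2, 2, 1, 2, 2, 1, 3, 3, 1, 3, 3, 1, 3, 4, 6, 4, 5, 5, 5, 4, 6, 6, 6, 4, 5, 5, 5, 2, 2, 1, 3, 1, 2, 1, 3, 1])))))))) (.node 2752 (.node 2730 (.node 2719 (.node 2713 (.node 2710 (.node 2709 (.leaf 121 23 [3, 3, 1, 6, 4, 5, 5, 5, 4, 6, 4, 5, 4, 6, 4, 5, 2, 1, 2, 1, 2, 2, 1, 2, 1, 3, 1, 3, 1, 2, 2, 1, 2, 1, 3, 1, 3, 3, 1]) (.leaf 126 21 [3, 3, 1, 3, 1, 6, 4, 5, 5, 4, 6, 4, 5, 5, 4, 6, 1, 3, 1, 2, 1, 2, 2, 1, 3, 3, 1, 2, 1, 3, 1, 2, 1, 2, 1, 2, 1])) (.node 2711 (.leaf 129 11 [1, 2, 2, 1, 3, 1, 2, 1, 2, 2, 1, 2, 1, 3, 3, 5, 5, 5, 4, 6, 6, 6, 4, 5, 5, 1, 2, 1, 3, 1, 2, 1, 2, 2, 1, 3]) (.node 2712 (.leaf 141 22 [3, 3, 1, 3, 5, 5, 4, 6, 4, 5, 4, 6, 4, 5, 4, 6, 4, 5, 4, 2, 2, 1, 2, 1, 3, 3, 1, 3, 1, 3, 1, 2, 1, 2, 1, 3, 1, 2, 1, 2, 1]) (.leaf 142 22 [1, 3, 1, 3, 4, 5, 4, 5, 5, 5, 5, 4, 2, 1, 3, 3, 1, 2, 1, 3, 1, 3, 1, 2, 2, 1, 3, 3, 1, 3, 1, 3, 1, 2])))) (.node 2716 (.node 2714 (.leaf 143 21 [3, 1, 3, 1, 3, 4, 6, 4, 5, 5, 5, 5, 4, 3, 3, 1, 2, 2, 1, 2, 2, 1, 3, 3, 1, 2, 1, 3, 3, 1, 3, 3, 1, 3]) (.node 2715 (.leaf 143 18 [3, 1, 3, 3, 1, 3, 1, 3, 4, 6, 4, 5, 5, 5, 5, 4, 3, 3, 1, 2, 2, 1, 2, 2, 1, 3, 3, 1, 2, 1, 3, 3, 1, 3]) (.leaf 151 8 [3, 1, 2, 2, 1, 2, 2, 1, 2, 2, 1, 3, 1, 2, 2, 1, 2, 2, 5, 5, 4, 6, 6, 4, 5, 2, 1, 3, 3, 1, 3, 3, 1]))) (.node 2717 (.leaf 152 41 [5, 1, 2, 2, 1, 3, 1, 3, 1, 2, 1, 3, 3, 1, 2, 1, 3, 3, 1, 2, 1, 2, 1, 2, 2, 1, 3, 5, 5, 5, 4, 6, 4, 5, 4, 6, 4, 5, 4, 6, 4, 5]) (.node 2718 (.leaf 160 27 [5, 4, 6, 6, 6, 4, 5, 5, 5, 4, 6, 4, 5, 5, 1, 2, 2, 1, 2, 1, 2, 1, 3, 3, 1, 3, 3, 1, 2, 1, 3, 1, 3, 1, 2, 1, 3, 3, 1, 2, 2]) (.leaf 169 25 [3, 3, 4, 6, 4, 5, 5, 4, 6, 4, 5, 5, 2, 2, 1, 3, 1, 3, 1, 2, 2, 1, 2, 1, 3, 1, 2, 1, 2, 1, 3, 1, 3, 3, 1, 2, 1]))))) (.node 2724 (.node 2721 (.node 2720 (.leaf 189 18 [3, 1, 2, 2, 1, 3, 3, 1, 3, 4, 5, 5, 5, 4, 6, 6, 6, 4, 5, 1, 3, 1, 2, 1, 3, 3, 1, 3, 1, 3, 1, 2, 1, 3, 3, 1, 3]) (.leaf 204 21 [1, 2, 1, 2, 1, 3, 5, 5, 4, 6, 4, 5, 4, 6, 4, 5, 4, 6, 4, 5, 5, 5, 1, 2, 1, 3, 1, 2, 1, 2, 2, 1, 2, 1, 2, 1, 3, 1, 3, 1, 3, 1, 3])) (.node 2722 (.leaf 206 10 [1, 3, 1, 2, 1, 2, 2, 1, 3, 1, 3, 3, 1, 3, 1, 3, 3, 6, 4, 5, 5, 4, 6, 4, 6, 2, 1, 3, 1, 3, 1, 3, 3, 1, 2]) (.node 2723 (.leaf 219 7 [3, 1, 2, 1, 2, 1, 2, 2, 1, 2, 2, 1, 3, 3, 1, 3, 1, 3, 3, 1, 5, 4, 5, 5, 5, 4, 6, 4, 5, 5, 5, 4, 2, 1, 2, 2, 1, 2, 1]) (.leaf 234 1 [1, 2, 1, 2, 2, 1, 3, 1, 2, 1, 3, 1, 2, 1, 3, 3, 1, 3, 1, 2, 1, 3, 3, 1, 3, 3, 5, 5, 4, 6, 4, 5, 4, 6, 4, 5, 4, 6, 6, 4, 5, 4, 2])))) (.node 2727 (.node 2725 (.leaf 235 22 [3, 1, 2, 1, 3, 4, 6, 6, 6, 4, 5, 5, 5, 4, 5, 2, 2, 1, 3, 1, 3, 1, 2, 1, 2, 1, 2, 1, 2, 1, 3, 1, 2, 2, 1, 3, 1]) (.node 2726 (.leaf 235 25 [1, 3, 4, 6, 6, 6, 4, 5, 5, 5, 4, 5, 2, 2, 1, 3, 1, 3, 1, 2, 1, 2, 1, 2, 1, 2, 1, 3, 1, 2, 2, 1, 3, 1, 3, 1, 2]) (.leaf 235 9 [2, 1, 2, 1, 2, 1, 3, 1, 2, 2, 1, 3, 1, 3, 1, 2, 1, 3, 4, 6, 6, 6, 4, 5, 5, 5, 4, 5, 2, 2, 1, 3, 1, 3, 1, 2, 1]))) (.node 2728 (.leaf 239 8 [2, 1, 2, 1, 2, 1, 3, 1, 3, 1, 3, 1, 3, 3, 1, 3, 1, 2, 1, 5, 4, 6, 4, 5, 4, 6, 4, 5, 4, 6, 4, 5, 4, 6, 1, 3, 1, 2, 1, 2, 2, 1]) (.node 2729 (.leaf 248 21 [2, 1, 2, 1, 2, 1, 5, 5, 5, 5, 4, 6, 4, 5, 5, 5, 4, 6, 4, 5, 5, 4, 2, 2, 1, 3, 3, 1, 2, 1, 2, 1, 3, 3, 1, 2, 1, 3, 3, 1, 2, 1, 2]) (.leaf 251 14 [2, 1, 2, 1, 3, 3, 1, 2, 1, 2, 1, 3, 1, 5, 5, 4, 6, 4, 5, 5, 5, 4, 6, 4, 5, 5, 4, 6, 6, 2, 1, 2, 1, 2, 1, 3, 1, 2, 1, 3, 3, 1, 2])))))) (.node 2741 (.node 2735 (.node 2732 (.node 2731 (.leaf 252 30 [5, 4, 6, 6, 4, 5, 4, 6, 4, 5, 5, 5, 4, 6, 1, 2, 1, 2, 1, 2, 2, 1, 3, 3, 1, 2, 2, 1, 3, 3, 1, 2, 2, 1, 3, 3, 1, 3, 1, 3, 1, 4, 5, 5]) (.leaf 255 10 [2, 1, 2, 1, 2, 1, 3, 3, 1, 3, 1, 2, 2, 1, 2, 1, 3, 5, 4, 6, 6, 4, 5, 4, 6, 4, 5, 4, 6, 6, 4, 1, 2, 2, 1, 3, 3, 1, 2, 1, 2])) (.node 2733 (.leaf 259 20 [3, 1, 3, 1, 3, 1, 2, 1, 6, 4, 5, 4, 6, 6, 6, 4, 6, 1, 2, 1, 2, 1, 2, 2, 1, 3, 1, 3, 1, 2, 2, 1, 2, 1, 3, 3, 1]) (.node 2734 (.leaf 267 18 [2, 2, 1, 2, 2, 1, 2, 2, 1, 3, 4, 5, 5, 4, 6, 1, 3, 1, 2, 1, 2, 1, 3, 3, 1, 2, 2, 1, 2, 2, 1, 2, 1]) (.leaf 277 10 [1, 2, 1, 3, 1, 2, 1, 3, 1, 2, 1, 2, 1, 3, 3, 1, 2, 2, 5, 5, 4, 6, 6, 4, 5, 5, 1, 2, 2, 1, 2, 2, 1, 2, 1, 2])))) (.node 2738 (.node 2736 (.leaf 290 27 [3, 5, 4, 6, 6, 6, 4, 5, 5, 5, 4, 1, 2, 1, 2, 2, 1, 3, 1, 3, 3, 1, 3, 1, 2, 2, 1, 2, 2, 1, 3, 3, 1, 3, 1, 3, 1, 3]) (.node 2737 (.leaf 299 19 [1, 3, 1, 2, 1, 2, 1, 2, 2, 6, 6, 4, 5, 4, 6, 4, 5, 5, 5, 4, 5, 1, 3, 1, 2, 1, 3, 1, 3, 3, 1, 2, 2, 1, 2, 2, 1, 3, 1, 2]) (.leaf 301 5 [3, 1, 2, 1, 3, 1, 2, 2, 1, 2, 2, 1, 3, 1, 3, 3, 1, 2, 1, 3, 3, 1, 3, 5, 4, 6, 4, 5, 4, 6, 4, 5, 4, 6, 6, 4, 5, 5, 1, 3, 1, 3, 1]))) (.node 2739 (.leaf 305 26 [3, 1, 4, 6, 4, 5, 5, 4, 6, 4, 5, 5, 4, 6, 1, 3, 1, 3, 3, 1, 2, 2, 1, 3, 1, 3, 3, 1, 2, 1, 2, 1, 2, 1, 2, 1, 2, 2, 1, 3]) (.node 2740 (.leaf 306 23 [1, 2, 2, 1, 3, 5, 5, 5, 5, 4, 6, 4, 5, 5, 4, 6, 6, 4, 5, 5, 1, 2, 1, 2, 1, 3, 3, 1, 2, 1, 2, 1, 2, 1, 2, 1, 2, 1, 2, 1, 2, 1, 3]) (.leaf 307 14 [1, 3, 3, 1, 3, 3, 1, 2, 1, 3, 3, 1, 3, 1, 6, 6, 4, 5, 5, 5, 4, 6, 6, 6, 4, 5, 5, 5, 4, 1, 2, 1, 3, 1, 3, 3, 1, 3, 1, 2, 2, 1, 2]))))) (.node 2746 (.node 2743 (.node 2742 (.leaf 308 19 [3, 1, 2, 1, 2, 1, 3, 3, 1, 4, 6, 4, 5, 5, 4, 6, 6, 6, 4, 6, 1, 2, 2, 1, 2, 2, 1, 3, 1, 3, 1, 2, 1, 3, 1, 2, 1, 3, 1]) (.leaf 337 3 [2, 2, 1, 2, 1, 3, 1, 2, 2, 1, 2, 1, 2, 1, 2, 2, 1, 3, 3, 1, 3, 3, 1, 3, 1, 5, 5, 4, 6, 4, 5, 4, 6, 4, 5, 5, 4, 6, 4, 5, 3, 3, 1])) (.node 2744 (.leaf 347 14 [1, 2, 1, 3, 3, 1, 3, 1, 2, 2, 1, 3, 3, 1, 5, 4, 6, 6, 6, 4, 5, 5, 5, 4, 5, 1, 3, 3, 1, 2, 1, 2, 2, 1, 3, 1, 2, 1, 2]) (.node 2745 (.leaf 347 28 [5, 4, 6, 6, 6, 4, 5, 5, 5, 4, 5, 1, 3, 3, 1, 2, 1, 2, 2, 1, 3, 1, 2, 1, 2, 1, 2, 1, 3, 3, 1, 3, 1, 2, 2, 1, 3, 3, 1]) (.leaf 359 28 [6, 6, 6, 4, 5, 4, 6, 6, 4, 5, 4, 6, 4, 5, 3, 3, 1, 3, 1, 2, 1, 3, 1, 2, 1, 2, 1, 2, 1, 2, 1, 3, 1, 3, 3, 1, 2, 2, 1, 2, 1, 3])))) (.node 2749 (.node 2747 (.leaf 370 15 [3, 1, 3, 1, 3, 1, 3, 1, 3, 3, 1, 2, 2, 4, 5, 4, 6, 6, 4, 5, 5, 5, 2, 2, 1, 3, 3, 1, 3, 1, 2, 2, 1, 3, 1, 3, 1]) (.node 2748 (.leaf 373 20 [2, 1, 3, 3, 1, 3, 3, 1, 4, 6, 6, 6, 4, 5, 5, 5, 4, 6, 4, 5, 5, 5, 4, 1, 3, 3, 1, 3, 1, 3, 1, 3, 1, 2, 1, 2, 1, 3, 1, 2, 2, 1, 2]) (.leaf 373 42 [4, 1, 3, 3, 1, 3, 1, 3, 1, 3, 1, 2, 1, 2, 1, 3, 1, 2, 2, 1, 2, 2, 1, 3, 3, 1, 3, 3, 1, 4, 6, 6, 6, 4, 5, 5, 5, 4, 6, 4, 5, 5, 5]))) (.node 2750 (.leaf 376 15 [3, 1, 3, 1, 3, 3, 1, 2, 1, 3, 1, 2, 1, 6, 4, 5, 5, 4, 6, 6, 6, 1, 3, 1, 3, 1, 3, 1, 3, 3, 1, 2, 2, 1, 2, 1]) (.node 2751 (.leaf 386 7 [2, 1, 3, 3, 1, 2, 1, 2, 1, 2, 1, 3, 1, 3, 3, 1, 2, 2, 1, 2, 2, 4, 5, 4, 6, 4, 5, 4, 6, 4, 5, 4, 6, 4, 5, 5, 4, 2, 2, 1, 2, 2, 1, 2]) (.leaf 13 9 [1, 2, 2, 1, 3, 3, 1, 2, 1, 4, 6, 4, 5, 4, 6, 6, 4, 5, 4, 5, 1, 3, 3, 1, 2, 1, 2, 1, 2]))))))) (.node 2774 (.node 2763 (.node 2757 (.node 2754 (.node 2753 (.leaf 18 5 [2, 1, 3, 1, 3, 1, 3, 1, 2, 1, 2, 2, 1, 3, 1, 3, 6, 6, 6, 4, 5, 5, 5, 4, 2, 1, 3, 1, 2]) (.leaf 23 10 [2, 1, 3, 3, 1, 2, 1, 3, 1, 2, 1, 3, 4, 5, 4, 5, 5, 5, 4, 6, 4, 5, 1, 2, 1, 3, 1, 3, 3, 1, 3, 1])) (.node 2755 (.leaf 49 2 [2, 1, 3, 3, 1, 2, 2, 1, 3, 3, 1, 3, 1, 3, 1, 2, 1, 2, 1, 2, 1, 3, 5, 5, 4, 6, 4, 5, 4, 6, 4, 5, 4, 6, 4, 2, 1]) (.node 2756 (.leaf 51 17 [3, 1, 3, 3, 1, 2, 2, 5, 4, 6, 6, 6, 6, 4, 6, 1, 2, 1, 3, 1, 3, 3, 1, 2, 2, 1, 3, 1, 2, 1, 3, 1]) (.leaf 58 18 [3, 3, 1, 3, 3, 1, 4, 6, 4, 5, 5, 5, 4, 6, 6, 4, 1, 3, 1, 3, 1, 2, 1, 3, 3, 1, 2, 2, 1, 2, 2, 1, 3, 1])))) (.node 2760 (.node 2758 (.leaf 72 10 [2, 1, 2, 1, 2, 1, 2, 1, 2, 1, 2, 2, 1, 3, 1, 6, 6, 6, 4, 5, 4, 6, 6, 4, 5, 2, 2, 1, 2, 1, 3, 1, 2, 1, 2]) (.node 2759 (.leaf 92 6 [2, 1, 2, 1, 2, 1, 2, 1, 3, 1, 2, 2, 1, 2, 1, 3, 1, 3, 3, 6, 4, 6, 6, 6, 6, 4, 2, 1, 2, 1, 3, 1]) (.leaf 104 27 [4, 5, 4, 6, 4, 5, 5, 4, 6, 4, 1, 3, 1, 2, 1, 2, 1, 3, 1, 3, 3, 1, 2, 2, 1, 3, 3, 1, 3, 1, 2, 2, 1, 2, 1, 6, 6]))) (.node 2761 (.leaf 110 18 [1, 2, 1, 3, 1, 3, 1, 5, 5, 5, 5, 4, 6, 6, 6, 4, 5, 4, 6, 2, 2, 1, 2, 1, 2, 1, 2, 1, 3, 1, 2, 2, 1, 2, 1, 2, 2]) (.node 2762 (.leaf 125 26 [4, 6, 6, 4, 5, 4, 6, 6, 4, 5, 4, 6, 4, 5, 2, 1, 3, 3, 1, 2, 2, 1, 3, 1, 2, 1, 2, 2, 1, 2, 1, 2, 1, 3, 3, 1, 2, 1, 2, 1]) (.leaf 137 21 [2, 1, 3, 1, 3, 6, 6, 4, 5, 4, 6, 6, 4, 5, 4, 6, 4, 5, 5, 5, 4, 1, 3, 3, 1, 2, 2, 1, 3, 1, 3, 1, 3, 3, 1, 3, 3, 1, 2, 2, 1, 2]))))) (.node 2768 (.node 2765 (.node 2764 (.leaf 141 14 [2, 1, 3, 1, 2, 1, 2, 1, 3, 3, 1, 3, 5, 5, 4, 6, 4, 5, 4, 6, 4, 5, 4, 6, 4, 5, 4, 2, 2, 1, 2, 1, 3, 3, 1, 3, 1, 3, 1, 2, 1]) (.leaf 141 26 [5, 5, 4, 6, 4, 5, 4, 6, 4, 5, 4, 6, 4, 5, 4, 2, 2, 1, 2, 1, 3, 3, 1, 3, 1, 3, 1, 2, 1, 2, 1, 3, 1, 2, 1, 2, 1, 3, 3, 1, 3])) (.node 2766 (.leaf 146 8 [1, 3, 1, 2, 1, 2, 1, 3, 3, 1, 3, 3, 1, 2, 2, 1, 3, 3, 5, 5, 5, 4, 6, 4, 5, 4, 6, 4, 5, 4, 6, 6, 6, 1, 3, 3, 1, 2, 2, 1, 3]) (.node 2767 (.leaf 153 17 [2, 2, 1, 2, 1, 3, 3, 1, 3, 4, 6, 6, 6, 4, 5, 5, 5, 4, 5, 1, 3, 1, 3, 1, 2, 2, 1, 2, 1, 2, 1, 2, 2, 1, 2, 1]) (.leaf 169 1 [2, 1, 3, 1, 3, 1, 2, 2, 1, 2, 1, 3, 1, 2, 1, 2, 1, 3, 1, 3, 3, 1, 2, 1, 3, 3, 4, 6, 4, 5, 5, 4, 6, 4, 5, 5, 2])))) (.node 2771 (.node 2769 (.leaf 170 26 [2, 5, 5, 4, 6, 4, 5, 4, 6, 6, 4, 5, 4, 5, 1, 2, 1, 2, 1, 3, 1, 3, 1, 3, 3, 1, 3, 1, 2, 1, 2, 2, 1, 2, 2, 1, 3, 3, 1, 2]) (.node 2770 (.leaf 172 0 [1, 3, 3, 1, 3, 1, 2, 1, 2, 2, 1, 2, 1, 2, 2, 1, 2, 1, 2, 1, 2, 2, 1, 3, 3, 1, 3, 4, 6, 6, 4, 5, 4, 6, 4]) (.leaf 175 9 [1, 2, 1, 3, 1, 3, 3, 1, 3, 1, 3, 1, 2, 1, 3, 1, 2, 2, 6, 6, 4, 5, 5, 5, 4, 6, 6, 6, 4, 5, 5, 1, 3, 1, 3, 1, 2, 2, 1, 3]))) (.node 2772 (.leaf 175 21 [2, 1, 3, 1, 2, 2, 6, 6, 4, 5, 5, 5, 4, 6, 6, 6, 4, 5, 5, 1, 3, 1, 3, 1, 2, 2, 1, 3, 1, 2, 1, 3, 1, 3, 3, 1, 3, 1, 3, 1]) (.node 2773 (.leaf 238 18 [2, 1, 2, 1, 3, 1, 3, 3, 1, 4, 5, 4, 6, 6, 4, 5, 5, 4, 6, 6, 2, 1, 2, 1, 3, 1, 3, 3, 1, 3, 1, 3, 1, 2, 1, 2, 1, 2]) (.leaf 248 10 [3, 3, 1, 2, 1, 3, 3, 1, 2, 1, 2, 2, 1, 2, 1, 2, 1, 5, 5, 5, 5, 4, 6, 4, 5, 5, 5, 4, 6, 4, 5, 5, 4, 2, 2, 1, 3, 3, 1, 2, 1, 2, 1])))))) (.node 2785 (.node 2779 (.node 2776 (.node 2775 (.leaf 250 20 [3, 1, 3, 1, 3, 3, 1, 6, 4, 6, 6, 6, 4, 5, 4, 6, 6, 6, 4, 5, 4, 3, 3, 1, 3, 1, 2, 1, 2, 1, 2, 1, 2, 1, 2, 1, 3, 1, 2, 2, 1]) (.leaf 255 6 [1, 2, 1, 2, 2, 1, 2, 1, 2, 1, 3, 3, 1, 3, 1, 2, 2, 1, 2, 1, 3, 5, 4, 6, 6, 4, 5, 4, 6, 4, 5, 4, 6, 6, 4, 1, 2, 2, 1, 3, 3])) (.node 2777 (.leaf 259 8 [3, 1, 3, 1, 2, 2, 1, 2, 1, 3, 3, 1, 3, 1, 3, 1, 3, 1, 2, 1, 6, 4, 5, 4, 6, 6, 6, 4, 6, 1, 2, 1, 2, 1, 2, 2, 1]) (.node 2778 (.leaf 259 26 [2, 1, 6, 4, 5, 4, 6, 6, 6, 4, 6, 1, 2, 1, 2, 1, 2, 2, 1, 3, 1, 3, 1, 2, 2, 1, 2, 1, 3, 3, 1, 3, 1, 3, 1, 3, 1]) (.leaf 263 8 [3, 1, 3, 1, 2, 2, 1, 2, 1, 3, 1, 2, 1, 2, 1, 2, 2, 1, 2, 1, 4, 5, 5, 5, 4, 6, 6, 4, 5, 5, 4, 6, 3, 3, 1, 3, 3, 1, 3, 1])))) (.node 2782 (.node 2780 (.leaf 269 18 [3, 1, 2, 1, 3, 3, 1, 2, 1, 3, 5, 5, 4, 6, 6, 4, 5, 4, 6, 4, 5, 5, 4, 6, 4, 2, 1, 3, 1, 2, 1, 2, 2, 1, 3, 1, 3, 1, 2, 1, 2, 2, 1]) (.node 2781 (.leaf 284 15 [2, 1, 3, 3, 1, 2, 1, 3, 3, 1, 3, 1, 3, 4, 6, 4, 5, 5, 5, 4, 6, 6, 1, 3, 1, 3, 1, 2, 1, 3, 1, 2, 2, 1, 3, 1, 2]) (.leaf 289 13 [2, 1, 3, 1, 2, 1, 2, 2, 1, 3, 3, 1, 3, 1, 3, 6, 4, 6, 6, 6, 6, 4, 5, 4, 1, 3, 1, 3, 1, 3, 3, 1, 3, 1, 2, 1, 2]))) (.node 2783 (.leaf 290 7 [1, 3, 3, 1, 3, 1, 2, 2, 1, 2, 2, 1, 3, 3, 1, 3, 1, 3, 1, 3, 3, 5, 4, 6, 6, 6, 4, 5, 5, 5, 4, 1, 2, 1, 2, 2, 1, 3]) (.node 2784 (.leaf 292 28 [5, 5, 4, 6, 4, 5, 5, 5, 4, 6, 6, 6, 4, 5, 5, 5, 1, 2, 1, 3, 1, 2, 2, 1, 2, 1, 3, 3, 1, 3, 1, 3, 1, 2, 2, 1, 3, 1, 2, 1, 3, 3, 1, 3]) (.leaf 293 17 [1, 3, 1, 3, 1, 2, 1, 3, 1, 3, 3, 6, 6, 4, 5, 4, 6, 6, 6, 4, 5, 4, 6, 6, 4, 5, 1, 3, 3, 1, 3, 1, 2, 1, 3, 1, 2, 2, 1, 3, 1, 3, 3]))))) (.node 2790 (.node 2787 (.node 2786 (.leaf 312 10 [3, 1, 2, 2, 1, 2, 1, 2, 1, 2, 2, 1, 3, 1, 2, 2, 1, 3, 5, 4, 6, 4, 5, 4, 6, 4, 5, 5, 4, 6, 4, 2, 1, 2, 1, 3, 3, 1, 3, 3, 1]) (.leaf 314 16 [2, 2, 1, 2, 2, 1, 3, 1, 2, 1, 2, 1, 4, 5, 5, 5, 4, 6, 6, 6, 4, 5, 4, 6, 6, 6, 4, 5, 1, 3, 3, 1, 2, 1, 3, 1, 2, 1, 2, 1, 3, 1, 3, 1])) (.node 2788 (.leaf 318 6 [2, 2, 1, 3, 1, 3, 3, 1, 2, 1, 3, 3, 1, 3, 1, 2, 1, 2, 2, 1, 3, 1, 4, 5, 4, 6, 6, 4, 5, 4, 6, 4, 5, 5, 4, 6, 2, 1, 3, 1, 2, 1]) (.node 2789 (.leaf 325 17 [3, 1, 3, 1, 3, 3, 1, 2, 2, 1, 3, 4, 6, 4, 5, 5, 4, 6, 6, 6, 1, 3, 3, 1, 2, 1, 3, 1, 3, 1, 3, 1, 2, 2, 1, 3, 1]) (.leaf 329 3 [2, 2, 1, 2, 1, 2, 1, 3, 1, 2, 2, 1, 2, 1, 2, 1, 3, 3, 1, 3, 1, 3, 3, 1, 3, 4, 6, 6, 6, 4, 5, 4, 6, 6, 6, 1, 3, 1])))) (.node 2793 (.node 2791 (.leaf 330 17 [3, 1, 3, 1, 2, 1, 2, 1, 3, 3, 1, 6, 4, 5, 5, 5, 4, 6, 4, 5, 5, 5, 2, 1, 2, 1, 3, 1, 2, 1, 3, 1, 2, 1, 3, 1, 3, 1, 3]) (.node 2792 (.leaf 335 4 [1, 3, 3, 1, 2, 1, 3, 3, 1, 2, 1, 3, 1, 2, 2, 1, 3, 1, 2, 1, 3, 1, 2, 2, 6, 6, 6, 4, 5, 5, 5, 4, 6, 6, 6, 4, 3, 3, 1, 2]) (.leaf 343 16 [2, 1, 3, 3, 1, 3, 3, 1, 3, 3, 1, 3, 6, 6, 6, 4, 5, 5, 5, 4, 6, 6, 6, 4, 5, 5, 5, 1, 2, 1, 2, 2, 1, 3, 3, 1, 2, 1, 2, 1, 2, 2, 1]))) (.node 2794 (.leaf 347 5 [1, 2, 2, 1, 3, 1, 2, 1, 2, 1, 2, 1, 3, 3, 1, 3, 1, 2, 2, 1, 3, 3, 1, 5, 4, 6, 6, 6, 4, 5, 5, 5, 4, 5, 1, 3, 3, 1, 2]) (.node 2795 (.leaf 356 6 [3, 1, 3, 1, 2, 1, 3, 3, 1, 3, 3, 1, 2, 1, 3, 1, 3, 1, 2, 1, 2, 2, 6, 4, 5, 4, 6, 4, 5, 4, 6, 6, 6, 1, 2, 2, 1, 3, 1]) (.leaf 373 23 [3, 1, 3, 3, 1, 4, 6, 6, 6, 4, 5, 5, 5, 4, 6, 4, 5, 5, 5, 4, 1, 3, 3, 1, 3, 1, 3, 1, 3, 1, 2, 1, 2, 1, 3, 1, 2, 2, 1, 2, 2, 1, 3]))))))))))))) (.node 4194 (.node 3495 (.node 3145 (.node 2970 (.node 2883 (.node 2839 (.node 2817 (.node 2806 (.node 2801 (.node 2798 (.node 2797 (.leaf 384 12 [2, 1, 3, 1, 2, 1, 2, 1, 3, 3, 1, 3, 1, 2, 2, 1, 6, 6, 6, 4, 5, 5, 5, 4, 6, 4, 2, 1, 3, 1, 2, 1, 3, 1, 2, 1, 3, 1]) (.leaf 388 18 [1, 3, 1, 3, 1, 3, 1, 3, 3, 1, 5, 4, 6, 4, 5, 4, 6, 4, 5, 5, 4, 6, 4, 1, 3, 3, 1, 3, 1, 3, 3, 1, 2, 1, 2, 1, 2, 1, 3, 1, 3])) (.node 2799 (.leaf 391 0 [1, 3, 3, 1, 2, 1, 3, 1, 3, 3, 1, 3, 1, 2, 1, 3, 1, 3, 3, 1, 2, 1, 2, 2, 1, 3, 1, 2, 1, 5, 5, 4, 6, 6, 6, 4, 5, 4, 6, 6, 4, 5, 5, 4, 6, 6]) (.node 2800 (.leaf 325 24 [2, 2, 1, 3, 4, 6, 4, 5, 5, 4, 6, 6, 6, 1, 3, 3, 1, 2, 1, 3, 1, 3, 1, 3, 1, 2, 2, 1, 3, 1, 3, 1, 3, 1, 3, 3, 1]) (.leaf 372 24 [3, 1, 2, 1, 6, 4, 6, 6, 6, 4, 6, 1, 2, 2, 1, 3, 3, 1, 2, 1, 3, 3, 1, 3, 1, 2, 1, 3, 3, 1, 2, 1, 3, 1, 3])))) (.node 2803 (.node 2802 (.leaf 50 20 [2, 2, 1, 3, 4, 6, 4, 5, 5, 5, 5, 1, 3, 3, 1, 2, 1, 3, 3, 1, 2, 2, 1, 2, 1, 3, 3, 1, 3, 3, 1]) (.leaf 161 31 [6, 4, 5, 4, 6, 6, 4, 5, 1, 2, 1, 2, 1, 2, 2, 1, 3, 3, 1, 3, 1, 2, 1, 3, 3, 1, 3, 3, 1, 2, 1, 3, 3, 1, 3, 5, 5, 5, 4])) (.node 2804 (.leaf 170 32 [5, 4, 6, 6, 4, 5, 4, 5, 1, 2, 1, 2, 1, 3, 1, 3, 1, 3, 3, 1, 3, 1, 2, 1, 2, 2, 1, 2, 2, 1, 3, 3, 1, 2, 2, 5, 5, 4, 6, 4]) (.node 2805 (.leaf 182 36 [6, 2, 1, 3, 1, 2, 2, 1, 2, 2, 1, 2, 1, 3, 1, 2, 1, 3, 1, 3, 3, 1, 3, 3, 1, 2, 1, 3, 4, 5, 4, 5, 5, 5, 4, 6, 4]) (.leaf 194 42 [5, 1, 3, 1, 2, 1, 2, 2, 1, 3, 1, 3, 1, 2, 1, 3, 3, 1, 2, 1, 2, 1, 3, 3, 1, 3, 1, 3, 5, 4, 6, 4, 5, 4, 6, 6, 4, 5, 4, 6, 6, 6, 4]))))) (.node 2811 (.node 2808 (.node 2807 (.leaf 216 25 [3, 1, 6, 4, 5, 5, 4, 6, 2, 2, 1, 2, 1, 3, 3, 1, 3, 1, 3, 3, 1, 2, 2, 1, 3, 1, 3, 1, 2, 1, 3, 3, 1]) (.leaf 227 22 [1, 3, 1, 3, 1, 4, 5, 5, 5, 4, 6, 6, 4, 2, 2, 1, 2, 2, 1, 3, 1, 3, 1, 3, 1, 2, 2, 1, 3, 1, 2, 1, 2, 1, 3])) (.node 2809 (.leaf 228 28 [4, 6, 6, 6, 4, 5, 4, 6, 6, 4, 5, 4, 5, 1, 3, 3, 1, 3, 3, 1, 2, 1, 2, 1, 3, 1, 2, 1, 2, 1, 2, 1, 2, 1, 2, 2, 1, 2, 1, 3, 6]) (.node 2810 (.leaf 291 16 [2, 2, 1, 2, 1, 3, 1, 3, 3, 1, 2, 1, 4, 6, 4, 6, 6, 6, 4, 5, 4, 6, 6, 4, 5, 4, 5, 3, 3, 1, 3, 3, 1, 3, 1, 3, 3, 1, 3, 3, 1, 3, 1]) (.leaf 63 38 [5, 1, 3, 1, 3, 1, 3, 1, 2, 2, 1, 2, 1, 2, 2, 1, 3, 1, 3, 1, 3, 3, 1, 3, 3, 4, 5, 4, 5, 5, 5, 4, 6, 4, 5, 5, 4, 6, 4])))) (.node 2814 (.node 2812 (.leaf 290 21 [1, 3, 1, 3, 1, 3, 3, 5, 4, 6, 6, 6, 4, 5, 5, 5, 4, 1, 2, 1, 2, 2, 1, 3, 1, 3, 3, 1, 3, 1, 2, 2, 1, 2, 2, 1, 3, 3]) (.node 2813 (.leaf 332 16 [3, 1, 3, 1, 2, 1, 3, 1, 2, 1, 2, 2, 4, 6, 4, 5, 4, 6, 4, 5, 4, 6, 6, 6, 4, 5, 4, 2, 2, 1, 3, 1, 2, 1, 3, 1, 3, 1, 3, 1, 2, 2, 1]) (.leaf 106 22 [1, 2, 2, 5, 4, 6, 6, 6, 6, 4, 2, 1, 3, 3, 1, 3, 1, 2, 1, 2, 2, 1, 2, 1, 3, 1, 3, 1, 3, 1, 2, 2]))) (.node 2815 (.leaf 224 28 [5, 4, 6, 6, 4, 5, 4, 6, 6, 6, 2, 2, 1, 3, 3, 1, 3, 1, 3, 1, 2, 2, 1, 2, 2, 1, 3, 1, 3, 1, 2, 1, 3, 1, 3, 1, 3, 5]) (.node 2816 (.leaf 5 27 [2, 1, 2, 1, 2, 1, 2, 1, 2, 1, 2, 1, 2, 1, 2, 1, 2, 1, 2, 1, 2, 1, 2, 1, 2, 1, 2, 1, 2, 1, 2, 1, 2, 1, 2, 1, 2, 1]) (.leaf 223 41 [4, 2, 1, 3, 1, 3, 1, 3, 1, 3, 3, 1, 3, 1, 2, 1, 2, 2, 1, 2, 2, 1, 2, 2, 1, 3, 1, 3, 4, 5, 5, 4, 6, 4, 5, 5, 5, 4, 6, 4, 5, 5])))))) (.node 2828 (.node 2822 (.node 2819 (.node 2818 (.leaf 237 29 [5, 5, 4, 6, 1, 3, 1, 2, 2, 1, 2, 2, 1, 2, 2, 1, 3, 1, 2, 1, 2, 2, 1, 2, 2, 1, 2, 2, 1, 3, 3, 6, 4]) (.leaf 334 4 [1, 2, 1, 2, 1, 3, 3, 1, 2, 2, 1, 3, 3, 1, 2, 1, 2, 1, 2, 2, 1, 3, 1, 3, 4, 5, 5, 4, 6, 4, 5, 4, 6, 4, 5, 4, 3, 3, 1, 2])) (.node 2820 (.leaf 379 12 [1, 2, 2, 1, 2, 1, 2, 1, 2, 1, 2, 1, 2, 1, 3, 1, 4, 6, 4, 5, 5, 5, 4, 6, 3, 3, 1, 2, 1, 2, 1, 3, 1, 2, 1, 3]) (.node 2821 (.leaf 182 28 [5, 4, 5, 5, 5, 4, 6, 4, 6, 2, 1, 3, 1, 2, 2, 1, 2, 2, 1, 2, 1, 3, 1, 2, 1, 3, 1, 3, 3, 1, 3, 3, 1, 2, 1, 3, 4]) (.leaf 213 1 [3, 1, 3, 3, 1, 3, 3, 1, 3, 1, 3, 1, 2, 1, 3, 1, 3, 1, 3, 3, 1, 3, 1, 3, 1, 3, 5, 4, 5, 5, 5, 5, 4, 5, 1])))) (.node 2825 (.node 2823 (.leaf 227 28 [5, 5, 5, 4, 6, 6, 4, 2, 2, 1, 2, 2, 1, 3, 1, 3, 1, 3, 1, 2, 2, 1, 3, 1, 2, 1, 2, 1, 3, 1, 3, 1, 3, 1, 4]) (.node 2824 (.leaf 312 17 [2, 1, 2, 2, 1, 3, 1, 2, 2, 1, 3, 5, 4, 6, 4, 5, 4, 6, 4, 5, 5, 4, 6, 4, 2, 1, 2, 1, 3, 3, 1, 3, 3, 1, 3, 1, 2, 2, 1, 2, 1]) (.leaf 19 14 [1, 3, 1, 3, 1, 2, 1, 4, 5, 4, 6, 6, 6, 4, 5, 5, 5, 4, 6, 4, 5, 5, 1, 3, 1, 2, 1, 2, 1, 3, 1, 2, 1, 3, 1, 2]))) (.node 2826 (.leaf 24 21 [1, 5, 5, 5, 5, 4, 6, 4, 5, 5, 1, 2, 1, 3, 1, 3, 3, 1, 3, 3, 1, 3, 1, 2, 1, 2, 1, 3, 3, 1, 3]) (.node 2827 (.leaf 39 36 [5, 1, 3, 3, 1, 2, 2, 1, 2, 2, 1, 3, 1, 2, 1, 3, 3, 1, 3, 3, 1, 2, 2, 1, 4, 5, 5, 4, 6, 4, 5, 5, 4, 6, 6, 4, 5]) (.leaf 243 18 [2, 1, 3, 3, 1, 2, 1, 2, 1, 4, 6, 4, 5, 5, 5, 4, 6, 4, 5, 5, 4, 6, 2, 2, 1, 2, 1, 3, 1, 3, 3, 1, 2, 2, 1, 2, 1, 2, 2, 1]))))) (.node 2833 (.node 2830 (.node 2829 (.leaf 253 38 [4, 6, 2, 1, 3, 1, 3, 3, 1, 2, 1, 3, 1, 2, 1, 2, 2, 1, 2, 1, 3, 1, 3, 3, 1, 2, 1, 3, 1, 6, 6, 4, 5, 5, 4, 6, 4, 5, 5, 5]) (.leaf 280 18 [3, 1, 2, 2, 1, 3, 1, 2, 1, 3, 6, 4, 5, 4, 6, 6, 4, 5, 5, 4, 6, 4, 5, 5, 5, 2, 1, 3, 3, 1, 2, 2, 1, 2, 1, 2, 1, 3, 1, 3, 1, 2, 1])) (.node 2831 (.leaf 311 19 [2, 1, 3, 3, 1, 2, 1, 2, 2, 5, 4, 5, 5, 5, 4, 6, 4, 5, 5, 4, 2, 1, 3, 1, 2, 1, 3, 1, 2, 1, 3, 3, 1, 2, 2, 1, 2, 1, 2]) (.node 2832 (.leaf 313 24 [3, 1, 3, 1, 5, 5, 5, 4, 6, 4, 5, 5, 4, 6, 6, 4, 5, 3, 3, 1, 2, 2, 1, 3, 1, 2, 2, 1, 3, 3, 1, 3, 1, 3, 3, 1, 3, 1, 2, 2, 1]) (.leaf 330 9 [1, 2, 1, 3, 1, 3, 1, 3, 3, 1, 3, 1, 2, 1, 2, 1, 3, 3, 1, 6, 4, 5, 5, 5, 4, 6, 4, 5, 5, 5, 2, 1, 2, 1, 3, 1, 2, 1, 3])))) (.node 2836 (.node 2834 (.leaf 341 20 [1, 2, 1, 3, 3, 1, 3, 1, 4, 5, 4, 6, 4, 5, 4, 6, 4, 5, 4, 6, 4, 5, 5, 3, 3, 1, 2, 2, 1, 2, 1, 2, 2, 1, 2, 2, 1, 3, 1, 3, 3, 1, 3]) (.node 2835 (.leaf 382 28 [4, 5, 5, 5, 5, 4, 6, 4, 5, 5, 4, 6, 1, 3, 1, 2, 2, 1, 3, 1, 2, 1, 3, 1, 2, 2, 1, 3, 3, 1, 3, 3, 1, 3, 3, 1, 3, 1, 2, 1]) (.leaf 394 43 [5, 2, 2, 1, 3, 1, 2, 2, 1, 2, 2, 1, 2, 2, 1, 2, 1, 2, 2, 1, 3, 1, 3, 1, 3, 1, 3, 3, 1, 3, 5, 4, 5, 5, 5, 4, 6, 4, 5, 5, 5, 4, 6, 4]))) (.node 2837 (.leaf 12 18 [6, 6, 4, 5, 4, 6, 6, 6, 4, 5, 4, 6, 6, 3, 3, 1, 2, 1, 2, 2, 1, 2, 2, 1, 3, 3, 1, 2, 1, 3, 4]) (.node 2838 (.leaf 33 35 [6, 2, 2, 1, 3, 1, 3, 1, 3, 1, 3, 1, 2, 1, 2, 1, 3, 1, 2, 1, 3, 1, 3, 3, 4, 6, 6, 4, 5, 4, 6, 6, 6, 4, 5, 4]) (.leaf 33 5 [3, 1, 3, 1, 3, 1, 2, 1, 2, 1, 3, 1, 2, 1, 3, 1, 3, 3, 4, 6, 6, 4, 5, 4, 6, 6, 6, 4, 5, 4, 6, 2, 2, 1, 3, 1]))))))) (.node 2861 (.node 2850 (.node 2844 (.node 2841 (.node 2840 (.leaf 57 7 [1, 3, 1, 3, 1, 2, 1, 3, 1, 3, 1, 3, 3, 1, 3, 3, 1, 6, 6, 6, 4, 5, 4, 6, 6, 4, 5, 5, 2, 2, 1, 3, 3, 1, 3]) (.leaf 156 22 [3, 3, 1, 3, 3, 5, 5, 4, 6, 6, 6, 4, 5, 4, 6, 6, 4, 5, 5, 4, 6, 4, 1, 2, 1, 2, 1, 3, 3, 1, 3, 3, 1, 2, 1, 2, 2, 1, 3, 1, 3, 1, 2, 1])) (.node 2842 (.leaf 224 10 [2, 2, 1, 2, 2, 1, 3, 1, 3, 1, 2, 1, 3, 1, 3, 1, 3, 5, 5, 4, 6, 6, 4, 5, 4, 6, 6, 6, 2, 2, 1, 3, 3, 1, 3, 1, 3, 1]) (.node 2843 (.leaf 247 20 [2, 1, 3, 1, 3, 3, 1, 6, 4, 5, 4, 6, 6, 6, 4, 5, 4, 6, 6, 4, 5, 4, 1, 2, 2, 1, 2, 2, 1, 3, 1, 2, 2, 1, 2, 2, 1, 2, 2, 1, 2, 1]) (.leaf 260 17 [1, 2, 1, 2, 1, 3, 1, 3, 1, 3, 3, 4, 5, 4, 6, 6, 4, 5, 4, 6, 4, 3, 3, 1, 3, 1, 3, 3, 1, 2, 1, 2, 1, 2, 2, 1, 3, 3])))) (.node 2847 (.node 2845 (.leaf 272 12 [2, 1, 2, 1, 3, 3, 1, 2, 1, 2, 2, 1, 2, 1, 3, 3, 5, 5, 4, 6, 6, 4, 5, 4, 6, 6, 6, 4, 5, 5, 5, 3, 3, 1, 3, 3, 1, 3, 3, 1, 3, 3, 1]) (.node 2846 (.leaf 279 24 [2, 1, 3, 1, 5, 5, 4, 6, 6, 6, 4, 5, 4, 6, 6, 6, 4, 5, 4, 6, 1, 3, 1, 3, 1, 2, 2, 1, 2, 2, 1, 3, 1, 2, 1, 2, 2, 1, 2, 1, 2, 1, 3, 1]) (.leaf 297 11 [2, 1, 3, 1, 2, 1, 3, 3, 1, 2, 1, 2, 1, 3, 3, 1, 3, 4, 6, 6, 4, 5, 4, 6, 6, 6, 4, 5, 4, 6, 6, 4, 5, 5, 1, 3, 3, 1, 2, 2, 1, 3, 1, 2, 1]))) (.node 2848 (.leaf 308 29 [6, 4, 5, 5, 4, 6, 6, 6, 4, 6, 1, 2, 2, 1, 2, 2, 1, 3, 1, 3, 1, 2, 1, 3, 1, 2, 1, 3, 1, 3, 1, 2, 1, 2, 1, 3, 3, 1, 4]) (.node 2849 (.leaf 317 19 [2, 1, 2, 2, 1, 3, 3, 1, 3, 4, 6, 6, 4, 5, 4, 6, 6, 6, 4, 5, 5, 1, 3, 1, 2, 1, 2, 1, 2, 1, 3, 3, 1, 3, 1, 2, 1, 3, 3, 1]) (.leaf 321 28 [4, 6, 4, 5, 4, 6, 6, 4, 5, 4, 6, 6, 6, 4, 6, 2, 1, 3, 1, 2, 2, 1, 2, 1, 3, 3, 1, 2, 1, 2, 1, 3, 1, 3, 1, 2, 1, 2, 1, 3, 1, 2, 1]))))) (.node 2855 (.node 2852 (.node 2851 (.leaf 345 30 [5, 5, 5, 5, 4, 6, 6, 6, 4, 6, 2, 1, 2, 1, 2, 1, 3, 1, 3, 1, 3, 1, 3, 1, 2, 1, 2, 1, 2, 1, 2, 1, 3, 3, 1, 3, 1, 3, 6, 4]) (.leaf 381 29 [5, 5, 4, 6, 4, 5, 5, 4, 6, 6, 4, 2, 2, 1, 2, 1, 2, 1, 3, 1, 3, 3, 1, 3, 1, 2, 1, 3, 3, 1, 2, 2, 1, 2, 1, 3, 1, 3, 3, 4])) (.node 2853 (.leaf 394 36 [4, 5, 5, 5, 4, 6, 4, 5, 2, 2, 1, 3, 1, 2, 2, 1, 2, 2, 1, 2, 2, 1, 2, 1, 2, 2, 1, 3, 1, 3, 1, 3, 1, 3, 3, 1, 3, 5, 4, 5, 5, 5, 4, 6]) (.node 2854 (.leaf 19 20 [1, 4, 5, 4, 6, 6, 6, 4, 5, 5, 5, 4, 6, 4, 5, 5, 1, 3, 1, 2, 1, 2, 1, 3, 1, 2, 1, 3, 1, 2, 1, 3, 1, 3, 1, 2]) (.leaf 73 39 [6, 4, 2, 2, 1, 2, 1, 3, 3, 1, 3, 3, 1, 3, 1, 3, 1, 3, 3, 1, 2, 1, 3, 3, 1, 3, 3, 4, 6, 6, 6, 4, 5, 4, 6, 6, 6, 4, 5, 4, 6])))) (.node 2858 (.node 2856 (.leaf 141 1 [2, 1, 2, 1, 3, 3, 1, 3, 1, 3, 1, 2, 1, 2, 1, 3, 1, 2, 1, 2, 1, 3, 3, 1, 3, 5, 5, 4, 6, 4, 5, 4, 6, 4, 5, 4, 6, 4, 5, 4, 2]) (.node 2857 (.leaf 76 8 [1, 3, 3, 1, 2, 2, 1, 3, 1, 2, 2, 1, 2, 2, 1, 2, 2, 6, 4, 5, 4, 6, 6, 4, 5, 5, 4, 6, 1, 2, 1, 3, 1, 2, 1, 2]) (.leaf 172 34 [4, 1, 3, 3, 1, 3, 1, 2, 1, 2, 2, 1, 2, 1, 2, 2, 1, 2, 1, 2, 1, 2, 2, 1, 3, 3, 1, 3, 4, 6, 6, 4, 5, 4, 6]))) (.node 2859 (.leaf 189 6 [3, 1, 3, 1, 3, 1, 2, 1, 3, 3, 1, 3, 3, 1, 2, 2, 1, 3, 3, 1, 3, 4, 5, 5, 5, 4, 6, 6, 6, 4, 5, 1, 3, 1, 2, 1, 3]) (.node 2860 (.leaf 315 33 [6, 4, 5, 5, 4, 6, 4, 6, 2, 2, 1, 3, 1, 3, 1, 2, 1, 3, 3, 1, 3, 1, 2, 1, 2, 1, 2, 1, 2, 2, 1, 2, 1, 2, 1, 3, 6, 4, 5, 5, 4]) (.leaf 355 18 [2, 1, 3, 3, 1, 2, 1, 3, 3, 1, 5, 4, 6, 6, 4, 5, 4, 6, 6, 6, 4, 5, 4, 6, 2, 1, 3, 3, 1, 2, 1, 3, 3, 1, 2, 1, 2, 2, 1, 2, 2, 1])))))) (.node 2872 (.node 2866 (.node 2863 (.node 2862 (.leaf 21 29 [4, 6, 6, 6, 4, 6, 2, 1, 2, 1, 2, 1, 3, 3, 1, 2, 2, 1, 2, 2, 1, 2, 1, 3, 3, 1, 2, 2, 4, 5, 4, 6, 6, 4, 5]) (.leaf 284 9 [2, 2, 1, 3, 1, 2, 2, 1, 3, 3, 1, 2, 1, 3, 3, 1, 3, 1, 3, 4, 6, 4, 5, 5, 5, 4, 6, 6, 1, 3, 1, 3, 1, 2, 1, 3, 1])) (.node 2864 (.leaf 391 18 [3, 1, 2, 1, 2, 2, 1, 3, 1, 2, 1, 5, 5, 4, 6, 6, 6, 4, 5, 4, 6, 6, 4, 5, 5, 4, 6, 6, 1, 3, 3, 1, 2, 1, 3, 1, 3, 3, 1, 3, 1, 2, 1, 3, 1, 3]) (.node 2865 (.leaf 17 35 [5, 1, 2, 1, 3, 3, 1, 2, 2, 1, 2, 1, 3, 1, 3, 3, 1, 3, 1, 2, 2, 1, 4, 5, 5, 4, 6, 6, 4, 5, 4, 6, 6, 6, 4, 5]) (.leaf 29 24 [4, 6, 6, 4, 5, 4, 6, 4, 5, 4, 6, 6, 4, 1, 3, 1, 2, 1, 3, 3, 1, 2, 1, 3, 1, 2, 2, 1, 3, 1, 3, 3, 1, 2, 1, 4, 5])))) (.node 2869 (.node 2867 (.leaf 33 30 [6, 6, 4, 5, 4, 6, 2, 2, 1, 3, 1, 3, 1, 3, 1, 3, 1, 2, 1, 2, 1, 3, 1, 2, 1, 3, 1, 3, 3, 4, 6, 6, 4, 5, 4, 6]) (.node 2868 (.leaf 57 24 [6, 6, 6, 4, 5, 4, 6, 6, 4, 5, 5, 2, 2, 1, 3, 3, 1, 3, 1, 3, 1, 3, 1, 2, 1, 3, 1, 3, 1, 3, 3, 1, 3, 3, 1]) (.leaf 65 6 [2, 1, 2, 1, 2, 1, 2, 1, 2, 1, 2, 1, 2, 1, 3, 1, 2, 1, 6, 6, 4, 5, 5, 4, 6, 4, 5, 4, 6, 4, 5, 5, 5, 2, 2, 1, 3, 3, 1]))) (.node 2870 (.leaf 66 23 [2, 5, 5, 4, 6, 4, 5, 4, 6, 6, 4, 5, 5, 1, 3, 3, 1, 2, 1, 3, 1, 3, 3, 1, 2, 2, 1, 2, 1, 3, 3, 1, 2, 2, 1, 2]) (.node 2871 (.leaf 72 22 [1, 3, 1, 6, 6, 6, 4, 5, 4, 6, 6, 4, 5, 2, 2, 1, 2, 1, 3, 1, 2, 1, 2, 2, 1, 2, 1, 2, 1, 2, 1, 2, 1, 2, 2]) (.leaf 79 6 [2, 1, 2, 1, 2, 1, 2, 1, 3, 1, 3, 1, 3, 3, 1, 3, 1, 3, 3, 4, 5, 5, 5, 4, 6, 4, 5, 5, 4, 6, 6, 6, 1, 2, 1, 3, 3, 1]))))) (.node 2877 (.node 2874 (.node 2873 (.leaf 90 11 [2, 1, 2, 2, 1, 3, 1, 3, 1, 2, 1, 2, 2, 1, 6, 6, 4, 5, 4, 6, 6, 4, 5, 5, 4, 6, 4, 5, 1, 2, 2, 1, 2, 1, 3, 1, 2, 2, 1]) (.leaf 107 5 [3, 1, 3, 3, 1, 2, 1, 2, 2, 1, 3, 1, 3, 3, 1, 3, 3, 1, 3, 3, 5, 5, 5, 4, 6, 4, 5, 5, 4, 6, 2, 1, 2, 1, 3])) (.node 2875 (.leaf 115 6 [1, 2, 1, 3, 3, 1, 2, 1, 2, 1, 3, 1, 3, 3, 1, 2, 2, 1, 2, 1, 5, 4, 6, 4, 5, 5, 4, 6, 4, 5, 4, 6, 6, 4, 5, 4, 6, 2, 2, 1, 2, 1, 2]) (.node 2876 (.leaf 131 18 [3, 1, 3, 1, 3, 1, 2, 2, 5, 4, 6, 6, 4, 5, 4, 6, 6, 6, 4, 5, 4, 2, 1, 3, 1, 2, 1, 3, 1, 3, 1, 2, 1, 2, 1, 2, 2, 1, 3]) (.leaf 132 17 [1, 2, 1, 2, 1, 2, 1, 3, 1, 6, 6, 4, 5, 4, 6, 4, 5, 4, 6, 4, 1, 3, 1, 3, 1, 2, 1, 2, 1, 2, 2, 1, 2, 1, 3, 1, 2])))) (.node 2880 (.node 2878 (.leaf 157 1 [2, 2, 1, 3, 1, 2, 2, 1, 2, 1, 2, 2, 1, 2, 1, 3, 1, 3, 1, 2, 1, 3, 3, 1, 2, 1, 4, 6, 6, 6, 4, 5, 4, 6, 6, 6, 4, 6, 1]) (.node 2879 (.leaf 158 8 [2, 1, 3, 1, 3, 1, 2, 1, 3, 1, 3, 3, 1, 3, 1, 2, 1, 2, 1, 6, 4, 5, 5, 5, 4, 6, 4, 5, 4, 6, 6, 4, 5, 1, 2, 2, 1, 2, 1, 2, 1]) (.leaf 165 6 [3, 3, 1, 3, 1, 3, 3, 1, 2, 1, 2, 2, 1, 2, 1, 2, 2, 1, 2, 2, 1, 4, 5, 5, 4, 6, 4, 5, 5, 4, 6, 4, 5, 4, 6, 6, 2, 1, 3, 1, 3, 1]))) (.node 2881 (.leaf 178 40 [5, 4, 5, 1, 3, 3, 1, 2, 1, 3, 3, 1, 2, 1, 2, 2, 1, 2, 1, 2, 1, 2, 1, 3, 1, 3, 3, 1, 3, 1, 5, 5, 5, 4, 6, 4, 5, 5, 4, 6, 4, 5, 5]) (.node 2882 (.leaf 180 37 [6, 4, 5, 2, 1, 2, 1, 3, 1, 2, 1, 3, 1, 3, 1, 2, 2, 1, 3, 1, 3, 1, 3, 1, 2, 1, 2, 1, 2, 1, 6, 4, 6, 6, 6, 4, 5, 4, 6, 6]) (.leaf 191 12 [1, 2, 1, 3, 3, 1, 3, 1, 3, 1, 3, 1, 3, 1, 3, 6, 4, 5, 5, 5, 4, 6, 4, 5, 5, 5, 4, 6, 6, 6, 2, 2, 1, 3, 3, 1, 3, 3, 1, 3, 1, 2])))))))) (.node 2926 (.node 2904 (.node 2893 (.node 2888 (.node 2885 (.node 2884 (.leaf 192 24 [3, 3, 1, 5, 5, 4, 6, 6, 4, 5, 4, 6, 4, 5, 5, 5, 4, 6, 2, 2, 1, 3, 3, 1, 3, 3, 1, 3, 1, 3, 3, 1, 3, 1, 3, 1, 2, 1, 3, 1, 2, 1]) (.leaf 258 5 [3, 1, 2, 1, 2, 1, 2, 1, 2, 1, 2, 1, 3, 1, 3, 3, 1, 3, 1, 3, 1, 3, 3, 6, 4, 5, 5, 5, 5, 4, 6, 4, 5, 5, 5, 4, 6, 2, 1, 3, 3, 1])) (.node 2886 (.leaf 260 5 [3, 3, 1, 2, 1, 2, 1, 2, 2, 1, 3, 3, 1, 2, 1, 2, 1, 3, 1, 3, 1, 3, 3, 4, 5, 4, 6, 6, 4, 5, 4, 6, 4, 3, 3, 1, 3, 1]) (.node 2887 (.leaf 261 12 [2, 1, 2, 1, 2, 2, 1, 2, 1, 3, 1, 2, 1, 2, 1, 3, 4, 6, 4, 5, 5, 5, 4, 6, 6, 6, 4, 6, 1, 3, 1, 3, 1, 2, 2, 1, 2, 1, 2, 1]) (.leaf 267 5 [2, 1, 3, 3, 1, 2, 2, 1, 2, 2, 1, 2, 1, 2, 2, 1, 2, 2, 1, 2, 2, 1, 3, 4, 5, 5, 4, 6, 1, 3, 1, 2, 1])))) (.node 2890 (.node 2889 (.leaf 270 28 [5, 5, 5, 5, 4, 6, 4, 5, 2, 1, 3, 1, 3, 1, 2, 2, 1, 2, 1, 2, 1, 3, 1, 3, 1, 2, 1, 2, 2, 1, 2, 1, 2, 2, 1, 3]) (.leaf 289 28 [6, 4, 6, 6, 6, 6, 4, 5, 4, 1, 3, 1, 3, 1, 3, 3, 1, 3, 1, 2, 1, 2, 2, 1, 3, 1, 2, 1, 2, 2, 1, 3, 3, 1, 3, 1, 3])) (.node 2891 (.leaf 291 28 [4, 6, 4, 6, 6, 6, 4, 5, 4, 6, 6, 4, 5, 4, 5, 3, 3, 1, 3, 3, 1, 3, 1, 3, 3, 1, 3, 3, 1, 3, 1, 2, 2, 1, 2, 1, 3, 1, 3, 3, 1, 2, 1]) (.node 2892 (.leaf 323 41 [6, 1, 3, 3, 1, 2, 1, 3, 3, 1, 3, 3, 1, 3, 1, 2, 1, 3, 1, 2, 1, 3, 1, 3, 1, 3, 1, 3, 3, 6, 6, 4, 5, 4, 6, 4, 5, 4, 6, 4, 5, 4]) (.leaf 327 6 [2, 1, 2, 1, 3, 1, 2, 1, 3, 3, 1, 2, 1, 2, 1, 3, 1, 2, 2, 1, 3, 1, 4, 6, 4, 5, 5, 5, 5, 4, 6, 4, 5, 5, 5, 4, 6, 4, 2, 2, 1, 2, 1, 2]))))) (.node 2898 (.node 2895 (.node 2894 (.leaf 332 35 [5, 4, 6, 6, 6, 4, 5, 4, 2, 2, 1, 3, 1, 2, 1, 3, 1, 3, 1, 3, 1, 2, 2, 1, 3, 1, 3, 1, 2, 1, 3, 1, 2, 1, 2, 2, 4, 6, 4, 5, 4, 6, 4]) (.leaf 348 28 [6, 6, 4, 5, 4, 6, 6, 6, 4, 5, 4, 6, 6, 6, 1, 3, 1, 3, 1, 3, 1, 2, 2, 1, 3, 3, 1, 2, 1, 3, 1, 2, 1, 3, 1, 3, 3, 1, 2, 1, 3, 1])) (.node 2896 (.leaf 353 11 [1, 2, 1, 2, 2, 1, 2, 2, 1, 2, 2, 1, 2, 1, 2, 2, 1, 5, 4, 5, 5, 5, 4, 6, 4, 5, 5, 4, 6, 4, 5, 4, 6, 6, 6, 2, 1, 2, 2, 1, 3, 1, 3, 3, 1, 3]) (.node 2897 (.leaf 355 41 [6, 2, 1, 3, 3, 1, 2, 1, 3, 3, 1, 2, 1, 2, 2, 1, 2, 2, 1, 2, 1, 3, 3, 1, 2, 1, 3, 3, 1, 5, 4, 6, 6, 4, 5, 4, 6, 6, 6, 4, 5, 4]) (.leaf 356 15 [3, 3, 1, 2, 1, 3, 1, 3, 1, 2, 1, 2, 2, 6, 4, 5, 4, 6, 4, 5, 4, 6, 6, 6, 1, 2, 2, 1, 3, 1, 3, 1, 3, 1, 2, 1, 3, 3, 1])))) (.node 2901 (.node 2899 (.leaf 364 30 [5, 5, 4, 6, 6, 6, 4, 5, 4, 6, 6, 4, 5, 5, 4, 6, 1, 2, 2, 1, 3, 1, 3, 3, 1, 3, 1, 2, 1, 2, 1, 3, 1, 3, 1, 2, 2, 1, 2, 1, 2, 1, 2, 1, 4, 5]) (.node 2900 (.leaf 366 29 [6, 4, 5, 4, 6, 6, 4, 5, 4, 6, 6, 4, 2, 1, 2, 1, 3, 1, 2, 2, 1, 3, 3, 1, 2, 2, 1, 3, 3, 1, 2, 2, 1, 3, 1, 3, 1, 3, 3, 1, 4]) (.leaf 372 22 [1, 3, 3, 1, 2, 1, 6, 4, 6, 6, 6, 4, 6, 1, 2, 2, 1, 3, 3, 1, 2, 1, 3, 3, 1, 3, 1, 2, 1, 3, 3, 1, 2, 1, 3]))) (.node 2902 (.leaf 374 11 [1, 2, 1, 2, 2, 1, 3, 3, 1, 3, 3, 1, 2, 2, 1, 3, 1, 4, 5, 4, 6, 6, 4, 5, 4, 6, 4, 5, 4, 6, 6, 4, 5, 2, 1, 3, 1, 2, 1, 2, 1, 2, 1, 3]) (.node 2903 (.leaf 378 20 [2, 1, 2, 1, 2, 1, 3, 3, 4, 6, 4, 5, 5, 5, 4, 6, 6, 6, 4, 5, 4, 6, 3, 3, 1, 3, 3, 1, 3, 3, 1, 3, 1, 2, 1, 2, 1, 3, 1, 3, 3, 1]) (.leaf 381 30 [5, 4, 6, 4, 5, 5, 4, 6, 6, 4, 2, 2, 1, 2, 1, 2, 1, 3, 1, 3, 3, 1, 3, 1, 2, 1, 3, 3, 1, 2, 2, 1, 2, 1, 3, 1, 3, 3, 4, 5])))))) (.node 2915 (.node 2909 (.node 2906 (.node 2905 (.leaf 391 9 [3, 1, 3, 1, 2, 1, 3, 1, 3, 3, 1, 2, 1, 2, 2, 1, 3, 1, 2, 1, 5, 5, 4, 6, 6, 6, 4, 5, 4, 6, 6, 4, 5, 5, 4, 6, 6, 1, 3, 3, 1, 2, 1, 3, 1, 3]) (.leaf 11 16 [5, 5, 4, 6, 4, 5, 5, 5, 4, 6, 4, 5, 5, 4, 6, 6, 4, 5, 2, 2, 1, 3, 1, 2, 1, 2, 2, 1, 2, 2, 1, 2, 2, 1])) (.node 2907 (.leaf 18 14 [1, 2, 2, 1, 3, 1, 3, 6, 6, 6, 4, 5, 5, 5, 4, 2, 1, 3, 1, 2, 2, 1, 3, 1, 3, 1, 3, 1, 2]) (.node 2908 (.leaf 18 16 [2, 1, 3, 1, 3, 6, 6, 6, 4, 5, 5, 5, 4, 2, 1, 3, 1, 2, 2, 1, 3, 1, 3, 1, 3, 1, 2, 1, 2]) (.leaf 19 21 [4, 5, 4, 6, 6, 6, 4, 5, 5, 5, 4, 6, 4, 5, 5, 1, 3, 1, 2, 1, 2, 1, 3, 1, 2, 1, 3, 1, 2, 1, 3, 1, 3, 1, 2, 1])))) (.node 2912 (.node 2910 (.leaf 24 7 [1, 3, 3, 1, 3, 1, 2, 1, 2, 1, 3, 3, 1, 3, 1, 5, 5, 5, 5, 4, 6, 4, 5, 5, 1, 2, 1, 3, 1, 3, 3]) (.node 2911 (.leaf 25 16 [2, 1, 2, 1, 2, 2, 4, 5, 4, 6, 4, 5, 4, 6, 4, 5, 4, 6, 6, 6, 4, 2, 2, 1, 2, 2, 1, 3, 3, 1, 2, 1, 2, 2, 1, 3, 1]) (.leaf 26 3 [2, 2, 1, 2, 1, 3, 1, 2, 1, 3, 1, 3, 1, 2, 2, 1, 3, 1, 3, 4, 5, 4, 6, 4, 5, 5, 4, 6, 4, 5, 5, 5, 4, 6, 4, 5, 2, 2, 1]))) (.node 2913 (.leaf 27 6 [3, 3, 1, 3, 1, 2, 1, 3, 1, 2, 2, 1, 2, 1, 2, 2, 4, 6, 4, 5, 5, 4, 6, 4, 5, 5, 4, 1, 2, 1, 2, 2, 1]) (.node 2914 (.leaf 33 23 [4, 6, 6, 4, 5, 4, 6, 6, 6, 4, 5, 4, 6, 2, 2, 1, 3, 1, 3, 1, 3, 1, 3, 1, 2, 1, 2, 1, 3, 1, 2, 1, 3, 1, 3, 3]) (.leaf 36 13 [1, 3, 1, 2, 1, 3, 3, 1, 3, 3, 4, 5, 5, 5, 4, 6, 6, 6, 4, 5, 4, 6, 3, 3, 1, 3, 1, 2, 1, 3, 1, 3, 1, 2, 2]))))) (.node 2920 (.node 2917 (.node 2916 (.leaf 40 2 [1, 2, 1, 3, 3, 1, 2, 1, 3, 1, 2, 1, 3, 3, 1, 3, 1, 2, 2, 1, 3, 5, 4, 6, 4, 5, 4, 6, 4, 5, 5, 4, 3, 3]) (.leaf 48 23 [4, 6, 6, 6, 4, 5, 5, 5, 4, 6, 4, 5, 5, 4, 6, 6, 1, 3, 3, 1, 2, 1, 3, 1, 3, 1, 2, 2, 1, 2, 2, 1, 2, 1, 2, 2, 1, 3, 1])) (.node 2918 (.leaf 50 14 [3, 3, 1, 3, 3, 1, 2, 2, 1, 3, 4, 6, 4, 5, 5, 5, 5, 1, 3, 3, 1, 2, 1, 3, 3, 1, 2, 2, 1, 2, 1]) (.node 2919 (.leaf 55 20 [3, 1, 2, 2, 4, 6, 6, 4, 5, 4, 6, 6, 4, 5, 4, 6, 6, 2, 1, 2, 1, 3, 3, 1, 2, 1, 3, 1, 3, 1, 2, 1, 2, 1, 3, 1, 3]) (.leaf 58 24 [4, 6, 4, 5, 5, 5, 4, 6, 6, 4, 1, 3, 1, 3, 1, 2, 1, 3, 3, 1, 2, 2, 1, 2, 2, 1, 3, 1, 3, 3, 1, 3, 3, 1])))) (.node 2923 (.node 2921 (.leaf 61 13 [1, 2, 1, 2, 2, 1, 3, 3, 1, 2, 2, 4, 6, 6, 6, 4, 5, 4, 6, 6, 6, 4, 5, 4, 6, 2, 1, 3, 1, 3, 3, 1, 2, 2, 1, 3, 1, 2]) (.node 2922 (.leaf 65 38 [5, 2, 2, 1, 3, 3, 1, 2, 1, 2, 1, 2, 1, 2, 1, 2, 1, 2, 1, 2, 1, 3, 1, 2, 1, 6, 6, 4, 5, 5, 4, 6, 4, 5, 4, 6, 4, 5, 5]) (.leaf 68 25 [5, 4, 5, 5, 5, 5, 4, 5, 1, 2, 1, 2, 1, 2, 1, 3, 3, 1, 3, 1, 2, 2, 1, 3, 1, 2, 1, 2, 2, 1, 3, 3, 4]))) (.node 2924 (.leaf 68 7 [3, 3, 1, 3, 1, 2, 2, 1, 3, 1, 2, 1, 2, 2, 1, 3, 3, 4, 5, 4, 5, 5, 5, 5, 4, 5, 1, 2, 1, 2, 1, 2, 1]) (.node 2925 (.leaf 73 4 [1, 3, 3, 1, 3, 3, 1, 3, 1, 3, 1, 3, 3, 1, 2, 1, 3, 3, 1, 3, 3, 4, 6, 6, 6, 4, 5, 4, 6, 6, 6, 4, 5, 4, 6, 6, 4, 2, 2, 1, 2]) (.leaf 78 9 [1, 2, 2, 1, 2, 1, 2, 2, 1, 3, 1, 2, 1, 2, 2, 1, 5, 5, 4, 6, 6, 4, 5, 4, 6, 6, 6, 4, 5, 5, 5, 4, 2, 2, 1, 3, 1, 3, 1, 2, 2]))))))) (.node 2948 (.node 2937 (.node 2931 (.node 2928 (.node 2927 (.leaf 94 18 [3, 3, 1, 3, 1, 3, 3, 4, 5, 5, 5, 5, 4, 6, 6, 6, 4, 6, 2, 2, 1, 3, 1, 3, 1, 2, 1, 2, 2, 1, 2, 1, 2, 1, 3, 1]) (.leaf 97 8 [2, 2, 1, 3, 1, 2, 1, 3, 3, 1, 3, 1, 2, 1, 2, 1, 3, 4, 6, 4, 5, 5, 4, 6, 6, 4, 5, 4, 6, 6, 6, 4, 6, 2, 1, 3, 1, 3, 1, 2, 1])) (.node 2929 (.leaf 99 39 [4, 1, 2, 2, 1, 2, 2, 1, 3, 1, 3, 3, 1, 2, 1, 2, 1, 3, 1, 3, 1, 2, 1, 3, 1, 3, 6, 4, 5, 5, 4, 6, 4, 5, 4, 6, 4, 5, 5, 5]) (.node 2930 (.leaf 101 28 [5, 4, 6, 6, 4, 5, 1, 3, 1, 2, 1, 2, 1, 2, 2, 1, 2, 1, 2, 2, 1, 2, 2, 1, 2, 1, 2, 2, 1, 2, 1, 4, 6, 4]) (.leaf 102 18 [1, 2, 1, 2, 2, 1, 3, 5, 5, 4, 6, 4, 5, 5, 4, 6, 6, 4, 5, 4, 6, 6, 2, 1, 3, 3, 1, 3, 1, 2, 1, 2, 1, 3, 1, 2, 1, 3, 1, 3])))) (.node 2934 (.node 2932 (.leaf 102 25 [5, 5, 4, 6, 4, 5, 5, 4, 6, 6, 4, 5, 4, 6, 6, 2, 1, 3, 3, 1, 3, 1, 2, 1, 2, 1, 3, 1, 2, 1, 3, 1, 3, 1, 2, 1, 2, 2, 1, 3]) (.node 2933 (.leaf 104 4 [1, 2, 1, 3, 1, 3, 3, 1, 2, 2, 1, 3, 3, 1, 3, 1, 2, 2, 1, 2, 1, 6, 6, 4, 5, 4, 6, 4, 5, 5, 4, 6, 4, 1, 3, 1, 2]) (.leaf 111 26 [4, 6, 4, 5, 5, 5, 5, 4, 6, 4, 5, 5, 5, 4, 6, 1, 2, 2, 1, 2, 1, 2, 1, 3, 1, 3, 1, 2, 1, 2, 1, 3, 1, 3, 3, 1, 3, 3, 1, 2, 1]))) (.node 2935 (.leaf 113 30 [5, 5, 4, 6, 6, 6, 4, 5, 5, 5, 2, 2, 1, 3, 1, 2, 1, 3, 1, 2, 1, 3, 1, 2, 2, 1, 2, 2, 1, 3, 3, 1, 3, 3, 1, 3, 4, 6, 4, 5]) (.node 2936 (.leaf 128 15 [3, 1, 2, 1, 3, 3, 1, 2, 1, 2, 2, 5, 4, 5, 5, 5, 4, 6, 4, 5, 5, 5, 4, 6, 4, 5, 2, 1, 3, 3, 1, 2, 1, 2, 1, 2, 1, 3, 1, 2, 1]) (.leaf 133 18 [2, 1, 2, 2, 1, 2, 1, 3, 4, 5, 5, 4, 6, 4, 5, 5, 4, 6, 4, 5, 5, 2, 1, 2, 1, 2, 2, 1, 2, 1, 3, 1, 2, 1, 2, 1, 2, 2, 1]))))) (.node 2942 (.node 2939 (.node 2938 (.leaf 135 14 [1, 2, 1, 2, 1, 2, 2, 1, 2, 1, 2, 1, 4, 6, 4, 5, 5, 5, 4, 6, 6, 6, 4, 5, 4, 1, 3, 1, 2, 2, 1, 2, 1, 3, 1, 2, 2, 1, 2]) (.leaf 136 29 [6, 6, 4, 5, 5, 4, 6, 4, 5, 5, 5, 4, 6, 6, 2, 1, 2, 1, 3, 1, 2, 1, 3, 3, 1, 2, 1, 2, 1, 2, 2, 1, 2, 2, 1, 3, 3, 1, 3, 3, 4, 5, 4])) (.node 2940 (.leaf 139 17 [2, 1, 3, 3, 1, 3, 1, 3, 3, 4, 5, 4, 6, 6, 6, 4, 5, 4, 6, 6, 4, 5, 4, 6, 4, 3, 3, 1, 2, 2, 1, 2, 2, 1, 2, 1, 3, 1, 2, 2, 1, 2]) (.node 2941 (.leaf 140 29 [5, 5, 4, 6, 4, 5, 5, 4, 6, 4, 5, 4, 6, 1, 2, 1, 3, 1, 3, 1, 3, 3, 1, 3, 1, 2, 2, 1, 2, 1, 3, 1, 3, 3, 1, 2, 2, 1, 3, 5, 4, 5]) (.leaf 148 26 [4, 5, 5, 5, 5, 4, 6, 6, 6, 4, 5, 4, 6, 6, 6, 4, 2, 1, 3, 3, 1, 2, 2, 1, 3, 3, 1, 2, 1, 2, 2, 1, 2, 1, 3, 1, 2, 1, 3, 1, 2, 2])))) (.node 2945 (.node 2943 (.leaf 153 14 [1, 2, 1, 2, 2, 1, 2, 1, 3, 3, 1, 3, 4, 6, 6, 6, 4, 5, 5, 5, 4, 5, 1, 3, 1, 3, 1, 2, 2, 1, 2, 1, 2, 1, 2, 2]) (.node 2944 (.leaf 154 15 [1, 3, 1, 3, 1, 2, 1, 3, 1, 2, 2, 4, 5, 4, 5, 5, 5, 4, 6, 4, 5, 5, 5, 4, 6, 6, 6, 2, 1, 2, 2, 1, 3, 1, 2, 1, 2, 1, 2, 1, 2, 2]) (.leaf 157 7 [2, 1, 2, 1, 2, 2, 1, 2, 1, 3, 1, 3, 1, 2, 1, 3, 3, 1, 2, 1, 4, 6, 6, 6, 4, 5, 4, 6, 6, 6, 4, 6, 1, 2, 2, 1, 3, 1, 2]))) (.node 2946 (.leaf 161 17 [1, 3, 3, 1, 2, 1, 3, 3, 1, 3, 5, 5, 5, 4, 6, 4, 5, 4, 6, 6, 4, 5, 1, 2, 1, 2, 1, 2, 2, 1, 3, 3, 1, 3, 1, 2, 1, 3, 3]) (.node 2947 (.leaf 167 1 [3, 1, 3, 1, 3, 1, 2, 1, 3, 1, 2, 1, 2, 1, 2, 1, 2, 2, 1, 3, 1, 3, 3, 1, 3, 1, 5, 4, 6, 6, 4, 5, 5, 5, 1]) (.leaf 172 24 [3, 1, 3, 4, 6, 6, 4, 5, 4, 6, 4, 1, 3, 3, 1, 3, 1, 2, 1, 2, 2, 1, 2, 1, 2, 2, 1, 2, 1, 2, 1, 2, 2, 1, 3])))))) (.node 2959 (.node 2953 (.node 2950 (.node 2949 (.leaf 175 17 [3, 1, 3, 1, 2, 1, 3, 1, 2, 2, 6, 6, 4, 5, 5, 5, 4, 6, 6, 6, 4, 5, 5, 1, 3, 1, 3, 1, 2, 2, 1, 3, 1, 2, 1, 3, 1, 3, 3, 1]) (.leaf 185 17 [3, 1, 3, 1, 2, 1, 3, 1, 3, 1, 5, 5, 4, 6, 4, 5, 5, 4, 6, 4, 5, 5, 5, 4, 1, 3, 3, 1, 3, 3, 1, 2, 1, 2, 2, 1, 2, 2, 1, 2, 1])) (.node 2951 (.leaf 186 28 [4, 5, 5, 4, 6, 6, 4, 5, 5, 5, 4, 2, 1, 3, 1, 3, 3, 1, 2, 1, 3, 1, 2, 2, 1, 2, 1, 2, 2, 1, 3, 1, 2, 1, 2, 2, 1, 3, 6]) (.node 2952 (.leaf 187 21 [1, 2, 1, 3, 3, 1, 5, 5, 5, 4, 6, 6, 6, 4, 5, 4, 6, 6, 6, 4, 5, 3, 3, 1, 2, 2, 1, 2, 2, 1, 3, 1, 3, 3, 1, 3, 1, 3, 3, 1, 2, 2]) (.leaf 191 40 [6, 6, 2, 2, 1, 3, 3, 1, 3, 3, 1, 3, 1, 2, 1, 2, 1, 3, 3, 1, 3, 1, 3, 1, 3, 1, 3, 1, 3, 6, 4, 5, 5, 5, 4, 6, 4, 5, 5, 5, 4, 6])))) (.node 2956 (.node 2954 (.leaf 200 4 [3, 1, 3, 1, 2, 2, 1, 2, 1, 2, 2, 1, 2, 1, 2, 1, 3, 3, 1, 3, 3, 1, 3, 5, 4, 6, 4, 5, 5, 5, 4, 6, 4, 5, 5, 4, 1, 2, 2, 1]) (.node 2955 (.leaf 200 27 [5, 4, 6, 4, 5, 5, 5, 4, 6, 4, 5, 5, 4, 1, 2, 2, 1, 3, 1, 3, 1, 2, 2, 1, 2, 1, 2, 2, 1, 2, 1, 2, 1, 3, 3, 1, 3, 3, 1, 3]) (.leaf 201 15 [3, 1, 3, 1, 3, 1, 3, 1, 2, 2, 1, 3, 4, 5, 5, 5, 4, 6, 4, 5, 5, 4, 6, 4, 5, 5, 2, 2, 1, 3, 1, 3, 3, 1, 3, 1, 3, 1, 2, 2, 1]))) (.node 2957 (.leaf 202 16 [1, 2, 1, 2, 2, 1, 2, 1, 2, 2, 1, 5, 5, 5, 5, 4, 6, 4, 5, 5, 5, 4, 6, 4, 5, 5, 5, 1, 3, 1, 2, 2, 1, 2, 1, 2, 2, 1, 2, 2, 1, 3, 3]) (.node 2958 (.leaf 205 19 [2, 1, 3, 1, 2, 1, 2, 1, 4, 6, 4, 5, 4, 6, 4, 5, 4, 6, 4, 5, 5, 4, 6, 4, 2, 1, 2, 1, 3, 3, 1, 2, 1, 3, 3, 1, 2, 2, 1, 2, 2, 1, 2]) (.leaf 211 19 [2, 1, 2, 1, 2, 1, 3, 1, 5, 5, 4, 6, 4, 5, 5, 4, 6, 4, 5, 4, 6, 4, 5, 1, 3, 1, 2, 1, 3, 3, 1, 3, 1, 2, 1, 2, 2, 1, 2, 2, 1, 2]))))) (.node 2964 (.node 2961 (.node 2960 (.leaf 213 24 [3, 1, 3, 5, 4, 5, 5, 5, 5, 4, 5, 1, 3, 1, 3, 3, 1, 3, 3, 1, 3, 1, 3, 1, 2, 1, 3, 1, 3, 1, 3, 3, 1, 3, 1]) (.leaf 219 25 [3, 1, 5, 4, 5, 5, 5, 4, 6, 4, 5, 5, 5, 4, 2, 1, 2, 2, 1, 2, 1, 3, 1, 2, 1, 2, 1, 2, 2, 1, 2, 2, 1, 3, 3, 1, 3, 1, 3])) (.node 2962 (.leaf 223 28 [5, 5, 4, 6, 4, 5, 5, 5, 4, 6, 4, 5, 5, 4, 2, 1, 3, 1, 3, 1, 3, 1, 3, 3, 1, 3, 1, 2, 1, 2, 2, 1, 2, 2, 1, 2, 2, 1, 3, 1, 3, 4]) (.node 2963 (.leaf 224 24 [3, 1, 3, 5, 5, 4, 6, 6, 4, 5, 4, 6, 6, 6, 2, 2, 1, 3, 3, 1, 3, 1, 3, 1, 2, 2, 1, 2, 2, 1, 3, 1, 3, 1, 2, 1, 3, 1]) (.leaf 225 16 [1, 2, 1, 3, 1, 2, 1, 3, 1, 3, 3, 4, 6, 4, 5, 4, 6, 4, 5, 4, 6, 4, 5, 4, 6, 1, 2, 2, 1, 3, 1, 2, 2, 1, 3, 3, 1, 2, 2, 1, 3])))) (.node 2967 (.node 2965 (.leaf 226 11 [3, 1, 2, 1, 2, 1, 2, 2, 1, 2, 2, 1, 2, 1, 3, 3, 6, 4, 5, 4, 6, 4, 5, 5, 5, 2, 2, 1, 2, 2, 1, 3, 1, 3, 3, 1]) (.node 2966 (.leaf 229 42 [5, 2, 1, 2, 2, 1, 2, 1, 3, 1, 3, 1, 2, 1, 2, 1, 3, 1, 2, 1, 2, 1, 2, 2, 1, 2, 2, 1, 4, 6, 6, 4, 5, 4, 6, 4, 5, 5, 4, 6, 4, 5, 5]) (.leaf 233 20 [1, 2, 2, 1, 2, 1, 3, 5, 4, 6, 6, 4, 5, 4, 6, 6, 2, 1, 2, 1, 3, 1, 3, 1, 2, 1, 3, 1, 2, 1, 2, 2, 1, 2, 1, 2]))) (.node 2968 (.leaf 242 14 [3, 3, 1, 3, 1, 3, 3, 1, 3, 1, 2, 1, 3, 5, 5, 5, 4, 6, 6, 6, 4, 5, 5, 5, 4, 6, 6, 1, 3, 3, 1, 2, 1, 2, 2, 1, 3, 3, 1, 3, 1]) (.node 2969 (.leaf 251 7 [1, 2, 1, 3, 3, 1, 2, 2, 1, 2, 1, 3, 3, 1, 2, 1, 2, 1, 3, 1, 5, 5, 4, 6, 4, 5, 5, 5, 4, 6, 4, 5, 5, 4, 6, 6, 2, 1, 2, 1, 2, 1, 3]) (.leaf 260 15 [3, 3, 1, 2, 1, 2, 1, 3, 1, 3, 1, 3, 3, 4, 5, 4, 6, 6, 4, 5, 4, 6, 4, 3, 3, 1, 3, 1, 3, 3, 1, 2, 1, 2, 1, 2, 2, 1]))))))))) (.node 3057 (.node 3013 (.node 2991 (.node 2980 (.node 2975 (.node 2972 (.node 2971 (.leaf 260 26 [3, 3, 4, 5, 4, 6, 6, 4, 5, 4, 6, 4, 3, 3, 1, 3, 1, 3, 3, 1, 2, 1, 2, 1, 2, 2, 1, 3, 3, 1, 2, 1, 2, 1, 3, 1, 3, 1]) (.leaf 263 39 [6, 3, 3, 1, 3, 3, 1, 3, 1, 3, 1, 3, 1, 2, 2, 1, 2, 1, 3, 1, 2, 1, 2, 1, 2, 2, 1, 2, 1, 4, 5, 5, 5, 4, 6, 6, 4, 5, 5, 4])) (.node 2973 (.leaf 265 4 [2, 1, 2, 1, 3, 1, 2, 1, 2, 2, 1, 2, 1, 3, 3, 1, 2, 1, 3, 3, 1, 2, 1, 3, 5, 4, 6, 4, 5, 4, 6, 4, 5, 5, 4, 6, 6, 3, 3, 1, 2]) (.node 2974 (.leaf 275 2 [1, 3, 3, 1, 2, 1, 3, 1, 2, 1, 2, 1, 2, 2, 1, 2, 2, 1, 2, 2, 1, 3, 1, 2, 1, 3, 4, 5, 4, 6, 4, 5, 4, 6, 6, 6, 4, 6, 3, 3]) (.leaf 279 26 [3, 1, 5, 5, 4, 6, 6, 6, 4, 5, 4, 6, 6, 6, 4, 5, 4, 6, 1, 3, 1, 3, 1, 2, 2, 1, 2, 2, 1, 3, 1, 2, 1, 2, 2, 1, 2, 1, 2, 1, 3, 1, 2, 1])))) (.node 2977 (.node 2976 (.leaf 280 26 [1, 3, 6, 4, 5, 4, 6, 6, 4, 5, 5, 4, 6, 4, 5, 5, 5, 2, 1, 3, 3, 1, 2, 2, 1, 2, 1, 2, 1, 3, 1, 3, 1, 2, 1, 3, 1, 2, 2, 1, 3, 1, 2]) (.leaf 283 41 [5, 4, 1, 2, 1, 2, 1, 2, 1, 3, 1, 3, 1, 2, 2, 1, 2, 2, 1, 3, 1, 2, 1, 3, 1, 3, 1, 3, 1, 3, 4, 5, 5, 5, 5, 4, 6, 4, 5, 5, 4, 6, 4])) (.node 2978 (.leaf 290 19 [3, 3, 1, 3, 1, 3, 1, 3, 3, 5, 4, 6, 6, 6, 4, 5, 5, 5, 4, 1, 2, 1, 2, 2, 1, 3, 1, 3, 3, 1, 3, 1, 2, 2, 1, 2, 2, 1]) (.node 2979 (.leaf 298 7 [3, 1, 3, 3, 1, 2, 1, 3, 3, 1, 2, 1, 3, 1, 3, 1, 2, 1, 3, 3, 1, 4, 5, 5, 5, 4, 6, 6, 4, 5, 1, 3, 3, 1, 3, 1, 3]) (.leaf 299 8 [3, 1, 2, 2, 1, 2, 2, 1, 3, 1, 2, 1, 3, 1, 2, 1, 2, 1, 2, 2, 6, 6, 4, 5, 4, 6, 4, 5, 5, 5, 4, 5, 1, 3, 1, 2, 1, 3, 1, 3]))))) (.node 2985 (.node 2982 (.node 2981 (.leaf 299 22 [2, 1, 2, 1, 2, 2, 6, 6, 4, 5, 4, 6, 4, 5, 5, 5, 4, 5, 1, 3, 1, 2, 1, 3, 1, 3, 3, 1, 2, 2, 1, 2, 2, 1, 3, 1, 2, 1, 3, 1]) (.leaf 302 16 [1, 2, 2, 1, 2, 1, 2, 1, 3, 1, 3, 3, 4, 5, 4, 6, 4, 5, 4, 6, 4, 5, 4, 6, 6, 6, 4, 5, 4, 1, 3, 1, 3, 3, 1, 2, 2, 1, 2, 2, 1, 3, 1, 2, 2])) (.node 2983 (.leaf 306 25 [2, 1, 3, 5, 5, 5, 5, 4, 6, 4, 5, 5, 4, 6, 6, 4, 5, 5, 1, 2, 1, 2, 1, 3, 3, 1, 2, 1, 2, 1, 2, 1, 2, 1, 2, 1, 2, 1, 2, 1, 3, 1, 2]) (.node 2984 (.leaf 307 7 [1, 3, 1, 2, 2, 1, 2, 1, 3, 3, 1, 3, 3, 1, 2, 1, 3, 3, 1, 3, 1, 6, 6, 4, 5, 5, 5, 4, 6, 6, 6, 4, 5, 5, 5, 4, 1, 2, 1, 3, 1, 3, 3]) (.leaf 313 12 [3, 1, 3, 1, 3, 3, 1, 3, 1, 2, 2, 1, 3, 1, 3, 1, 5, 5, 5, 4, 6, 4, 5, 5, 4, 6, 6, 4, 5, 3, 3, 1, 2, 2, 1, 3, 1, 2, 2, 1, 3])))) (.node 2988 (.node 2986 (.leaf 316 28 [6, 4, 5, 5, 4, 6, 4, 5, 5, 4, 6, 4, 5, 4, 2, 1, 3, 3, 1, 2, 1, 2, 2, 1, 2, 1, 3, 1, 2, 1, 3, 1, 2, 1, 2, 2, 1, 3, 3, 1, 2, 2]) (.node 2987 (.leaf 320 22 [2, 1, 2, 2, 1, 3, 6, 4, 5, 5, 5, 5, 4, 6, 4, 5, 5, 5, 4, 6, 1, 3, 3, 1, 3, 3, 1, 3, 1, 2, 2, 1, 3, 3, 1, 3, 1, 3, 1, 2, 1, 2]) (.leaf 324 22 [2, 1, 2, 1, 2, 2, 5, 5, 5, 5, 4, 6, 4, 5, 5, 5, 4, 2, 2, 1, 2, 2, 1, 2, 1, 2, 1, 2, 2, 1, 3, 1, 3, 1, 3, 1, 2, 2, 1]))) (.node 2989 (.leaf 327 5 [2, 2, 1, 2, 1, 3, 1, 2, 1, 3, 3, 1, 2, 1, 2, 1, 3, 1, 2, 2, 1, 3, 1, 4, 6, 4, 5, 5, 5, 5, 4, 6, 4, 5, 5, 5, 4, 6, 4, 2, 2, 1, 2, 1]) (.node 2990 (.leaf 327 19 [2, 1, 3, 1, 2, 2, 1, 3, 1, 4, 6, 4, 5, 5, 5, 5, 4, 6, 4, 5, 5, 5, 4, 6, 4, 2, 2, 1, 2, 1, 2, 2, 1, 2, 1, 3, 1, 2, 1, 3, 3, 1, 2, 1]) (.leaf 330 4 [3, 1, 2, 1, 3, 1, 2, 1, 3, 1, 3, 1, 3, 3, 1, 3, 1, 2, 1, 2, 1, 3, 3, 1, 6, 4, 5, 5, 5, 4, 6, 4, 5, 5, 5, 2, 1, 2, 1])))))) (.node 3002 (.node 2996 (.node 2993 (.node 2992 (.leaf 330 16 [3, 3, 1, 3, 1, 2, 1, 2, 1, 3, 3, 1, 6, 4, 5, 5, 5, 4, 6, 4, 5, 5, 5, 2, 1, 2, 1, 3, 1, 2, 1, 3, 1, 2, 1, 3, 1, 3, 1]) (.leaf 335 8 [2, 1, 3, 3, 1, 2, 1, 3, 1, 2, 2, 1, 3, 1, 2, 1, 3, 1, 2, 2, 6, 6, 6, 4, 5, 5, 5, 4, 6, 6, 6, 4, 3, 3, 1, 2, 1, 3, 3, 1])) (.node 2994 (.leaf 341 9 [2, 1, 2, 2, 1, 3, 1, 3, 3, 1, 3, 1, 2, 1, 3, 3, 1, 3, 1, 4, 5, 4, 6, 4, 5, 4, 6, 4, 5, 4, 6, 4, 5, 5, 3, 3, 1, 2, 2, 1, 2, 1, 2]) (.node 2995 (.leaf 348 7 [2, 2, 1, 3, 3, 1, 2, 1, 3, 1, 2, 1, 3, 1, 3, 3, 1, 2, 1, 3, 1, 6, 6, 4, 5, 4, 6, 6, 6, 4, 5, 4, 6, 6, 6, 1, 3, 1, 3, 1, 3, 1]) (.leaf 352 15 [3, 1, 2, 1, 3, 1, 2, 1, 2, 2, 1, 3, 3, 4, 6, 4, 5, 5, 4, 6, 4, 5, 5, 4, 6, 4, 5, 1, 3, 1, 3, 1, 3, 1, 2, 2, 1, 3, 1, 3, 3, 1])))) (.node 2999 (.node 2997 (.leaf 357 5 [2, 1, 3, 1, 2, 2, 1, 2, 2, 1, 2, 2, 1, 3, 1, 2, 1, 2, 2, 1, 2, 1, 3, 6, 6, 6, 4, 5, 4, 6, 6, 6, 4, 5, 4, 6, 6, 4, 5, 2, 1, 2, 2, 1]) (.node 2998 (.leaf 360 15 [2, 1, 3, 1, 2, 2, 1, 2, 1, 3, 3, 1, 3, 6, 4, 5, 4, 6, 6, 4, 5, 4, 6, 6, 6, 4, 5, 4, 6, 2, 1, 2, 1, 2, 1, 3, 3, 1, 3, 1, 3, 3, 1, 2]) (.leaf 362 10 [2, 1, 3, 1, 2, 2, 1, 3, 1, 2, 1, 2, 2, 1, 3, 3, 1, 3, 5, 5, 5, 4, 6, 6, 4, 5, 4, 6, 4, 5, 5, 1, 3, 1, 2, 1, 2, 2, 1, 2, 1]))) (.node 3000 (.leaf 363 21 [3, 1, 2, 1, 3, 1, 3, 4, 6, 6, 4, 5, 4, 6, 4, 5, 4, 6, 4, 5, 4, 6, 4, 1, 3, 1, 3, 3, 1, 2, 2, 1, 2, 2, 1, 3, 3, 1, 3, 3, 1, 3, 1, 3]) (.node 3001 (.leaf 366 11 [1, 2, 2, 1, 3, 3, 1, 2, 2, 1, 3, 1, 3, 1, 3, 3, 1, 4, 6, 4, 5, 4, 6, 6, 4, 5, 4, 6, 6, 4, 2, 1, 2, 1, 3, 1, 2, 2, 1, 3, 3]) (.leaf 373 17 [2, 1, 2, 2, 1, 3, 3, 1, 3, 3, 1, 4, 6, 6, 6, 4, 5, 5, 5, 4, 6, 4, 5, 5, 5, 4, 1, 3, 3, 1, 3, 1, 3, 1, 3, 1, 2, 1, 2, 1, 3, 1, 2]))))) (.node 3007 (.node 3004 (.node 3003 (.leaf 377 4 [3, 1, 2, 1, 3, 3, 1, 3, 3, 1, 2, 1, 2, 2, 1, 2, 1, 3, 1, 2, 1, 2, 2, 1, 5, 4, 6, 6, 4, 5, 4, 6, 4, 5, 5, 4, 6, 6, 1, 2, 2, 1]) (.leaf 379 2 [1, 2, 1, 2, 1, 3, 1, 2, 1, 3, 1, 2, 2, 1, 2, 1, 2, 1, 2, 1, 2, 1, 2, 1, 3, 1, 4, 6, 4, 5, 5, 5, 4, 6, 3, 3])) (.node 3005 (.leaf 381 3 [2, 1, 2, 1, 3, 1, 3, 3, 1, 3, 1, 2, 1, 3, 3, 1, 2, 2, 1, 2, 1, 3, 1, 3, 3, 4, 5, 5, 4, 6, 4, 5, 5, 4, 6, 6, 4, 2, 2, 1]) (.node 3006 (.leaf 382 3 [2, 2, 1, 3, 1, 2, 1, 3, 1, 2, 2, 1, 3, 3, 1, 3, 3, 1, 3, 3, 1, 3, 1, 2, 1, 4, 5, 5, 5, 5, 4, 6, 4, 5, 5, 4, 6, 1, 3, 1]) (.leaf 382 12 [2, 2, 1, 3, 3, 1, 3, 3, 1, 3, 3, 1, 3, 1, 2, 1, 4, 5, 5, 5, 5, 4, 6, 4, 5, 5, 4, 6, 1, 3, 1, 2, 2, 1, 3, 1, 2, 1, 3, 1])))) (.node 3010 (.node 3008 (.leaf 388 15 [3, 1, 3, 1, 3, 1, 3, 1, 3, 1, 3, 3, 1, 5, 4, 6, 4, 5, 4, 6, 4, 5, 5, 4, 6, 4, 1, 3, 3, 1, 3, 1, 3, 3, 1, 2, 1, 2, 1, 2, 1]) (.node 3009 (.leaf 388 14 [1, 3, 1, 3, 1, 3, 1, 3, 1, 3, 1, 3, 3, 1, 5, 4, 6, 4, 5, 4, 6, 4, 5, 5, 4, 6, 4, 1, 3, 3, 1, 3, 1, 3, 3, 1, 2, 1, 2, 1, 2]) (.leaf 392 18 [2, 1, 3, 1, 3, 3, 1, 3, 3, 1, 3, 6, 6, 4, 5, 5, 5, 4, 6, 6, 6, 4, 5, 5, 2, 1, 2, 2, 1, 2, 2, 1, 2, 1, 3, 1, 2, 2, 1, 3, 3, 1]))) (.node 3011 (.leaf 393 13 [3, 1, 3, 1, 2, 1, 3, 1, 3, 3, 1, 3, 3, 1, 3, 1, 4, 6, 4, 5, 5, 5, 4, 6, 4, 5, 5, 5, 4, 6, 4, 5, 1, 3, 3, 1, 3, 1, 3, 1, 3, 1, 3, 3, 1]) (.node 3012 (.leaf 394 9 [2, 1, 2, 2, 1, 2, 1, 2, 2, 1, 3, 1, 3, 1, 3, 1, 3, 3, 1, 3, 5, 4, 5, 5, 5, 4, 6, 4, 5, 5, 5, 4, 6, 4, 5, 2, 2, 1, 3, 1, 2, 2, 1, 2]) (.leaf 36 20 [1, 3, 3, 4, 5, 5, 5, 4, 6, 6, 6, 4, 5, 4, 6, 3, 3, 1, 3, 1, 2, 1, 3, 1, 3, 1, 2, 2, 1, 3, 1, 2, 1, 3, 3]))))))) (.node 3035 (.node 3024 (.node 3018 (.node 3015 (.node 3014 (.leaf 85 25 [6, 6, 6, 4, 5, 4, 6, 6, 6, 4, 5, 4, 6, 6, 6, 2, 2, 1, 2, 1, 3, 1, 3, 1, 3, 1, 3, 1, 3, 1, 2, 1, 3, 3, 1, 2, 2, 1, 2, 1]) (.leaf 123 6 [3, 1, 2, 1, 2, 2, 1, 3, 1, 2, 1, 3, 1, 2, 2, 1, 2, 1, 3, 1, 5, 4, 6, 4, 5, 4, 6, 6, 4, 5, 4, 6, 6, 6, 4, 6, 2, 2, 1, 3, 1, 3])) (.node 3016 (.leaf 180 4 [3, 1, 2, 1, 3, 1, 3, 1, 2, 2, 1, 3, 1, 3, 1, 3, 1, 2, 1, 2, 1, 2, 1, 6, 4, 6, 6, 6, 4, 5, 4, 6, 6, 6, 4, 5, 2, 1, 2, 1]) (.node 3017 (.leaf 199 18 [2, 1, 3, 1, 2, 2, 1, 2, 1, 5, 4, 6, 6, 6, 4, 5, 5, 5, 4, 6, 2, 2, 1, 2, 1, 3, 1, 3, 1, 2, 2, 1, 3, 1, 2, 2, 1, 2]) (.leaf 212 11 [1, 3, 1, 3, 1, 2, 2, 1, 3, 1, 3, 1, 3, 1, 3, 1, 6, 4, 6, 6, 6, 4, 5, 4, 6, 6, 6, 4, 5, 2, 1, 3, 1, 2, 1, 3, 1, 2, 1, 3])))) (.node 3021 (.node 3019 (.leaf 221 28 [6, 4, 5, 5, 5, 4, 6, 6, 6, 4, 5, 5, 2, 1, 2, 1, 2, 1, 3, 3, 1, 2, 1, 3, 1, 2, 1, 3, 1, 2, 2, 1, 3, 1, 2, 2, 1, 3, 1, 4]) (.node 3020 (.leaf 242 3 [1, 2, 1, 2, 2, 1, 3, 3, 1, 3, 1, 3, 3, 1, 3, 1, 3, 3, 1, 3, 1, 2, 1, 3, 5, 5, 5, 4, 6, 6, 6, 4, 5, 5, 5, 4, 6, 6, 1, 3, 3]) (.leaf 276 29 [6, 6, 4, 5, 5, 5, 4, 6, 6, 6, 4, 5, 5, 5, 1, 2, 1, 2, 2, 1, 3, 3, 1, 2, 2, 1, 2, 2, 1, 2, 2, 1, 2, 2, 1, 3, 1, 3, 3, 1, 3, 1, 6]))) (.node 3022 (.leaf 289 34 [4, 5, 4, 1, 3, 1, 3, 1, 3, 3, 1, 3, 1, 2, 1, 2, 2, 1, 3, 1, 2, 1, 2, 2, 1, 3, 3, 1, 3, 1, 3, 6, 4, 6, 6, 6, 6]) (.node 3023 (.leaf 289 21 [1, 3, 3, 1, 3, 1, 3, 6, 4, 6, 6, 6, 6, 4, 5, 4, 1, 3, 1, 3, 1, 3, 3, 1, 3, 1, 2, 1, 2, 2, 1, 3, 1, 2, 1, 2, 2]) (.leaf 329 10 [3, 1, 2, 2, 1, 2, 1, 2, 1, 3, 3, 1, 3, 1, 3, 3, 1, 3, 4, 6, 6, 6, 4, 5, 4, 6, 6, 6, 1, 3, 1, 2, 2, 1, 2, 1, 2, 1]))))) (.node 3029 (.node 3026 (.node 3025 (.leaf 331 8 [3, 1, 2, 1, 2, 2, 1, 3, 1, 2, 1, 3, 3, 1, 3, 1, 2, 1, 3, 1, 4, 5, 5, 4, 6, 4, 5, 4, 6, 6, 6, 4, 2, 1, 2, 1, 2, 2, 1, 3]) (.leaf 335 10 [3, 3, 1, 2, 1, 3, 1, 2, 2, 1, 3, 1, 2, 1, 3, 1, 2, 2, 6, 6, 6, 4, 5, 5, 5, 4, 6, 6, 6, 4, 3, 3, 1, 2, 1, 3, 3, 1, 2, 1])) (.node 3027 (.leaf 339 38 [6, 4, 2, 1, 3, 3, 1, 2, 1, 3, 1, 2, 2, 1, 3, 1, 2, 2, 1, 3, 1, 2, 2, 1, 2, 1, 3, 1, 2, 2, 6, 6, 6, 4, 5, 5, 5, 4, 6, 6]) (.node 3028 (.leaf 339 4 [1, 2, 1, 3, 1, 2, 2, 1, 3, 1, 2, 2, 1, 3, 1, 2, 2, 1, 2, 1, 3, 1, 2, 2, 6, 6, 6, 4, 5, 5, 5, 4, 6, 6, 6, 4, 2, 1, 3, 3]) (.leaf 345 27 [3, 6, 4, 5, 5, 5, 5, 4, 6, 6, 6, 4, 6, 2, 1, 2, 1, 2, 1, 3, 1, 3, 1, 3, 1, 3, 1, 2, 1, 2, 1, 2, 1, 2, 1, 3, 3, 1, 3, 1])))) (.node 3032 (.node 3030 (.leaf 350 29 [5, 5, 4, 6, 6, 6, 4, 5, 5, 5, 4, 6, 6, 6, 2, 2, 1, 2, 1, 2, 1, 2, 2, 1, 3, 1, 2, 1, 2, 1, 3, 1, 3, 1, 2, 1, 2, 1, 2, 1, 3, 1, 5]) (.node 3031 (.leaf 358 4 [3, 1, 3, 1, 2, 2, 1, 2, 1, 2, 1, 3, 3, 1, 2, 1, 3, 1, 3, 1, 2, 1, 3, 1, 4, 5, 5, 4, 6, 4, 5, 5, 4, 6, 4, 5, 4, 6, 6, 6, 1, 3, 1, 3]) (.leaf 378 10 [1, 2, 1, 2, 1, 3, 1, 3, 3, 1, 2, 1, 2, 1, 2, 1, 3, 3, 4, 6, 4, 5, 5, 5, 4, 6, 6, 6, 4, 5, 4, 6, 3, 3, 1, 3, 3, 1, 3, 3, 1, 3]))) (.node 3033 (.leaf 75 4 [1, 2, 1, 3, 3, 1, 3, 3, 1, 2, 2, 1, 3, 3, 1, 2, 1, 2, 1, 3, 3, 6, 6, 4, 5, 5, 5, 4, 6, 4, 5, 5, 5, 4, 1, 2, 1, 3]) (.node 3034 (.leaf 89 18 [2, 1, 2, 1, 3, 1, 3, 6, 6, 4, 5, 5, 5, 4, 6, 4, 5, 5, 5, 4, 6, 6, 6, 1, 3, 1, 3, 1, 3, 3, 1, 3, 3, 1, 3, 1, 3, 1, 2, 2, 1]) (.leaf 96 22 [2, 1, 3, 5, 5, 4, 6, 6, 4, 5, 4, 6, 4, 5, 5, 5, 4, 5, 3, 3, 1, 3, 1, 2, 1, 2, 2, 1, 2, 2, 1, 3, 1, 2, 1, 3, 1, 3, 3, 1])))))) (.node 3046 (.node 3040 (.node 3037 (.node 3036 (.leaf 117 2 [1, 2, 2, 1, 2, 1, 3, 1, 3, 3, 1, 2, 1, 3, 1, 2, 1, 3, 3, 1, 3, 3, 1, 3, 5, 5, 5, 5, 4, 6, 3, 3]) (.leaf 119 17 [3, 1, 3, 1, 3, 1, 3, 3, 1, 4, 6, 6, 4, 5, 5, 5, 4, 5, 1, 3, 3, 1, 3, 1, 2, 2, 1, 2, 1, 2, 2, 1, 3, 3, 1])) (.node 3038 (.leaf 122 16 [2, 2, 1, 2, 2, 1, 3, 1, 2, 2, 4, 5, 5, 5, 4, 6, 4, 5, 5, 5, 4, 5, 1, 2, 1, 3, 3, 1, 2, 1, 2, 2, 1, 3, 3, 1, 3, 1]) (.node 3039 (.leaf 135 10 [2, 2, 1, 2, 1, 2, 1, 2, 1, 2, 2, 1, 2, 1, 2, 1, 4, 6, 4, 5, 5, 5, 4, 6, 6, 6, 4, 5, 4, 1, 3, 1, 2, 2, 1, 2, 1, 3, 1]) (.leaf 149 22 [3, 1, 3, 1, 6, 4, 5, 5, 4, 6, 4, 5, 4, 6, 4, 5, 5, 5, 4, 1, 2, 2, 1, 3, 1, 2, 2, 1, 2, 2, 1, 2, 1, 2, 1, 2, 1, 2, 1, 3, 1])))) (.node 3043 (.node 3041 (.leaf 159 24 [1, 3, 1, 4, 5, 4, 5, 5, 5, 4, 6, 4, 5, 4, 6, 6, 3, 3, 1, 3, 1, 3, 1, 3, 3, 1, 3, 1, 2, 1, 2, 2, 1, 2, 2, 1, 3, 3, 1, 3]) (.node 3042 (.leaf 161 5 [2, 2, 1, 3, 3, 1, 3, 1, 2, 1, 3, 3, 1, 3, 3, 1, 2, 1, 3, 3, 1, 3, 5, 5, 5, 4, 6, 4, 5, 4, 6, 6, 4, 5, 1, 2, 1, 2, 1]) (.leaf 199 14 [2, 2, 1, 2, 2, 1, 3, 1, 2, 2, 1, 2, 1, 5, 4, 6, 6, 6, 4, 5, 5, 5, 4, 6, 2, 2, 1, 2, 1, 3, 1, 3, 1, 2, 2, 1, 3, 1]))) (.node 3044 (.leaf 201 8 [3, 1, 3, 1, 2, 2, 1, 3, 1, 3, 1, 3, 1, 3, 1, 2, 2, 1, 3, 4, 5, 5, 5, 4, 6, 4, 5, 5, 4, 6, 4, 5, 5, 2, 2, 1, 3, 1, 3, 3, 1]) (.node 3045 (.leaf 207 28 [6, 4, 5, 5, 4, 6, 4, 5, 5, 5, 4, 6, 4, 5, 5, 5, 2, 2, 1, 2, 1, 3, 1, 2, 1, 2, 1, 3, 1, 2, 2, 1, 3, 3, 1, 3, 1, 3, 1, 2, 1, 2, 1, 4]) (.leaf 221 7 [3, 1, 2, 1, 3, 1, 2, 1, 3, 1, 2, 2, 1, 3, 1, 2, 2, 1, 3, 1, 4, 6, 4, 5, 5, 5, 4, 6, 6, 6, 4, 5, 5, 2, 1, 2, 1, 2, 1, 3]))))) (.node 3051 (.node 3048 (.node 3047 (.leaf 231 14 [2, 1, 2, 1, 2, 2, 1, 3, 3, 1, 3, 1, 3, 4, 5, 5, 5, 4, 6, 4, 5, 4, 6, 6, 4, 5, 5, 3, 3, 1, 3, 1, 2, 2, 1, 2, 1, 2, 1, 3, 1]) (.leaf 235 1 [2, 1, 3, 1, 3, 1, 2, 1, 2, 1, 2, 1, 2, 1, 3, 1, 2, 2, 1, 3, 1, 3, 1, 2, 1, 3, 4, 6, 6, 6, 4, 5, 5, 5, 4, 5, 2])) (.node 3049 (.leaf 266 15 [3, 1, 3, 3, 1, 2, 1, 2, 1, 3, 1, 3, 3, 6, 6, 4, 5, 5, 5, 4, 6, 6, 2, 1, 2, 1, 2, 1, 3, 1, 2, 1, 2, 1, 2, 2, 1]) (.node 3050 (.leaf 290 29 [4, 6, 6, 6, 4, 5, 5, 5, 4, 1, 2, 1, 2, 2, 1, 3, 1, 3, 3, 1, 3, 1, 2, 2, 1, 2, 2, 1, 3, 3, 1, 3, 1, 3, 1, 3, 3, 5]) (.leaf 307 12 [1, 2, 1, 3, 3, 1, 3, 3, 1, 2, 1, 3, 3, 1, 3, 1, 6, 6, 4, 5, 5, 5, 4, 6, 6, 6, 4, 5, 5, 5, 4, 1, 2, 1, 3, 1, 3, 3, 1, 3, 1, 2, 2])))) (.node 3054 (.node 3052 (.leaf 310 2 [3, 1, 3, 1, 2, 1, 2, 1, 3, 1, 3, 1, 2, 1, 2, 1, 2, 1, 3, 3, 1, 3, 1, 2, 2, 1, 5, 4, 5, 5, 5, 4, 6, 4, 5, 4, 6, 6, 4, 5, 2, 1]) (.node 3053 (.leaf 339 3 [3, 1, 2, 1, 3, 1, 2, 2, 1, 3, 1, 2, 2, 1, 3, 1, 2, 2, 1, 2, 1, 3, 1, 2, 2, 6, 6, 6, 4, 5, 5, 5, 4, 6, 6, 6, 4, 2, 1, 3]) (.leaf 343 10 [1, 2, 1, 2, 2, 1, 2, 1, 3, 3, 1, 3, 3, 1, 3, 3, 1, 3, 6, 6, 6, 4, 5, 5, 5, 4, 6, 6, 6, 4, 5, 5, 5, 1, 2, 1, 2, 2, 1, 3, 3, 1, 2]))) (.node 3055 (.leaf 347 4 [2, 1, 2, 2, 1, 3, 1, 2, 1, 2, 1, 2, 1, 3, 3, 1, 3, 1, 2, 2, 1, 3, 3, 1, 5, 4, 6, 6, 6, 4, 5, 5, 5, 4, 5, 1, 3, 3, 1]) (.node 3056 (.leaf 368 23 [1, 2, 1, 2, 2, 4, 5, 5, 5, 4, 6, 6, 6, 4, 5, 5, 5, 4, 6, 2, 2, 1, 3, 3, 1, 3, 3, 1, 2, 1, 3, 3, 1, 2, 2, 1, 3, 3, 1, 3, 1, 2]) (.leaf 379 0 [3, 3, 1, 2, 1, 2, 1, 3, 1, 2, 1, 3, 1, 2, 2, 1, 2, 1, 2, 1, 2, 1, 2, 1, 2, 1, 3, 1, 4, 6, 4, 5, 5, 5, 4, 6])))))))) (.node 3101 (.node 3079 (.node 3068 (.node 3062 (.node 3059 (.node 3058 (.leaf 384 37 [4, 2, 1, 3, 1, 2, 1, 3, 1, 2, 1, 3, 1, 2, 1, 3, 1, 2, 1, 2, 1, 3, 3, 1, 3, 1, 2, 2, 1, 6, 6, 6, 4, 5, 5, 5, 4, 6]) (.leaf 5 34 [1, 2, 1, 2, 1, 2, 1, 2, 1, 2, 1, 2, 1, 2, 1, 2, 1, 2, 1, 2, 1, 2, 1, 2, 1, 2, 1, 2, 1, 2, 1, 2, 1, 2, 1, 2, 1, 2])) (.node 3060 (.leaf 70 27 [5, 5, 5, 4, 5, 1, 2, 1, 2, 1, 3, 1, 2, 1, 3, 1, 3, 1, 2, 1, 3, 1, 2, 1, 3, 1, 2, 1, 2, 1, 6, 4]) (.node 3061 (.leaf 295 0 [1, 2, 2, 1, 2, 1, 3, 1, 3, 3, 1, 3, 1, 2, 1, 3, 3, 1, 2, 1, 3, 1, 2, 1, 3, 1, 2, 2, 6, 4, 5, 4, 6, 6, 4, 5, 4, 5]) (.leaf 40 19 [2, 2, 1, 3, 5, 4, 6, 4, 5, 4, 6, 4, 5, 5, 4, 3, 3, 1, 2, 1, 3, 3, 1, 2, 1, 3, 1, 2, 1, 3, 3, 1, 3, 1])))) (.node 3065 (.node 3063 (.leaf 43 38 [5, 4, 2, 2, 1, 2, 1, 3, 1, 2, 2, 1, 3, 1, 3, 3, 1, 2, 2, 1, 2, 1, 3, 1, 3, 4, 5, 5, 4, 6, 6, 4, 5, 4, 6, 6, 6, 4, 5, 5]) (.node 3064 (.leaf 179 30 [5, 5, 4, 6, 6, 6, 4, 3, 3, 1, 2, 1, 2, 1, 3, 1, 2, 1, 2, 2, 1, 3, 3, 1, 2, 2, 1, 3, 3, 1, 3, 1, 2, 1, 5, 4, 5]) (.leaf 201 21 [3, 1, 2, 2, 1, 3, 4, 5, 5, 5, 4, 6, 4, 5, 5, 4, 6, 4, 5, 5, 2, 2, 1, 3, 1, 3, 3, 1, 3, 1, 3, 1, 2, 2, 1, 3, 1, 3, 1, 3, 1]))) (.node 3066 (.leaf 216 29 [5, 5, 4, 6, 2, 2, 1, 2, 1, 3, 3, 1, 3, 1, 3, 3, 1, 2, 2, 1, 3, 1, 3, 1, 2, 1, 3, 3, 1, 3, 1, 6, 4]) (.node 3067 (.leaf 248 27 [5, 5, 5, 5, 4, 6, 4, 5, 5, 5, 4, 6, 4, 5, 5, 4, 2, 2, 1, 3, 3, 1, 2, 1, 2, 1, 3, 3, 1, 2, 1, 3, 3, 1, 2, 1, 2, 2, 1, 2, 1, 2, 1]) (.leaf 328 6 [2, 1, 3, 3, 1, 2, 2, 1, 3, 1, 3, 3, 1, 3, 1, 3, 3, 1, 3, 1, 3, 1, 6, 6, 4, 5, 4, 6, 4, 5, 4, 6, 6, 6, 4, 2, 1, 3, 1, 2, 1]))))) (.node 3073 (.node 3070 (.node 3069 (.leaf 341 42 [5, 3, 3, 1, 2, 2, 1, 2, 1, 2, 2, 1, 2, 2, 1, 3, 1, 3, 3, 1, 3, 1, 2, 1, 3, 3, 1, 3, 1, 4, 5, 4, 6, 4, 5, 4, 6, 4, 5, 4, 6, 4, 5]) (.leaf 24 6 [3, 1, 3, 3, 1, 3, 1, 2, 1, 2, 1, 3, 3, 1, 3, 1, 5, 5, 5, 5, 4, 6, 4, 5, 5, 1, 2, 1, 3, 1, 3])) (.node 3071 (.leaf 28 24 [4, 6, 4, 5, 5, 4, 6, 4, 5, 5, 5, 3, 3, 1, 2, 1, 2, 1, 3, 3, 1, 2, 2, 1, 3, 1, 3, 3, 1, 2, 1, 2, 1, 4, 5]) (.node 3072 (.leaf 49 6 [1, 2, 2, 1, 3, 3, 1, 3, 1, 3, 1, 2, 1, 2, 1, 2, 1, 3, 5, 5, 4, 6, 4, 5, 4, 6, 4, 5, 4, 6, 4, 2, 1, 2, 1, 3, 3]) (.leaf 102 16 [1, 3, 1, 2, 1, 2, 2, 1, 3, 5, 5, 4, 6, 4, 5, 5, 4, 6, 6, 4, 5, 4, 6, 6, 2, 1, 3, 3, 1, 3, 1, 2, 1, 2, 1, 3, 1, 2, 1, 3])))) (.node 3076 (.node 3074 (.leaf 132 21 [1, 2, 1, 3, 1, 6, 6, 4, 5, 4, 6, 4, 5, 4, 6, 4, 1, 3, 1, 3, 1, 2, 1, 2, 1, 2, 2, 1, 2, 1, 3, 1, 2, 1, 2, 1, 2]) (.node 3075 (.leaf 145 8 [3, 1, 3, 1, 2, 1, 3, 3, 1, 3, 3, 1, 3, 1, 3, 1, 2, 1, 5, 4, 5, 5, 5, 4, 6, 4, 5, 4, 6, 2, 1, 3, 3, 1, 2, 2, 1]) (.leaf 152 20 [2, 1, 2, 2, 1, 3, 5, 5, 5, 4, 6, 4, 5, 4, 6, 4, 5, 4, 6, 4, 5, 5, 1, 2, 2, 1, 3, 1, 3, 1, 2, 1, 3, 3, 1, 2, 1, 3, 3, 1, 2, 1]))) (.node 3077 (.leaf 164 23 [3, 1, 2, 1, 6, 6, 4, 5, 4, 6, 6, 6, 4, 5, 4, 6, 6, 4, 5, 4, 3, 3, 1, 3, 3, 1, 2, 1, 2, 2, 1, 3, 3, 1, 3, 1, 3, 1, 2, 1, 2, 2, 1]) (.node 3078 (.leaf 167 21 [1, 3, 3, 1, 3, 1, 5, 4, 6, 6, 4, 5, 5, 5, 1, 3, 1, 3, 1, 3, 1, 2, 1, 3, 1, 2, 1, 2, 1, 2, 1, 2, 2, 1, 3]) (.leaf 173 16 [1, 3, 3, 1, 2, 2, 1, 2, 1, 3, 1, 5, 4, 6, 4, 5, 4, 6, 4, 5, 4, 6, 4, 5, 4, 6, 6, 2, 1, 2, 2, 1, 2, 1, 2, 2, 1, 3, 1, 2, 2, 1, 3])))))) (.node 3090 (.node 3084 (.node 3081 (.node 3080 (.leaf 176 42 [4, 2, 1, 2, 2, 1, 3, 3, 1, 2, 2, 1, 2, 1, 2, 1, 2, 2, 1, 2, 2, 1, 2, 2, 1, 2, 1, 3, 4, 5, 5, 4, 6, 4, 5, 4, 6, 4, 5, 4, 6, 4, 5]) (.leaf 197 8 [2, 1, 2, 1, 3, 1, 3, 1, 3, 3, 1, 2, 1, 3, 3, 1, 3, 3, 1, 4, 6, 4, 5, 5, 4, 6, 4, 5, 4, 6, 4, 5, 5, 1, 2, 1, 3, 1, 3, 3, 1])) (.node 3082 (.leaf 206 33 [4, 6, 2, 1, 3, 1, 3, 1, 3, 3, 1, 2, 1, 3, 1, 2, 1, 2, 2, 1, 3, 1, 3, 3, 1, 3, 1, 3, 3, 6, 4, 5, 5, 4, 6]) (.node 3083 (.leaf 217 22 [1, 2, 1, 2, 2, 4, 5, 5, 5, 4, 6, 4, 5, 4, 6, 4, 5, 4, 6, 4, 5, 1, 2, 1, 3, 1, 2, 2, 1, 3, 1, 3, 3, 1, 2, 1, 3, 1, 3, 1, 3, 1, 3]) (.leaf 234 41 [5, 4, 2, 1, 2, 1, 2, 2, 1, 3, 1, 2, 1, 3, 1, 2, 1, 3, 3, 1, 3, 1, 2, 1, 3, 3, 1, 3, 3, 5, 5, 4, 6, 4, 5, 4, 6, 4, 5, 4, 6, 6, 4])))) (.node 3087 (.node 3085 (.leaf 237 4 [2, 1, 2, 2, 1, 2, 2, 1, 3, 1, 2, 1, 2, 2, 1, 2, 2, 1, 2, 2, 1, 3, 3, 6, 4, 5, 5, 4, 6, 1, 3, 1, 2]) (.node 3086 (.leaf 239 41 [6, 1, 3, 1, 2, 1, 2, 2, 1, 2, 1, 2, 1, 2, 1, 3, 1, 3, 1, 3, 1, 3, 3, 1, 3, 1, 2, 1, 5, 4, 6, 4, 5, 4, 6, 4, 5, 4, 6, 4, 5, 4]) (.leaf 239 5 [2, 2, 1, 2, 1, 2, 1, 2, 1, 3, 1, 3, 1, 3, 1, 3, 3, 1, 3, 1, 2, 1, 5, 4, 6, 4, 5, 4, 6, 4, 5, 4, 6, 4, 5, 4, 6, 1, 3, 1, 2, 1]))) (.node 3088 (.leaf 245 3 [3, 3, 1, 2, 2, 1, 3, 1, 2, 2, 1, 3, 1, 3, 1, 2, 1, 2, 2, 1, 2, 1, 3, 3, 5, 5, 4, 6, 6, 4, 5, 4, 6, 4, 5, 4, 6, 4, 2, 2, 1]) (.node 3089 (.leaf 249 19 [1, 3, 3, 1, 2, 1, 2, 1, 6, 4, 5, 4, 6, 6, 4, 5, 4, 6, 6, 4, 1, 2, 2, 1, 2, 2, 1, 2, 2, 1, 2, 1, 2, 1, 2, 2, 1, 3, 3]) (.leaf 255 39 [6, 4, 1, 2, 2, 1, 3, 3, 1, 2, 1, 2, 2, 1, 2, 1, 2, 1, 3, 3, 1, 3, 1, 2, 2, 1, 2, 1, 3, 5, 4, 6, 6, 4, 5, 4, 6, 4, 5, 4, 6]))))) (.node 3095 (.node 3092 (.node 3091 (.leaf 265 39 [6, 6, 3, 3, 1, 2, 2, 1, 2, 1, 3, 1, 2, 1, 2, 2, 1, 2, 1, 3, 3, 1, 2, 1, 3, 3, 1, 2, 1, 3, 5, 4, 6, 4, 5, 4, 6, 4, 5, 5, 4]) (.leaf 278 19 [2, 1, 2, 2, 1, 2, 1, 3, 1, 4, 5, 4, 6, 6, 6, 4, 5, 4, 6, 6, 4, 5, 4, 6, 4, 5, 2, 1, 3, 1, 2, 1, 3, 3, 1, 3, 1, 3, 1, 2, 1, 2, 1, 2, 1])) (.node 3093 (.leaf 288 12 [3, 1, 3, 1, 2, 2, 1, 3, 3, 1, 3, 3, 1, 3, 1, 3, 4, 6, 4, 5, 4, 6, 4, 5, 4, 6, 4, 5, 4, 6, 4, 5, 3, 3, 1, 2, 1, 3, 1, 3, 3, 1, 2, 1]) (.node 3094 (.leaf 305 6 [2, 2, 1, 3, 1, 3, 3, 1, 2, 1, 2, 1, 2, 1, 2, 1, 2, 2, 1, 3, 3, 1, 4, 6, 4, 5, 5, 4, 6, 4, 5, 5, 4, 6, 1, 3, 1, 3, 3, 1]) (.leaf 315 23 [2, 1, 2, 1, 3, 6, 4, 5, 5, 4, 6, 4, 5, 5, 4, 6, 4, 6, 2, 2, 1, 3, 1, 3, 1, 2, 1, 3, 3, 1, 3, 1, 2, 1, 2, 1, 2, 1, 2, 2, 1])))) (.node 3098 (.node 3096 (.leaf 319 24 [3, 1, 3, 3, 4, 6, 6, 6, 4, 5, 5, 5, 4, 6, 4, 5, 5, 4, 6, 6, 1, 2, 2, 1, 3, 1, 2, 1, 3, 1, 2, 1, 3, 3, 1, 3, 1, 2, 2, 1, 3, 1, 2, 1]) (.node 3097 (.leaf 331 38 [6, 4, 2, 1, 2, 1, 2, 2, 1, 3, 3, 1, 2, 1, 2, 2, 1, 3, 1, 2, 1, 3, 3, 1, 3, 1, 2, 1, 3, 1, 4, 5, 5, 4, 6, 4, 5, 4, 6, 6]) (.leaf 363 10 [2, 1, 3, 3, 1, 3, 3, 1, 3, 1, 3, 3, 1, 2, 1, 3, 1, 3, 4, 6, 6, 4, 5, 4, 6, 4, 5, 4, 6, 4, 5, 4, 6, 4, 1, 3, 1, 3, 3, 1, 2, 2, 1, 2]))) (.node 3099 (.leaf 369 2 [2, 2, 1, 2, 1, 2, 1, 2, 1, 2, 2, 1, 2, 1, 3, 1, 3, 3, 1, 3, 3, 1, 3, 1, 3, 3, 4, 5, 5, 4, 6, 4, 2, 1]) (.node 3100 (.leaf 375 2 [1, 3, 1, 2, 2, 1, 3, 1, 2, 2, 1, 2, 2, 1, 3, 1, 3, 3, 1, 3, 3, 1, 2, 1, 3, 1, 4, 5, 4, 5, 5, 5, 4, 6, 4, 5, 4, 6, 4, 5, 4, 6, 6, 2, 2]) (.leaf 387 36 [5, 4, 2, 1, 2, 1, 3, 3, 1, 2, 2, 1, 2, 1, 2, 2, 1, 3, 1, 3, 1, 2, 2, 1, 3, 3, 1, 2, 2, 1, 4, 6, 4, 6, 6, 6, 6, 4]))))))) (.node 3123 (.node 3112 (.node 3106 (.node 3103 (.node 3102 (.leaf 11 13 [2, 2, 1, 5, 5, 4, 6, 4, 5, 5, 5, 4, 6, 4, 5, 5, 4, 6, 6, 4, 5, 2, 2, 1, 3, 1, 2, 1, 2, 2, 1, 2, 2, 1]) (.leaf 29 22 [4, 5, 4, 6, 6, 4, 5, 4, 6, 4, 5, 4, 6, 6, 4, 1, 3, 1, 2, 1, 3, 3, 1, 2, 1, 3, 1, 2, 2, 1, 3, 1, 3, 3, 1, 2, 1])) (.node 3104 (.leaf 37 21 [1, 3, 5, 5, 4, 6, 4, 5, 4, 6, 4, 5, 4, 6, 4, 5, 4, 6, 3, 3, 1, 2, 1, 3, 3, 1, 3, 1, 2, 1, 3, 3, 1, 3, 1, 3, 3, 1, 2]) (.node 3105 (.leaf 86 16 [2, 2, 1, 2, 1, 2, 1, 2, 2, 4, 5, 5, 4, 6, 4, 5, 5, 5, 4, 6, 6, 1, 3, 1, 3, 1, 3, 3, 1, 2, 2, 1, 2, 1, 3, 3, 1]) (.leaf 96 17 [3, 1, 3, 3, 1, 2, 1, 3, 5, 5, 4, 6, 6, 4, 5, 4, 6, 4, 5, 5, 5, 4, 5, 3, 3, 1, 3, 1, 2, 1, 2, 2, 1, 2, 2, 1, 3, 1, 2, 1])))) (.node 3109 (.node 3107 (.leaf 105 3 [2, 1, 3, 1, 2, 1, 2, 1, 2, 1, 3, 1, 3, 1, 3, 1, 2, 1, 3, 1, 2, 2, 4, 6, 6, 4, 5, 4, 6, 4, 5, 4, 6, 4, 5, 5, 4, 3, 3, 1]) (.node 3108 (.leaf 121 28 [5, 5, 5, 4, 6, 4, 5, 4, 6, 4, 5, 2, 1, 2, 1, 2, 2, 1, 2, 1, 3, 1, 3, 1, 2, 2, 1, 2, 1, 3, 1, 3, 3, 1, 3, 3, 1, 6, 4]) (.leaf 129 24 [3, 3, 5, 5, 5, 4, 6, 6, 6, 4, 5, 5, 1, 2, 1, 3, 1, 2, 1, 2, 2, 1, 3, 1, 2, 2, 1, 3, 1, 2, 1, 2, 2, 1, 2, 1]))) (.node 3110 (.leaf 132 19 [1, 2, 1, 2, 1, 3, 1, 6, 6, 4, 5, 4, 6, 4, 5, 4, 6, 4, 1, 3, 1, 3, 1, 2, 1, 2, 1, 2, 2, 1, 2, 1, 3, 1, 2, 1, 2]) (.node 3111 (.leaf 163 12 [2, 2, 1, 3, 1, 3, 1, 2, 1, 2, 1, 3, 3, 1, 3, 4, 6, 6, 4, 5, 5, 4, 6, 4, 5, 5, 5, 4, 6, 4, 5, 3, 3, 1, 3, 3, 1, 3, 1, 2, 1, 2, 1]) (.leaf 170 27 [5, 5, 4, 6, 4, 5, 4, 6, 6, 4, 5, 4, 5, 1, 2, 1, 2, 1, 3, 1, 3, 1, 3, 3, 1, 3, 1, 2, 1, 2, 2, 1, 2, 2, 1, 3, 3, 1, 2, 2]))))) (.node 3117 (.node 3114 (.node 3113 (.leaf 170 23 [3, 1, 2, 2, 5, 5, 4, 6, 4, 5, 4, 6, 6, 4, 5, 4, 5, 1, 2, 1, 2, 1, 3, 1, 3, 1, 3, 3, 1, 3, 1, 2, 1, 2, 2, 1, 2, 2, 1, 3]) (.leaf 176 27 [4, 5, 5, 4, 6, 4, 5, 4, 6, 4, 5, 4, 6, 4, 5, 4, 2, 1, 2, 2, 1, 3, 3, 1, 2, 2, 1, 2, 1, 2, 1, 2, 2, 1, 2, 2, 1, 2, 2, 1, 2, 1, 3])) (.node 3115 (.leaf 176 18 [2, 2, 1, 2, 2, 1, 2, 1, 3, 4, 5, 5, 4, 6, 4, 5, 4, 6, 4, 5, 4, 6, 4, 5, 4, 2, 1, 2, 2, 1, 3, 3, 1, 2, 2, 1, 2, 1, 2, 1, 2, 2, 1]) (.node 3116 (.leaf 176 9 [2, 1, 2, 1, 2, 1, 2, 2, 1, 2, 2, 1, 2, 2, 1, 2, 1, 3, 4, 5, 5, 4, 6, 4, 5, 4, 6, 4, 5, 4, 6, 4, 5, 4, 2, 1, 2, 2, 1, 3, 3, 1, 2]) (.leaf 178 26 [1, 5, 5, 5, 4, 6, 4, 5, 5, 4, 6, 4, 5, 5, 5, 4, 5, 1, 3, 3, 1, 2, 1, 3, 3, 1, 2, 1, 2, 2, 1, 2, 1, 2, 1, 2, 1, 3, 1, 3, 3, 1, 3])))) (.node 3120 (.node 3118 (.leaf 183 24 [1, 3, 3, 4, 5, 5, 4, 6, 4, 5, 4, 6, 4, 5, 4, 6, 6, 4, 5, 4, 2, 2, 1, 2, 1, 2, 1, 3, 3, 1, 2, 1, 3, 1, 2, 1, 3, 1, 2, 2, 1, 3, 1, 3]) (.node 3119 (.leaf 187 25 [3, 1, 5, 5, 5, 4, 6, 6, 6, 4, 5, 4, 6, 6, 6, 4, 5, 3, 3, 1, 2, 2, 1, 2, 2, 1, 3, 1, 3, 3, 1, 3, 1, 3, 3, 1, 2, 2, 1, 2, 1, 3]) (.leaf 197 9 [1, 2, 1, 3, 1, 3, 1, 3, 3, 1, 2, 1, 3, 3, 1, 3, 3, 1, 4, 6, 4, 5, 5, 4, 6, 4, 5, 4, 6, 4, 5, 5, 1, 2, 1, 3, 1, 3, 3, 1, 2]))) (.node 3121 (.leaf 204 8 [2, 1, 2, 1, 2, 1, 3, 1, 3, 1, 3, 1, 3, 1, 2, 1, 2, 1, 3, 5, 5, 4, 6, 4, 5, 4, 6, 4, 5, 4, 6, 4, 5, 5, 5, 1, 2, 1, 3, 1, 2, 1, 2]) (.node 3122 (.leaf 208 18 [1, 2, 2, 1, 2, 1, 3, 1, 3, 5, 5, 4, 6, 4, 5, 5, 4, 6, 4, 5, 5, 5, 4, 5, 3, 3, 1, 3, 3, 1, 3, 1, 3, 3, 1, 2, 2, 1, 2, 2, 1, 2]) (.leaf 210 5 [1, 2, 2, 1, 3, 1, 2, 2, 1, 2, 1, 2, 1, 3, 1, 2, 1, 3, 3, 1, 2, 1, 6, 4, 5, 4, 6, 4, 5, 4, 6, 6, 4, 5, 4, 1, 2, 2, 1, 3])))))) (.node 3134 (.node 3128 (.node 3125 (.node 3124 (.leaf 211 39 [6, 4, 5, 1, 3, 1, 2, 1, 3, 3, 1, 3, 1, 2, 1, 2, 2, 1, 2, 2, 1, 2, 2, 1, 2, 1, 2, 1, 3, 1, 5, 5, 4, 6, 4, 5, 5, 4, 6, 4, 5, 4]) (.leaf 213 15 [3, 1, 3, 1, 3, 3, 1, 3, 1, 3, 1, 3, 5, 4, 5, 5, 5, 5, 4, 5, 1, 3, 1, 3, 3, 1, 3, 3, 1, 3, 1, 3, 1, 2, 1])) (.node 3126 (.leaf 217 24 [1, 2, 2, 4, 5, 5, 5, 4, 6, 4, 5, 4, 6, 4, 5, 4, 6, 4, 5, 1, 2, 1, 3, 1, 2, 2, 1, 3, 1, 3, 3, 1, 2, 1, 3, 1, 3, 1, 3, 1, 3, 1, 2]) (.node 3127 (.leaf 223 9 [3, 1, 3, 1, 2, 1, 2, 2, 1, 2, 2, 1, 2, 2, 1, 3, 1, 3, 4, 5, 5, 4, 6, 4, 5, 5, 5, 4, 6, 4, 5, 5, 4, 2, 1, 3, 1, 3, 1, 3, 1, 3]) (.leaf 224 7 [1, 3, 1, 2, 2, 1, 2, 2, 1, 3, 1, 3, 1, 2, 1, 3, 1, 3, 1, 3, 5, 5, 4, 6, 6, 4, 5, 4, 6, 6, 6, 2, 2, 1, 3, 3, 1, 3])))) (.node 3131 (.node 3129 (.leaf 228 10 [1, 3, 1, 2, 1, 2, 1, 2, 1, 2, 1, 2, 2, 1, 2, 1, 3, 6, 4, 6, 6, 6, 4, 5, 4, 6, 6, 4, 5, 4, 5, 1, 3, 3, 1, 3, 3, 1, 2, 1, 2]) (.node 3130 (.leaf 228 7 [2, 1, 2, 1, 3, 1, 2, 1, 2, 1, 2, 1, 2, 1, 2, 2, 1, 2, 1, 3, 6, 4, 6, 6, 6, 4, 5, 4, 6, 6, 4, 5, 4, 5, 1, 3, 3, 1, 3, 3, 1]) (.leaf 229 4 [1, 2, 1, 3, 1, 3, 1, 2, 1, 2, 1, 3, 1, 2, 1, 2, 1, 2, 2, 1, 2, 2, 1, 4, 6, 6, 4, 5, 4, 6, 4, 5, 5, 4, 6, 4, 5, 5, 5, 2, 1, 2, 2]))) (.node 3132 (.leaf 231 7 [1, 2, 1, 2, 1, 3, 1, 2, 1, 2, 1, 2, 2, 1, 3, 3, 1, 3, 1, 3, 4, 5, 5, 5, 4, 6, 4, 5, 4, 6, 6, 4, 5, 5, 3, 3, 1, 3, 1, 2, 2]) (.node 3133 (.leaf 235 29 [6, 6, 4, 5, 5, 5, 4, 5, 2, 2, 1, 3, 1, 3, 1, 2, 1, 2, 1, 2, 1, 2, 1, 3, 1, 2, 2, 1, 3, 1, 3, 1, 2, 1, 3, 4, 6]) (.leaf 236 15 [2, 1, 3, 3, 1, 3, 1, 2, 1, 3, 3, 1, 4, 6, 6, 4, 5, 4, 6, 6, 6, 4, 5, 5, 1, 3, 1, 3, 3, 1, 2, 1, 3, 1, 3, 3, 1, 2, 1]))))) (.node 3139 (.node 3136 (.node 3135 (.leaf 238 10 [1, 3, 1, 2, 1, 2, 1, 2, 2, 1, 2, 1, 3, 1, 3, 3, 1, 4, 5, 4, 6, 6, 4, 5, 5, 4, 6, 6, 2, 1, 2, 1, 3, 1, 3, 3, 1, 3]) (.leaf 241 18 [3, 1, 3, 3, 1, 2, 1, 3, 1, 4, 5, 4, 6, 4, 5, 4, 6, 4, 5, 4, 6, 4, 5, 5, 3, 3, 1, 2, 2, 1, 3, 1, 3, 1, 2, 1, 2, 2, 1, 2, 1, 3])) (.node 3137 (.leaf 260 19 [1, 2, 1, 3, 1, 3, 1, 3, 3, 4, 5, 4, 6, 6, 4, 5, 4, 6, 4, 3, 3, 1, 3, 1, 3, 3, 1, 2, 1, 2, 1, 2, 2, 1, 3, 3, 1, 2]) (.node 3138 (.leaf 265 20 [2, 1, 3, 3, 1, 2, 1, 3, 5, 4, 6, 4, 5, 4, 6, 4, 5, 5, 4, 6, 6, 3, 3, 1, 2, 2, 1, 2, 1, 3, 1, 2, 1, 2, 2, 1, 2, 1, 3, 3, 1]) (.leaf 276 30 [6, 4, 5, 5, 5, 4, 6, 6, 6, 4, 5, 5, 5, 1, 2, 1, 2, 2, 1, 3, 3, 1, 2, 2, 1, 2, 2, 1, 2, 2, 1, 2, 2, 1, 3, 1, 3, 3, 1, 3, 1, 6, 6])))) (.node 3142 (.node 3140 (.leaf 298 6 [3, 3, 1, 3, 3, 1, 2, 1, 3, 3, 1, 2, 1, 3, 1, 3, 1, 2, 1, 3, 3, 1, 4, 5, 5, 5, 4, 6, 6, 4, 5, 1, 3, 3, 1, 3, 1]) (.node 3141 (.leaf 303 20 [1, 3, 1, 3, 3, 1, 2, 1, 6, 6, 6, 4, 5, 5, 5, 4, 6, 4, 5, 2, 1, 3, 3, 1, 3, 1, 3, 1, 3, 1, 2, 1, 2, 2, 1, 3, 3, 1, 3]) (.leaf 304 14 [1, 3, 1, 2, 1, 3, 1, 2, 1, 3, 1, 3, 1, 3, 6, 4, 5, 5, 5, 4, 6, 4, 5, 4, 6, 6, 4, 5, 4, 2, 1, 2, 1, 2, 2, 1, 3, 1, 3, 3, 1, 2, 2]))) (.node 3143 (.leaf 309 25 [3, 1, 3, 6, 4, 5, 4, 6, 4, 5, 4, 6, 6, 6, 4, 6, 3, 3, 1, 2, 2, 1, 3, 1, 2, 1, 2, 2, 1, 2, 1, 2, 2, 1, 3, 3, 1, 2, 2, 1, 3]) (.node 3144 (.leaf 321 42 [6, 2, 1, 3, 1, 2, 2, 1, 2, 1, 3, 3, 1, 2, 1, 2, 1, 3, 1, 3, 1, 2, 1, 2, 1, 3, 1, 2, 1, 4, 6, 4, 5, 4, 6, 6, 4, 5, 4, 6, 6, 6, 4]) (.leaf 323 19 [1, 3, 1, 3, 1, 3, 1, 3, 3, 6, 6, 4, 5, 4, 6, 4, 5, 4, 6, 4, 5, 4, 6, 1, 3, 3, 1, 2, 1, 3, 3, 1, 3, 3, 1, 3, 1, 2, 1, 3, 1, 2])))))))))) (.node 3320 (.node 3232 (.node 3188 (.node 3166 (.node 3155 (.node 3150 (.node 3147 (.node 3146 (.leaf 334 39 [4, 3, 3, 1, 2, 1, 2, 1, 2, 1, 3, 3, 1, 2, 2, 1, 3, 3, 1, 2, 1, 2, 1, 2, 2, 1, 3, 1, 3, 4, 5, 5, 4, 6, 4, 5, 4, 6, 4, 5]) (.leaf 336 29 [4, 6, 6, 6, 4, 5, 4, 6, 6, 4, 5, 5, 5, 2, 1, 3, 1, 2, 1, 2, 1, 3, 1, 2, 1, 3, 1, 3, 1, 3, 1, 2, 2, 1, 3, 3, 1, 3, 3, 1, 3, 5])) (.node 3148 (.leaf 338 28 [6, 6, 6, 4, 5, 4, 6, 6, 6, 4, 5, 4, 6, 6, 6, 2, 1, 3, 1, 2, 2, 1, 2, 1, 3, 3, 1, 3, 1, 2, 1, 3, 3, 1, 2, 1, 3, 1, 3, 3, 1, 2, 2]) (.node 3149 (.leaf 340 18 [3, 1, 2, 1, 2, 1, 3, 1, 3, 3, 6, 6, 4, 5, 5, 4, 6, 4, 5, 5, 5, 4, 6, 1, 3, 1, 3, 3, 1, 3, 3, 1, 2, 2, 1, 3, 3, 1, 2, 2, 1]) (.leaf 353 26 [2, 1, 5, 4, 5, 5, 5, 4, 6, 4, 5, 5, 4, 6, 4, 5, 4, 6, 6, 6, 2, 1, 2, 2, 1, 3, 1, 3, 3, 1, 3, 1, 2, 1, 2, 2, 1, 2, 2, 1, 2, 2, 1, 2, 1, 2])))) (.node 3152 (.node 3151 (.leaf 357 12 [2, 2, 1, 2, 2, 1, 3, 1, 2, 1, 2, 2, 1, 2, 1, 3, 6, 6, 6, 4, 5, 4, 6, 6, 6, 4, 5, 4, 6, 6, 4, 5, 2, 1, 2, 2, 1, 2, 1, 3, 1, 2, 2, 1]) (.leaf 359 5 [2, 1, 3, 1, 2, 1, 2, 1, 2, 1, 2, 1, 3, 1, 3, 3, 1, 2, 2, 1, 2, 1, 3, 6, 6, 6, 4, 5, 4, 6, 6, 4, 5, 4, 6, 4, 5, 3, 3, 1, 3, 1])) (.node 3153 (.leaf 361 7 [2, 2, 1, 2, 1, 2, 2, 1, 2, 2, 1, 2, 1, 3, 1, 2, 2, 1, 2, 2, 1, 6, 6, 4, 5, 5, 4, 6, 4, 5, 5, 5, 4, 6, 6, 6, 4, 2, 1, 3, 1, 3, 3, 1]) (.node 3154 (.leaf 371 38 [5, 4, 3, 3, 1, 2, 1, 3, 3, 1, 2, 1, 2, 1, 3, 1, 3, 1, 3, 1, 3, 1, 2, 1, 2, 1, 3, 1, 2, 1, 5, 4, 6, 6, 4, 5, 4, 6, 4, 5]) (.leaf 374 19 [1, 3, 3, 1, 2, 2, 1, 3, 1, 4, 5, 4, 6, 6, 4, 5, 4, 6, 4, 5, 4, 6, 6, 4, 5, 2, 1, 3, 1, 2, 1, 2, 1, 2, 1, 3, 1, 2, 1, 2, 2, 1, 3, 3]))))) (.node 3160 (.node 3157 (.node 3156 (.leaf 377 18 [1, 2, 1, 3, 1, 2, 1, 2, 2, 1, 5, 4, 6, 6, 4, 5, 4, 6, 4, 5, 5, 4, 6, 6, 1, 2, 2, 1, 3, 1, 2, 1, 3, 3, 1, 3, 3, 1, 2, 1, 2, 2]) (.leaf 384 15 [1, 2, 1, 2, 1, 3, 3, 1, 3, 1, 2, 2, 1, 6, 6, 6, 4, 5, 5, 5, 4, 6, 4, 2, 1, 3, 1, 2, 1, 3, 1, 2, 1, 3, 1, 2, 1, 3])) (.node 3158 (.leaf 386 17 [1, 3, 1, 3, 3, 1, 2, 2, 1, 2, 2, 4, 5, 4, 6, 4, 5, 4, 6, 4, 5, 4, 6, 4, 5, 5, 4, 2, 2, 1, 2, 2, 1, 2, 2, 1, 3, 3, 1, 2, 1, 2, 1, 2]) (.node 3159 (.leaf 387 28 [4, 6, 4, 6, 6, 6, 6, 4, 5, 4, 2, 1, 2, 1, 3, 3, 1, 2, 2, 1, 2, 1, 2, 2, 1, 3, 1, 3, 1, 2, 2, 1, 3, 3, 1, 2, 2, 1]) (.leaf 389 19 [1, 3, 1, 3, 3, 1, 2, 1, 3, 4, 5, 4, 6, 6, 4, 5, 4, 6, 4, 5, 4, 6, 4, 2, 1, 3, 3, 1, 3, 1, 2, 1, 3, 1, 3, 1, 2, 1, 2, 2, 1, 2])))) (.node 3163 (.node 3161 (.leaf 222 39 [6, 4, 1, 2, 1, 3, 3, 1, 2, 2, 1, 3, 1, 3, 1, 2, 2, 1, 3, 1, 2, 1, 3, 3, 1, 2, 1, 3, 1, 4, 5, 5, 5, 5, 4, 6, 4, 5, 5, 4, 6]) (.node 3162 (.leaf 9 30 [2, 2, 1, 2, 2, 2, 1, 2, 2, 2, 1, 2, 2, 2, 1, 2, 2, 2, 1, 2, 2, 2, 1, 2, 2, 2, 1, 2, 2, 2, 1, 2, 2, 2, 1, 2, 2, 2, 1, 2]) (.leaf 83 28 [4, 5, 5, 5, 4, 6, 1, 2, 1, 2, 1, 3, 1, 3, 1, 3, 3, 1, 2, 1, 2, 1, 3, 1, 2, 1, 2, 1, 2, 2, 1, 6, 6, 6]))) (.node 3164 (.leaf 119 3 [1, 3, 1, 2, 2, 1, 2, 1, 2, 2, 1, 3, 3, 1, 3, 1, 3, 1, 3, 1, 3, 3, 1, 4, 6, 6, 4, 5, 5, 5, 4, 5, 1, 3, 3]) (.node 3165 (.leaf 245 25 [3, 3, 5, 5, 4, 6, 6, 4, 5, 4, 6, 4, 5, 4, 6, 4, 2, 2, 1, 3, 3, 1, 2, 2, 1, 3, 1, 2, 2, 1, 3, 1, 3, 1, 2, 1, 2, 2, 1, 2, 1]) (.leaf 172 18 [2, 1, 2, 2, 1, 3, 3, 1, 3, 4, 6, 6, 4, 5, 4, 6, 4, 1, 3, 3, 1, 3, 1, 2, 1, 2, 2, 1, 2, 1, 2, 2, 1, 2, 1])))))) (.node 3177 (.node 3171 (.node 3168 (.node 3167 (.leaf 328 17 [3, 1, 3, 1, 3, 3, 1, 3, 1, 3, 1, 6, 6, 4, 5, 4, 6, 4, 5, 4, 6, 6, 6, 4, 2, 1, 3, 1, 2, 1, 2, 1, 3, 3, 1, 2, 2, 1, 3, 1, 3]) (.leaf 46 27 [5, 4, 6, 6, 6, 1, 3, 1, 3, 3, 1, 2, 2, 1, 3, 3, 1, 2, 1, 2, 2, 1, 2, 1, 3, 1, 2, 1, 4, 5, 5, 5])) (.node 3169 (.leaf 66 6 [3, 1, 3, 3, 1, 2, 2, 1, 2, 1, 3, 3, 1, 2, 2, 1, 2, 2, 5, 5, 4, 6, 4, 5, 4, 6, 6, 4, 5, 5, 1, 3, 3, 1, 2, 1]) (.node 3170 (.leaf 72 26 [6, 6, 4, 5, 4, 6, 6, 4, 5, 2, 2, 1, 2, 1, 3, 1, 2, 1, 2, 2, 1, 2, 1, 2, 1, 2, 1, 2, 1, 2, 2, 1, 3, 1, 6]) (.leaf 92 28 [6, 6, 6, 4, 2, 1, 2, 1, 3, 1, 2, 1, 2, 1, 2, 1, 2, 1, 3, 1, 2, 2, 1, 2, 1, 3, 1, 3, 3, 6, 4, 6])))) (.node 3174 (.node 3172 (.leaf 108 34 [4, 5, 5, 5, 4, 2, 2, 1, 3, 1, 3, 3, 1, 2, 2, 1, 2, 2, 1, 2, 1, 3, 3, 1, 3, 1, 2, 1, 2, 2, 4, 5, 4, 6, 4, 5, 5, 4, 6]) (.node 3173 (.leaf 144 36 [4, 6, 6, 4, 3, 3, 1, 3, 1, 2, 1, 3, 3, 1, 2, 2, 1, 3, 3, 1, 3, 1, 2, 1, 2, 1, 3, 1, 3, 1, 5, 4, 6, 4, 5, 5, 4, 6, 4, 5]) (.leaf 172 7 [1, 2, 2, 1, 2, 1, 2, 2, 1, 2, 1, 2, 1, 2, 2, 1, 3, 3, 1, 3, 4, 6, 6, 4, 5, 4, 6, 4, 1, 3, 3, 1, 3, 1, 2]))) (.node 3175 (.leaf 198 15 [1, 2, 2, 1, 3, 1, 3, 1, 3, 3, 1, 3, 6, 6, 4, 5, 5, 4, 6, 4, 5, 5, 5, 4, 1, 2, 2, 1, 2, 1, 3, 3, 1, 2, 2, 1, 2, 1, 3]) (.node 3176 (.leaf 198 38 [4, 1, 2, 2, 1, 2, 1, 3, 3, 1, 2, 2, 1, 2, 1, 3, 1, 2, 2, 1, 3, 1, 3, 1, 3, 3, 1, 3, 6, 6, 4, 5, 5, 4, 6, 4, 5, 5, 5]) (.leaf 206 8 [1, 2, 1, 3, 1, 2, 1, 2, 2, 1, 3, 1, 3, 3, 1, 3, 1, 3, 3, 6, 4, 5, 5, 4, 6, 4, 6, 2, 1, 3, 1, 3, 1, 3, 3]))))) (.node 3182 (.node 3179 (.node 3178 (.leaf 227 19 [2, 1, 3, 1, 3, 1, 3, 1, 4, 5, 5, 5, 4, 6, 6, 4, 2, 2, 1, 2, 2, 1, 3, 1, 3, 1, 3, 1, 2, 2, 1, 3, 1, 2, 1]) (.leaf 248 14 [1, 3, 3, 1, 2, 1, 2, 2, 1, 2, 1, 2, 1, 5, 5, 5, 5, 4, 6, 4, 5, 5, 5, 4, 6, 4, 5, 5, 4, 2, 2, 1, 3, 3, 1, 2, 1, 2, 1, 3, 3, 1, 2])) (.node 3180 (.leaf 253 23 [2, 1, 3, 1, 6, 6, 4, 5, 5, 4, 6, 4, 5, 5, 5, 4, 6, 2, 1, 3, 1, 3, 3, 1, 2, 1, 3, 1, 2, 1, 2, 2, 1, 2, 1, 3, 1, 3, 3, 1]) (.node 3181 (.leaf 259 28 [6, 4, 5, 4, 6, 6, 6, 4, 6, 1, 2, 1, 2, 1, 2, 2, 1, 3, 1, 3, 1, 2, 2, 1, 2, 1, 3, 3, 1, 3, 1, 3, 1, 3, 1, 2, 1]) (.leaf 263 2 [1, 3, 3, 1, 3, 1, 3, 1, 3, 1, 2, 2, 1, 2, 1, 3, 1, 2, 1, 2, 1, 2, 2, 1, 2, 1, 4, 5, 5, 5, 4, 6, 6, 4, 5, 5, 4, 6, 3, 3])))) (.node 3185 (.node 3183 (.leaf 265 28 [5, 4, 6, 4, 5, 4, 6, 4, 5, 5, 4, 6, 6, 3, 3, 1, 2, 2, 1, 2, 1, 3, 1, 2, 1, 2, 2, 1, 2, 1, 3, 3, 1, 2, 1, 3, 3, 1, 2, 1, 3]) (.node 3184 (.leaf 280 17 [1, 3, 1, 2, 2, 1, 3, 1, 2, 1, 3, 6, 4, 5, 4, 6, 6, 4, 5, 5, 4, 6, 4, 5, 5, 5, 2, 1, 3, 3, 1, 2, 2, 1, 2, 1, 2, 1, 3, 1, 3, 1, 2]) (.leaf 302 31 [6, 4, 5, 4, 6, 4, 5, 4, 6, 6, 6, 4, 5, 4, 1, 3, 1, 3, 3, 1, 2, 2, 1, 2, 2, 1, 3, 1, 2, 2, 1, 2, 2, 1, 2, 1, 2, 1, 3, 1, 3, 3, 4, 5, 4]))) (.node 3186 (.leaf 313 40 [5, 3, 3, 1, 2, 2, 1, 3, 1, 2, 2, 1, 3, 3, 1, 3, 1, 3, 3, 1, 3, 1, 2, 2, 1, 3, 1, 3, 1, 5, 5, 5, 4, 6, 4, 5, 5, 4, 6, 6, 4]) (.node 3187 (.leaf 316 8 [2, 1, 2, 1, 3, 1, 2, 1, 3, 1, 2, 1, 2, 2, 1, 3, 3, 1, 2, 2, 6, 4, 5, 5, 4, 6, 4, 5, 5, 4, 6, 4, 5, 4, 2, 1, 3, 3, 1, 2, 1, 2]) (.leaf 317 29 [6, 6, 4, 5, 4, 6, 6, 6, 4, 5, 5, 1, 3, 1, 2, 1, 2, 1, 2, 1, 3, 3, 1, 3, 1, 2, 1, 3, 3, 1, 2, 1, 2, 2, 1, 3, 3, 1, 3, 4]))))))) (.node 3210 (.node 3199 (.node 3193 (.node 3190 (.node 3189 (.leaf 321 29 [6, 4, 5, 4, 6, 6, 4, 5, 4, 6, 6, 6, 4, 6, 2, 1, 3, 1, 2, 2, 1, 2, 1, 3, 3, 1, 2, 1, 2, 1, 3, 1, 3, 1, 2, 1, 2, 1, 3, 1, 2, 1, 4]) (.leaf 331 20 [3, 1, 3, 1, 2, 1, 3, 1, 4, 5, 5, 4, 6, 4, 5, 4, 6, 6, 6, 4, 2, 1, 2, 1, 2, 2, 1, 3, 3, 1, 2, 1, 2, 2, 1, 3, 1, 2, 1, 3])) (.node 3191 (.leaf 354 9 [2, 1, 2, 1, 2, 1, 3, 1, 3, 1, 3, 3, 1, 2, 2, 1, 3, 3, 1, 6, 6, 6, 1, 2, 1, 2, 1, 3, 3, 1, 2]) (.node 3192 (.leaf 358 22 [3, 1, 2, 1, 3, 1, 4, 5, 5, 4, 6, 4, 5, 5, 4, 6, 4, 5, 4, 6, 6, 6, 1, 3, 1, 3, 3, 1, 3, 1, 2, 2, 1, 2, 1, 2, 1, 3, 3, 1, 2, 1, 3, 1]) (.leaf 370 2 [1, 3, 3, 1, 3, 1, 2, 2, 1, 3, 1, 3, 1, 3, 1, 3, 1, 3, 1, 3, 1, 3, 3, 1, 2, 2, 4, 5, 4, 6, 6, 4, 5, 5, 5, 2, 2])))) (.node 3196 (.node 3194 (.leaf 380 39 [4, 1, 3, 3, 1, 3, 1, 2, 1, 3, 3, 1, 3, 3, 1, 2, 1, 3, 3, 1, 2, 1, 2, 1, 3, 1, 3, 1, 3, 4, 6, 4, 5, 5, 4, 6, 4, 5, 4, 6]) (.node 3195 (.leaf 381 0 [2, 2, 1, 2, 1, 2, 1, 3, 1, 3, 3, 1, 3, 1, 2, 1, 3, 3, 1, 2, 2, 1, 2, 1, 3, 1, 3, 3, 4, 5, 5, 4, 6, 4, 5, 5, 4, 6, 6, 4]) (.leaf 385 15 [3, 1, 3, 1, 2, 1, 2, 1, 2, 1, 3, 3, 1, 6, 6, 4, 5, 5, 4, 2, 2, 1, 3, 3, 1, 3, 3, 1, 2, 2, 1, 3, 1, 3]))) (.node 3197 (.leaf 20 17 [1, 3, 3, 1, 3, 4, 5, 4, 6, 6, 4, 5, 4, 6, 6, 6, 4, 2, 2, 1, 3, 1, 3, 1, 3, 3, 1, 2, 2, 1, 3, 1, 2, 2]) (.node 3198 (.leaf 23 16 [1, 3, 1, 2, 1, 3, 4, 5, 4, 5, 5, 5, 4, 6, 4, 5, 1, 2, 1, 3, 1, 3, 3, 1, 3, 1, 2, 1, 3, 3, 1, 2]) (.leaf 29 36 [4, 1, 3, 1, 2, 1, 3, 3, 1, 2, 1, 3, 1, 2, 2, 1, 3, 1, 3, 3, 1, 2, 1, 4, 5, 4, 6, 6, 4, 5, 4, 6, 4, 5, 4, 6, 6]))))) (.node 3204 (.node 3201 (.node 3200 (.leaf 38 23 [4, 5, 5, 5, 4, 6, 6, 4, 5, 5, 4, 1, 3, 1, 3, 1, 2, 1, 2, 1, 3, 1, 2, 2, 1, 3, 1, 2, 2, 1, 3, 1, 3, 3]) (.leaf 39 24 [5, 5, 4, 6, 4, 5, 5, 4, 6, 6, 4, 5, 5, 1, 3, 3, 1, 2, 2, 1, 2, 2, 1, 3, 1, 2, 1, 3, 3, 1, 3, 3, 1, 2, 2, 1, 4])) (.node 3202 (.leaf 44 22 [1, 4, 6, 4, 5, 4, 6, 6, 4, 5, 5, 5, 4, 3, 3, 1, 3, 3, 1, 2, 2, 1, 2, 1, 2, 1, 3, 1, 3, 3, 1, 2, 1, 2, 2]) (.node 3203 (.leaf 44 4 [3, 1, 2, 2, 1, 2, 1, 2, 1, 3, 1, 3, 3, 1, 2, 1, 2, 2, 1, 4, 6, 4, 5, 4, 6, 6, 4, 5, 5, 5, 4, 3, 3, 1, 3]) (.leaf 51 13 [2, 1, 3, 1, 3, 1, 3, 3, 1, 2, 2, 5, 4, 6, 6, 6, 6, 4, 6, 1, 2, 1, 3, 1, 3, 3, 1, 2, 2, 1, 3, 1])))) (.node 3207 (.node 3205 (.leaf 57 8 [3, 1, 3, 1, 2, 1, 3, 1, 3, 1, 3, 3, 1, 3, 3, 1, 6, 6, 6, 4, 5, 4, 6, 6, 4, 5, 5, 2, 2, 1, 3, 3, 1, 3, 1]) (.node 3206 (.leaf 61 23 [2, 4, 6, 6, 6, 4, 5, 4, 6, 6, 6, 4, 5, 4, 6, 2, 1, 3, 1, 3, 3, 1, 2, 2, 1, 3, 1, 2, 1, 2, 1, 2, 2, 1, 3, 3, 1, 2]) (.leaf 62 13 [2, 2, 1, 2, 1, 3, 1, 3, 1, 3, 1, 4, 5, 4, 6, 6, 4, 5, 4, 6, 4, 5, 4, 6, 6, 4, 2, 1, 3, 3, 1, 3, 3, 1, 2, 2, 1, 2, 1]))) (.node 3208 (.leaf 63 8 [2, 1, 2, 1, 2, 2, 1, 3, 1, 3, 1, 3, 3, 1, 3, 3, 4, 5, 4, 5, 5, 5, 4, 6, 4, 5, 5, 4, 6, 4, 5, 1, 3, 1, 3, 1, 3, 1, 2]) (.node 3209 (.leaf 68 20 [2, 1, 3, 3, 4, 5, 4, 5, 5, 5, 5, 4, 5, 1, 2, 1, 2, 1, 2, 1, 3, 3, 1, 3, 1, 2, 2, 1, 3, 1, 2, 1, 2]) (.leaf 70 4 [1, 3, 1, 2, 1, 3, 1, 3, 1, 2, 1, 3, 1, 2, 1, 3, 1, 2, 1, 2, 1, 6, 4, 5, 5, 5, 4, 5, 1, 2, 1, 2])))))) (.node 3221 (.node 3215 (.node 3212 (.node 3211 (.leaf 79 27 [5, 5, 4, 6, 4, 5, 5, 4, 6, 6, 6, 1, 2, 1, 3, 3, 1, 2, 1, 2, 1, 2, 1, 2, 1, 3, 1, 3, 1, 3, 3, 1, 3, 1, 3, 3, 4, 5]) (.leaf 85 8 [1, 3, 1, 3, 1, 3, 1, 2, 1, 3, 3, 1, 2, 2, 1, 2, 1, 6, 6, 6, 4, 5, 4, 6, 6, 6, 4, 5, 4, 6, 6, 6, 2, 2, 1, 2, 1, 3, 1, 3])) (.node 3213 (.leaf 86 25 [4, 5, 5, 4, 6, 4, 5, 5, 5, 4, 6, 6, 1, 3, 1, 3, 1, 3, 3, 1, 2, 2, 1, 2, 1, 3, 3, 1, 2, 2, 1, 2, 1, 2, 1, 2, 2]) (.node 3214 (.leaf 90 21 [1, 2, 2, 1, 6, 6, 4, 5, 4, 6, 6, 4, 5, 5, 4, 6, 4, 5, 1, 2, 2, 1, 2, 1, 3, 1, 2, 2, 1, 2, 1, 2, 2, 1, 3, 1, 3, 1, 2]) (.leaf 108 28 [6, 4, 5, 5, 4, 6, 4, 5, 5, 5, 4, 2, 2, 1, 3, 1, 3, 3, 1, 2, 2, 1, 2, 2, 1, 2, 1, 3, 3, 1, 3, 1, 2, 1, 2, 2, 4, 5, 4])))) (.node 3218 (.node 3216 (.leaf 115 26 [5, 4, 6, 4, 5, 5, 4, 6, 4, 5, 4, 6, 6, 4, 5, 4, 6, 2, 2, 1, 2, 1, 2, 1, 2, 1, 3, 3, 1, 2, 1, 2, 1, 3, 1, 3, 3, 1, 2, 2, 1, 2, 1]) (.node 3217 (.leaf 120 20 [3, 3, 1, 2, 1, 3, 4, 6, 4, 6, 6, 6, 4, 5, 5, 1, 3, 1, 3, 1, 3, 3, 1, 3, 1, 3, 1, 2, 1, 3, 1, 3, 1, 3, 1]) (.leaf 138 22 [2, 1, 2, 2, 6, 4, 5, 5, 4, 6, 4, 1, 3, 1, 3, 1, 2, 2, 1, 3, 3, 1, 3, 3, 1, 3, 1, 3, 3, 1, 2, 1, 2]))) (.node 3219 (.leaf 140 41 [6, 1, 2, 1, 3, 1, 3, 1, 3, 3, 1, 3, 1, 2, 2, 1, 2, 1, 3, 1, 3, 3, 1, 2, 2, 1, 3, 5, 4, 5, 5, 5, 4, 6, 4, 5, 5, 4, 6, 4, 5, 4]) (.node 3220 (.leaf 144 21 [1, 3, 1, 3, 1, 5, 4, 6, 4, 5, 5, 4, 6, 4, 5, 4, 6, 6, 4, 3, 3, 1, 3, 1, 2, 1, 3, 3, 1, 2, 2, 1, 3, 3, 1, 3, 1, 2, 1, 2]) (.leaf 147 24 [3, 3, 5, 5, 4, 6, 4, 5, 5, 4, 6, 6, 4, 5, 2, 2, 1, 3, 1, 3, 3, 1, 3, 3, 1, 2, 2, 1, 3, 1, 3, 1, 2, 1, 2, 1, 2, 1]))))) (.node 3226 (.node 3223 (.node 3222 (.leaf 148 18 [3, 1, 2, 1, 3, 1, 2, 2, 4, 5, 5, 5, 5, 4, 6, 6, 6, 4, 5, 4, 6, 6, 6, 4, 2, 1, 3, 3, 1, 2, 2, 1, 3, 3, 1, 2, 1, 2, 2, 1, 2, 1]) (.leaf 153 25 [3, 4, 6, 6, 6, 4, 5, 5, 5, 4, 5, 1, 3, 1, 3, 1, 2, 2, 1, 2, 1, 2, 1, 2, 2, 1, 2, 1, 2, 2, 1, 2, 1, 3, 3, 1])) (.node 3224 (.leaf 158 28 [4, 5, 5, 5, 4, 6, 4, 5, 4, 6, 6, 4, 5, 1, 2, 2, 1, 2, 1, 2, 1, 2, 1, 3, 1, 3, 1, 2, 1, 3, 1, 3, 3, 1, 3, 1, 2, 1, 2, 1, 6]) (.node 3225 (.leaf 161 22 [1, 3, 3, 1, 3, 5, 5, 5, 4, 6, 4, 5, 4, 6, 6, 4, 5, 1, 2, 1, 2, 1, 2, 2, 1, 3, 3, 1, 3, 1, 2, 1, 3, 3, 1, 3, 3, 1, 2]) (.leaf 162 24 [1, 2, 2, 5, 4, 5, 5, 5, 4, 6, 4, 5, 5, 4, 6, 4, 5, 1, 2, 2, 1, 2, 2, 1, 3, 1, 3, 1, 3, 1, 2, 2, 1, 2, 2, 1, 2, 1, 2, 1, 3])))) (.node 3229 (.node 3227 (.leaf 168 19 [3, 1, 3, 1, 3, 1, 3, 1, 5, 4, 6, 4, 5, 5, 5, 4, 6, 4, 5, 5, 4, 1, 2, 1, 3, 3, 1, 3, 1, 2, 1, 3, 1, 3, 1, 3, 1, 2, 1, 3]) (.node 3228 (.leaf 179 24 [1, 2, 1, 5, 4, 5, 5, 5, 4, 6, 6, 6, 4, 3, 3, 1, 2, 1, 2, 1, 3, 1, 2, 1, 2, 2, 1, 3, 3, 1, 2, 2, 1, 3, 3, 1, 3]) (.leaf 179 25 [2, 1, 5, 4, 5, 5, 5, 4, 6, 6, 6, 4, 3, 3, 1, 2, 1, 2, 1, 3, 1, 2, 1, 2, 2, 1, 3, 3, 1, 2, 2, 1, 3, 3, 1, 3, 1]))) (.node 3230 (.leaf 190 5 [2, 2, 1, 2, 2, 1, 3, 1, 2, 2, 1, 2, 1, 2, 1, 3, 1, 3, 1, 2, 1, 3, 4, 5, 5, 4, 6, 4, 5, 5, 4, 6, 4, 5, 4, 6, 1, 3, 1, 2, 1]) (.node 3231 (.leaf 195 19 [2, 1, 2, 1, 2, 1, 2, 1, 6, 4, 5, 4, 6, 6, 4, 5, 4, 6, 4, 5, 1, 2, 1, 3, 1, 2, 2, 1, 2, 1, 3, 1, 3, 1, 3, 3, 1, 3, 1]) (.leaf 203 43 [5, 2, 2, 1, 3, 3, 1, 2, 1, 3, 1, 2, 1, 2, 2, 1, 3, 1, 3, 1, 3, 1, 2, 2, 1, 2, 1, 3, 5, 5, 4, 6, 6, 4, 5, 4, 6, 4, 5, 4, 6, 6, 4, 5])))))))) (.node 3276 (.node 3254 (.node 3243 (.node 3237 (.node 3234 (.node 3233 (.leaf 209 5 [3, 1, 2, 1, 2, 2, 1, 2, 1, 2, 2, 1, 2, 2, 1, 2, 1, 3, 1, 3, 1, 3, 4, 5, 5, 4, 6, 4, 5, 5, 4, 6, 4, 5, 5, 2, 1, 2, 1, 3]) (.leaf 219 8 [1, 2, 1, 2, 1, 2, 2, 1, 2, 2, 1, 3, 3, 1, 3, 1, 3, 3, 1, 5, 4, 5, 5, 5, 4, 6, 4, 5, 5, 5, 4, 2, 1, 2, 2, 1, 2, 1, 3])) (.node 3235 (.leaf 222 6 [2, 2, 1, 3, 1, 3, 1, 2, 2, 1, 3, 1, 2, 1, 3, 3, 1, 2, 1, 3, 1, 4, 5, 5, 5, 5, 4, 6, 4, 5, 5, 4, 6, 6, 4, 1, 2, 1, 3, 3, 1]) (.node 3236 (.leaf 223 18 [2, 2, 1, 2, 2, 1, 3, 1, 3, 4, 5, 5, 4, 6, 4, 5, 5, 5, 4, 6, 4, 5, 5, 4, 2, 1, 3, 1, 3, 1, 3, 1, 3, 3, 1, 3, 1, 2, 1, 2, 2, 1]) (.leaf 231 25 [1, 3, 4, 5, 5, 5, 4, 6, 4, 5, 4, 6, 6, 4, 5, 5, 3, 3, 1, 3, 1, 2, 2, 1, 2, 1, 2, 1, 3, 1, 2, 1, 2, 1, 2, 2, 1, 3, 3, 1, 3])))) (.node 3240 (.node 3238 (.leaf 250 14 [1, 3, 1, 2, 2, 1, 3, 1, 3, 1, 3, 3, 1, 6, 4, 6, 6, 6, 4, 5, 4, 6, 6, 6, 4, 5, 4, 3, 3, 1, 3, 1, 2, 1, 2, 1, 2, 1, 2, 1, 2]) (.node 3239 (.leaf 254 20 [3, 1, 3, 3, 1, 2, 2, 4, 5, 5, 5, 4, 6, 4, 5, 4, 6, 6, 4, 5, 5, 5, 3, 3, 1, 3, 1, 3, 1, 2, 1, 3, 1, 2, 1, 2, 1, 2, 1, 2, 2, 1]) (.leaf 256 14 [2, 1, 2, 2, 1, 3, 1, 2, 1, 2, 1, 3, 1, 4, 5, 5, 4, 6, 4, 5, 4, 6, 4, 5, 4, 1, 2, 2, 1, 3, 1, 3, 1, 3, 3, 1, 2, 1, 2]))) (.node 3241 (.leaf 270 18 [1, 2, 2, 1, 2, 1, 2, 2, 1, 3, 5, 5, 5, 5, 4, 6, 4, 5, 2, 1, 3, 1, 3, 1, 2, 2, 1, 2, 1, 2, 1, 3, 1, 3, 1, 2]) (.node 3242 (.leaf 273 4 [2, 1, 3, 1, 2, 1, 3, 1, 2, 1, 2, 2, 1, 2, 1, 2, 1, 2, 2, 1, 2, 1, 2, 2, 5, 5, 5, 5, 4, 6, 4, 5, 5, 5, 4, 6, 6, 1, 3, 3, 1]) (.leaf 277 4 [2, 2, 1, 2, 1, 2, 1, 2, 1, 3, 1, 2, 1, 3, 1, 2, 1, 2, 1, 3, 3, 1, 2, 2, 5, 5, 4, 6, 6, 4, 5, 5, 1, 2, 2, 1]))))) (.node 3248 (.node 3245 (.node 3244 (.leaf 277 5 [2, 1, 2, 1, 2, 1, 2, 1, 3, 1, 2, 1, 3, 1, 2, 1, 2, 1, 3, 3, 1, 2, 2, 5, 5, 4, 6, 6, 4, 5, 5, 1, 2, 2, 1, 2]) (.leaf 278 28 [4, 5, 4, 6, 6, 6, 4, 5, 4, 6, 6, 4, 5, 4, 6, 4, 5, 2, 1, 3, 1, 2, 1, 3, 3, 1, 3, 1, 3, 1, 2, 1, 2, 1, 2, 1, 2, 1, 2, 2, 1, 2, 1, 3, 1])) (.node 3246 (.leaf 282 2 [1, 2, 1, 3, 3, 1, 2, 1, 3, 3, 1, 3, 1, 3, 3, 1, 2, 1, 3, 3, 1, 2, 1, 3, 1, 3, 6, 6, 6, 4, 5, 5, 5, 4, 6, 1, 2]) (.node 3247 (.leaf 298 23 [2, 1, 3, 3, 1, 4, 5, 5, 5, 4, 6, 6, 4, 5, 1, 3, 3, 1, 3, 1, 3, 3, 1, 3, 3, 1, 2, 1, 3, 3, 1, 2, 1, 3, 1, 3, 1]) (.leaf 308 10 [1, 2, 1, 3, 1, 2, 1, 3, 1, 3, 1, 2, 1, 2, 1, 3, 3, 1, 4, 6, 4, 5, 5, 4, 6, 6, 6, 4, 6, 1, 2, 2, 1, 2, 2, 1, 3, 1, 3])))) (.node 3251 (.node 3249 (.leaf 310 41 [5, 2, 1, 3, 1, 3, 1, 2, 1, 2, 1, 3, 1, 3, 1, 2, 1, 2, 1, 2, 1, 3, 3, 1, 3, 1, 2, 2, 1, 5, 4, 5, 5, 5, 4, 6, 4, 5, 4, 6, 6, 4]) (.node 3250 (.leaf 310 28 [5, 4, 5, 5, 5, 4, 6, 4, 5, 4, 6, 6, 4, 5, 2, 1, 3, 1, 3, 1, 2, 1, 2, 1, 3, 1, 3, 1, 2, 1, 2, 1, 2, 1, 3, 3, 1, 3, 1, 2, 2, 1]) (.leaf 311 23 [1, 2, 1, 2, 2, 5, 4, 5, 5, 5, 4, 6, 4, 5, 5, 4, 2, 1, 3, 1, 2, 1, 3, 1, 2, 1, 3, 3, 1, 2, 2, 1, 2, 1, 2, 2, 1, 3, 3]))) (.node 3252 (.leaf 315 9 [3, 3, 1, 3, 1, 2, 1, 2, 1, 2, 1, 2, 2, 1, 2, 1, 2, 1, 3, 6, 4, 5, 5, 4, 6, 4, 5, 5, 4, 6, 4, 6, 2, 2, 1, 3, 1, 3, 1, 2, 1]) (.node 3253 (.leaf 319 21 [1, 2, 1, 3, 1, 3, 3, 4, 6, 6, 6, 4, 5, 5, 5, 4, 6, 4, 5, 5, 4, 6, 6, 1, 2, 2, 1, 3, 1, 2, 1, 3, 1, 2, 1, 3, 3, 1, 3, 1, 2, 2, 1, 3]) (.leaf 325 18 [1, 3, 1, 3, 3, 1, 2, 2, 1, 3, 4, 6, 4, 5, 5, 4, 6, 6, 6, 1, 3, 3, 1, 2, 1, 3, 1, 3, 1, 3, 1, 2, 2, 1, 3, 1, 3])))))) (.node 3265 (.node 3259 (.node 3256 (.node 3255 (.leaf 329 22 [3, 1, 3, 3, 1, 3, 4, 6, 6, 6, 4, 5, 4, 6, 6, 6, 1, 3, 1, 2, 2, 1, 2, 1, 2, 1, 3, 1, 2, 2, 1, 2, 1, 2, 1, 3, 3, 1]) (.leaf 334 19 [1, 2, 1, 2, 2, 1, 3, 1, 3, 4, 5, 5, 4, 6, 4, 5, 4, 6, 4, 5, 4, 3, 3, 1, 2, 1, 2, 1, 2, 1, 3, 3, 1, 2, 2, 1, 3, 3, 1, 2])) (.node 3257 (.leaf 344 22 [1, 3, 3, 1, 3, 3, 4, 6, 6, 4, 5, 5, 4, 6, 6, 2, 2, 1, 3, 3, 1, 2, 1, 3, 3, 1, 3, 3, 1, 2, 1, 2, 1, 3, 1, 3, 3]) (.node 3258 (.leaf 361 10 [2, 1, 2, 2, 1, 2, 2, 1, 2, 1, 3, 1, 2, 2, 1, 2, 2, 1, 6, 6, 4, 5, 5, 4, 6, 4, 5, 5, 5, 4, 6, 6, 6, 4, 2, 1, 3, 1, 3, 3, 1, 2, 2, 1]) (.leaf 369 8 [1, 2, 1, 2, 2, 1, 2, 1, 3, 1, 3, 3, 1, 3, 3, 1, 3, 1, 3, 3, 4, 5, 5, 4, 6, 4, 2, 1, 2, 2, 1, 2, 1, 2])))) (.node 3262 (.node 3260 (.leaf 383 22 [2, 1, 2, 1, 2, 1, 6, 4, 5, 5, 5, 5, 4, 6, 6, 6, 4, 5, 4, 6, 3, 3, 1, 2, 2, 1, 2, 1, 2, 2, 1, 3, 1, 2, 2, 1, 2, 1, 2, 1, 2, 1]) (.node 3261 (.leaf 391 7 [1, 3, 3, 1, 3, 1, 2, 1, 3, 1, 3, 3, 1, 2, 1, 2, 2, 1, 3, 1, 2, 1, 5, 5, 4, 6, 6, 6, 4, 5, 4, 6, 6, 4, 5, 5, 4, 6, 6, 1, 3, 3, 1, 2, 1, 3]) (.leaf 396 46 [4, 1, 2, 1, 2, 1, 2, 1, 3, 1, 2, 1, 2, 1, 3, 1, 3, 1, 2, 1, 3, 3, 1, 2, 2, 1, 3, 1, 2, 2, 4, 5, 5, 5, 4, 6, 4, 5, 5, 5, 4, 6, 4, 5, 5, 4, 6]))) (.node 3263 (.leaf 107 9 [1, 2, 1, 2, 2, 1, 3, 1, 3, 3, 1, 3, 3, 1, 3, 3, 5, 5, 5, 4, 6, 4, 5, 5, 4, 6, 2, 1, 2, 1, 3, 3, 1, 3, 3]) (.node 3264 (.leaf 120 31 [6, 4, 5, 5, 1, 3, 1, 3, 1, 3, 3, 1, 3, 1, 3, 1, 2, 1, 3, 1, 3, 1, 3, 1, 3, 3, 1, 2, 1, 3, 4, 6, 4, 6, 6]) (.leaf 135 12 [1, 2, 1, 2, 1, 2, 1, 2, 2, 1, 2, 1, 2, 1, 4, 6, 4, 5, 5, 5, 4, 6, 6, 6, 4, 5, 4, 1, 3, 1, 2, 2, 1, 2, 1, 3, 1, 2, 2]))))) (.node 3270 (.node 3267 (.node 3266 (.leaf 142 6 [1, 3, 1, 3, 1, 2, 2, 1, 3, 3, 1, 3, 1, 3, 1, 2, 1, 3, 1, 3, 4, 5, 4, 5, 5, 5, 5, 4, 2, 1, 3, 3, 1, 2]) (.leaf 231 12 [3, 1, 2, 1, 2, 1, 2, 2, 1, 3, 3, 1, 3, 1, 3, 4, 5, 5, 5, 4, 6, 4, 5, 4, 6, 6, 4, 5, 5, 3, 3, 1, 3, 1, 2, 2, 1, 2, 1, 2, 1])) (.node 3268 (.leaf 233 3 [1, 3, 1, 3, 1, 2, 1, 3, 1, 2, 1, 2, 2, 1, 2, 1, 2, 1, 2, 2, 1, 2, 1, 3, 5, 4, 6, 6, 4, 5, 4, 6, 6, 2, 1, 2]) (.node 3269 (.leaf 244 39 [6, 4, 1, 2, 2, 1, 2, 1, 2, 1, 2, 1, 3, 1, 2, 2, 1, 3, 3, 1, 3, 1, 3, 1, 2, 1, 2, 1, 3, 5, 4, 6, 4, 5, 5, 4, 6, 4, 5, 5, 4]) (.leaf 312 18 [1, 2, 2, 1, 3, 1, 2, 2, 1, 3, 5, 4, 6, 4, 5, 4, 6, 4, 5, 5, 4, 6, 4, 2, 1, 2, 1, 3, 3, 1, 3, 3, 1, 3, 1, 2, 2, 1, 2, 1, 2])))) (.node 3273 (.node 3271 (.leaf 13 21 [5, 4, 6, 6, 4, 5, 4, 5, 1, 3, 3, 1, 2, 1, 2, 1, 2, 1, 2, 2, 1, 3, 3, 1, 2, 1, 4, 6, 4]) (.node 3272 (.leaf 31 20 [1, 3, 4, 6, 4, 5, 5, 5, 4, 6, 4, 5, 4, 2, 1, 2, 1, 2, 2, 1, 2, 2, 1, 2, 1, 2, 2, 1, 2, 2, 1, 3, 3]) (.leaf 126 0 [1, 3, 1, 2, 1, 2, 2, 1, 3, 3, 1, 2, 1, 3, 1, 2, 1, 2, 1, 2, 1, 3, 3, 1, 3, 1, 6, 4, 5, 5, 4, 6, 4, 5, 5, 4, 6]))) (.node 3274 (.leaf 145 2 [3, 3, 1, 2, 2, 1, 3, 1, 3, 1, 2, 1, 3, 3, 1, 3, 3, 1, 3, 1, 3, 1, 2, 1, 5, 4, 5, 5, 5, 4, 6, 4, 5, 4, 6, 2, 1]) (.node 3275 (.leaf 312 39 [6, 4, 2, 1, 2, 1, 3, 3, 1, 3, 3, 1, 3, 1, 2, 2, 1, 2, 1, 2, 1, 2, 2, 1, 3, 1, 2, 2, 1, 3, 5, 4, 6, 4, 5, 4, 6, 4, 5, 5, 4]) (.leaf 6 21 [3, 1, 3, 1, 3, 1, 3, 1, 3, 1, 3, 1, 3, 1, 3, 1, 3, 1, 3, 1, 3, 1, 3, 1, 3, 1, 3, 1, 3, 1, 3, 1, 3, 1, 3, 1, 3, 1]))))))) (.node 3298 (.node 3287 (.node 3281 (.node 3278 (.node 3277 (.leaf 46 5 [1, 2, 2, 1, 3, 3, 1, 2, 1, 2, 2, 1, 2, 1, 3, 1, 2, 1, 4, 5, 5, 5, 5, 4, 6, 6, 6, 1, 3, 1, 3, 3]) (.leaf 128 25 [2, 5, 4, 5, 5, 5, 4, 6, 4, 5, 5, 5, 4, 6, 4, 5, 2, 1, 3, 3, 1, 2, 1, 2, 1, 2, 1, 3, 1, 2, 1, 3, 1, 2, 1, 3, 3, 1, 2, 1, 2])) (.node 3279 (.leaf 305 16 [2, 1, 2, 1, 2, 1, 2, 2, 1, 3, 3, 1, 4, 6, 4, 5, 5, 4, 6, 4, 5, 5, 4, 6, 1, 3, 1, 3, 3, 1, 2, 2, 1, 3, 1, 3, 3, 1, 2, 1]) (.node 3280 (.leaf 393 42 [6, 4, 5, 1, 3, 3, 1, 3, 1, 3, 1, 3, 1, 3, 3, 1, 3, 1, 3, 1, 2, 1, 3, 1, 3, 3, 1, 3, 3, 1, 3, 1, 4, 6, 4, 5, 5, 5, 4, 6, 4, 5, 5, 5, 4]) (.leaf 132 24 [3, 1, 6, 6, 4, 5, 4, 6, 4, 5, 4, 6, 4, 1, 3, 1, 3, 1, 2, 1, 2, 1, 2, 2, 1, 2, 1, 3, 1, 2, 1, 2, 1, 2, 1, 2, 1])))) (.node 3284 (.node 3282 (.leaf 174 5 [2, 2, 1, 3, 3, 1, 2, 2, 1, 3, 3, 1, 2, 1, 2, 1, 2, 1, 2, 1, 3, 1, 5, 5, 5, 5, 4, 3, 3, 1, 3, 1]) (.node 3283 (.leaf 255 16 [3, 3, 1, 3, 1, 2, 2, 1, 2, 1, 3, 5, 4, 6, 6, 4, 5, 4, 6, 4, 5, 4, 6, 6, 4, 1, 2, 2, 1, 3, 3, 1, 2, 1, 2, 2, 1, 2, 1, 2, 1]) (.leaf 374 0 [2, 1, 3, 1, 2, 1, 2, 1, 2, 1, 3, 1, 2, 1, 2, 2, 1, 3, 3, 1, 3, 3, 1, 2, 2, 1, 3, 1, 4, 5, 4, 6, 6, 4, 5, 4, 6, 4, 5, 4, 6, 6, 4, 5]))) (.node 3285 (.leaf 390 2 [3, 1, 2, 2, 1, 3, 1, 2, 2, 1, 2, 1, 2, 1, 3, 3, 1, 2, 1, 3, 3, 1, 2, 1, 2, 2, 1, 5, 4, 6, 6, 6, 2, 1]) (.node 3286 (.leaf 9 16 [1, 2, 2, 2, 1, 2, 2, 2, 1, 2, 2, 2, 1, 2, 2, 2, 1, 2, 2, 2, 1, 2, 2, 2, 1, 2, 2, 2, 1, 2, 2, 2, 1, 2, 2, 2, 1, 2, 2, 2]) (.leaf 21 6 [3, 3, 1, 2, 2, 1, 2, 2, 1, 2, 1, 3, 3, 1, 2, 2, 4, 5, 4, 6, 6, 4, 5, 4, 6, 6, 6, 4, 6, 2, 1, 2, 1, 2, 1]))))) (.node 3292 (.node 3289 (.node 3288 (.leaf 86 33 [5, 4, 6, 6, 1, 3, 1, 3, 1, 3, 3, 1, 2, 2, 1, 2, 1, 3, 3, 1, 2, 2, 1, 2, 1, 2, 1, 2, 2, 4, 5, 5, 4, 6, 4, 5, 5]) (.leaf 153 33 [5, 4, 5, 1, 3, 1, 3, 1, 2, 2, 1, 2, 1, 2, 1, 2, 2, 1, 2, 1, 2, 2, 1, 2, 1, 3, 3, 1, 3, 4, 6, 6, 6, 4, 5, 5])) (.node 3290 (.leaf 345 21 [1, 3, 3, 1, 3, 1, 3, 6, 4, 5, 5, 5, 5, 4, 6, 6, 6, 4, 6, 2, 1, 2, 1, 2, 1, 3, 1, 3, 1, 3, 1, 3, 1, 2, 1, 2, 1, 2, 1, 2]) (.node 3291 (.leaf 100 22 [1, 2, 1, 5, 4, 5, 5, 5, 4, 6, 6, 4, 5, 5, 2, 1, 2, 1, 2, 1, 3, 3, 1, 3, 3, 1, 2, 2, 1, 2, 2, 1, 2, 1, 3, 3]) (.leaf 293 28 [6, 6, 4, 5, 4, 6, 6, 6, 4, 5, 4, 6, 6, 4, 5, 1, 3, 3, 1, 3, 1, 2, 1, 3, 1, 2, 2, 1, 3, 1, 3, 3, 1, 3, 1, 3, 1, 2, 1, 3, 1, 3, 3])))) (.node 3295 (.node 3293 (.leaf 18 4 [2, 2, 1, 3, 1, 3, 1, 3, 1, 2, 1, 2, 2, 1, 3, 1, 3, 6, 6, 6, 4, 5, 5, 5, 4, 2, 1, 3, 1]) (.node 3294 (.leaf 19 5 [2, 1, 3, 1, 2, 1, 3, 1, 2, 1, 3, 1, 3, 1, 2, 1, 4, 5, 4, 6, 6, 6, 4, 5, 5, 5, 4, 6, 4, 5, 5, 1, 3, 1, 2, 1]) (.leaf 20 8 [3, 1, 2, 2, 1, 3, 1, 2, 2, 1, 3, 3, 1, 3, 4, 5, 4, 6, 6, 4, 5, 4, 6, 6, 6, 4, 2, 2, 1, 3, 1, 3, 1, 3]))) (.node 3296 (.leaf 21 32 [6, 4, 6, 2, 1, 2, 1, 2, 1, 3, 3, 1, 2, 2, 1, 2, 2, 1, 2, 1, 3, 3, 1, 2, 2, 4, 5, 4, 6, 6, 4, 5, 4, 6, 6]) (.node 3297 (.leaf 25 22 [4, 5, 4, 6, 4, 5, 4, 6, 4, 5, 4, 6, 6, 6, 4, 2, 2, 1, 2, 2, 1, 3, 3, 1, 2, 1, 2, 2, 1, 3, 1, 2, 1, 2, 1, 2, 2]) (.leaf 26 38 [5, 2, 2, 1, 2, 2, 1, 2, 1, 3, 1, 2, 1, 3, 1, 3, 1, 2, 2, 1, 3, 1, 3, 4, 5, 4, 6, 4, 5, 5, 4, 6, 4, 5, 5, 5, 4, 6, 4])))))) (.node 3309 (.node 3303 (.node 3300 (.node 3299 (.leaf 50 2 [3, 1, 2, 1, 3, 3, 1, 2, 2, 1, 2, 1, 3, 3, 1, 3, 3, 1, 2, 2, 1, 3, 4, 6, 4, 5, 5, 5, 5, 1, 3]) (.leaf 54 4 [3, 3, 1, 2, 1, 2, 1, 2, 2, 1, 2, 1, 3, 1, 2, 1, 2, 1, 3, 3, 5, 5, 4, 6, 4, 5, 4, 6, 4, 5, 5, 4, 6, 4, 1, 2, 2, 1])) (.node 3301 (.leaf 54 10 [1, 2, 2, 1, 2, 1, 3, 1, 2, 1, 2, 1, 3, 3, 5, 5, 4, 6, 4, 5, 4, 6, 4, 5, 5, 4, 6, 4, 1, 2, 2, 1, 3, 3, 1, 2, 1, 2]) (.node 3302 (.leaf 55 15 [2, 1, 3, 1, 3, 3, 1, 2, 2, 4, 6, 6, 4, 5, 4, 6, 6, 4, 5, 4, 6, 6, 2, 1, 2, 1, 3, 3, 1, 2, 1, 3, 1, 3, 1, 2, 1]) (.leaf 55 14 [1, 2, 1, 3, 1, 3, 3, 1, 2, 2, 4, 6, 6, 4, 5, 4, 6, 6, 4, 5, 4, 6, 6, 2, 1, 2, 1, 3, 3, 1, 2, 1, 3, 1, 3, 1, 2])))) (.node 3306 (.node 3304 (.leaf 55 26 [6, 4, 5, 4, 6, 6, 4, 5, 4, 6, 6, 2, 1, 2, 1, 3, 3, 1, 2, 1, 3, 1, 3, 1, 2, 1, 2, 1, 3, 1, 3, 3, 1, 2, 2, 4, 6]) (.node 3305 (.leaf 63 7 [2, 2, 1, 2, 1, 2, 2, 1, 3, 1, 3, 1, 3, 3, 1, 3, 3, 4, 5, 4, 5, 5, 5, 4, 6, 4, 5, 5, 4, 6, 4, 5, 1, 3, 1, 3, 1, 3, 1]) (.leaf 65 15 [1, 2, 1, 2, 1, 3, 1, 2, 1, 6, 6, 4, 5, 5, 4, 6, 4, 5, 4, 6, 4, 5, 5, 5, 2, 2, 1, 3, 3, 1, 2, 1, 2, 1, 2, 1, 2, 1, 2]))) (.node 3307 (.leaf 71 7 [1, 2, 1, 2, 2, 1, 3, 3, 1, 3, 3, 1, 2, 2, 1, 3, 1, 3, 6, 6, 6, 4, 5, 4, 6, 6, 4, 5, 5, 5, 2, 1, 2, 1, 2, 1, 3]) (.node 3308 (.leaf 75 3 [3, 1, 2, 1, 3, 3, 1, 3, 3, 1, 2, 2, 1, 3, 3, 1, 2, 1, 2, 1, 3, 3, 6, 6, 4, 5, 5, 5, 4, 6, 4, 5, 5, 5, 4, 1, 2, 1]) (.leaf 86 19 [2, 1, 2, 1, 2, 2, 4, 5, 5, 4, 6, 4, 5, 5, 5, 4, 6, 6, 1, 3, 1, 3, 1, 3, 3, 1, 2, 2, 1, 2, 1, 3, 3, 1, 2, 2, 1]))))) (.node 3314 (.node 3311 (.node 3310 (.leaf 87 26 [5, 4, 6, 4, 5, 5, 5, 4, 6, 4, 5, 5, 5, 1, 3, 3, 1, 2, 2, 1, 2, 2, 1, 3, 3, 1, 3, 1, 2, 2, 1, 2, 1, 3, 1, 2, 2, 1, 5]) (.leaf 89 40 [6, 1, 3, 1, 3, 1, 3, 3, 1, 3, 3, 1, 3, 1, 3, 1, 2, 2, 1, 2, 1, 2, 1, 3, 1, 3, 6, 6, 4, 5, 5, 5, 4, 6, 4, 5, 5, 5, 4, 6, 6])) (.node 3312 (.leaf 99 25 [6, 4, 5, 5, 4, 6, 4, 5, 4, 6, 4, 5, 5, 5, 4, 1, 2, 2, 1, 2, 2, 1, 3, 1, 3, 3, 1, 2, 1, 2, 1, 3, 1, 3, 1, 2, 1, 3, 1, 3]) (.node 3313 (.leaf 117 6 [2, 1, 3, 1, 3, 3, 1, 2, 1, 3, 1, 2, 1, 3, 3, 1, 3, 3, 1, 3, 5, 5, 5, 5, 4, 6, 3, 3, 1, 2, 2, 1]) (.leaf 122 19 [2, 2, 1, 3, 1, 2, 2, 4, 5, 5, 5, 4, 6, 4, 5, 5, 5, 4, 5, 1, 2, 1, 3, 3, 1, 2, 1, 2, 2, 1, 3, 3, 1, 3, 1, 2, 2, 1])))) (.node 3317 (.node 3315 (.leaf 122 9 [2, 1, 3, 3, 1, 3, 1, 2, 2, 1, 2, 2, 1, 3, 1, 2, 2, 4, 5, 5, 5, 4, 6, 4, 5, 5, 5, 4, 5, 1, 2, 1, 3, 3, 1, 2, 1, 2]) (.node 3316 (.leaf 123 13 [3, 1, 2, 1, 3, 1, 2, 2, 1, 2, 1, 3, 1, 5, 4, 6, 4, 5, 4, 6, 6, 4, 5, 4, 6, 6, 6, 4, 6, 2, 2, 1, 3, 1, 3, 3, 1, 2, 1, 2, 2, 1]) (.leaf 127 42 [5, 3, 3, 1, 3, 1, 2, 2, 1, 3, 1, 2, 1, 2, 2, 1, 2, 1, 3, 1, 2, 1, 2, 2, 1, 2, 1, 4, 6, 4, 5, 5, 4, 6, 4, 5, 5, 5, 4, 6, 4, 5, 5]))) (.node 3318 (.leaf 144 17 [1, 2, 1, 2, 1, 3, 1, 3, 1, 5, 4, 6, 4, 5, 5, 4, 6, 4, 5, 4, 6, 6, 4, 3, 3, 1, 3, 1, 2, 1, 3, 3, 1, 2, 2, 1, 3, 3, 1, 3]) (.node 3319 (.leaf 163 25 [1, 3, 4, 6, 6, 4, 5, 5, 4, 6, 4, 5, 5, 5, 4, 6, 4, 5, 3, 3, 1, 3, 3, 1, 3, 1, 2, 1, 2, 1, 2, 2, 1, 3, 1, 3, 1, 2, 1, 2, 1, 3, 3]) (.leaf 165 12 [3, 1, 2, 1, 2, 2, 1, 2, 1, 2, 2, 1, 2, 2, 1, 4, 5, 5, 4, 6, 4, 5, 5, 4, 6, 4, 5, 4, 6, 6, 2, 1, 3, 1, 3, 1, 3, 3, 1, 3, 1, 3]))))))))) (.node 3407 (.node 3363 (.node 3341 (.node 3330 (.node 3325 (.node 3322 (.node 3321 (.leaf 167 6 [1, 2, 1, 3, 1, 2, 1, 2, 1, 2, 1, 2, 2, 1, 3, 1, 3, 3, 1, 3, 1, 5, 4, 6, 6, 4, 5, 5, 5, 1, 3, 1, 3, 1, 3]) (.leaf 171 10 [1, 3, 3, 1, 2, 2, 1, 3, 1, 2, 2, 1, 2, 2, 1, 2, 1, 4, 5, 5, 5, 4, 6, 4, 5, 4, 6, 4, 5, 4, 6, 6, 1, 3, 1, 3, 3, 1, 3, 3, 1, 2])) (.node 3323 (.leaf 183 9 [1, 2, 1, 3, 1, 2, 1, 3, 1, 2, 2, 1, 3, 1, 3, 1, 3, 3, 4, 5, 5, 4, 6, 4, 5, 4, 6, 4, 5, 4, 6, 6, 4, 5, 4, 2, 2, 1, 2, 1, 2, 1, 3, 3]) (.node 3324 (.leaf 185 27 [5, 5, 4, 6, 4, 5, 5, 4, 6, 4, 5, 5, 5, 4, 1, 3, 3, 1, 3, 3, 1, 2, 1, 2, 2, 1, 2, 2, 1, 2, 1, 3, 1, 3, 1, 2, 1, 3, 1, 3, 1]) (.leaf 190 8 [2, 2, 1, 3, 1, 2, 2, 1, 2, 1, 2, 1, 3, 1, 3, 1, 2, 1, 3, 4, 5, 5, 4, 6, 4, 5, 5, 4, 6, 4, 5, 4, 6, 1, 3, 1, 2, 1, 2, 2, 1])))) (.node 3327 (.node 3326 (.leaf 195 20 [1, 2, 1, 2, 1, 2, 1, 6, 4, 5, 4, 6, 6, 4, 5, 4, 6, 4, 5, 1, 2, 1, 3, 1, 2, 2, 1, 2, 1, 3, 1, 3, 1, 3, 3, 1, 3, 1, 2]) (.leaf 197 27 [4, 6, 4, 5, 5, 4, 6, 4, 5, 4, 6, 4, 5, 5, 1, 2, 1, 3, 1, 3, 3, 1, 2, 1, 2, 1, 3, 1, 3, 1, 3, 3, 1, 2, 1, 3, 3, 1, 3, 3, 1])) (.node 3328 (.leaf 211 41 [5, 1, 3, 1, 2, 1, 3, 3, 1, 3, 1, 2, 1, 2, 2, 1, 2, 2, 1, 2, 2, 1, 2, 1, 2, 1, 3, 1, 5, 5, 4, 6, 4, 5, 5, 4, 6, 4, 5, 4, 6, 4]) (.node 3329 (.leaf 219 24 [3, 3, 1, 5, 4, 5, 5, 5, 4, 6, 4, 5, 5, 5, 4, 2, 1, 2, 2, 1, 2, 1, 3, 1, 2, 1, 2, 1, 2, 2, 1, 2, 2, 1, 3, 3, 1, 3, 1]) (.leaf 219 12 [1, 2, 2, 1, 2, 2, 1, 3, 3, 1, 3, 1, 3, 3, 1, 5, 4, 5, 5, 5, 4, 6, 4, 5, 5, 5, 4, 2, 1, 2, 2, 1, 2, 1, 3, 1, 2, 1, 2]))))) (.node 3335 (.node 3332 (.node 3331 (.leaf 223 26 [3, 4, 5, 5, 4, 6, 4, 5, 5, 5, 4, 6, 4, 5, 5, 4, 2, 1, 3, 1, 3, 1, 3, 1, 3, 3, 1, 3, 1, 2, 1, 2, 2, 1, 2, 2, 1, 2, 2, 1, 3, 1]) (.leaf 230 18 [1, 3, 1, 2, 1, 2, 2, 1, 3, 4, 5, 4, 6, 6, 4, 5, 5, 5, 4, 1, 2, 1, 3, 1, 3, 1, 3, 1, 2, 2, 1, 2, 1, 2, 2, 1, 2])) (.node 3333 (.leaf 230 17 [2, 1, 3, 1, 2, 1, 2, 2, 1, 3, 4, 5, 4, 6, 6, 4, 5, 5, 5, 4, 1, 2, 1, 3, 1, 3, 1, 3, 1, 2, 2, 1, 2, 1, 2, 2, 1]) (.node 3334 (.leaf 231 24 [3, 1, 3, 4, 5, 5, 5, 4, 6, 4, 5, 4, 6, 6, 4, 5, 5, 3, 3, 1, 3, 1, 2, 2, 1, 2, 1, 2, 1, 3, 1, 2, 1, 2, 1, 2, 2, 1, 3, 3, 1]) (.leaf 245 15 [1, 3, 1, 2, 1, 2, 2, 1, 2, 1, 3, 3, 5, 5, 4, 6, 6, 4, 5, 4, 6, 4, 5, 4, 6, 4, 2, 2, 1, 3, 3, 1, 2, 2, 1, 3, 1, 2, 2, 1, 3])))) (.node 3338 (.node 3336 (.leaf 249 11 [1, 2, 1, 2, 2, 1, 3, 3, 1, 3, 3, 1, 2, 1, 2, 1, 6, 4, 5, 4, 6, 6, 4, 5, 4, 6, 6, 4, 1, 2, 2, 1, 2, 2, 1, 2, 2, 1, 2]) (.node 3337 (.leaf 251 42 [6, 2, 1, 2, 1, 2, 1, 3, 1, 2, 1, 3, 3, 1, 2, 2, 1, 2, 1, 3, 3, 1, 2, 1, 2, 1, 3, 1, 5, 5, 4, 6, 4, 5, 5, 5, 4, 6, 4, 5, 5, 4, 6]) (.leaf 270 17 [2, 1, 2, 2, 1, 2, 1, 2, 2, 1, 3, 5, 5, 5, 5, 4, 6, 4, 5, 2, 1, 3, 1, 3, 1, 2, 2, 1, 2, 1, 2, 1, 3, 1, 3, 1]))) (.node 3339 (.leaf 270 11 [2, 1, 3, 1, 3, 1, 2, 1, 2, 2, 1, 2, 1, 2, 2, 1, 3, 5, 5, 5, 5, 4, 6, 4, 5, 2, 1, 3, 1, 3, 1, 2, 2, 1, 2, 1]) (.node 3340 (.leaf 275 20 [2, 2, 1, 3, 1, 2, 1, 3, 4, 5, 4, 6, 4, 5, 4, 6, 6, 6, 4, 6, 3, 3, 1, 3, 3, 1, 2, 1, 3, 1, 2, 1, 2, 1, 2, 2, 1, 2, 2, 1]) (.leaf 279 9 [2, 1, 3, 1, 2, 1, 2, 2, 1, 2, 1, 2, 1, 3, 1, 2, 1, 3, 1, 5, 5, 4, 6, 6, 6, 4, 5, 4, 6, 6, 6, 4, 5, 4, 6, 1, 3, 1, 3, 1, 2, 2, 1, 2])))))) (.node 3352 (.node 3346 (.node 3343 (.node 3342 (.leaf 294 7 [1, 3, 3, 1, 3, 1, 3, 1, 3, 1, 3, 1, 3, 3, 1, 3, 1, 2, 1, 2, 2, 6, 6, 6, 4, 5, 4, 6, 6, 4, 5, 2, 2, 1, 3, 3, 1, 2]) (.leaf 295 6 [3, 1, 3, 3, 1, 3, 1, 2, 1, 3, 3, 1, 2, 1, 3, 1, 2, 1, 3, 1, 2, 2, 6, 4, 5, 4, 6, 6, 4, 5, 4, 5, 1, 2, 2, 1, 2, 1])) (.node 3344 (.leaf 303 28 [6, 6, 6, 4, 5, 5, 5, 4, 6, 4, 5, 2, 1, 3, 3, 1, 3, 1, 3, 1, 3, 1, 2, 1, 2, 2, 1, 3, 3, 1, 3, 1, 3, 1, 3, 3, 1, 2, 1]) (.node 3345 (.leaf 310 20 [3, 3, 1, 3, 1, 2, 2, 1, 5, 4, 5, 5, 5, 4, 6, 4, 5, 4, 6, 6, 4, 5, 2, 1, 3, 1, 3, 1, 2, 1, 2, 1, 3, 1, 3, 1, 2, 1, 2, 1, 2, 1]) (.leaf 317 4 [1, 2, 1, 2, 1, 3, 3, 1, 3, 1, 2, 1, 3, 3, 1, 2, 1, 2, 2, 1, 3, 3, 1, 3, 4, 6, 6, 4, 5, 4, 6, 6, 6, 4, 5, 5, 1, 3, 1, 2])))) (.node 3349 (.node 3347 (.leaf 318 25 [1, 3, 1, 4, 5, 4, 6, 6, 4, 5, 4, 6, 4, 5, 5, 4, 6, 2, 1, 3, 1, 2, 1, 2, 2, 1, 3, 1, 3, 3, 1, 2, 1, 3, 3, 1, 3, 1, 2, 1, 2, 2]) (.node 3348 (.leaf 321 16 [3, 1, 3, 1, 2, 1, 2, 1, 3, 1, 2, 1, 4, 6, 4, 5, 4, 6, 6, 4, 5, 4, 6, 6, 6, 4, 6, 2, 1, 3, 1, 2, 2, 1, 2, 1, 3, 3, 1, 2, 1, 2, 1]) (.leaf 324 4 [2, 1, 2, 1, 2, 1, 2, 2, 1, 3, 1, 3, 1, 3, 1, 2, 2, 1, 2, 1, 2, 1, 2, 2, 5, 5, 5, 5, 4, 6, 4, 5, 5, 5, 4, 2, 2, 1, 2]))) (.node 3350 (.leaf 330 5 [1, 2, 1, 3, 1, 2, 1, 3, 1, 3, 1, 3, 3, 1, 3, 1, 2, 1, 2, 1, 3, 3, 1, 6, 4, 5, 5, 5, 4, 6, 4, 5, 5, 5, 2, 1, 2, 1, 3]) (.node 3351 (.leaf 331 0 [2, 1, 2, 1, 2, 2, 1, 3, 3, 1, 2, 1, 2, 2, 1, 3, 1, 2, 1, 3, 3, 1, 3, 1, 2, 1, 3, 1, 4, 5, 5, 4, 6, 4, 5, 4, 6, 6, 6, 4]) (.leaf 332 12 [1, 2, 2, 1, 3, 1, 3, 1, 2, 1, 3, 1, 2, 1, 2, 2, 4, 6, 4, 5, 4, 6, 4, 5, 4, 6, 6, 6, 4, 5, 4, 2, 2, 1, 3, 1, 2, 1, 3, 1, 3, 1, 3]))))) (.node 3357 (.node 3354 (.node 3353 (.leaf 337 17 [2, 2, 1, 3, 3, 1, 3, 3, 1, 3, 1, 5, 5, 4, 6, 4, 5, 4, 6, 4, 5, 5, 4, 6, 4, 5, 3, 3, 1, 2, 2, 1, 2, 1, 3, 1, 2, 2, 1, 2, 1, 2, 1]) (.leaf 342 3 [3, 1, 3, 3, 1, 2, 1, 2, 1, 2, 2, 1, 3, 1, 2, 2, 1, 2, 1, 3, 1, 3, 1, 2, 2, 4, 6, 4, 5, 4, 6, 4, 5, 4, 6, 6, 6, 4, 6, 2, 1, 3])) (.node 3355 (.leaf 345 12 [3, 1, 2, 1, 2, 1, 2, 1, 2, 1, 3, 3, 1, 3, 1, 3, 6, 4, 5, 5, 5, 5, 4, 6, 6, 6, 4, 6, 2, 1, 2, 1, 2, 1, 3, 1, 3, 1, 3, 1]) (.node 3356 (.leaf 349 7 [1, 2, 1, 2, 2, 1, 2, 2, 1, 2, 1, 2, 2, 1, 3, 1, 2, 2, 1, 3, 1, 5, 4, 5, 5, 5, 4, 6, 4, 5, 4, 6, 4, 5, 4, 6, 4, 1, 2, 1, 3, 1, 3, 3]) (.leaf 358 28 [4, 5, 5, 4, 6, 4, 5, 5, 4, 6, 4, 5, 4, 6, 6, 6, 1, 3, 1, 3, 3, 1, 3, 1, 2, 2, 1, 2, 1, 2, 1, 3, 3, 1, 2, 1, 3, 1, 3, 1, 2, 1, 3, 1])))) (.node 3360 (.node 3358 (.leaf 360 17 [3, 1, 2, 2, 1, 2, 1, 3, 3, 1, 3, 6, 4, 5, 4, 6, 6, 4, 5, 4, 6, 6, 6, 4, 5, 4, 6, 2, 1, 2, 1, 2, 1, 3, 3, 1, 3, 1, 3, 3, 1, 2, 2, 1]) (.node 3359 (.leaf 366 40 [4, 2, 1, 2, 1, 3, 1, 2, 2, 1, 3, 3, 1, 2, 2, 1, 3, 3, 1, 2, 2, 1, 3, 1, 3, 1, 3, 3, 1, 4, 6, 4, 5, 4, 6, 6, 4, 5, 4, 6, 6]) (.leaf 367 26 [2, 1, 4, 6, 4, 5, 5, 4, 6, 4, 5, 4, 6, 4, 5, 4, 1, 2, 1, 3, 3, 1, 2, 2, 1, 3, 3, 1, 2, 1, 2, 1, 2, 1, 3, 1, 3, 1, 3, 1, 3, 1]))) (.node 3361 (.leaf 381 26 [3, 3, 4, 5, 5, 4, 6, 4, 5, 5, 4, 6, 6, 4, 2, 2, 1, 2, 1, 2, 1, 3, 1, 3, 3, 1, 3, 1, 2, 1, 3, 3, 1, 2, 2, 1, 2, 1, 3, 1]) (.node 3362 (.leaf 20 22 [4, 5, 4, 6, 6, 4, 5, 4, 6, 6, 6, 4, 2, 2, 1, 3, 1, 3, 1, 3, 3, 1, 2, 2, 1, 3, 1, 2, 2, 1, 3, 3, 1, 3]) (.leaf 21 19 [1, 2, 2, 4, 5, 4, 6, 6, 4, 5, 4, 6, 6, 6, 4, 6, 2, 1, 2, 1, 2, 1, 3, 3, 1, 2, 2, 1, 2, 2, 1, 2, 1, 3, 3]))))))) (.node 3385 (.node 3374 (.node 3368 (.node 3365 (.node 3364 (.leaf 22 5 [2, 1, 2, 1, 2, 2, 1, 3, 1, 2, 2, 1, 2, 2, 1, 3, 1, 5, 5, 4, 6, 4, 5, 4, 3, 3, 1, 2, 1]) (.leaf 39 6 [1, 2, 2, 1, 3, 1, 2, 1, 3, 3, 1, 3, 3, 1, 2, 2, 1, 4, 5, 5, 4, 6, 4, 5, 5, 4, 6, 6, 4, 5, 5, 1, 3, 3, 1, 2, 2])) (.node 3366 (.leaf 41 19 [2, 2, 1, 3, 5, 4, 6, 6, 4, 5, 4, 6, 6, 6, 4, 5, 4, 6, 6, 4, 5, 5, 1, 2, 2, 1, 2, 2, 1, 2, 1, 3, 1, 2, 1, 3, 1, 2, 1, 3, 1]) (.node 3367 (.leaf 47 4 [1, 3, 1, 2, 2, 1, 2, 2, 1, 3, 3, 1, 3, 1, 2, 1, 2, 2, 1, 5, 5, 5, 4, 6, 6, 4, 2, 2, 1, 2]) (.leaf 49 1 [1, 2, 1, 3, 3, 1, 2, 2, 1, 3, 3, 1, 3, 1, 3, 1, 2, 1, 2, 1, 2, 1, 3, 5, 5, 4, 6, 4, 5, 4, 6, 4, 5, 4, 6, 4, 2])))) (.node 3371 (.node 3369 (.leaf 58 7 [3, 3, 1, 2, 2, 1, 2, 2, 1, 3, 1, 3, 3, 1, 3, 3, 1, 4, 6, 4, 5, 5, 5, 4, 6, 6, 4, 1, 3, 1, 3, 1, 2, 1]) (.node 3370 (.leaf 59 10 [3, 1, 2, 1, 3, 3, 1, 2, 2, 1, 2, 1, 3, 3, 5, 5, 4, 6, 6, 6, 4, 2, 1, 2, 1, 3, 1, 3, 3, 1, 3]) (.leaf 61 37 [6, 2, 1, 3, 1, 3, 3, 1, 2, 2, 1, 3, 1, 2, 1, 2, 1, 2, 2, 1, 3, 3, 1, 2, 2, 4, 6, 6, 6, 4, 5, 4, 6, 6, 6, 4, 5, 4]))) (.node 3372 (.leaf 61 17 [2, 1, 3, 3, 1, 2, 2, 4, 6, 6, 6, 4, 5, 4, 6, 6, 6, 4, 5, 4, 6, 2, 1, 3, 1, 3, 3, 1, 2, 2, 1, 3, 1, 2, 1, 2, 1, 2]) (.node 3373 (.leaf 62 21 [1, 3, 1, 4, 5, 4, 6, 6, 4, 5, 4, 6, 4, 5, 4, 6, 6, 4, 2, 1, 3, 3, 1, 3, 3, 1, 2, 2, 1, 2, 1, 2, 2, 1, 2, 1, 3, 1, 3]) (.leaf 65 1 [2, 1, 3, 3, 1, 2, 1, 2, 1, 2, 1, 2, 1, 2, 1, 2, 1, 2, 1, 3, 1, 2, 1, 6, 6, 4, 5, 5, 4, 6, 4, 5, 4, 6, 4, 5, 5, 5, 2]))))) (.node 3379 (.node 3376 (.node 3375 (.leaf 72 11 [1, 2, 1, 2, 1, 2, 1, 2, 1, 2, 2, 1, 3, 1, 6, 6, 6, 4, 5, 4, 6, 6, 4, 5, 2, 2, 1, 2, 1, 3, 1, 2, 1, 2, 2]) (.leaf 73 18 [2, 1, 3, 3, 1, 3, 3, 4, 6, 6, 6, 4, 5, 4, 6, 6, 6, 4, 5, 4, 6, 6, 4, 2, 2, 1, 2, 1, 3, 3, 1, 3, 3, 1, 3, 1, 3, 1, 3, 3, 1])) (.node 3377 (.leaf 73 6 [3, 1, 3, 3, 1, 3, 1, 3, 1, 3, 3, 1, 2, 1, 3, 3, 1, 3, 3, 4, 6, 6, 6, 4, 5, 4, 6, 6, 6, 4, 5, 4, 6, 6, 4, 2, 2, 1, 2, 1, 3]) (.node 3378 (.leaf 75 24 [3, 6, 6, 4, 5, 5, 5, 4, 6, 4, 5, 5, 5, 4, 1, 2, 1, 3, 1, 2, 1, 3, 3, 1, 3, 3, 1, 2, 2, 1, 3, 3, 1, 2, 1, 2, 1, 3]) (.leaf 76 3 [3, 1, 2, 1, 2, 1, 3, 3, 1, 2, 2, 1, 3, 1, 2, 2, 1, 2, 2, 1, 2, 2, 6, 4, 5, 4, 6, 6, 4, 5, 5, 4, 6, 1, 2, 1])))) (.node 3382 (.node 3380 (.leaf 89 22 [3, 1, 3, 6, 6, 4, 5, 5, 5, 4, 6, 4, 5, 5, 5, 4, 6, 6, 6, 1, 3, 1, 3, 1, 3, 3, 1, 3, 3, 1, 3, 1, 3, 1, 2, 2, 1, 2, 1, 2, 1]) (.node 3381 (.leaf 98 4 [3, 1, 3, 3, 1, 3, 1, 2, 2, 1, 3, 1, 3, 3, 1, 2, 1, 2, 1, 3, 1, 6, 6, 4, 5, 4, 6, 6, 6, 4, 5, 4, 6, 6, 4, 3, 3, 1, 3]) (.leaf 112 21 [2, 2, 1, 3, 3, 4, 6, 6, 4, 5, 4, 6, 6, 4, 5, 5, 4, 6, 4, 1, 2, 2, 1, 2, 1, 2, 1, 3, 1, 3, 1, 2, 2, 1, 3, 1, 2, 1, 2, 1]))) (.node 3383 (.leaf 124 6 [1, 2, 1, 3, 1, 2, 2, 1, 3, 3, 1, 2, 1, 3, 1, 2, 1, 3, 3, 1, 5, 4, 6, 6, 4, 5, 5, 4, 6, 4, 5, 5, 5, 4, 6, 2, 1, 3, 3, 1, 2]) (.node 3384 (.leaf 132 36 [4, 1, 3, 1, 3, 1, 2, 1, 2, 1, 2, 2, 1, 2, 1, 3, 1, 2, 1, 2, 1, 2, 1, 2, 1, 3, 1, 6, 6, 4, 5, 4, 6, 4, 5, 4, 6]) (.leaf 133 4 [2, 2, 1, 2, 1, 3, 1, 2, 1, 2, 1, 2, 2, 1, 2, 1, 2, 2, 1, 2, 1, 3, 4, 5, 5, 4, 6, 4, 5, 5, 4, 6, 4, 5, 5, 2, 1, 2, 1])))))) (.node 3396 (.node 3390 (.node 3387 (.node 3386 (.leaf 139 20 [3, 1, 3, 1, 3, 3, 4, 5, 4, 6, 6, 6, 4, 5, 4, 6, 6, 4, 5, 4, 6, 4, 3, 3, 1, 2, 2, 1, 2, 2, 1, 2, 1, 3, 1, 2, 2, 1, 2, 2, 1, 3]) (.leaf 140 20 [3, 1, 2, 2, 1, 3, 5, 4, 5, 5, 5, 4, 6, 4, 5, 5, 4, 6, 4, 5, 4, 6, 1, 2, 1, 3, 1, 3, 1, 3, 3, 1, 3, 1, 2, 2, 1, 2, 1, 3, 1, 3])) (.node 3388 (.leaf 149 40 [4, 1, 2, 2, 1, 3, 1, 2, 2, 1, 2, 2, 1, 2, 1, 2, 1, 2, 1, 2, 1, 3, 1, 3, 1, 3, 1, 6, 4, 5, 5, 4, 6, 4, 5, 4, 6, 4, 5, 5, 5]) (.node 3389 (.leaf 157 9 [2, 1, 2, 2, 1, 2, 1, 3, 1, 3, 1, 2, 1, 3, 3, 1, 2, 1, 4, 6, 6, 6, 4, 5, 4, 6, 6, 6, 4, 6, 1, 2, 2, 1, 3, 1, 2, 2, 1]) (.leaf 158 2 [2, 1, 2, 1, 2, 1, 2, 1, 3, 1, 3, 1, 2, 1, 3, 1, 3, 3, 1, 3, 1, 2, 1, 2, 1, 6, 4, 5, 5, 5, 4, 6, 4, 5, 4, 6, 6, 4, 5, 1, 2])))) (.node 3393 (.node 3391 (.leaf 159 5 [3, 1, 3, 3, 1, 3, 1, 2, 1, 2, 2, 1, 2, 2, 1, 3, 3, 1, 3, 1, 3, 1, 4, 5, 4, 5, 5, 5, 4, 6, 4, 5, 4, 6, 6, 3, 3, 1, 3, 1]) (.node 3392 (.leaf 178 16 [2, 1, 2, 1, 3, 1, 3, 3, 1, 3, 1, 5, 5, 5, 4, 6, 4, 5, 5, 4, 6, 4, 5, 5, 5, 4, 5, 1, 3, 3, 1, 2, 1, 3, 3, 1, 2, 1, 2, 2, 1, 2, 1]) (.leaf 193 4 [3, 1, 3, 3, 1, 3, 1, 2, 1, 2, 1, 2, 1, 2, 1, 3, 1, 3, 3, 1, 2, 2, 1, 4, 6, 4, 5, 4, 6, 6, 4, 5, 5, 5, 4, 1, 2, 1, 3]))) (.node 3394 (.leaf 198 6 [3, 3, 1, 2, 2, 1, 2, 1, 3, 1, 2, 2, 1, 3, 1, 3, 1, 3, 3, 1, 3, 6, 6, 4, 5, 5, 4, 6, 4, 5, 5, 5, 4, 1, 2, 2, 1, 2, 1]) (.node 3395 (.leaf 203 2 [1, 3, 3, 1, 2, 1, 3, 1, 2, 1, 2, 2, 1, 3, 1, 3, 1, 3, 1, 2, 2, 1, 2, 1, 3, 5, 5, 4, 6, 6, 4, 5, 4, 6, 4, 5, 4, 6, 6, 4, 5, 5, 2, 2]) (.leaf 210 2 [2, 1, 3, 1, 2, 2, 1, 3, 1, 2, 2, 1, 2, 1, 2, 1, 3, 1, 2, 1, 3, 3, 1, 2, 1, 6, 4, 5, 4, 6, 4, 5, 4, 6, 6, 4, 5, 4, 1, 2]))))) (.node 3401 (.node 3398 (.node 3397 (.leaf 210 11 [2, 2, 1, 2, 1, 2, 1, 3, 1, 2, 1, 3, 3, 1, 2, 1, 6, 4, 5, 4, 6, 4, 5, 4, 6, 6, 4, 5, 4, 1, 2, 2, 1, 3, 1, 2, 2, 1, 3, 1]) (.leaf 220 28 [6, 4, 5, 5, 5, 4, 6, 4, 5, 5, 4, 6, 6, 4, 5, 3, 3, 1, 2, 1, 3, 3, 1, 2, 1, 2, 2, 1, 2, 1, 2, 1, 2, 1, 2, 2, 1, 2, 1, 3, 1, 3, 4])) (.node 3399 (.leaf 227 26 [1, 4, 5, 5, 5, 4, 6, 6, 4, 2, 2, 1, 2, 2, 1, 3, 1, 3, 1, 3, 1, 2, 2, 1, 3, 1, 2, 1, 2, 1, 3, 1, 3, 1, 3]) (.node 3400 (.leaf 237 21 [1, 2, 2, 1, 3, 3, 6, 4, 5, 5, 4, 6, 1, 3, 1, 2, 2, 1, 2, 2, 1, 2, 2, 1, 3, 1, 2, 1, 2, 2, 1, 2, 2]) (.leaf 247 10 [2, 1, 2, 2, 1, 2, 2, 1, 2, 1, 2, 1, 3, 1, 3, 3, 1, 6, 4, 5, 4, 6, 6, 6, 4, 5, 4, 6, 6, 4, 5, 4, 1, 2, 2, 1, 2, 2, 1, 3, 1, 2])))) (.node 3404 (.node 3402 (.leaf 250 15 [3, 1, 2, 2, 1, 3, 1, 3, 1, 3, 3, 1, 6, 4, 6, 6, 6, 4, 5, 4, 6, 6, 6, 4, 5, 4, 3, 3, 1, 3, 1, 2, 1, 2, 1, 2, 1, 2, 1, 2, 1]) (.node 3403 (.leaf 250 22 [3, 1, 3, 3, 1, 6, 4, 6, 6, 6, 4, 5, 4, 6, 6, 6, 4, 5, 4, 3, 3, 1, 3, 1, 2, 1, 2, 1, 2, 1, 2, 1, 2, 1, 3, 1, 2, 2, 1, 3, 1]) (.leaf 253 10 [1, 2, 1, 2, 2, 1, 2, 1, 3, 1, 3, 3, 1, 2, 1, 3, 1, 6, 6, 4, 5, 5, 4, 6, 4, 5, 5, 5, 4, 6, 2, 1, 3, 1, 3, 3, 1, 2, 1, 3]))) (.node 3405 (.leaf 254 26 [2, 4, 5, 5, 5, 4, 6, 4, 5, 4, 6, 6, 4, 5, 5, 5, 3, 3, 1, 3, 1, 3, 1, 2, 1, 3, 1, 2, 1, 2, 1, 2, 1, 2, 2, 1, 3, 1, 3, 3, 1, 2]) (.node 3406 (.leaf 261 9 [1, 2, 1, 2, 1, 2, 1, 2, 2, 1, 2, 1, 3, 1, 2, 1, 2, 1, 3, 4, 6, 4, 5, 5, 5, 4, 6, 6, 6, 4, 6, 1, 3, 1, 3, 1, 2, 2, 1, 2]) (.leaf 268 26 [2, 2, 4, 6, 4, 5, 5, 5, 4, 6, 4, 5, 4, 6, 6, 4, 5, 4, 1, 3, 3, 1, 3, 1, 3, 3, 1, 2, 1, 3, 3, 1, 2, 1, 3, 3, 1, 2, 1, 2, 1, 2, 2, 1])))))))) (.node 3451 (.node 3429 (.node 3418 (.node 3412 (.node 3409 (.node 3408 (.leaf 270 15 [3, 1, 2, 1, 2, 2, 1, 2, 1, 2, 2, 1, 3, 5, 5, 5, 5, 4, 6, 4, 5, 2, 1, 3, 1, 3, 1, 2, 2, 1, 2, 1, 2, 1, 3, 1]) (.leaf 279 11 [3, 1, 2, 1, 2, 2, 1, 2, 1, 2, 1, 3, 1, 2, 1, 3, 1, 5, 5, 4, 6, 6, 6, 4, 5, 4, 6, 6, 6, 4, 5, 4, 6, 1, 3, 1, 3, 1, 2, 2, 1, 2, 2, 1])) (.node 3410 (.leaf 281 6 [3, 1, 3, 3, 1, 3, 3, 1, 2, 1, 3, 3, 1, 2, 2, 1, 2, 1, 3, 1, 3, 1, 6, 6, 4, 5, 5, 4, 6, 4, 5, 5, 5, 4, 6, 6, 6, 4, 2, 1, 3, 3, 1, 3]) (.node 3411 (.leaf 282 20 [3, 3, 1, 2, 1, 3, 1, 3, 6, 6, 6, 4, 5, 5, 5, 4, 6, 1, 2, 1, 2, 1, 3, 3, 1, 2, 1, 3, 3, 1, 3, 1, 3, 3, 1, 2, 1]) (.leaf 282 29 [6, 6, 4, 5, 5, 5, 4, 6, 1, 2, 1, 2, 1, 3, 3, 1, 2, 1, 3, 3, 1, 3, 1, 3, 3, 1, 2, 1, 3, 3, 1, 2, 1, 3, 1, 3, 6])))) (.node 3415 (.node 3413 (.leaf 283 29 [5, 5, 5, 5, 4, 6, 4, 5, 5, 4, 6, 4, 5, 4, 1, 2, 1, 2, 1, 2, 1, 3, 1, 3, 1, 2, 2, 1, 2, 2, 1, 3, 1, 2, 1, 3, 1, 3, 1, 3, 1, 3, 4]) (.node 3414 (.leaf 285 9 [1, 2, 2, 1, 2, 2, 1, 3, 3, 1, 2, 2, 1, 3, 1, 2, 1, 3, 1, 4, 5, 5, 5, 4, 6, 4, 5, 5, 4, 6, 6, 4, 5, 4, 6, 6, 1, 3, 1, 3, 3, 1, 3, 1, 2]) (.leaf 285 31 [5, 4, 6, 4, 5, 5, 4, 6, 6, 4, 5, 4, 6, 6, 1, 3, 1, 3, 3, 1, 3, 1, 2, 1, 2, 2, 1, 2, 2, 1, 3, 3, 1, 2, 2, 1, 3, 1, 2, 1, 3, 1, 4, 5, 5]))) (.node 3416 (.leaf 287 25 [1, 2, 2, 4, 6, 4, 5, 5, 4, 6, 6, 4, 5, 4, 6, 6, 6, 4, 5, 2, 1, 3, 1, 3, 1, 3, 1, 3, 3, 1, 2, 1, 2, 1, 2, 1, 3, 1, 3, 3, 1, 2, 1, 3]) (.node 3417 (.leaf 293 24 [3, 1, 3, 3, 6, 6, 4, 5, 4, 6, 6, 6, 4, 5, 4, 6, 6, 4, 5, 1, 3, 3, 1, 3, 1, 2, 1, 3, 1, 2, 2, 1, 3, 1, 3, 3, 1, 3, 1, 3, 1, 2, 1]) (.leaf 294 15 [3, 1, 3, 1, 3, 3, 1, 3, 1, 2, 1, 2, 2, 6, 6, 6, 4, 5, 4, 6, 6, 4, 5, 2, 2, 1, 3, 3, 1, 2, 1, 3, 3, 1, 3, 1, 3, 1]))))) (.node 3423 (.node 3420 (.node 3419 (.leaf 301 12 [2, 1, 2, 2, 1, 3, 1, 3, 3, 1, 2, 1, 3, 3, 1, 3, 5, 4, 6, 4, 5, 4, 6, 4, 5, 4, 6, 6, 4, 5, 5, 1, 3, 1, 3, 1, 3, 1, 2, 1, 3, 1, 2]) (.leaf 302 44 [4, 1, 3, 1, 3, 3, 1, 2, 2, 1, 2, 2, 1, 3, 1, 2, 2, 1, 2, 2, 1, 2, 1, 2, 1, 3, 1, 3, 3, 4, 5, 4, 6, 4, 5, 4, 6, 4, 5, 4, 6, 6, 6, 4, 5])) (.node 3421 (.leaf 303 23 [3, 3, 1, 2, 1, 6, 6, 6, 4, 5, 5, 5, 4, 6, 4, 5, 2, 1, 3, 3, 1, 3, 1, 3, 1, 3, 1, 2, 1, 2, 2, 1, 3, 3, 1, 3, 1, 3, 1]) (.node 3422 (.leaf 304 20 [1, 2, 1, 3, 1, 3, 1, 3, 6, 4, 5, 5, 5, 4, 6, 4, 5, 4, 6, 6, 4, 5, 4, 2, 1, 2, 1, 2, 2, 1, 3, 1, 3, 3, 1, 2, 2, 1, 3, 1, 2, 1, 3]) (.leaf 304 42 [4, 2, 1, 2, 1, 2, 2, 1, 3, 1, 3, 3, 1, 2, 2, 1, 3, 1, 2, 1, 3, 1, 2, 1, 3, 1, 3, 1, 3, 6, 4, 5, 5, 5, 4, 6, 4, 5, 4, 6, 6, 4, 5])))) (.node 3426 (.node 3424 (.leaf 317 8 [1, 3, 3, 1, 3, 1, 2, 1, 3, 3, 1, 2, 1, 2, 2, 1, 3, 3, 1, 3, 4, 6, 6, 4, 5, 4, 6, 6, 6, 4, 5, 5, 1, 3, 1, 2, 1, 2, 1, 2]) (.node 3425 (.leaf 319 25 [1, 3, 3, 4, 6, 6, 6, 4, 5, 5, 5, 4, 6, 4, 5, 5, 4, 6, 6, 1, 2, 2, 1, 3, 1, 2, 1, 3, 1, 2, 1, 3, 3, 1, 3, 1, 2, 2, 1, 3, 1, 2, 1, 3]) (.leaf 321 18 [3, 1, 2, 1, 2, 1, 3, 1, 2, 1, 4, 6, 4, 5, 4, 6, 6, 4, 5, 4, 6, 6, 6, 4, 6, 2, 1, 3, 1, 2, 2, 1, 2, 1, 3, 3, 1, 2, 1, 2, 1, 3, 1]))) (.node 3427 (.leaf 323 12 [3, 1, 2, 1, 3, 1, 2, 1, 3, 1, 3, 1, 3, 1, 3, 3, 6, 6, 4, 5, 4, 6, 4, 5, 4, 6, 4, 5, 4, 6, 1, 3, 3, 1, 2, 1, 3, 3, 1, 3, 3, 1]) (.node 3428 (.leaf 330 24 [1, 3, 3, 1, 6, 4, 5, 5, 5, 4, 6, 4, 5, 5, 5, 2, 1, 2, 1, 3, 1, 2, 1, 3, 1, 2, 1, 3, 1, 3, 1, 3, 3, 1, 3, 1, 2, 1, 2]) (.leaf 331 16 [1, 2, 1, 3, 3, 1, 3, 1, 2, 1, 3, 1, 4, 5, 5, 4, 6, 4, 5, 4, 6, 6, 6, 4, 2, 1, 2, 1, 2, 2, 1, 3, 3, 1, 2, 1, 2, 2, 1, 3])))))) (.node 3440 (.node 3434 (.node 3431 (.node 3430 (.leaf 338 7 [2, 1, 3, 3, 1, 3, 1, 2, 1, 3, 3, 1, 2, 1, 3, 1, 3, 3, 1, 2, 2, 6, 6, 6, 4, 5, 4, 6, 6, 6, 4, 5, 4, 6, 6, 6, 2, 1, 3, 1, 2, 2, 1]) (.leaf 358 27 [1, 4, 5, 5, 4, 6, 4, 5, 5, 4, 6, 4, 5, 4, 6, 6, 6, 1, 3, 1, 3, 3, 1, 3, 1, 2, 2, 1, 2, 1, 2, 1, 3, 3, 1, 2, 1, 3, 1, 3, 1, 2, 1, 3])) (.node 3432 (.leaf 360 20 [2, 1, 2, 1, 3, 3, 1, 3, 6, 4, 5, 4, 6, 6, 4, 5, 4, 6, 6, 6, 4, 5, 4, 6, 2, 1, 2, 1, 2, 1, 3, 3, 1, 3, 1, 3, 3, 1, 2, 2, 1, 3, 1, 2]) (.node 3433 (.leaf 366 38 [6, 6, 4, 2, 1, 2, 1, 3, 1, 2, 2, 1, 3, 3, 1, 2, 2, 1, 3, 3, 1, 2, 2, 1, 3, 1, 3, 1, 3, 3, 1, 4, 6, 4, 5, 4, 6, 6, 4, 5, 4]) (.leaf 367 20 [3, 1, 3, 1, 3, 1, 2, 1, 4, 6, 4, 5, 5, 4, 6, 4, 5, 4, 6, 4, 5, 4, 1, 2, 1, 3, 3, 1, 2, 2, 1, 3, 3, 1, 2, 1, 2, 1, 2, 1, 3, 1])))) (.node 3437 (.node 3435 (.leaf 373 33 [5, 5, 5, 4, 6, 4, 5, 5, 5, 4, 1, 3, 3, 1, 3, 1, 3, 1, 3, 1, 2, 1, 2, 1, 3, 1, 2, 2, 1, 2, 2, 1, 3, 3, 1, 3, 3, 1, 4, 6, 6, 6, 4]) (.node 3436 (.leaf 374 24 [2, 1, 3, 1, 4, 5, 4, 6, 6, 4, 5, 4, 6, 4, 5, 4, 6, 6, 4, 5, 2, 1, 3, 1, 2, 1, 2, 1, 2, 1, 3, 1, 2, 1, 2, 2, 1, 3, 3, 1, 3, 3, 1, 2]) (.leaf 377 37 [5, 5, 4, 6, 6, 1, 2, 2, 1, 3, 1, 2, 1, 3, 3, 1, 3, 3, 1, 2, 1, 2, 2, 1, 2, 1, 3, 1, 2, 1, 2, 2, 1, 5, 4, 6, 6, 4, 5, 4, 6, 4]))) (.node 3438 (.leaf 385 6 [3, 3, 1, 2, 2, 1, 3, 1, 3, 3, 1, 3, 1, 2, 1, 2, 1, 2, 1, 3, 3, 1, 6, 6, 4, 5, 5, 4, 2, 2, 1, 3, 3, 1]) (.node 3439 (.leaf 395 12 [3, 3, 1, 2, 1, 2, 2, 1, 2, 1, 2, 2, 1, 2, 1, 3, 3, 6, 6, 6, 4, 5, 5, 5, 4, 6, 4, 5, 5, 4, 6, 4, 1, 3, 1, 3, 1, 2, 1, 3, 3, 1, 3, 1]) (.leaf 23 21 [3, 4, 5, 4, 5, 5, 5, 4, 6, 4, 5, 1, 2, 1, 3, 1, 3, 3, 1, 3, 1, 2, 1, 3, 3, 1, 2, 1, 3, 1, 2, 1]))))) (.node 3445 (.node 3442 (.node 3441 (.leaf 45 35 [5, 5, 4, 6, 6, 1, 2, 2, 1, 3, 1, 3, 3, 1, 2, 1, 2, 2, 1, 2, 1, 2, 2, 1, 2, 1, 2, 2, 4, 6, 6, 6, 4, 5, 5, 5, 4, 6, 4, 5]) (.leaf 172 25 [1, 3, 4, 6, 6, 4, 5, 4, 6, 4, 1, 3, 3, 1, 3, 1, 2, 1, 2, 2, 1, 2, 1, 2, 2, 1, 2, 1, 2, 1, 2, 2, 1, 3, 3])) (.node 3443 (.leaf 19 22 [5, 4, 6, 6, 6, 4, 5, 5, 5, 4, 6, 4, 5, 5, 1, 3, 1, 2, 1, 2, 1, 3, 1, 2, 1, 3, 1, 2, 1, 3, 1, 3, 1, 2, 1, 4]) (.node 3444 (.leaf 135 20 [2, 1, 2, 1, 2, 1, 4, 6, 4, 5, 5, 5, 4, 6, 6, 6, 4, 5, 4, 1, 3, 1, 2, 2, 1, 2, 1, 3, 1, 2, 2, 1, 2, 1, 2, 1, 2, 1, 2]) (.leaf 151 30 [6, 4, 5, 2, 1, 3, 3, 1, 3, 3, 1, 3, 1, 2, 2, 1, 2, 2, 1, 2, 2, 1, 3, 1, 2, 2, 1, 2, 2, 5, 5, 4, 6])))) (.node 3448 (.node 3446 (.leaf 185 29 [4, 6, 4, 5, 5, 4, 6, 4, 5, 5, 5, 4, 1, 3, 3, 1, 3, 3, 1, 2, 1, 2, 2, 1, 2, 2, 1, 2, 1, 3, 1, 3, 1, 2, 1, 3, 1, 3, 1, 5, 5]) (.node 3447 (.leaf 199 6 [1, 3, 1, 2, 2, 1, 3, 1, 2, 2, 1, 2, 2, 1, 3, 1, 2, 2, 1, 2, 1, 5, 4, 6, 6, 6, 4, 5, 5, 5, 4, 6, 2, 2, 1, 2, 1, 3]) (.leaf 360 28 [6, 4, 5, 4, 6, 6, 4, 5, 4, 6, 6, 6, 4, 5, 4, 6, 2, 1, 2, 1, 2, 1, 3, 3, 1, 3, 1, 3, 3, 1, 2, 2, 1, 3, 1, 2, 2, 1, 2, 1, 3, 3, 1, 3]))) (.node 3449 (.leaf 383 40 [4, 6, 3, 3, 1, 2, 2, 1, 2, 1, 2, 2, 1, 3, 1, 2, 2, 1, 2, 1, 2, 1, 2, 1, 2, 1, 2, 1, 2, 1, 6, 4, 5, 5, 5, 5, 4, 6, 6, 6, 4, 5]) (.node 3450 (.leaf 5 13 [2, 1, 2, 1, 2, 1, 2, 1, 2, 1, 2, 1, 2, 1, 2, 1, 2, 1, 2, 1, 2, 1, 2, 1, 2, 1, 2, 1, 2, 1, 2, 1, 2, 1, 2, 1, 2, 1]) (.leaf 99 3 [1, 2, 2, 1, 3, 1, 3, 3, 1, 2, 1, 2, 1, 3, 1, 3, 1, 2, 1, 3, 1, 3, 6, 4, 5, 5, 4, 6, 4, 5, 4, 6, 4, 5, 5, 5, 4, 1, 2, 2]))))))) (.node 3473 (.node 3462 (.node 3456 (.node 3453 (.node 3452 (.leaf 120 15 [1, 3, 1, 3, 1, 3, 3, 1, 2, 1, 3, 4, 6, 4, 6, 6, 6, 4, 5, 5, 1, 3, 1, 3, 1, 3, 3, 1, 3, 1, 3, 1, 2, 1, 3]) (.leaf 195 38 [5, 1, 2, 1, 3, 1, 2, 2, 1, 2, 1, 3, 1, 3, 1, 3, 3, 1, 3, 1, 2, 1, 2, 1, 2, 1, 2, 1, 6, 4, 5, 4, 6, 6, 4, 5, 4, 6, 4])) (.node 3454 (.leaf 205 12 [2, 2, 1, 2, 2, 1, 2, 2, 1, 3, 1, 2, 1, 2, 1, 4, 6, 4, 5, 4, 6, 4, 5, 4, 6, 4, 5, 5, 4, 6, 4, 2, 1, 2, 1, 3, 3, 1, 2, 1, 3, 3, 1]) (.node 3455 (.leaf 213 32 [5, 4, 5, 1, 3, 1, 3, 3, 1, 3, 3, 1, 3, 1, 3, 1, 2, 1, 3, 1, 3, 1, 3, 3, 1, 3, 1, 3, 1, 3, 5, 4, 5, 5, 5]) (.leaf 247 3 [1, 2, 2, 1, 3, 1, 2, 2, 1, 2, 2, 1, 2, 2, 1, 2, 1, 2, 1, 3, 1, 3, 3, 1, 6, 4, 5, 4, 6, 6, 6, 4, 5, 4, 6, 6, 4, 5, 4, 1, 2, 2])))) (.node 3459 (.node 3457 (.leaf 345 23 [3, 1, 3, 1, 3, 6, 4, 5, 5, 5, 5, 4, 6, 6, 6, 4, 6, 2, 1, 2, 1, 2, 1, 3, 1, 3, 1, 3, 1, 3, 1, 2, 1, 2, 1, 2, 1, 2, 1, 3]) (.node 3458 (.leaf 57 5 [1, 3, 1, 3, 1, 3, 1, 2, 1, 3, 1, 3, 1, 3, 3, 1, 3, 3, 1, 6, 6, 6, 4, 5, 4, 6, 6, 4, 5, 5, 2, 2, 1, 3, 3]) (.leaf 72 17 [1, 2, 1, 2, 2, 1, 3, 1, 6, 6, 6, 4, 5, 4, 6, 6, 4, 5, 2, 2, 1, 2, 1, 3, 1, 2, 1, 2, 2, 1, 2, 1, 2, 1, 2]))) (.node 3460 (.leaf 118 24 [1, 3, 4, 5, 4, 6, 4, 5, 5, 4, 6, 4, 5, 5, 4, 6, 1, 3, 3, 1, 2, 1, 2, 2, 1, 2, 2, 1, 2, 1, 2, 1, 3, 1, 3, 3, 1, 3, 1, 2]) (.node 3461 (.leaf 180 21 [2, 1, 2, 1, 2, 1, 6, 4, 6, 6, 6, 4, 5, 4, 6, 6, 6, 4, 5, 2, 1, 2, 1, 3, 1, 2, 1, 3, 1, 3, 1, 2, 2, 1, 3, 1, 3, 1, 3, 1]) (.leaf 331 29 [5, 5, 4, 6, 4, 5, 4, 6, 6, 6, 4, 2, 1, 2, 1, 2, 2, 1, 3, 3, 1, 2, 1, 2, 2, 1, 3, 1, 2, 1, 3, 3, 1, 3, 1, 2, 1, 3, 1, 4]))))) (.node 3467 (.node 3464 (.node 3463 (.leaf 340 11 [1, 3, 3, 1, 2, 2, 1, 3, 1, 2, 1, 2, 1, 3, 1, 3, 3, 6, 6, 4, 5, 5, 4, 6, 4, 5, 5, 5, 4, 6, 1, 3, 1, 3, 3, 1, 3, 3, 1, 2, 2]) (.leaf 34 27 [4, 6, 4, 5, 4, 2, 2, 1, 2, 2, 1, 3, 1, 3, 1, 2, 1, 2, 1, 2, 2, 1, 2, 1, 3, 1, 2, 2, 4, 5, 5, 5])) (.node 3465 (.leaf 40 33 [4, 3, 3, 1, 2, 1, 3, 3, 1, 2, 1, 3, 1, 2, 1, 3, 3, 1, 3, 1, 2, 2, 1, 3, 5, 4, 6, 4, 5, 4, 6, 4, 5, 5]) (.node 3466 (.leaf 157 27 [4, 6, 6, 6, 4, 5, 4, 6, 6, 6, 4, 6, 1, 2, 2, 1, 3, 1, 2, 2, 1, 2, 1, 2, 2, 1, 2, 1, 3, 1, 3, 1, 2, 1, 3, 3, 1, 2, 1]) (.leaf 218 7 [2, 2, 1, 3, 1, 3, 1, 2, 1, 2, 2, 1, 2, 2, 1, 2, 1, 2, 1, 3, 4, 6, 4, 5, 5, 5, 4, 6, 4, 5, 4, 6, 6, 4, 5, 4, 2, 2, 1, 3, 1, 3, 1])))) (.node 3470 (.node 3468 (.leaf 263 30 [5, 5, 4, 6, 6, 4, 5, 5, 4, 6, 3, 3, 1, 3, 3, 1, 3, 1, 3, 1, 3, 1, 2, 2, 1, 2, 1, 3, 1, 2, 1, 2, 1, 2, 2, 1, 2, 1, 4, 5]) (.node 3469 (.leaf 295 15 [3, 3, 1, 2, 1, 3, 1, 2, 1, 3, 1, 2, 2, 6, 4, 5, 4, 6, 6, 4, 5, 4, 5, 1, 2, 2, 1, 2, 1, 3, 1, 3, 3, 1, 3, 1, 2, 1]) (.leaf 373 5 [1, 3, 1, 3, 1, 2, 1, 2, 1, 3, 1, 2, 2, 1, 2, 2, 1, 3, 3, 1, 3, 3, 1, 4, 6, 6, 6, 4, 5, 5, 5, 4, 6, 4, 5, 5, 5, 4, 1, 3, 3, 1, 3]))) (.node 3471 (.leaf 27 20 [2, 2, 4, 6, 4, 5, 5, 4, 6, 4, 5, 5, 4, 1, 2, 1, 2, 2, 1, 3, 3, 1, 3, 1, 2, 1, 3, 1, 2, 2, 1, 2, 1]) (.node 3472 (.leaf 219 0 [2, 1, 2, 2, 1, 2, 1, 3, 1, 2, 1, 2, 1, 2, 2, 1, 2, 2, 1, 3, 3, 1, 3, 1, 3, 3, 1, 5, 4, 5, 5, 5, 4, 6, 4, 5, 5, 5, 4]) (.leaf 376 9 [1, 2, 2, 1, 2, 1, 3, 1, 3, 1, 3, 3, 1, 2, 1, 3, 1, 2, 1, 6, 4, 5, 5, 4, 6, 6, 6, 1, 3, 1, 3, 1, 3, 1, 3, 3])))))) (.node 3484 (.node 3478 (.node 3475 (.node 3474 (.leaf 390 22 [3, 1, 2, 1, 2, 2, 1, 5, 4, 6, 6, 6, 2, 1, 3, 1, 2, 2, 1, 3, 1, 2, 2, 1, 2, 1, 2, 1, 3, 3, 1, 2, 1, 3]) (.leaf 18 26 [5, 5, 4, 2, 1, 3, 1, 2, 2, 1, 3, 1, 3, 1, 3, 1, 2, 1, 2, 2, 1, 3, 1, 3, 6, 6, 6, 4, 5])) (.node 3476 (.leaf 24 8 [3, 3, 1, 3, 1, 2, 1, 2, 1, 3, 3, 1, 3, 1, 5, 5, 5, 5, 4, 6, 4, 5, 5, 1, 2, 1, 3, 1, 3, 3, 1]) (.node 3477 (.leaf 137 41 [4, 1, 3, 3, 1, 2, 2, 1, 3, 1, 3, 1, 3, 3, 1, 3, 3, 1, 2, 2, 1, 2, 2, 1, 3, 1, 3, 6, 6, 4, 5, 4, 6, 6, 4, 5, 4, 6, 4, 5, 5, 5]) (.leaf 173 18 [3, 1, 2, 2, 1, 2, 1, 3, 1, 5, 4, 6, 4, 5, 4, 6, 4, 5, 4, 6, 4, 5, 4, 6, 6, 2, 1, 2, 2, 1, 2, 1, 2, 2, 1, 3, 1, 2, 2, 1, 3, 1, 3])))) (.node 3481 (.node 3479 (.leaf 176 31 [6, 4, 5, 4, 6, 4, 5, 4, 6, 4, 5, 4, 2, 1, 2, 2, 1, 3, 3, 1, 2, 2, 1, 2, 1, 2, 1, 2, 2, 1, 2, 2, 1, 2, 2, 1, 2, 1, 3, 4, 5, 5, 4]) (.node 3480 (.leaf 178 39 [5, 5, 4, 5, 1, 3, 3, 1, 2, 1, 3, 3, 1, 2, 1, 2, 2, 1, 2, 1, 2, 1, 2, 1, 3, 1, 3, 3, 1, 3, 1, 5, 5, 5, 4, 6, 4, 5, 5, 4, 6, 4, 5]) (.leaf 219 36 [5, 5, 4, 2, 1, 2, 2, 1, 2, 1, 3, 1, 2, 1, 2, 1, 2, 2, 1, 2, 2, 1, 3, 3, 1, 3, 1, 3, 3, 1, 5, 4, 5, 5, 5, 4, 6, 4, 5]))) (.node 3482 (.leaf 227 29 [5, 5, 4, 6, 6, 4, 2, 2, 1, 2, 2, 1, 3, 1, 3, 1, 3, 1, 2, 2, 1, 3, 1, 2, 1, 2, 1, 3, 1, 3, 1, 3, 1, 4, 5]) (.node 3483 (.leaf 279 41 [5, 4, 6, 1, 3, 1, 3, 1, 2, 2, 1, 2, 2, 1, 3, 1, 2, 1, 2, 2, 1, 2, 1, 2, 1, 3, 1, 2, 1, 3, 1, 5, 5, 4, 6, 6, 6, 4, 5, 4, 6, 6, 6, 4]) (.leaf 330 37 [5, 5, 2, 1, 2, 1, 3, 1, 2, 1, 3, 1, 2, 1, 3, 1, 3, 1, 3, 3, 1, 3, 1, 2, 1, 2, 1, 3, 3, 1, 6, 4, 5, 5, 5, 4, 6, 4, 5]))))) (.node 3489 (.node 3486 (.node 3485 (.leaf 365 18 [1, 2, 2, 1, 3, 1, 3, 1, 3, 1, 5, 4, 5, 5, 5, 5, 4, 6, 6, 6, 4, 5, 4, 2, 2, 1, 2, 1, 2, 2, 1, 2, 2, 1, 2, 1, 2, 2, 1, 2, 2]) (.leaf 18 20 [3, 6, 6, 6, 4, 5, 5, 5, 4, 2, 1, 3, 1, 2, 2, 1, 3, 1, 3, 1, 3, 1, 2, 1, 2, 2, 1, 3, 1])) (.node 3487 (.leaf 68 27 [5, 5, 5, 5, 4, 5, 1, 2, 1, 2, 1, 2, 1, 3, 3, 1, 3, 1, 2, 2, 1, 3, 1, 2, 1, 2, 2, 1, 3, 3, 4, 5, 4]) (.node 3488 (.leaf 117 16 [1, 2, 1, 3, 3, 1, 3, 3, 1, 3, 5, 5, 5, 5, 4, 6, 3, 3, 1, 2, 2, 1, 2, 1, 3, 1, 3, 3, 1, 2, 1, 3]) (.leaf 118 18 [3, 3, 1, 3, 1, 2, 1, 3, 4, 5, 4, 6, 4, 5, 5, 4, 6, 4, 5, 5, 4, 6, 1, 3, 3, 1, 2, 1, 2, 2, 1, 2, 2, 1, 2, 1, 2, 1, 3, 1])))) (.node 3492 (.node 3490 (.leaf 175 25 [2, 2, 6, 6, 4, 5, 5, 5, 4, 6, 6, 6, 4, 5, 5, 1, 3, 1, 3, 1, 2, 2, 1, 3, 1, 2, 1, 3, 1, 3, 3, 1, 3, 1, 3, 1, 2, 1, 3, 1]) (.node 3491 (.leaf 176 1 [1, 2, 2, 1, 3, 3, 1, 2, 2, 1, 2, 1, 2, 1, 2, 2, 1, 2, 2, 1, 2, 2, 1, 2, 1, 3, 4, 5, 5, 4, 6, 4, 5, 4, 6, 4, 5, 4, 6, 4, 5, 4, 2]) (.leaf 195 29 [5, 4, 6, 6, 4, 5, 4, 6, 4, 5, 1, 2, 1, 3, 1, 2, 2, 1, 2, 1, 3, 1, 3, 1, 3, 3, 1, 3, 1, 2, 1, 2, 1, 2, 1, 2, 1, 6, 4]))) (.node 3493 (.leaf 282 32 [5, 5, 5, 4, 6, 1, 2, 1, 2, 1, 3, 3, 1, 2, 1, 3, 3, 1, 3, 1, 3, 3, 1, 2, 1, 3, 3, 1, 2, 1, 3, 1, 3, 6, 6, 6, 4]) (.node 3494 (.leaf 301 33 [4, 6, 4, 5, 4, 6, 6, 4, 5, 5, 1, 3, 1, 3, 1, 3, 1, 2, 1, 3, 1, 2, 2, 1, 2, 2, 1, 3, 1, 3, 3, 1, 2, 1, 3, 3, 1, 3, 5, 4, 6, 4, 5]) (.leaf 321 6 [1, 2, 1, 3, 3, 1, 2, 1, 2, 1, 3, 1, 3, 1, 2, 1, 2, 1, 3, 1, 2, 1, 4, 6, 4, 5, 4, 6, 6, 4, 5, 4, 6, 6, 6, 4, 6, 2, 1, 3, 1, 2, 2]))))))))))) (.node 3844 (.node 3669 (.node 3582 (.node 3538 (.node 3516 (.node 3505 (.node 3500 (.node 3497 (.node 3496 (.leaf 325 9 [1, 3, 1, 2, 2, 1, 3, 1, 3, 1, 3, 1, 3, 3, 1, 2, 2, 1, 3, 4, 6, 4, 5, 5, 4, 6, 6, 6, 1, 3, 3, 1, 2, 1, 3, 1, 3]) (.leaf 363 32 [5, 4, 6, 4, 5, 4, 6, 4, 5, 4, 6, 4, 1, 3, 1, 3, 3, 1, 2, 2, 1, 2, 2, 1, 3, 3, 1, 3, 3, 1, 3, 1, 3, 3, 1, 2, 1, 3, 1, 3, 4, 6, 6, 4])) (.node 3498 (.leaf 369 20 [1, 3, 3, 1, 3, 1, 3, 3, 4, 5, 5, 4, 6, 4, 2, 1, 2, 2, 1, 2, 1, 2, 1, 2, 1, 2, 2, 1, 2, 1, 3, 1, 3, 3]) (.node 3499 (.leaf 372 10 [3, 1, 3, 1, 2, 1, 3, 3, 1, 2, 1, 3, 1, 3, 3, 1, 2, 1, 6, 4, 6, 6, 6, 4, 6, 1, 2, 2, 1, 3, 3, 1, 2, 1, 3]) (.leaf 376 16 [1, 3, 1, 3, 3, 1, 2, 1, 3, 1, 2, 1, 6, 4, 5, 5, 4, 6, 6, 6, 1, 3, 1, 3, 1, 3, 1, 3, 3, 1, 2, 2, 1, 2, 1, 3])))) (.node 3502 (.node 3501 (.leaf 381 7 [3, 1, 3, 3, 1, 3, 1, 2, 1, 3, 3, 1, 2, 2, 1, 2, 1, 3, 1, 3, 3, 4, 5, 5, 4, 6, 4, 5, 5, 4, 6, 6, 4, 2, 2, 1, 2, 1, 2, 1]) (.leaf 273 35 [5, 5, 5, 4, 6, 6, 1, 3, 3, 1, 2, 1, 3, 1, 2, 1, 3, 1, 2, 1, 2, 2, 1, 2, 1, 2, 1, 2, 2, 1, 2, 1, 2, 2, 5, 5, 5, 5, 4, 6, 4])) (.node 3503 (.leaf 311 4 [2, 1, 3, 1, 2, 1, 3, 3, 1, 2, 2, 1, 2, 1, 2, 2, 1, 3, 3, 1, 2, 1, 2, 2, 5, 4, 5, 5, 5, 4, 6, 4, 5, 5, 4, 2, 1, 3, 1]) (.node 3504 (.leaf 349 37 [4, 6, 4, 5, 4, 6, 4, 1, 2, 1, 3, 1, 3, 3, 1, 2, 1, 2, 2, 1, 2, 2, 1, 2, 1, 2, 2, 1, 3, 1, 2, 2, 1, 3, 1, 5, 4, 5, 5, 5, 4, 6, 4, 5]) (.leaf 358 19 [1, 3, 1, 3, 1, 2, 1, 3, 1, 4, 5, 5, 4, 6, 4, 5, 5, 4, 6, 4, 5, 4, 6, 6, 6, 1, 3, 1, 3, 3, 1, 3, 1, 2, 2, 1, 2, 1, 2, 1, 3, 3, 1, 2]))))) (.node 3510 (.node 3507 (.node 3506 (.leaf 367 29 [6, 4, 5, 5, 4, 6, 4, 5, 4, 6, 4, 5, 4, 1, 2, 1, 3, 3, 1, 2, 2, 1, 3, 3, 1, 2, 1, 2, 1, 2, 1, 3, 1, 3, 1, 3, 1, 3, 1, 2, 1, 4]) (.leaf 36 4 [1, 2, 1, 3, 1, 3, 1, 2, 2, 1, 3, 1, 2, 1, 3, 3, 1, 3, 3, 4, 5, 5, 5, 4, 6, 6, 6, 4, 5, 4, 6, 3, 3, 1, 3])) (.node 3508 (.leaf 38 19 [3, 1, 3, 3, 4, 5, 5, 5, 4, 6, 6, 4, 5, 5, 4, 1, 3, 1, 3, 1, 2, 1, 2, 1, 3, 1, 2, 2, 1, 3, 1, 2, 2, 1]) (.node 3509 (.leaf 139 40 [6, 4, 3, 3, 1, 2, 2, 1, 2, 2, 1, 2, 1, 3, 1, 2, 2, 1, 2, 2, 1, 3, 3, 1, 3, 1, 3, 3, 4, 5, 4, 6, 6, 6, 4, 5, 4, 6, 6, 4, 5, 4]) (.leaf 145 28 [5, 5, 5, 4, 6, 4, 5, 4, 6, 2, 1, 3, 3, 1, 2, 2, 1, 3, 1, 3, 1, 2, 1, 3, 3, 1, 3, 3, 1, 3, 1, 3, 1, 2, 1, 5, 4])))) (.node 3513 (.node 3511 (.leaf 151 3 [3, 1, 3, 3, 1, 3, 1, 2, 2, 1, 2, 2, 1, 2, 2, 1, 3, 1, 2, 2, 1, 2, 2, 5, 5, 4, 6, 6, 4, 5, 2, 1, 3]) (.node 3512 (.leaf 164 27 [6, 6, 4, 5, 4, 6, 6, 6, 4, 5, 4, 6, 6, 4, 5, 4, 3, 3, 1, 3, 3, 1, 2, 1, 2, 2, 1, 3, 3, 1, 3, 1, 3, 1, 2, 1, 2, 2, 1, 3, 1, 2, 1]) (.leaf 180 39 [5, 2, 1, 2, 1, 3, 1, 2, 1, 3, 1, 3, 1, 2, 2, 1, 3, 1, 3, 1, 3, 1, 2, 1, 2, 1, 2, 1, 6, 4, 6, 6, 6, 4, 5, 4, 6, 6, 6, 4]))) (.node 3514 (.leaf 212 23 [3, 1, 3, 1, 6, 4, 6, 6, 6, 4, 5, 4, 6, 6, 6, 4, 5, 2, 1, 3, 1, 2, 1, 3, 1, 2, 1, 3, 1, 3, 1, 3, 1, 2, 2, 1, 3, 1, 3, 1]) (.node 3515 (.leaf 227 18 [1, 2, 1, 3, 1, 3, 1, 3, 1, 4, 5, 5, 5, 4, 6, 6, 4, 2, 2, 1, 2, 2, 1, 3, 1, 3, 1, 3, 1, 2, 2, 1, 3, 1, 2]) (.leaf 236 38 [5, 1, 3, 1, 3, 3, 1, 2, 1, 3, 1, 3, 3, 1, 2, 1, 2, 1, 3, 3, 1, 3, 1, 2, 1, 3, 3, 1, 4, 6, 6, 4, 5, 4, 6, 6, 6, 4, 5])))))) (.node 3527 (.node 3521 (.node 3518 (.node 3517 (.leaf 249 38 [4, 1, 2, 2, 1, 2, 2, 1, 2, 2, 1, 2, 1, 2, 1, 2, 2, 1, 3, 3, 1, 3, 3, 1, 2, 1, 2, 1, 6, 4, 5, 4, 6, 6, 4, 5, 4, 6, 6]) (.leaf 249 20 [3, 3, 1, 2, 1, 2, 1, 6, 4, 5, 4, 6, 6, 4, 5, 4, 6, 6, 4, 1, 2, 2, 1, 2, 2, 1, 2, 2, 1, 2, 1, 2, 1, 2, 2, 1, 3, 3, 1])) (.node 3519 (.leaf 263 15 [2, 1, 3, 1, 2, 1, 2, 1, 2, 2, 1, 2, 1, 4, 5, 5, 5, 4, 6, 6, 4, 5, 5, 4, 6, 3, 3, 1, 3, 3, 1, 3, 1, 3, 1, 3, 1, 2, 2, 1]) (.node 3520 (.leaf 272 42 [5, 3, 3, 1, 3, 3, 1, 3, 3, 1, 3, 3, 1, 2, 1, 2, 1, 3, 3, 1, 2, 1, 2, 2, 1, 2, 1, 3, 3, 5, 5, 4, 6, 6, 4, 5, 4, 6, 6, 6, 4, 5, 5]) (.leaf 284 29 [6, 4, 5, 5, 5, 4, 6, 6, 1, 3, 1, 3, 1, 2, 1, 3, 1, 2, 2, 1, 3, 1, 2, 2, 1, 3, 3, 1, 2, 1, 3, 3, 1, 3, 1, 3, 4])))) (.node 3524 (.node 3522 (.leaf 286 41 [4, 2, 2, 1, 3, 3, 1, 3, 1, 2, 1, 2, 1, 2, 1, 2, 1, 3, 3, 1, 3, 3, 1, 3, 1, 3, 1, 3, 1, 5, 4, 6, 4, 5, 4, 6, 4, 5, 4, 6, 4, 5]) (.node 3523 (.leaf 310 16 [2, 1, 2, 1, 3, 3, 1, 3, 1, 2, 2, 1, 5, 4, 5, 5, 5, 4, 6, 4, 5, 4, 6, 6, 4, 5, 2, 1, 3, 1, 3, 1, 2, 1, 2, 1, 3, 1, 3, 1, 2, 1]) (.leaf 334 28 [4, 5, 5, 4, 6, 4, 5, 4, 6, 4, 5, 4, 3, 3, 1, 2, 1, 2, 1, 2, 1, 3, 3, 1, 2, 2, 1, 3, 3, 1, 2, 1, 2, 1, 2, 2, 1, 3, 1, 3]))) (.node 3525 (.leaf 338 27 [2, 6, 6, 6, 4, 5, 4, 6, 6, 6, 4, 5, 4, 6, 6, 6, 2, 1, 3, 1, 2, 2, 1, 2, 1, 3, 3, 1, 3, 1, 2, 1, 3, 3, 1, 2, 1, 3, 1, 3, 3, 1, 2]) (.node 3526 (.leaf 339 29 [6, 6, 4, 5, 5, 5, 4, 6, 6, 6, 4, 2, 1, 3, 3, 1, 2, 1, 3, 1, 2, 2, 1, 3, 1, 2, 2, 1, 3, 1, 2, 2, 1, 2, 1, 3, 1, 2, 2, 6]) (.leaf 342 22 [3, 1, 3, 1, 2, 2, 4, 6, 4, 5, 4, 6, 4, 5, 4, 6, 6, 6, 4, 6, 2, 1, 3, 3, 1, 3, 3, 1, 2, 1, 2, 1, 2, 2, 1, 3, 1, 2, 2, 1, 2, 1]))))) (.node 3532 (.node 3529 (.node 3528 (.leaf 357 27 [3, 6, 6, 6, 4, 5, 4, 6, 6, 6, 4, 5, 4, 6, 6, 4, 5, 2, 1, 2, 2, 1, 2, 1, 3, 1, 2, 2, 1, 2, 2, 1, 2, 2, 1, 3, 1, 2, 1, 2, 2, 1, 2, 1]) (.leaf 374 42 [4, 5, 2, 1, 3, 1, 2, 1, 2, 1, 2, 1, 3, 1, 2, 1, 2, 2, 1, 3, 3, 1, 3, 3, 1, 2, 2, 1, 3, 1, 4, 5, 4, 6, 6, 4, 5, 4, 6, 4, 5, 4, 6, 6])) (.node 3530 (.leaf 380 29 [6, 4, 5, 5, 4, 6, 4, 5, 4, 6, 4, 1, 3, 3, 1, 3, 1, 2, 1, 3, 3, 1, 3, 3, 1, 2, 1, 3, 3, 1, 2, 1, 2, 1, 3, 1, 3, 1, 3, 4]) (.node 3531 (.leaf 387 27 [1, 4, 6, 4, 6, 6, 6, 6, 4, 5, 4, 2, 1, 2, 1, 3, 3, 1, 2, 2, 1, 2, 1, 2, 2, 1, 3, 1, 3, 1, 2, 2, 1, 3, 3, 1, 2, 2]) (.leaf 10 20 [1, 3, 3, 3, 1, 3, 3, 3, 1, 3, 3, 3, 1, 3, 3, 3, 1, 3, 3, 3, 1, 3, 3, 3, 1, 3, 3, 3, 1, 3, 3, 3, 1, 3, 3, 3, 1, 3, 3, 3])))) (.node 3535 (.node 3533 (.leaf 36 23 [4, 5, 5, 5, 4, 6, 6, 6, 4, 5, 4, 6, 3, 3, 1, 3, 1, 2, 1, 3, 1, 3, 1, 2, 2, 1, 3, 1, 2, 1, 3, 3, 1, 3, 3]) (.node 3534 (.leaf 201 0 [2, 2, 1, 3, 1, 3, 3, 1, 3, 1, 3, 1, 2, 2, 1, 3, 1, 3, 1, 3, 1, 3, 1, 2, 2, 1, 3, 4, 5, 5, 5, 4, 6, 4, 5, 5, 4, 6, 4, 5, 5]) (.leaf 214 12 [1, 2, 1, 3, 3, 1, 3, 3, 1, 2, 1, 3, 1, 2, 1, 6, 4, 5, 5, 5, 4, 6, 6, 6, 4, 5, 5, 5, 1, 3, 1, 3, 3, 1, 2, 1, 3, 3, 1, 2]))) (.node 3536 (.leaf 328 23 [1, 3, 1, 3, 1, 6, 6, 4, 5, 4, 6, 4, 5, 4, 6, 6, 6, 4, 2, 1, 3, 1, 2, 1, 2, 1, 3, 3, 1, 2, 2, 1, 3, 1, 3, 3, 1, 3, 1, 3, 3]) (.node 3537 (.leaf 339 39 [4, 2, 1, 3, 3, 1, 2, 1, 3, 1, 2, 2, 1, 3, 1, 2, 2, 1, 3, 1, 2, 2, 1, 2, 1, 3, 1, 2, 2, 6, 6, 6, 4, 5, 5, 5, 4, 6, 6, 6]) (.leaf 358 21 [1, 3, 1, 2, 1, 3, 1, 4, 5, 5, 4, 6, 4, 5, 5, 4, 6, 4, 5, 4, 6, 6, 6, 1, 3, 1, 3, 3, 1, 3, 1, 2, 2, 1, 2, 1, 2, 1, 3, 3, 1, 2, 1, 3]))))))) (.node 3560 (.node 3549 (.node 3543 (.node 3540 (.node 3539 (.leaf 394 29 [5, 4, 5, 5, 5, 4, 6, 4, 5, 5, 5, 4, 6, 4, 5, 2, 2, 1, 3, 1, 2, 2, 1, 2, 2, 1, 2, 2, 1, 2, 1, 2, 2, 1, 3, 1, 3, 1, 3, 1, 3, 3, 1, 3]) (.leaf 85 39 [6, 2, 2, 1, 2, 1, 3, 1, 3, 1, 3, 1, 3, 1, 3, 1, 2, 1, 3, 3, 1, 2, 2, 1, 2, 1, 6, 6, 6, 4, 5, 4, 6, 6, 6, 4, 5, 4, 6, 6])) (.node 3541 (.leaf 172 8 [2, 2, 1, 2, 1, 2, 2, 1, 2, 1, 2, 1, 2, 2, 1, 3, 3, 1, 3, 4, 6, 6, 4, 5, 4, 6, 4, 1, 3, 3, 1, 3, 1, 2, 1]) (.node 3542 (.leaf 209 27 [4, 5, 5, 4, 6, 4, 5, 5, 4, 6, 4, 5, 5, 2, 1, 2, 1, 3, 3, 1, 2, 1, 2, 2, 1, 2, 1, 2, 2, 1, 2, 2, 1, 2, 1, 3, 1, 3, 1, 3]) (.leaf 230 7 [3, 1, 2, 2, 1, 2, 1, 2, 2, 1, 2, 1, 3, 1, 2, 1, 2, 2, 1, 3, 4, 5, 4, 6, 6, 4, 5, 5, 5, 4, 1, 2, 1, 3, 1, 3, 1])))) (.node 3546 (.node 3544 (.leaf 256 11 [2, 1, 2, 2, 1, 2, 2, 1, 3, 1, 2, 1, 2, 1, 3, 1, 4, 5, 5, 4, 6, 4, 5, 4, 6, 4, 5, 4, 1, 2, 2, 1, 3, 1, 3, 1, 3, 3, 1]) (.node 3545 (.leaf 367 18 [3, 1, 3, 1, 3, 1, 3, 1, 2, 1, 4, 6, 4, 5, 5, 4, 6, 4, 5, 4, 6, 4, 5, 4, 1, 2, 1, 3, 3, 1, 2, 2, 1, 3, 3, 1, 2, 1, 2, 1, 2, 1]) (.leaf 189 28 [5, 5, 5, 4, 6, 6, 6, 4, 5, 1, 3, 1, 2, 1, 3, 3, 1, 3, 1, 3, 1, 2, 1, 3, 3, 1, 3, 3, 1, 2, 2, 1, 3, 3, 1, 3, 4]))) (.node 3547 (.leaf 233 32 [5, 4, 6, 6, 2, 1, 2, 1, 3, 1, 3, 1, 2, 1, 3, 1, 2, 1, 2, 2, 1, 2, 1, 2, 1, 2, 2, 1, 2, 1, 3, 5, 4, 6, 6, 4]) (.node 3548 (.leaf 263 38 [4, 6, 3, 3, 1, 3, 3, 1, 3, 1, 3, 1, 3, 1, 2, 2, 1, 2, 1, 3, 1, 2, 1, 2, 1, 2, 2, 1, 2, 1, 4, 5, 5, 5, 4, 6, 6, 4, 5, 5]) (.leaf 325 29 [6, 4, 5, 5, 4, 6, 6, 6, 1, 3, 3, 1, 2, 1, 3, 1, 3, 1, 3, 1, 2, 2, 1, 3, 1, 3, 1, 3, 1, 3, 3, 1, 2, 2, 1, 3, 4]))))) (.node 3554 (.node 3551 (.node 3550 (.leaf 14 19 [5, 4, 5, 5, 5, 5, 4, 6, 4, 5, 5, 5, 4, 6, 6, 1, 3, 3, 1, 2, 2, 1, 2, 1, 2, 2, 1, 2, 2, 1, 2, 1, 2, 2]) (.leaf 23 5 [3, 3, 1, 3, 1, 2, 1, 3, 3, 1, 2, 1, 3, 1, 2, 1, 3, 4, 5, 4, 5, 5, 5, 4, 6, 4, 5, 1, 2, 1, 3, 1])) (.node 3552 (.leaf 45 15 [1, 2, 2, 1, 2, 1, 2, 2, 4, 6, 6, 6, 4, 5, 5, 5, 4, 6, 4, 5, 5, 5, 4, 6, 6, 1, 2, 2, 1, 3, 1, 3, 3, 1, 2, 1, 2, 2, 1, 2]) (.node 3553 (.leaf 55 22 [2, 2, 4, 6, 6, 4, 5, 4, 6, 6, 4, 5, 4, 6, 6, 2, 1, 2, 1, 3, 3, 1, 2, 1, 3, 1, 3, 1, 2, 1, 2, 1, 3, 1, 3, 3, 1]) (.leaf 57 9 [1, 3, 1, 2, 1, 3, 1, 3, 1, 3, 3, 1, 3, 3, 1, 6, 6, 6, 4, 5, 4, 6, 6, 4, 5, 5, 2, 2, 1, 3, 3, 1, 3, 1, 3])))) (.node 3557 (.node 3555 (.leaf 63 27 [5, 5, 5, 4, 6, 4, 5, 5, 4, 6, 4, 5, 1, 3, 1, 3, 1, 3, 1, 2, 2, 1, 2, 1, 2, 2, 1, 3, 1, 3, 1, 3, 3, 1, 3, 3, 4, 5, 4]) (.node 3556 (.leaf 71 4 [2, 1, 3, 1, 2, 1, 2, 2, 1, 3, 3, 1, 3, 3, 1, 2, 2, 1, 3, 1, 3, 6, 6, 6, 4, 5, 4, 6, 6, 4, 5, 5, 5, 2, 1, 2, 1]) (.leaf 79 3 [3, 3, 1, 2, 1, 2, 1, 2, 1, 2, 1, 3, 1, 3, 1, 3, 3, 1, 3, 1, 3, 3, 4, 5, 5, 5, 4, 6, 4, 5, 5, 4, 6, 6, 6, 1, 2, 1]))) (.node 3558 (.leaf 83 10 [3, 1, 2, 1, 2, 1, 3, 1, 2, 1, 2, 1, 2, 2, 1, 6, 6, 6, 4, 5, 5, 5, 4, 6, 1, 2, 1, 2, 1, 3, 1, 3, 1, 3]) (.node 3559 (.leaf 91 26 [6, 4, 5, 5, 5, 4, 6, 4, 5, 5, 4, 6, 4, 5, 3, 3, 1, 2, 1, 2, 1, 3, 1, 3, 1, 2, 2, 1, 2, 2, 1, 3, 3, 1, 2, 2, 1, 2, 2, 4]) (.leaf 100 35 [5, 2, 1, 2, 1, 2, 1, 3, 3, 1, 3, 3, 1, 2, 2, 1, 2, 2, 1, 2, 1, 3, 3, 1, 2, 1, 5, 4, 5, 5, 5, 4, 6, 6, 4, 5])))))) (.node 3571 (.node 3565 (.node 3562 (.node 3561 (.leaf 108 31 [5, 4, 6, 4, 5, 5, 5, 4, 2, 2, 1, 3, 1, 3, 3, 1, 2, 2, 1, 2, 2, 1, 2, 1, 3, 3, 1, 3, 1, 2, 1, 2, 2, 4, 5, 4, 6, 4, 5]) (.leaf 112 39 [4, 1, 2, 2, 1, 2, 1, 2, 1, 3, 1, 3, 1, 2, 2, 1, 3, 1, 2, 1, 2, 1, 2, 2, 1, 3, 3, 4, 6, 6, 4, 5, 4, 6, 6, 4, 5, 5, 4, 6])) (.node 3563 (.leaf 117 23 [3, 1, 3, 5, 5, 5, 5, 4, 6, 3, 3, 1, 2, 2, 1, 2, 1, 3, 1, 3, 3, 1, 2, 1, 3, 1, 2, 1, 3, 3, 1, 3]) (.node 3564 (.leaf 134 18 [3, 3, 1, 2, 2, 1, 2, 2, 5, 4, 6, 4, 5, 4, 6, 4, 5, 4, 6, 4, 1, 2, 1, 2, 1, 3, 1, 3, 3, 1, 3, 1, 2, 1, 3, 1, 2, 1]) (.leaf 141 16 [3, 1, 2, 1, 2, 1, 3, 3, 1, 3, 5, 5, 4, 6, 4, 5, 4, 6, 4, 5, 4, 6, 4, 5, 4, 2, 2, 1, 2, 1, 3, 3, 1, 3, 1, 3, 1, 2, 1, 2, 1])))) (.node 3568 (.node 3566 (.leaf 145 27 [4, 5, 5, 5, 4, 6, 4, 5, 4, 6, 2, 1, 3, 3, 1, 2, 2, 1, 3, 1, 3, 1, 2, 1, 3, 3, 1, 3, 3, 1, 3, 1, 3, 1, 2, 1, 5]) (.node 3567 (.leaf 154 10 [1, 2, 1, 2, 2, 1, 3, 1, 3, 1, 2, 1, 3, 1, 2, 2, 4, 5, 4, 5, 5, 5, 4, 6, 4, 5, 5, 5, 4, 6, 6, 6, 2, 1, 2, 2, 1, 3, 1, 2, 1, 2]) (.leaf 155 42 [4, 1, 2, 1, 3, 1, 2, 2, 1, 3, 1, 2, 2, 1, 2, 2, 1, 3, 1, 2, 1, 3, 3, 1, 3, 1, 2, 1, 6, 4, 5, 5, 4, 6, 4, 5, 5, 5, 4, 6, 4, 5, 5]))) (.node 3569 (.leaf 162 37 [4, 6, 4, 5, 1, 2, 2, 1, 2, 2, 1, 3, 1, 3, 1, 3, 1, 2, 2, 1, 2, 2, 1, 2, 1, 2, 1, 3, 1, 2, 2, 5, 4, 5, 5, 5, 4, 6, 4, 5, 5]) (.node 3570 (.leaf 163 6 [3, 1, 2, 1, 2, 1, 2, 2, 1, 3, 1, 3, 1, 2, 1, 2, 1, 3, 3, 1, 3, 4, 6, 6, 4, 5, 5, 4, 6, 4, 5, 5, 5, 4, 6, 4, 5, 3, 3, 1, 3, 3, 1]) (.leaf 167 4 [1, 3, 1, 2, 1, 3, 1, 2, 1, 2, 1, 2, 1, 2, 2, 1, 3, 1, 3, 3, 1, 3, 1, 5, 4, 6, 6, 4, 5, 5, 5, 1, 3, 1, 3]))))) (.node 3576 (.node 3573 (.node 3572 (.leaf 169 12 [3, 1, 2, 1, 2, 1, 3, 1, 3, 3, 1, 2, 1, 3, 3, 4, 6, 4, 5, 5, 4, 6, 4, 5, 5, 2, 2, 1, 3, 1, 3, 1, 2, 2, 1, 2, 1]) (.leaf 173 14 [1, 3, 1, 3, 3, 1, 2, 2, 1, 2, 1, 3, 1, 5, 4, 6, 4, 5, 4, 6, 4, 5, 4, 6, 4, 5, 4, 6, 6, 2, 1, 2, 2, 1, 2, 1, 2, 2, 1, 3, 1, 2, 2])) (.node 3574 (.leaf 174 8 [3, 3, 1, 2, 2, 1, 3, 3, 1, 2, 1, 2, 1, 2, 1, 2, 1, 3, 1, 5, 5, 5, 5, 4, 3, 3, 1, 3, 1, 2, 2, 1]) (.node 3575 (.leaf 176 8 [2, 2, 1, 2, 1, 2, 1, 2, 2, 1, 2, 2, 1, 2, 2, 1, 2, 1, 3, 4, 5, 5, 4, 6, 4, 5, 4, 6, 4, 5, 4, 6, 4, 5, 4, 2, 1, 2, 2, 1, 3, 3, 1]) (.leaf 178 27 [5, 5, 5, 4, 6, 4, 5, 5, 4, 6, 4, 5, 5, 5, 4, 5, 1, 3, 3, 1, 2, 1, 3, 3, 1, 2, 1, 2, 2, 1, 2, 1, 2, 1, 2, 1, 3, 1, 3, 3, 1, 3, 1])))) (.node 3579 (.node 3577 (.leaf 181 22 [3, 1, 3, 1, 3, 4, 5, 5, 4, 6, 4, 1, 3, 1, 2, 2, 1, 3, 1, 2, 1, 3, 3, 1, 2, 1, 3, 3, 1, 2, 1, 3, 1]) (.node 3578 (.leaf 183 42 [5, 4, 2, 2, 1, 2, 1, 2, 1, 3, 3, 1, 2, 1, 3, 1, 2, 1, 3, 1, 2, 2, 1, 3, 1, 3, 1, 3, 3, 4, 5, 5, 4, 6, 4, 5, 4, 6, 4, 5, 4, 6, 6, 4]) (.leaf 185 21 [2, 1, 3, 1, 3, 1, 5, 5, 4, 6, 4, 5, 5, 4, 6, 4, 5, 5, 5, 4, 1, 3, 3, 1, 3, 3, 1, 2, 1, 2, 2, 1, 2, 2, 1, 2, 1, 3, 1, 3, 1]))) (.node 3580 (.leaf 186 37 [5, 4, 2, 1, 3, 1, 3, 3, 1, 2, 1, 3, 1, 2, 2, 1, 2, 1, 2, 2, 1, 3, 1, 2, 1, 2, 2, 1, 3, 6, 4, 5, 5, 4, 6, 6, 4, 5, 5]) (.node 3581 (.leaf 187 0 [3, 3, 1, 2, 2, 1, 2, 2, 1, 3, 1, 3, 3, 1, 3, 1, 3, 3, 1, 2, 2, 1, 2, 1, 3, 3, 1, 5, 5, 5, 4, 6, 6, 6, 4, 5, 4, 6, 6, 6, 4, 5]) (.leaf 188 11 [1, 3, 1, 2, 1, 2, 2, 1, 2, 1, 2, 1, 2, 2, 1, 3, 4, 5, 4, 6, 4, 5, 4, 6, 4, 5, 4, 6, 4, 5, 4, 6, 2, 1, 3, 3, 1, 3, 1, 3, 1, 3, 3])))))))) (.node 3625 (.node 3603 (.node 3592 (.node 3587 (.node 3584 (.node 3583 (.leaf 193 18 [1, 3, 1, 3, 3, 1, 2, 2, 1, 4, 6, 4, 5, 4, 6, 6, 4, 5, 5, 5, 4, 1, 2, 1, 3, 3, 1, 3, 3, 1, 3, 1, 2, 1, 2, 1, 2, 1, 2]) (.leaf 196 38 [6, 3, 3, 1, 2, 1, 3, 1, 2, 1, 3, 3, 1, 2, 2, 1, 3, 1, 2, 1, 2, 2, 1, 2, 1, 2, 1, 3, 5, 4, 5, 5, 5, 4, 6, 4, 5, 5, 4])) (.node 3585 (.leaf 196 8 [1, 3, 3, 1, 2, 2, 1, 3, 1, 2, 1, 2, 2, 1, 2, 1, 2, 1, 3, 5, 4, 5, 5, 5, 4, 6, 4, 5, 5, 4, 6, 3, 3, 1, 2, 1, 3, 1, 2]) (.node 3586 (.leaf 200 19 [1, 3, 3, 1, 3, 3, 1, 3, 5, 4, 6, 4, 5, 5, 5, 4, 6, 4, 5, 5, 4, 1, 2, 2, 1, 3, 1, 3, 1, 2, 2, 1, 2, 1, 2, 2, 1, 2, 1, 2]) (.leaf 200 20 [3, 3, 1, 3, 3, 1, 3, 5, 4, 6, 4, 5, 5, 5, 4, 6, 4, 5, 5, 4, 1, 2, 2, 1, 3, 1, 3, 1, 2, 2, 1, 2, 1, 2, 2, 1, 2, 1, 2, 1])))) (.node 3589 (.node 3588 (.leaf 202 27 [5, 5, 5, 5, 4, 6, 4, 5, 5, 5, 4, 6, 4, 5, 5, 5, 1, 3, 1, 2, 2, 1, 2, 1, 2, 2, 1, 2, 2, 1, 3, 3, 1, 2, 1, 2, 2, 1, 2, 1, 2, 2, 1]) (.leaf 202 29 [5, 5, 4, 6, 4, 5, 5, 5, 4, 6, 4, 5, 5, 5, 1, 3, 1, 2, 2, 1, 2, 1, 2, 2, 1, 2, 2, 1, 3, 3, 1, 2, 1, 2, 2, 1, 2, 1, 2, 2, 1, 5, 5])) (.node 3590 (.leaf 206 16 [2, 1, 3, 1, 3, 3, 1, 3, 1, 3, 3, 6, 4, 5, 5, 4, 6, 4, 6, 2, 1, 3, 1, 3, 1, 3, 3, 1, 2, 1, 3, 1, 2, 1, 2]) (.node 3591 (.leaf 209 3 [1, 3, 3, 1, 2, 1, 2, 2, 1, 2, 1, 2, 2, 1, 2, 2, 1, 2, 1, 3, 1, 3, 1, 3, 4, 5, 5, 4, 6, 4, 5, 5, 4, 6, 4, 5, 5, 2, 1, 2]) (.leaf 210 15 [1, 2, 1, 3, 1, 2, 1, 3, 3, 1, 2, 1, 6, 4, 5, 4, 6, 4, 5, 4, 6, 6, 4, 5, 4, 1, 2, 2, 1, 3, 1, 2, 2, 1, 3, 1, 2, 2, 1, 2]))))) (.node 3597 (.node 3594 (.node 3593 (.leaf 213 12 [1, 2, 1, 3, 1, 3, 1, 3, 3, 1, 3, 1, 3, 1, 3, 5, 4, 5, 5, 5, 5, 4, 5, 1, 3, 1, 3, 3, 1, 3, 3, 1, 3, 1, 3]) (.leaf 214 18 [3, 3, 1, 2, 1, 3, 1, 2, 1, 6, 4, 5, 5, 5, 4, 6, 6, 6, 4, 5, 5, 5, 1, 3, 1, 3, 3, 1, 2, 1, 3, 3, 1, 2, 1, 2, 1, 3, 3, 1])) (.node 3595 (.leaf 219 11 [2, 1, 2, 2, 1, 2, 2, 1, 3, 3, 1, 3, 1, 3, 3, 1, 5, 4, 5, 5, 5, 4, 6, 4, 5, 5, 5, 4, 2, 1, 2, 2, 1, 2, 1, 3, 1, 2, 1]) (.node 3596 (.leaf 223 29 [5, 4, 6, 4, 5, 5, 5, 4, 6, 4, 5, 5, 4, 2, 1, 3, 1, 3, 1, 3, 1, 3, 3, 1, 3, 1, 2, 1, 2, 2, 1, 2, 2, 1, 2, 2, 1, 3, 1, 3, 4, 5]) (.leaf 229 28 [6, 6, 4, 5, 4, 6, 4, 5, 5, 4, 6, 4, 5, 5, 5, 2, 1, 2, 2, 1, 2, 1, 3, 1, 3, 1, 2, 1, 2, 1, 3, 1, 2, 1, 2, 1, 2, 2, 1, 2, 2, 1, 4])))) (.node 3600 (.node 3598 (.leaf 231 19 [2, 1, 3, 3, 1, 3, 1, 3, 4, 5, 5, 5, 4, 6, 4, 5, 4, 6, 6, 4, 5, 5, 3, 3, 1, 3, 1, 2, 2, 1, 2, 1, 2, 1, 3, 1, 2, 1, 2, 1, 2]) (.node 3599 (.leaf 241 1 [3, 1, 2, 2, 1, 3, 1, 3, 1, 2, 1, 2, 2, 1, 2, 1, 3, 3, 1, 3, 3, 1, 2, 1, 3, 1, 4, 5, 4, 6, 4, 5, 4, 6, 4, 5, 4, 6, 4, 5, 5, 3]) (.leaf 258 4 [1, 3, 1, 2, 1, 2, 1, 2, 1, 2, 1, 2, 1, 3, 1, 3, 3, 1, 3, 1, 3, 1, 3, 3, 6, 4, 5, 5, 5, 5, 4, 6, 4, 5, 5, 5, 4, 6, 2, 1, 3, 3]))) (.node 3601 (.leaf 258 41 [6, 2, 1, 3, 3, 1, 3, 1, 2, 1, 2, 1, 2, 1, 2, 1, 2, 1, 3, 1, 3, 3, 1, 3, 1, 3, 1, 3, 3, 6, 4, 5, 5, 5, 5, 4, 6, 4, 5, 5, 5, 4]) (.node 3602 (.leaf 260 8 [2, 1, 2, 1, 2, 2, 1, 3, 3, 1, 2, 1, 2, 1, 3, 1, 3, 1, 3, 3, 4, 5, 4, 6, 6, 4, 5, 4, 6, 4, 3, 3, 1, 3, 1, 3, 3, 1]) (.leaf 264 19 [2, 2, 1, 3, 1, 2, 1, 2, 2, 4, 6, 4, 5, 5, 5, 4, 6, 4, 5, 5, 4, 6, 2, 1, 3, 1, 3, 1, 2, 2, 1, 3, 1, 2, 1, 2, 1, 2, 1, 3, 1])))))) (.node 3614 (.node 3608 (.node 3605 (.node 3604 (.leaf 264 22 [3, 1, 2, 1, 2, 2, 4, 6, 4, 5, 5, 5, 4, 6, 4, 5, 5, 4, 6, 2, 1, 3, 1, 3, 1, 2, 2, 1, 3, 1, 2, 1, 2, 1, 2, 1, 3, 1, 2, 2, 1]) (.leaf 266 20 [2, 1, 2, 1, 3, 1, 3, 3, 6, 6, 4, 5, 5, 5, 4, 6, 6, 2, 1, 2, 1, 2, 1, 3, 1, 2, 1, 2, 1, 2, 2, 1, 3, 1, 3, 3, 1])) (.node 3606 (.leaf 270 25 [2, 1, 3, 5, 5, 5, 5, 4, 6, 4, 5, 2, 1, 3, 1, 3, 1, 2, 2, 1, 2, 1, 2, 1, 3, 1, 3, 1, 2, 1, 2, 2, 1, 2, 1, 2]) (.node 3607 (.leaf 273 12 [2, 1, 2, 2, 1, 2, 1, 2, 1, 2, 2, 1, 2, 1, 2, 2, 5, 5, 5, 5, 4, 6, 4, 5, 5, 5, 4, 6, 6, 1, 3, 3, 1, 2, 1, 3, 1, 2, 1, 3, 1]) (.leaf 273 40 [6, 1, 3, 3, 1, 2, 1, 3, 1, 2, 1, 3, 1, 2, 1, 2, 2, 1, 2, 1, 2, 1, 2, 2, 1, 2, 1, 2, 2, 5, 5, 5, 5, 4, 6, 4, 5, 5, 5, 4, 6])))) (.node 3611 (.node 3609 (.leaf 296 22 [2, 1, 3, 1, 2, 1, 6, 4, 5, 4, 6, 4, 5, 4, 6, 4, 5, 5, 4, 6, 1, 2, 1, 3, 3, 1, 2, 1, 2, 2, 1, 3, 1, 3, 1, 2, 1, 3, 1, 3, 3, 1]) (.node 3610 (.leaf 298 25 [3, 3, 1, 4, 5, 5, 5, 4, 6, 6, 4, 5, 1, 3, 3, 1, 3, 1, 3, 3, 1, 3, 3, 1, 2, 1, 3, 3, 1, 2, 1, 3, 1, 3, 1, 2, 1]) (.leaf 300 7 [2, 1, 2, 1, 3, 3, 1, 2, 1, 3, 3, 1, 3, 1, 2, 1, 3, 3, 1, 3, 1, 5, 5, 5, 4, 6, 6, 6, 4, 5, 4, 6, 6, 4, 5, 5, 1, 3, 1, 3, 3, 1, 2]))) (.node 3612 (.leaf 301 15 [2, 1, 3, 1, 3, 3, 1, 2, 1, 3, 3, 1, 3, 5, 4, 6, 4, 5, 4, 6, 4, 5, 4, 6, 6, 4, 5, 5, 1, 3, 1, 3, 1, 3, 1, 2, 1, 3, 1, 2, 2, 1, 2]) (.node 3613 (.leaf 307 28 [6, 6, 4, 5, 5, 5, 4, 6, 6, 6, 4, 5, 5, 5, 4, 1, 2, 1, 3, 1, 3, 3, 1, 3, 1, 2, 2, 1, 2, 1, 3, 3, 1, 3, 3, 1, 2, 1, 3, 3, 1, 3, 1]) (.leaf 316 7 [2, 2, 1, 2, 1, 3, 1, 2, 1, 3, 1, 2, 1, 2, 2, 1, 3, 3, 1, 2, 2, 6, 4, 5, 5, 4, 6, 4, 5, 5, 4, 6, 4, 5, 4, 2, 1, 3, 3, 1, 2, 1]))))) (.node 3619 (.node 3616 (.node 3615 (.leaf 320 9 [2, 2, 1, 3, 3, 1, 3, 1, 3, 1, 2, 1, 2, 2, 1, 2, 2, 1, 3, 6, 4, 5, 5, 5, 5, 4, 6, 4, 5, 5, 5, 4, 6, 1, 3, 3, 1, 3, 3, 1, 3, 1]) (.leaf 328 39 [6, 4, 2, 1, 3, 1, 2, 1, 2, 1, 3, 3, 1, 2, 2, 1, 3, 1, 3, 3, 1, 3, 1, 3, 3, 1, 3, 1, 3, 1, 6, 6, 4, 5, 4, 6, 4, 5, 4, 6, 6])) (.node 3617 (.leaf 335 17 [2, 2, 1, 3, 1, 2, 1, 3, 1, 2, 2, 6, 6, 6, 4, 5, 5, 5, 4, 6, 6, 6, 4, 3, 3, 1, 2, 1, 3, 3, 1, 2, 1, 3, 3, 1, 2, 1, 3, 1]) (.node 3618 (.leaf 342 1 [1, 3, 3, 1, 3, 3, 1, 2, 1, 2, 1, 2, 2, 1, 3, 1, 2, 2, 1, 2, 1, 3, 1, 3, 1, 2, 2, 4, 6, 4, 5, 4, 6, 4, 5, 4, 6, 6, 6, 4, 6, 2]) (.leaf 343 15 [1, 2, 1, 3, 3, 1, 3, 3, 1, 3, 3, 1, 3, 6, 6, 6, 4, 5, 5, 5, 4, 6, 6, 6, 4, 5, 5, 5, 1, 2, 1, 2, 2, 1, 3, 3, 1, 2, 1, 2, 1, 2, 2])))) (.node 3622 (.node 3620 (.leaf 347 23 [2, 1, 3, 3, 1, 5, 4, 6, 6, 6, 4, 5, 5, 5, 4, 5, 1, 3, 3, 1, 2, 1, 2, 2, 1, 3, 1, 2, 1, 2, 1, 2, 1, 3, 3, 1, 3, 1, 2]) (.node 3621 (.leaf 352 26 [3, 3, 4, 6, 4, 5, 5, 4, 6, 4, 5, 5, 4, 6, 4, 5, 1, 3, 1, 3, 1, 3, 1, 2, 2, 1, 3, 1, 3, 3, 1, 3, 1, 2, 1, 3, 1, 2, 1, 2, 2, 1]) (.leaf 352 7 [2, 2, 1, 3, 1, 3, 3, 1, 3, 1, 2, 1, 3, 1, 2, 1, 2, 2, 1, 3, 3, 4, 6, 4, 5, 5, 4, 6, 4, 5, 5, 4, 6, 4, 5, 1, 3, 1, 3, 1, 3, 1]))) (.node 3623 (.leaf 367 21 [1, 3, 1, 3, 1, 2, 1, 4, 6, 4, 5, 5, 4, 6, 4, 5, 4, 6, 4, 5, 4, 1, 2, 1, 3, 3, 1, 2, 2, 1, 3, 3, 1, 2, 1, 2, 1, 2, 1, 3, 1, 3]) (.node 3624 (.leaf 378 11 [2, 1, 2, 1, 3, 1, 3, 3, 1, 2, 1, 2, 1, 2, 1, 3, 3, 4, 6, 4, 5, 5, 5, 4, 6, 6, 6, 4, 5, 4, 6, 3, 3, 1, 3, 3, 1, 3, 3, 1, 3, 1]) (.leaf 380 20 [1, 2, 1, 3, 1, 3, 1, 3, 4, 6, 4, 5, 5, 4, 6, 4, 5, 4, 6, 4, 1, 3, 3, 1, 3, 1, 2, 1, 3, 3, 1, 3, 3, 1, 2, 1, 3, 3, 1, 2]))))))) (.node 3647 (.node 3636 (.node 3630 (.node 3627 (.node 3626 (.leaf 382 18 [3, 3, 1, 3, 3, 1, 3, 1, 2, 1, 4, 5, 5, 5, 5, 4, 6, 4, 5, 5, 4, 6, 1, 3, 1, 2, 2, 1, 3, 1, 2, 1, 3, 1, 2, 2, 1, 3, 3, 1]) (.leaf 382 24 [3, 1, 2, 1, 4, 5, 5, 5, 5, 4, 6, 4, 5, 5, 4, 6, 1, 3, 1, 2, 2, 1, 3, 1, 2, 1, 3, 1, 2, 2, 1, 3, 3, 1, 3, 3, 1, 3, 3, 1])) (.node 3628 (.leaf 389 14 [1, 2, 2, 1, 2, 1, 3, 1, 3, 3, 1, 2, 1, 3, 4, 5, 4, 6, 6, 4, 5, 4, 6, 4, 5, 4, 6, 4, 2, 1, 3, 3, 1, 3, 1, 2, 1, 3, 1, 3, 1, 2]) (.node 3629 (.leaf 392 20 [3, 1, 3, 3, 1, 3, 3, 1, 3, 6, 6, 4, 5, 5, 5, 4, 6, 6, 6, 4, 5, 5, 2, 1, 2, 2, 1, 2, 2, 1, 2, 1, 3, 1, 2, 2, 1, 3, 3, 1, 2, 1]) (.leaf 394 41 [6, 4, 5, 2, 2, 1, 3, 1, 2, 2, 1, 2, 2, 1, 2, 2, 1, 2, 1, 2, 2, 1, 3, 1, 3, 1, 3, 1, 3, 3, 1, 3, 5, 4, 5, 5, 5, 4, 6, 4, 5, 5, 5, 4])))) (.node 3633 (.node 3631 (.leaf 395 24 [1, 2, 1, 3, 3, 6, 6, 6, 4, 5, 5, 5, 4, 6, 4, 5, 5, 4, 6, 4, 1, 3, 1, 3, 1, 2, 1, 3, 3, 1, 3, 1, 3, 3, 1, 2, 1, 2, 2, 1, 2, 1, 2, 2]) (.node 3632 (.leaf 396 4 [1, 2, 1, 3, 1, 2, 1, 2, 1, 3, 1, 3, 1, 2, 1, 3, 3, 1, 2, 2, 1, 3, 1, 2, 2, 4, 5, 5, 5, 4, 6, 4, 5, 5, 5, 4, 6, 4, 5, 5, 4, 6, 4, 1, 2, 1, 2]) (.leaf 396 20 [3, 1, 2, 2, 1, 3, 1, 2, 2, 4, 5, 5, 5, 4, 6, 4, 5, 5, 5, 4, 6, 4, 5, 5, 4, 6, 4, 1, 2, 1, 2, 1, 2, 1, 3, 1, 2, 1, 2, 1, 3, 1, 3, 1, 2, 1, 3]))) (.node 3634 (.leaf 112 16 [1, 2, 1, 2, 1, 2, 2, 1, 3, 3, 4, 6, 6, 4, 5, 4, 6, 6, 4, 5, 5, 4, 6, 4, 1, 2, 2, 1, 2, 1, 2, 1, 3, 1, 3, 1, 2, 2, 1, 3]) (.node 3635 (.leaf 18 24 [4, 5, 5, 5, 4, 2, 1, 3, 1, 2, 2, 1, 3, 1, 3, 1, 3, 1, 2, 1, 2, 2, 1, 3, 1, 3, 6, 6, 6]) (.leaf 38 5 [2, 1, 2, 1, 3, 1, 2, 2, 1, 3, 1, 2, 2, 1, 3, 1, 3, 3, 4, 5, 5, 5, 4, 6, 6, 4, 5, 5, 4, 1, 3, 1, 3, 1]))))) (.node 3641 (.node 3638 (.node 3637 (.leaf 58 9 [1, 2, 2, 1, 2, 2, 1, 3, 1, 3, 3, 1, 3, 3, 1, 4, 6, 4, 5, 5, 5, 4, 6, 6, 4, 1, 3, 1, 3, 1, 2, 1, 3, 3]) (.leaf 165 4 [3, 1, 3, 3, 1, 3, 1, 3, 3, 1, 2, 1, 2, 2, 1, 2, 1, 2, 2, 1, 2, 2, 1, 4, 5, 5, 4, 6, 4, 5, 5, 4, 6, 4, 5, 4, 6, 6, 2, 1, 3, 1])) (.node 3639 (.leaf 192 28 [5, 4, 6, 6, 4, 5, 4, 6, 4, 5, 5, 5, 4, 6, 2, 2, 1, 3, 3, 1, 3, 3, 1, 3, 1, 3, 3, 1, 3, 1, 3, 1, 2, 1, 3, 1, 2, 1, 3, 3, 1, 5]) (.node 3640 (.leaf 193 20 [1, 3, 3, 1, 2, 2, 1, 4, 6, 4, 5, 4, 6, 6, 4, 5, 5, 5, 4, 1, 2, 1, 3, 3, 1, 3, 3, 1, 3, 1, 2, 1, 2, 1, 2, 1, 2, 1, 3]) (.leaf 199 22 [2, 2, 1, 2, 1, 5, 4, 6, 6, 6, 4, 5, 5, 5, 4, 6, 2, 2, 1, 2, 1, 3, 1, 3, 1, 2, 2, 1, 3, 1, 2, 2, 1, 2, 2, 1, 3, 1])))) (.node 3644 (.node 3642 (.leaf 260 37 [4, 3, 3, 1, 3, 1, 3, 3, 1, 2, 1, 2, 1, 2, 2, 1, 3, 3, 1, 2, 1, 2, 1, 3, 1, 3, 1, 3, 3, 4, 5, 4, 6, 6, 4, 5, 4, 6]) (.node 3643 (.leaf 266 8 [2, 1, 2, 1, 2, 2, 1, 3, 1, 3, 3, 1, 2, 1, 2, 1, 3, 1, 3, 3, 6, 6, 4, 5, 5, 5, 4, 6, 6, 2, 1, 2, 1, 2, 1, 3, 1]) (.leaf 309 28 [6, 4, 5, 4, 6, 4, 5, 4, 6, 6, 6, 4, 6, 3, 3, 1, 2, 2, 1, 3, 1, 2, 1, 2, 2, 1, 2, 1, 2, 2, 1, 3, 3, 1, 2, 2, 1, 3, 3, 1, 3]))) (.node 3645 (.leaf 335 38 [6, 4, 3, 3, 1, 2, 1, 3, 3, 1, 2, 1, 3, 3, 1, 2, 1, 3, 1, 2, 2, 1, 3, 1, 2, 1, 3, 1, 2, 2, 6, 6, 6, 4, 5, 5, 5, 4, 6, 6]) (.node 3646 (.leaf 339 17 [3, 1, 2, 2, 1, 2, 1, 3, 1, 2, 2, 6, 6, 6, 4, 5, 5, 5, 4, 6, 6, 6, 4, 2, 1, 3, 3, 1, 2, 1, 3, 1, 2, 2, 1, 3, 1, 2, 2, 1]) (.leaf 378 39 [5, 4, 6, 3, 3, 1, 3, 3, 1, 3, 3, 1, 3, 1, 2, 1, 2, 1, 3, 1, 3, 3, 1, 2, 1, 2, 1, 2, 1, 3, 3, 4, 6, 4, 5, 5, 5, 4, 6, 6, 6, 4])))))) (.node 3658 (.node 3652 (.node 3649 (.node 3648 (.leaf 9 31 [2, 1, 2, 2, 2, 1, 2, 2, 2, 1, 2, 2, 2, 1, 2, 2, 2, 1, 2, 2, 2, 1, 2, 2, 2, 1, 2, 2, 2, 1, 2, 2, 2, 1, 2, 2, 2, 1, 2, 2]) (.leaf 286 25 [1, 3, 1, 5, 4, 6, 4, 5, 4, 6, 4, 5, 4, 6, 4, 5, 4, 2, 2, 1, 3, 3, 1, 3, 1, 2, 1, 2, 1, 2, 1, 2, 1, 3, 3, 1, 3, 3, 1, 3, 1, 3])) (.node 3650 (.leaf 351 18 [3, 3, 1, 2, 1, 2, 2, 1, 3, 1, 5, 5, 5, 4, 6, 4, 5, 4, 6, 4, 5, 4, 2, 2, 1, 3, 3, 1, 3, 3, 1, 2, 1, 3, 1, 2, 1, 3, 3, 1]) (.node 3651 (.leaf 355 30 [6, 6, 4, 5, 4, 6, 6, 6, 4, 5, 4, 6, 2, 1, 3, 3, 1, 2, 1, 3, 3, 1, 2, 1, 2, 2, 1, 2, 2, 1, 2, 1, 3, 3, 1, 2, 1, 3, 3, 1, 5, 4]) (.leaf 32 16 [1, 2, 1, 2, 1, 3, 1, 4, 6, 4, 5, 5, 5, 4, 6, 6, 4, 5, 4, 1, 3, 3, 1, 3, 1, 2, 2, 1, 3, 3, 1, 2, 2, 1, 2])))) (.node 3655 (.node 3653 (.leaf 44 16 [3, 1, 2, 1, 2, 2, 1, 4, 6, 4, 5, 4, 6, 6, 4, 5, 5, 5, 4, 3, 3, 1, 3, 3, 1, 2, 2, 1, 2, 1, 2, 1, 3, 1, 3]) (.node 3654 (.leaf 174 9 [3, 1, 2, 2, 1, 3, 3, 1, 2, 1, 2, 1, 2, 1, 2, 1, 3, 1, 5, 5, 5, 5, 4, 3, 3, 1, 3, 1, 2, 2, 1, 3]) (.leaf 222 24 [1, 3, 1, 4, 5, 5, 5, 5, 4, 6, 4, 5, 5, 4, 6, 6, 4, 1, 2, 1, 3, 3, 1, 2, 2, 1, 3, 1, 3, 1, 2, 2, 1, 3, 1, 2, 1, 3, 3, 1, 2]))) (.node 3656 (.leaf 311 36 [5, 5, 4, 2, 1, 3, 1, 2, 1, 3, 1, 2, 1, 3, 3, 1, 2, 2, 1, 2, 1, 2, 2, 1, 3, 3, 1, 2, 1, 2, 2, 5, 4, 5, 5, 5, 4, 6, 4]) (.node 3657 (.leaf 312 8 [3, 1, 3, 1, 2, 2, 1, 2, 1, 2, 1, 2, 2, 1, 3, 1, 2, 2, 1, 3, 5, 4, 6, 4, 5, 4, 6, 4, 5, 5, 4, 6, 4, 2, 1, 2, 1, 3, 3, 1, 3]) (.leaf 12 23 [6, 6, 6, 4, 5, 4, 6, 6, 3, 3, 1, 2, 1, 2, 2, 1, 2, 2, 1, 3, 3, 1, 2, 1, 3, 4, 6, 6, 4, 5, 4]))))) (.node 3663 (.node 3660 (.node 3659 (.leaf 76 0 [1, 2, 1, 3, 1, 2, 1, 2, 1, 3, 3, 1, 2, 2, 1, 3, 1, 2, 2, 1, 2, 2, 1, 2, 2, 6, 4, 5, 4, 6, 6, 4, 5, 5, 4, 6]) (.leaf 106 23 [2, 2, 5, 4, 6, 6, 6, 6, 4, 2, 1, 3, 3, 1, 3, 1, 2, 1, 2, 2, 1, 2, 1, 3, 1, 3, 1, 3, 1, 2, 2, 1])) (.node 3661 (.leaf 155 5 [2, 2, 1, 3, 1, 2, 2, 1, 2, 2, 1, 3, 1, 2, 1, 3, 3, 1, 3, 1, 2, 1, 6, 4, 5, 5, 4, 6, 4, 5, 5, 5, 4, 6, 4, 5, 5, 4, 1, 2, 1, 3, 1]) (.node 3662 (.leaf 214 22 [1, 3, 1, 2, 1, 6, 4, 5, 5, 5, 4, 6, 6, 6, 4, 5, 5, 5, 1, 3, 1, 3, 3, 1, 2, 1, 3, 3, 1, 2, 1, 2, 1, 3, 3, 1, 3, 3, 1, 2]) (.leaf 259 6 [2, 1, 3, 1, 3, 1, 2, 2, 1, 2, 1, 3, 3, 1, 3, 1, 3, 1, 3, 1, 2, 1, 6, 4, 5, 4, 6, 6, 6, 4, 6, 1, 2, 1, 2, 1, 2])))) (.node 3666 (.node 3664 (.leaf 9 32 [1, 2, 2, 2, 1, 2, 2, 2, 1, 2, 2, 2, 1, 2, 2, 2, 1, 2, 2, 2, 1, 2, 2, 2, 1, 2, 2, 2, 1, 2, 2, 2, 1, 2, 2, 2, 1, 2, 2, 2]) (.node 3665 (.leaf 23 13 [3, 1, 2, 1, 3, 1, 2, 1, 3, 4, 5, 4, 5, 5, 5, 4, 6, 4, 5, 1, 2, 1, 3, 1, 3, 3, 1, 3, 1, 2, 1, 3]) (.leaf 47 2 [1, 2, 1, 3, 1, 2, 2, 1, 2, 2, 1, 3, 3, 1, 3, 1, 2, 1, 2, 2, 1, 5, 5, 5, 4, 6, 6, 4, 2, 2]))) (.node 3667 (.leaf 83 21 [1, 2, 2, 1, 6, 6, 6, 4, 5, 5, 5, 4, 6, 1, 2, 1, 2, 1, 3, 1, 3, 1, 3, 3, 1, 2, 1, 2, 1, 3, 1, 2, 1, 2]) (.node 3668 (.leaf 103 13 [1, 3, 3, 1, 3, 1, 3, 1, 2, 2, 1, 3, 4, 6, 6, 4, 5, 4, 6, 6, 6, 4, 5, 5, 5, 4, 6, 2, 1, 2, 1, 2, 1, 3, 1, 3, 3, 1, 2, 2]) (.leaf 115 24 [2, 1, 5, 4, 6, 4, 5, 5, 4, 6, 4, 5, 4, 6, 6, 4, 5, 4, 6, 2, 2, 1, 2, 1, 2, 1, 2, 1, 3, 3, 1, 2, 1, 2, 1, 3, 1, 3, 3, 1, 2, 2, 1]))))))))) (.node 3756 (.node 3712 (.node 3690 (.node 3679 (.node 3674 (.node 3671 (.node 3670 (.leaf 135 22 [2, 1, 2, 1, 4, 6, 4, 5, 5, 5, 4, 6, 6, 6, 4, 5, 4, 1, 3, 1, 2, 2, 1, 2, 1, 3, 1, 2, 2, 1, 2, 1, 2, 1, 2, 1, 2, 2, 1]) (.leaf 260 28 [4, 5, 4, 6, 6, 4, 5, 4, 6, 4, 3, 3, 1, 3, 1, 3, 3, 1, 2, 1, 2, 1, 2, 2, 1, 3, 3, 1, 2, 1, 2, 1, 3, 1, 3, 1, 3, 3])) (.node 3672 (.leaf 298 28 [4, 5, 5, 5, 4, 6, 6, 4, 5, 1, 3, 3, 1, 3, 1, 3, 3, 1, 3, 3, 1, 2, 1, 3, 3, 1, 2, 1, 3, 1, 3, 1, 2, 1, 3, 3, 1]) (.node 3673 (.leaf 308 20 [1, 2, 1, 2, 1, 3, 3, 1, 4, 6, 4, 5, 5, 4, 6, 6, 6, 4, 6, 1, 2, 2, 1, 2, 2, 1, 3, 1, 3, 1, 2, 1, 3, 1, 2, 1, 3, 1, 3]) (.leaf 316 19 [1, 2, 2, 1, 3, 3, 1, 2, 2, 6, 4, 5, 5, 4, 6, 4, 5, 5, 4, 6, 4, 5, 4, 2, 1, 3, 3, 1, 2, 1, 2, 2, 1, 2, 1, 3, 1, 2, 1, 3, 1, 2])))) (.node 3676 (.node 3675 (.leaf 350 18 [3, 1, 2, 1, 2, 1, 2, 1, 3, 1, 5, 5, 5, 4, 6, 6, 6, 4, 5, 5, 5, 4, 6, 6, 6, 2, 2, 1, 2, 1, 2, 1, 2, 2, 1, 3, 1, 2, 1, 2, 1, 3, 1]) (.leaf 14 28 [5, 5, 5, 4, 6, 6, 1, 3, 3, 1, 2, 2, 1, 2, 1, 2, 2, 1, 2, 2, 1, 2, 1, 2, 2, 5, 4, 5, 5, 5, 5, 4, 6, 4])) (.node 3677 (.leaf 150 38 [6, 6, 4, 5, 1, 2, 1, 3, 1, 2, 1, 2, 2, 1, 2, 2, 1, 2, 1, 2, 2, 1, 2, 1, 3, 3, 1, 2, 1, 3, 4, 6, 6, 4, 5, 4, 6, 6, 6, 4, 5, 4]) (.node 3678 (.leaf 161 16 [3, 1, 3, 3, 1, 2, 1, 3, 3, 1, 3, 5, 5, 5, 4, 6, 4, 5, 4, 6, 6, 4, 5, 1, 2, 1, 2, 1, 2, 2, 1, 3, 3, 1, 3, 1, 2, 1, 3]) (.leaf 174 21 [2, 1, 2, 1, 3, 1, 5, 5, 5, 5, 4, 3, 3, 1, 3, 1, 2, 2, 1, 3, 3, 1, 2, 2, 1, 3, 3, 1, 2, 1, 2, 1]))))) (.node 3684 (.node 3681 (.node 3680 (.leaf 199 9 [2, 2, 1, 3, 1, 2, 2, 1, 2, 2, 1, 3, 1, 2, 2, 1, 2, 1, 5, 4, 6, 6, 6, 4, 5, 5, 5, 4, 6, 2, 2, 1, 2, 1, 3, 1, 3, 1]) (.leaf 254 28 [5, 5, 5, 4, 6, 4, 5, 4, 6, 6, 4, 5, 5, 5, 3, 3, 1, 3, 1, 3, 1, 2, 1, 3, 1, 2, 1, 2, 1, 2, 1, 2, 2, 1, 3, 1, 3, 3, 1, 2, 2, 4])) (.node 3682 (.leaf 290 24 [3, 1, 3, 3, 5, 4, 6, 6, 6, 4, 5, 5, 5, 4, 1, 2, 1, 2, 2, 1, 3, 1, 3, 3, 1, 3, 1, 2, 2, 1, 2, 2, 1, 3, 3, 1, 3, 1]) (.node 3683 (.leaf 32 15 [2, 1, 2, 1, 2, 1, 3, 1, 4, 6, 4, 5, 5, 5, 4, 6, 6, 4, 5, 4, 1, 3, 3, 1, 3, 1, 2, 2, 1, 3, 3, 1, 2, 2, 1]) (.leaf 56 14 [3, 1, 3, 1, 3, 1, 2, 1, 3, 1, 4, 5, 5, 5, 4, 6, 4, 5, 5, 5, 4, 6, 6, 6, 4, 5, 2, 1, 2, 1, 2, 1, 3, 1, 3, 1, 2, 1, 3, 1])))) (.node 3687 (.node 3685 (.leaf 98 25 [6, 6, 4, 5, 4, 6, 6, 6, 4, 5, 4, 6, 6, 4, 3, 3, 1, 3, 3, 1, 3, 3, 1, 3, 1, 2, 2, 1, 3, 1, 3, 3, 1, 2, 1, 2, 1, 3, 1]) (.node 3686 (.leaf 113 19 [3, 3, 1, 3, 3, 1, 3, 4, 6, 4, 5, 5, 5, 4, 6, 6, 6, 4, 5, 5, 5, 2, 2, 1, 3, 1, 2, 1, 3, 1, 2, 1, 3, 1, 2, 2, 1, 2, 2, 1]) (.leaf 114 4 [3, 3, 1, 2, 1, 3, 1, 3, 1, 3, 1, 2, 1, 2, 1, 2, 1, 2, 1, 2, 2, 1, 4, 5, 4, 6, 6, 4, 5, 4, 6, 4, 5, 5, 5, 4, 6, 4, 1, 3, 3, 1]))) (.node 3688 (.leaf 131 37 [5, 4, 2, 1, 3, 1, 2, 1, 3, 1, 3, 1, 2, 1, 2, 1, 2, 2, 1, 3, 3, 1, 3, 1, 3, 1, 2, 2, 5, 4, 6, 6, 4, 5, 4, 6, 6, 6, 4]) (.node 3689 (.leaf 151 22 [2, 1, 2, 2, 5, 5, 4, 6, 6, 4, 5, 2, 1, 3, 3, 1, 3, 3, 1, 3, 1, 2, 2, 1, 2, 2, 1, 2, 2, 1, 3, 1, 2]) (.leaf 157 36 [6, 4, 6, 1, 2, 2, 1, 3, 1, 2, 2, 1, 2, 1, 2, 2, 1, 2, 1, 3, 1, 3, 1, 2, 1, 3, 3, 1, 2, 1, 4, 6, 6, 6, 4, 5, 4, 6, 6])))))) (.node 3701 (.node 3695 (.node 3692 (.node 3691 (.leaf 172 2 [3, 1, 3, 1, 2, 1, 2, 2, 1, 2, 1, 2, 2, 1, 2, 1, 2, 1, 2, 2, 1, 3, 3, 1, 3, 4, 6, 6, 4, 5, 4, 6, 4, 1, 3]) (.leaf 186 38 [4, 2, 1, 3, 1, 3, 3, 1, 2, 1, 3, 1, 2, 2, 1, 2, 1, 2, 2, 1, 3, 1, 2, 1, 2, 2, 1, 3, 6, 4, 5, 5, 4, 6, 6, 4, 5, 5, 5])) (.node 3693 (.leaf 199 37 [6, 2, 2, 1, 2, 1, 3, 1, 3, 1, 2, 2, 1, 3, 1, 2, 2, 1, 2, 2, 1, 3, 1, 2, 2, 1, 2, 1, 5, 4, 6, 6, 6, 4, 5, 5, 5, 4]) (.node 3694 (.leaf 212 39 [5, 2, 1, 3, 1, 2, 1, 3, 1, 2, 1, 3, 1, 3, 1, 3, 1, 2, 2, 1, 3, 1, 3, 1, 3, 1, 3, 1, 6, 4, 6, 6, 6, 4, 5, 4, 6, 6, 6, 4]) (.leaf 224 4 [3, 1, 3, 1, 3, 1, 2, 2, 1, 2, 2, 1, 3, 1, 3, 1, 2, 1, 3, 1, 3, 1, 3, 5, 5, 4, 6, 6, 4, 5, 4, 6, 6, 6, 2, 2, 1, 3])))) (.node 3698 (.node 3696 (.leaf 236 27 [4, 6, 6, 4, 5, 4, 6, 6, 6, 4, 5, 5, 1, 3, 1, 3, 3, 1, 2, 1, 3, 1, 3, 3, 1, 2, 1, 2, 1, 3, 3, 1, 3, 1, 2, 1, 3, 3, 1]) (.node 3697 (.leaf 238 12 [1, 2, 1, 2, 1, 2, 2, 1, 2, 1, 3, 1, 3, 3, 1, 4, 5, 4, 6, 6, 4, 5, 5, 4, 6, 6, 2, 1, 2, 1, 3, 1, 3, 3, 1, 3, 1, 3]) (.leaf 242 40 [6, 1, 3, 3, 1, 2, 1, 2, 2, 1, 3, 3, 1, 3, 1, 3, 3, 1, 3, 1, 3, 3, 1, 3, 1, 2, 1, 3, 5, 5, 5, 4, 6, 6, 6, 4, 5, 5, 5, 4, 6]))) (.node 3699 (.leaf 247 40 [5, 4, 1, 2, 2, 1, 2, 2, 1, 3, 1, 2, 2, 1, 2, 2, 1, 2, 2, 1, 2, 1, 2, 1, 3, 1, 3, 3, 1, 6, 4, 5, 4, 6, 6, 6, 4, 5, 4, 6, 6, 4]) (.node 3700 (.leaf 247 2 [2, 1, 2, 2, 1, 3, 1, 2, 2, 1, 2, 2, 1, 2, 2, 1, 2, 1, 2, 1, 3, 1, 3, 3, 1, 6, 4, 5, 4, 6, 6, 6, 4, 5, 4, 6, 6, 4, 5, 4, 1, 2]) (.leaf 294 9 [3, 1, 3, 1, 3, 1, 3, 1, 3, 1, 3, 3, 1, 3, 1, 2, 1, 2, 2, 6, 6, 6, 4, 5, 4, 6, 6, 4, 5, 2, 2, 1, 3, 3, 1, 2, 1, 3]))))) (.node 3706 (.node 3703 (.node 3702 (.leaf 294 12 [1, 3, 1, 3, 1, 3, 1, 3, 3, 1, 3, 1, 2, 1, 2, 2, 6, 6, 6, 4, 5, 4, 6, 6, 4, 5, 2, 2, 1, 3, 3, 1, 2, 1, 3, 3, 1, 3]) (.leaf 308 28 [4, 6, 4, 5, 5, 4, 6, 6, 6, 4, 6, 1, 2, 2, 1, 2, 2, 1, 3, 1, 3, 1, 2, 1, 3, 1, 2, 1, 3, 1, 3, 1, 2, 1, 2, 1, 3, 3, 1])) (.node 3704 (.leaf 317 26 [1, 3, 4, 6, 6, 4, 5, 4, 6, 6, 6, 4, 5, 5, 1, 3, 1, 2, 1, 2, 1, 2, 1, 3, 3, 1, 3, 1, 2, 1, 3, 3, 1, 2, 1, 2, 2, 1, 3, 3]) (.node 3705 (.leaf 329 28 [4, 6, 6, 6, 4, 5, 4, 6, 6, 6, 1, 3, 1, 2, 2, 1, 2, 1, 2, 1, 3, 1, 2, 2, 1, 2, 1, 2, 1, 3, 3, 1, 3, 1, 3, 3, 1, 3]) (.leaf 335 16 [1, 2, 2, 1, 3, 1, 2, 1, 3, 1, 2, 2, 6, 6, 6, 4, 5, 5, 5, 4, 6, 6, 6, 4, 3, 3, 1, 2, 1, 3, 3, 1, 2, 1, 3, 3, 1, 2, 1, 3])))) (.node 3709 (.node 3707 (.leaf 370 7 [1, 2, 2, 1, 3, 1, 3, 1, 3, 1, 3, 1, 3, 1, 3, 1, 3, 3, 1, 2, 2, 4, 5, 4, 6, 6, 4, 5, 5, 5, 2, 2, 1, 3, 3, 1, 3]) (.node 3708 (.leaf 376 19 [3, 3, 1, 2, 1, 3, 1, 2, 1, 6, 4, 5, 5, 4, 6, 6, 6, 1, 3, 1, 3, 1, 3, 1, 3, 3, 1, 2, 2, 1, 2, 1, 3, 1, 3, 1]) (.leaf 376 31 [5, 4, 6, 6, 6, 1, 3, 1, 3, 1, 3, 1, 3, 3, 1, 2, 2, 1, 2, 1, 3, 1, 3, 1, 3, 3, 1, 2, 1, 3, 1, 2, 1, 6, 4, 5]))) (.node 3710 (.leaf 377 23 [2, 1, 2, 2, 1, 5, 4, 6, 6, 4, 5, 4, 6, 4, 5, 5, 4, 6, 6, 1, 2, 2, 1, 3, 1, 2, 1, 3, 3, 1, 3, 3, 1, 2, 1, 2, 2, 1, 2, 1, 3, 1]) (.node 3711 (.leaf 384 36 [6, 4, 2, 1, 3, 1, 2, 1, 3, 1, 2, 1, 3, 1, 2, 1, 3, 1, 2, 1, 2, 1, 3, 3, 1, 3, 1, 2, 2, 1, 6, 6, 6, 4, 5, 5, 5, 4]) (.leaf 392 16 [3, 1, 2, 1, 3, 1, 3, 3, 1, 3, 3, 1, 3, 6, 6, 4, 5, 5, 5, 4, 6, 6, 6, 4, 5, 5, 2, 1, 2, 2, 1, 2, 2, 1, 2, 1, 3, 1, 2, 2, 1, 3]))))))) (.node 3734 (.node 3723 (.node 3717 (.node 3714 (.node 3713 (.leaf 392 23 [3, 1, 3, 3, 1, 3, 6, 6, 4, 5, 5, 5, 4, 6, 6, 6, 4, 5, 5, 2, 1, 2, 2, 1, 2, 2, 1, 2, 1, 3, 1, 2, 2, 1, 3, 3, 1, 2, 1, 3, 1, 3]) (.leaf 12 17 [4, 6, 6, 4, 5, 4, 6, 6, 6, 4, 5, 4, 6, 6, 3, 3, 1, 2, 1, 2, 2, 1, 2, 2, 1, 3, 3, 1, 2, 1, 3])) (.node 3715 (.leaf 17 23 [5, 4, 6, 6, 4, 5, 4, 6, 6, 6, 4, 5, 5, 1, 2, 1, 3, 3, 1, 2, 2, 1, 2, 1, 3, 1, 3, 3, 1, 3, 1, 2, 2, 1, 4, 5]) (.node 3716 (.leaf 26 22 [4, 5, 4, 6, 4, 5, 5, 4, 6, 4, 5, 5, 5, 4, 6, 4, 5, 2, 2, 1, 2, 2, 1, 2, 1, 3, 1, 2, 1, 3, 1, 3, 1, 2, 2, 1, 3, 1, 3]) (.leaf 28 16 [3, 1, 2, 1, 2, 1, 4, 5, 4, 6, 4, 5, 5, 4, 6, 4, 5, 5, 5, 3, 3, 1, 2, 1, 2, 1, 3, 3, 1, 2, 2, 1, 3, 1, 3])))) (.node 3720 (.node 3718 (.leaf 32 34 [4, 1, 3, 3, 1, 3, 1, 2, 2, 1, 3, 3, 1, 2, 2, 1, 2, 1, 2, 1, 2, 1, 3, 1, 4, 6, 4, 5, 5, 5, 4, 6, 6, 4, 5]) (.node 3719 (.leaf 35 22 [3, 5, 4, 6, 4, 5, 5, 4, 6, 6, 4, 5, 2, 2, 1, 3, 3, 1, 3, 1, 2, 2, 1, 2, 1, 2, 1, 2, 1, 2, 1, 2, 2, 1]) (.leaf 46 21 [2, 1, 4, 5, 5, 5, 5, 4, 6, 6, 6, 1, 3, 1, 3, 3, 1, 2, 2, 1, 3, 3, 1, 2, 1, 2, 2, 1, 2, 1, 3, 1]))) (.node 3721 (.leaf 46 8 [1, 3, 3, 1, 2, 1, 2, 2, 1, 2, 1, 3, 1, 2, 1, 4, 5, 5, 5, 5, 4, 6, 6, 6, 1, 3, 1, 3, 3, 1, 2, 2]) (.node 3722 (.leaf 50 23 [3, 4, 6, 4, 5, 5, 5, 5, 1, 3, 3, 1, 2, 1, 3, 3, 1, 2, 2, 1, 2, 1, 3, 3, 1, 3, 3, 1, 2, 2, 1]) (.leaf 54 23 [3, 5, 5, 4, 6, 4, 5, 4, 6, 4, 5, 5, 4, 6, 4, 1, 2, 2, 1, 3, 3, 1, 2, 1, 2, 1, 2, 2, 1, 2, 1, 3, 1, 2, 1, 2, 1, 3]))))) (.node 3728 (.node 3725 (.node 3724 (.leaf 56 20 [2, 1, 3, 1, 4, 5, 5, 5, 4, 6, 4, 5, 5, 5, 4, 6, 6, 6, 4, 5, 2, 1, 2, 1, 2, 1, 3, 1, 3, 1, 2, 1, 3, 1, 3, 1, 3, 1, 3, 1]) (.leaf 71 24 [3, 6, 6, 6, 4, 5, 4, 6, 6, 4, 5, 5, 5, 2, 1, 2, 1, 2, 1, 3, 1, 2, 1, 2, 2, 1, 3, 3, 1, 3, 3, 1, 2, 2, 1, 3, 1])) (.node 3726 (.leaf 79 17 [1, 3, 3, 1, 3, 1, 3, 3, 4, 5, 5, 5, 4, 6, 4, 5, 5, 4, 6, 6, 6, 1, 2, 1, 3, 3, 1, 2, 1, 2, 1, 2, 1, 2, 1, 3, 1, 3]) (.node 3727 (.leaf 81 10 [1, 3, 1, 2, 1, 3, 1, 2, 2, 1, 2, 1, 3, 1, 3, 5, 4, 5, 5, 5, 4, 6, 6, 4, 5, 5, 4, 6, 2, 1, 2, 1, 3, 1, 3, 3, 1, 2]) (.leaf 82 25 [6, 4, 5, 5, 5, 5, 4, 6, 4, 5, 5, 4, 6, 6, 4, 5, 2, 2, 1, 2, 2, 1, 2, 1, 2, 1, 2, 1, 2, 2, 1, 2, 1, 2, 1, 3, 1, 3, 3, 1, 3])))) (.node 3731 (.node 3729 (.leaf 83 22 [2, 2, 1, 6, 6, 6, 4, 5, 5, 5, 4, 6, 1, 2, 1, 2, 1, 3, 1, 3, 1, 3, 3, 1, 2, 1, 2, 1, 3, 1, 2, 1, 2, 1]) (.node 3730 (.leaf 85 23 [2, 1, 6, 6, 6, 4, 5, 4, 6, 6, 6, 4, 5, 4, 6, 6, 6, 2, 2, 1, 2, 1, 3, 1, 3, 1, 3, 1, 3, 1, 3, 1, 2, 1, 3, 3, 1, 2, 2, 1]) (.leaf 87 38 [5, 1, 3, 3, 1, 2, 2, 1, 2, 2, 1, 3, 3, 1, 3, 1, 2, 2, 1, 2, 1, 3, 1, 2, 2, 1, 5, 5, 4, 6, 4, 5, 5, 5, 4, 6, 4, 5, 5]))) (.node 3732 (.leaf 88 6 [3, 3, 1, 3, 1, 2, 2, 1, 3, 1, 3, 1, 3, 1, 3, 3, 1, 2, 1, 5, 4, 6, 4, 5, 5, 4, 6, 6, 4, 5, 4, 2, 2, 1, 2, 2, 1]) (.node 3733 (.leaf 88 8 [1, 3, 1, 2, 2, 1, 3, 1, 3, 1, 3, 1, 3, 3, 1, 2, 1, 5, 4, 6, 4, 5, 5, 4, 6, 6, 4, 5, 4, 2, 2, 1, 2, 2, 1, 3, 3]) (.leaf 91 39 [5, 3, 3, 1, 2, 1, 2, 1, 3, 1, 3, 1, 2, 2, 1, 2, 2, 1, 3, 3, 1, 2, 2, 1, 2, 2, 4, 6, 4, 5, 5, 5, 4, 6, 4, 5, 5, 4, 6, 4])))))) (.node 3745 (.node 3739 (.node 3736 (.node 3735 (.leaf 99 27 [5, 5, 4, 6, 4, 5, 4, 6, 4, 5, 5, 5, 4, 1, 2, 2, 1, 2, 2, 1, 3, 1, 3, 3, 1, 2, 1, 2, 1, 3, 1, 3, 1, 2, 1, 3, 1, 3, 6, 4]) (.leaf 104 20 [2, 2, 1, 2, 1, 6, 6, 4, 5, 4, 6, 4, 5, 5, 4, 6, 4, 1, 3, 1, 2, 1, 2, 1, 3, 1, 3, 3, 1, 2, 2, 1, 3, 3, 1, 3, 1])) (.node 3737 (.leaf 108 21 [2, 1, 2, 2, 4, 5, 4, 6, 4, 5, 5, 4, 6, 4, 5, 5, 5, 4, 2, 2, 1, 3, 1, 3, 3, 1, 2, 2, 1, 2, 2, 1, 2, 1, 3, 3, 1, 3, 1]) (.node 3738 (.leaf 110 4 [1, 2, 1, 2, 1, 3, 1, 2, 2, 1, 2, 1, 2, 2, 1, 2, 1, 3, 1, 3, 1, 5, 5, 5, 5, 4, 6, 6, 6, 4, 5, 4, 6, 2, 2, 1, 2]) (.leaf 114 26 [4, 5, 4, 6, 6, 4, 5, 4, 6, 4, 5, 5, 5, 4, 6, 4, 1, 3, 3, 1, 3, 3, 1, 2, 1, 3, 1, 3, 1, 3, 1, 2, 1, 2, 1, 2, 1, 2, 1, 2, 2, 1])))) (.node 3742 (.node 3740 (.leaf 122 12 [3, 1, 3, 1, 2, 2, 1, 2, 2, 1, 3, 1, 2, 2, 4, 5, 5, 5, 4, 6, 4, 5, 5, 5, 4, 5, 1, 2, 1, 3, 3, 1, 2, 1, 2, 2, 1, 3]) (.node 3741 (.leaf 135 24 [2, 1, 4, 6, 4, 5, 5, 5, 4, 6, 6, 6, 4, 5, 4, 1, 3, 1, 2, 2, 1, 2, 1, 3, 1, 2, 2, 1, 2, 1, 2, 1, 2, 1, 2, 2, 1, 2, 1]) (.leaf 142 3 [3, 1, 2, 1, 3, 1, 3, 1, 2, 2, 1, 3, 3, 1, 3, 1, 3, 1, 2, 1, 3, 1, 3, 4, 5, 4, 5, 5, 5, 5, 4, 2, 1, 3]))) (.node 3743 (.leaf 142 26 [4, 5, 4, 5, 5, 5, 5, 4, 2, 1, 3, 3, 1, 2, 1, 3, 1, 3, 1, 2, 2, 1, 3, 3, 1, 3, 1, 3, 1, 2, 1, 3, 1, 3]) (.node 3744 (.leaf 149 14 [2, 1, 2, 1, 2, 1, 3, 1, 3, 1, 3, 1, 6, 4, 5, 5, 4, 6, 4, 5, 4, 6, 4, 5, 5, 5, 4, 1, 2, 2, 1, 3, 1, 2, 2, 1, 2, 2, 1, 2, 1]) (.leaf 153 22 [3, 3, 1, 3, 4, 6, 6, 6, 4, 5, 5, 5, 4, 5, 1, 3, 1, 3, 1, 2, 2, 1, 2, 1, 2, 1, 2, 2, 1, 2, 1, 2, 2, 1, 2, 1]))))) (.node 3750 (.node 3747 (.node 3746 (.leaf 154 2 [2, 2, 1, 3, 1, 2, 1, 2, 1, 2, 1, 2, 2, 1, 3, 1, 3, 1, 2, 1, 3, 1, 2, 2, 4, 5, 4, 5, 5, 5, 4, 6, 4, 5, 5, 5, 4, 6, 6, 6, 2, 1]) (.leaf 155 30 [5, 4, 6, 4, 5, 5, 5, 4, 6, 4, 5, 5, 4, 1, 2, 1, 3, 1, 2, 2, 1, 3, 1, 2, 2, 1, 2, 2, 1, 3, 1, 2, 1, 3, 3, 1, 3, 1, 2, 1, 6, 4, 5])) (.node 3748 (.leaf 160 23 [3, 1, 2, 2, 5, 4, 6, 6, 6, 4, 5, 5, 5, 4, 6, 4, 5, 5, 1, 2, 2, 1, 2, 1, 2, 1, 3, 3, 1, 3, 3, 1, 2, 1, 3, 1, 3, 1, 2, 1, 3]) (.node 3749 (.leaf 179 15 [3, 1, 2, 2, 1, 3, 3, 1, 3, 1, 2, 1, 5, 4, 5, 5, 5, 4, 6, 6, 6, 4, 3, 3, 1, 2, 1, 2, 1, 3, 1, 2, 1, 2, 2, 1, 3]) (.leaf 179 3 [2, 1, 2, 1, 3, 1, 2, 1, 2, 2, 1, 3, 3, 1, 2, 2, 1, 3, 3, 1, 3, 1, 2, 1, 5, 4, 5, 5, 5, 4, 6, 6, 6, 4, 3, 3, 1])))) (.node 3753 (.node 3751 (.leaf 180 27 [6, 4, 6, 6, 6, 4, 5, 4, 6, 6, 6, 4, 5, 2, 1, 2, 1, 3, 1, 2, 1, 3, 1, 3, 1, 2, 2, 1, 3, 1, 3, 1, 3, 1, 2, 1, 2, 1, 2, 1]) (.node 3752 (.leaf 185 6 [1, 2, 1, 2, 2, 1, 2, 2, 1, 2, 1, 3, 1, 3, 1, 2, 1, 3, 1, 3, 1, 5, 5, 4, 6, 4, 5, 5, 4, 6, 4, 5, 5, 5, 4, 1, 3, 3, 1, 3, 3]) (.leaf 186 5 [3, 1, 2, 1, 3, 1, 2, 2, 1, 2, 1, 2, 2, 1, 3, 1, 2, 1, 2, 2, 1, 3, 6, 4, 5, 5, 4, 6, 6, 4, 5, 5, 5, 4, 2, 1, 3, 1, 3]))) (.node 3754 (.leaf 186 11 [2, 2, 1, 2, 1, 2, 2, 1, 3, 1, 2, 1, 2, 2, 1, 3, 6, 4, 5, 5, 4, 6, 6, 4, 5, 5, 5, 4, 2, 1, 3, 1, 3, 3, 1, 2, 1, 3, 1]) (.node 3755 (.leaf 191 41 [6, 2, 2, 1, 3, 3, 1, 3, 3, 1, 3, 1, 2, 1, 2, 1, 3, 3, 1, 3, 1, 3, 1, 3, 1, 3, 1, 3, 6, 4, 5, 5, 5, 4, 6, 4, 5, 5, 5, 4, 6, 6]) (.leaf 196 21 [1, 2, 1, 2, 1, 3, 5, 4, 5, 5, 5, 4, 6, 4, 5, 5, 4, 6, 3, 3, 1, 2, 1, 3, 1, 2, 1, 3, 3, 1, 2, 2, 1, 3, 1, 2, 1, 2, 2])))))))) (.node 3800 (.node 3778 (.node 3767 (.node 3761 (.node 3758 (.node 3757 (.leaf 198 17 [2, 1, 3, 1, 3, 1, 3, 3, 1, 3, 6, 6, 4, 5, 5, 4, 6, 4, 5, 5, 5, 4, 1, 2, 2, 1, 2, 1, 3, 3, 1, 2, 2, 1, 2, 1, 3, 1, 2]) (.leaf 198 27 [6, 6, 4, 5, 5, 4, 6, 4, 5, 5, 5, 4, 1, 2, 2, 1, 2, 1, 3, 3, 1, 2, 2, 1, 2, 1, 3, 1, 2, 2, 1, 3, 1, 3, 1, 3, 3, 1, 3])) (.node 3759 (.leaf 199 1 [2, 1, 2, 1, 3, 1, 3, 1, 2, 2, 1, 3, 1, 2, 2, 1, 2, 2, 1, 3, 1, 2, 2, 1, 2, 1, 5, 4, 6, 6, 6, 4, 5, 5, 5, 4, 6, 2]) (.node 3760 (.leaf 201 4 [1, 3, 3, 1, 3, 1, 3, 1, 2, 2, 1, 3, 1, 3, 1, 3, 1, 3, 1, 2, 2, 1, 3, 4, 5, 5, 5, 4, 6, 4, 5, 5, 4, 6, 4, 5, 5, 2, 2, 1, 3]) (.leaf 201 28 [5, 5, 5, 4, 6, 4, 5, 5, 4, 6, 4, 5, 5, 2, 2, 1, 3, 1, 3, 3, 1, 3, 1, 3, 1, 2, 2, 1, 3, 1, 3, 1, 3, 1, 3, 1, 2, 2, 1, 3, 4])))) (.node 3764 (.node 3762 (.leaf 201 30 [5, 4, 6, 4, 5, 5, 4, 6, 4, 5, 5, 2, 2, 1, 3, 1, 3, 3, 1, 3, 1, 3, 1, 2, 2, 1, 3, 1, 3, 1, 3, 1, 3, 1, 2, 2, 1, 3, 4, 5, 5]) (.node 3763 (.leaf 202 3 [2, 2, 1, 2, 1, 2, 2, 1, 2, 2, 1, 3, 3, 1, 2, 1, 2, 2, 1, 2, 1, 2, 2, 1, 5, 5, 5, 5, 4, 6, 4, 5, 5, 5, 4, 6, 4, 5, 5, 5, 1, 3, 1]) (.leaf 208 19 [2, 2, 1, 2, 1, 3, 1, 3, 5, 5, 4, 6, 4, 5, 5, 4, 6, 4, 5, 5, 5, 4, 5, 3, 3, 1, 3, 3, 1, 3, 1, 3, 3, 1, 2, 2, 1, 2, 2, 1, 2, 1]))) (.node 3765 (.leaf 208 17 [2, 1, 2, 2, 1, 2, 1, 3, 1, 3, 5, 5, 4, 6, 4, 5, 5, 4, 6, 4, 5, 5, 5, 4, 5, 3, 3, 1, 3, 3, 1, 3, 1, 3, 3, 1, 2, 2, 1, 2, 2, 1]) (.node 3766 (.leaf 209 4 [3, 3, 1, 2, 1, 2, 2, 1, 2, 1, 2, 2, 1, 2, 2, 1, 2, 1, 3, 1, 3, 1, 3, 4, 5, 5, 4, 6, 4, 5, 5, 4, 6, 4, 5, 5, 2, 1, 2, 1]) (.leaf 215 5 [2, 1, 3, 1, 3, 1, 2, 1, 2, 2, 1, 2, 2, 1, 2, 1, 3, 1, 2, 1, 2, 2, 4, 5, 5, 5, 5, 4, 6, 4, 5, 5, 4, 6, 4, 1, 3, 1, 3, 1]))))) (.node 3772 (.node 3769 (.node 3768 (.leaf 216 6 [3, 1, 3, 1, 3, 3, 1, 2, 2, 1, 3, 1, 3, 1, 2, 1, 3, 3, 1, 3, 1, 6, 4, 5, 5, 4, 6, 2, 2, 1, 2, 1, 3]) (.leaf 220 18 [1, 2, 2, 1, 2, 1, 3, 1, 3, 4, 6, 4, 5, 5, 5, 4, 6, 4, 5, 5, 4, 6, 6, 4, 5, 3, 3, 1, 2, 1, 3, 3, 1, 2, 1, 2, 2, 1, 2, 1, 2, 1, 2])) (.node 3770 (.leaf 223 20 [1, 2, 2, 1, 3, 1, 3, 4, 5, 5, 4, 6, 4, 5, 5, 5, 4, 6, 4, 5, 5, 4, 2, 1, 3, 1, 3, 1, 3, 1, 3, 3, 1, 3, 1, 2, 1, 2, 2, 1, 2, 2]) (.node 3771 (.leaf 223 3 [1, 3, 1, 3, 1, 3, 3, 1, 3, 1, 2, 1, 2, 2, 1, 2, 2, 1, 2, 2, 1, 3, 1, 3, 4, 5, 5, 4, 6, 4, 5, 5, 5, 4, 6, 4, 5, 5, 4, 2, 1, 3]) (.leaf 233 0 [2, 1, 2, 1, 3, 1, 3, 1, 2, 1, 3, 1, 2, 1, 2, 2, 1, 2, 1, 2, 1, 2, 2, 1, 2, 1, 3, 5, 4, 6, 6, 4, 5, 4, 6, 6])))) (.node 3775 (.node 3773 (.leaf 237 18 [1, 2, 2, 1, 2, 2, 1, 3, 3, 6, 4, 5, 5, 4, 6, 1, 3, 1, 2, 2, 1, 2, 2, 1, 2, 2, 1, 3, 1, 2, 1, 2, 2]) (.node 3774 (.leaf 242 27 [5, 5, 5, 4, 6, 6, 6, 4, 5, 5, 5, 4, 6, 6, 1, 3, 3, 1, 2, 1, 2, 2, 1, 3, 3, 1, 3, 1, 3, 3, 1, 3, 1, 3, 3, 1, 3, 1, 2, 1, 3]) (.leaf 244 12 [2, 2, 1, 3, 3, 1, 3, 1, 3, 1, 2, 1, 2, 1, 3, 5, 4, 6, 4, 5, 5, 4, 6, 4, 5, 5, 4, 6, 4, 1, 2, 2, 1, 2, 1, 2, 1, 2, 1, 3, 1]))) (.node 3776 (.leaf 250 24 [3, 3, 1, 6, 4, 6, 6, 6, 4, 5, 4, 6, 6, 6, 4, 5, 4, 3, 3, 1, 3, 1, 2, 1, 2, 1, 2, 1, 2, 1, 2, 1, 3, 1, 2, 2, 1, 3, 1, 3, 1]) (.node 3777 (.leaf 251 24 [1, 3, 1, 5, 5, 4, 6, 4, 5, 5, 5, 4, 6, 4, 5, 5, 4, 6, 6, 2, 1, 2, 1, 2, 1, 3, 1, 2, 1, 3, 3, 1, 2, 2, 1, 2, 1, 3, 3, 1, 2, 1, 2]) (.leaf 263 19 [2, 1, 2, 1, 2, 2, 1, 2, 1, 4, 5, 5, 5, 4, 6, 6, 4, 5, 5, 4, 6, 3, 3, 1, 3, 3, 1, 3, 1, 3, 1, 3, 1, 2, 2, 1, 2, 1, 3, 1])))))) (.node 3789 (.node 3783 (.node 3780 (.node 3779 (.leaf 266 27 [3, 6, 6, 4, 5, 5, 5, 4, 6, 6, 2, 1, 2, 1, 2, 1, 3, 1, 2, 1, 2, 1, 2, 2, 1, 3, 1, 3, 3, 1, 2, 1, 2, 1, 3, 1, 3]) (.leaf 272 16 [3, 3, 1, 2, 1, 2, 2, 1, 2, 1, 3, 3, 5, 5, 4, 6, 6, 4, 5, 4, 6, 6, 6, 4, 5, 5, 5, 3, 3, 1, 3, 3, 1, 3, 3, 1, 3, 3, 1, 2, 1, 2, 1])) (.node 3781 (.leaf 273 28 [5, 5, 5, 5, 4, 6, 4, 5, 5, 5, 4, 6, 6, 1, 3, 3, 1, 2, 1, 3, 1, 2, 1, 3, 1, 2, 1, 2, 2, 1, 2, 1, 2, 1, 2, 2, 1, 2, 1, 2, 2]) (.node 3782 (.leaf 277 18 [1, 2, 1, 2, 1, 3, 3, 1, 2, 2, 5, 5, 4, 6, 6, 4, 5, 5, 1, 2, 2, 1, 2, 2, 1, 2, 1, 2, 1, 2, 1, 3, 1, 2, 1, 3]) (.leaf 281 26 [3, 1, 6, 6, 4, 5, 5, 4, 6, 4, 5, 5, 5, 4, 6, 6, 6, 4, 2, 1, 3, 3, 1, 3, 3, 1, 3, 3, 1, 3, 3, 1, 2, 1, 3, 3, 1, 2, 2, 1, 2, 1, 3, 1])))) (.node 3786 (.node 3784 (.leaf 290 13 [2, 2, 1, 2, 2, 1, 3, 3, 1, 3, 1, 3, 1, 3, 3, 5, 4, 6, 6, 6, 4, 5, 5, 5, 4, 1, 2, 1, 2, 2, 1, 3, 1, 3, 3, 1, 3, 1]) (.node 3785 (.leaf 294 25 [1, 2, 2, 6, 6, 6, 4, 5, 4, 6, 6, 4, 5, 2, 2, 1, 3, 3, 1, 2, 1, 3, 3, 1, 3, 1, 3, 1, 3, 1, 3, 1, 3, 3, 1, 3, 1, 2]) (.leaf 306 7 [1, 2, 1, 2, 1, 2, 1, 2, 1, 2, 1, 2, 1, 2, 1, 3, 1, 2, 2, 1, 3, 5, 5, 5, 5, 4, 6, 4, 5, 5, 4, 6, 6, 4, 5, 5, 1, 2, 1, 2, 1, 3, 3]))) (.node 3787 (.leaf 311 26 [2, 2, 5, 4, 5, 5, 5, 4, 6, 4, 5, 5, 4, 2, 1, 3, 1, 2, 1, 3, 1, 2, 1, 3, 3, 1, 2, 2, 1, 2, 1, 2, 2, 1, 3, 3, 1, 2, 1]) (.node 3788 (.leaf 311 5 [1, 3, 1, 2, 1, 3, 3, 1, 2, 2, 1, 2, 1, 2, 2, 1, 3, 3, 1, 2, 1, 2, 2, 5, 4, 5, 5, 5, 4, 6, 4, 5, 5, 4, 2, 1, 3, 1, 2]) (.leaf 320 19 [2, 1, 2, 2, 1, 2, 2, 1, 3, 6, 4, 5, 5, 5, 5, 4, 6, 4, 5, 5, 5, 4, 6, 1, 3, 3, 1, 3, 3, 1, 3, 1, 2, 2, 1, 3, 3, 1, 3, 1, 3, 1]))))) (.node 3794 (.node 3791 (.node 3790 (.leaf 330 28 [6, 4, 5, 5, 5, 4, 6, 4, 5, 5, 5, 2, 1, 2, 1, 3, 1, 2, 1, 3, 1, 2, 1, 3, 1, 3, 1, 3, 3, 1, 3, 1, 2, 1, 2, 1, 3, 3, 1]) (.leaf 333 12 [1, 2, 1, 3, 3, 1, 3, 3, 1, 2, 2, 1, 3, 1, 3, 3, 4, 6, 4, 5, 5, 5, 4, 6, 6, 6, 4, 5, 4, 2, 1, 2, 2, 1, 2, 1, 3, 3, 1, 2, 2])) (.node 3792 (.leaf 335 5 [3, 3, 1, 2, 1, 3, 3, 1, 2, 1, 3, 1, 2, 2, 1, 3, 1, 2, 1, 3, 1, 2, 2, 6, 6, 6, 4, 5, 5, 5, 4, 6, 6, 6, 4, 3, 3, 1, 2, 1]) (.node 3793 (.leaf 340 3 [3, 3, 1, 3, 3, 1, 2, 2, 1, 3, 3, 1, 2, 2, 1, 3, 1, 2, 1, 2, 1, 3, 1, 3, 3, 6, 6, 4, 5, 5, 4, 6, 4, 5, 5, 5, 4, 6, 1, 3, 1]) (.leaf 345 28 [6, 4, 5, 5, 5, 5, 4, 6, 6, 6, 4, 6, 2, 1, 2, 1, 2, 1, 3, 1, 3, 1, 3, 1, 3, 1, 2, 1, 2, 1, 2, 1, 2, 1, 3, 3, 1, 3, 1, 3])))) (.node 3797 (.node 3795 (.leaf 348 24 [2, 1, 3, 1, 6, 6, 4, 5, 4, 6, 6, 6, 4, 5, 4, 6, 6, 6, 1, 3, 1, 3, 1, 3, 1, 2, 2, 1, 3, 3, 1, 2, 1, 3, 1, 2, 1, 3, 1, 3, 3, 1]) (.node 3796 (.leaf 361 17 [1, 2, 1, 3, 1, 2, 2, 1, 2, 2, 1, 6, 6, 4, 5, 5, 4, 6, 4, 5, 5, 5, 4, 6, 6, 6, 4, 2, 1, 3, 1, 3, 3, 1, 2, 2, 1, 2, 1, 2, 2, 1, 2, 2]) (.leaf 365 23 [1, 3, 1, 3, 1, 5, 4, 5, 5, 5, 5, 4, 6, 6, 6, 4, 5, 4, 2, 2, 1, 2, 1, 2, 2, 1, 2, 2, 1, 2, 1, 2, 2, 1, 2, 2, 1, 2, 2, 1, 3]))) (.node 3798 (.leaf 368 15 [2, 1, 3, 3, 1, 3, 1, 2, 1, 2, 1, 2, 2, 4, 5, 5, 5, 4, 6, 6, 6, 4, 5, 5, 5, 4, 6, 2, 2, 1, 3, 3, 1, 3, 3, 1, 2, 1, 3, 3, 1, 2]) (.node 3799 (.leaf 377 0 [1, 2, 2, 1, 3, 1, 2, 1, 3, 3, 1, 3, 3, 1, 2, 1, 2, 2, 1, 2, 1, 3, 1, 2, 1, 2, 2, 1, 5, 4, 6, 6, 4, 5, 4, 6, 4, 5, 5, 4, 6, 6]) (.leaf 378 23 [1, 2, 1, 3, 3, 4, 6, 4, 5, 5, 5, 4, 6, 6, 6, 4, 5, 4, 6, 3, 3, 1, 3, 3, 1, 3, 3, 1, 3, 1, 2, 1, 2, 1, 3, 1, 3, 3, 1, 2, 1, 2]))))))) (.node 3822 (.node 3811 (.node 3805 (.node 3802 (.node 3801 (.leaf 381 11 [1, 3, 1, 2, 1, 3, 3, 1, 2, 2, 1, 2, 1, 3, 1, 3, 3, 4, 5, 5, 4, 6, 4, 5, 5, 4, 6, 6, 4, 2, 2, 1, 2, 1, 2, 1, 3, 1, 3, 3]) (.leaf 394 23 [3, 1, 3, 3, 1, 3, 5, 4, 5, 5, 5, 4, 6, 4, 5, 5, 5, 4, 6, 4, 5, 2, 2, 1, 3, 1, 2, 2, 1, 2, 2, 1, 2, 2, 1, 2, 1, 2, 2, 1, 3, 1, 3, 1])) (.node 3803 (.leaf 395 20 [2, 1, 2, 2, 1, 2, 1, 3, 3, 6, 6, 6, 4, 5, 5, 5, 4, 6, 4, 5, 5, 4, 6, 4, 1, 3, 1, 3, 1, 2, 1, 3, 3, 1, 3, 1, 3, 3, 1, 2, 1, 2, 2, 1]) (.node 3804 (.leaf 370 33 [4, 5, 5, 5, 2, 2, 1, 3, 3, 1, 3, 1, 2, 2, 1, 3, 1, 3, 1, 3, 1, 3, 1, 3, 1, 3, 1, 3, 3, 1, 2, 2, 4, 5, 4, 6, 6]) (.leaf 334 38 [5, 4, 3, 3, 1, 2, 1, 2, 1, 2, 1, 3, 3, 1, 2, 2, 1, 3, 3, 1, 2, 1, 2, 1, 2, 2, 1, 3, 1, 3, 4, 5, 5, 4, 6, 4, 5, 4, 6, 4])))) (.node 3808 (.node 3806 (.leaf 367 7 [2, 1, 3, 3, 1, 2, 1, 2, 1, 2, 1, 3, 1, 3, 1, 3, 1, 3, 1, 2, 1, 4, 6, 4, 5, 5, 4, 6, 4, 5, 4, 6, 4, 5, 4, 1, 2, 1, 3, 3, 1, 2]) (.node 3807 (.leaf 233 35 [6, 2, 1, 2, 1, 3, 1, 3, 1, 2, 1, 3, 1, 2, 1, 2, 2, 1, 2, 1, 2, 1, 2, 2, 1, 2, 1, 3, 5, 4, 6, 6, 4, 5, 4, 6]) (.leaf 256 37 [5, 4, 1, 2, 2, 1, 3, 1, 3, 1, 3, 3, 1, 2, 1, 2, 2, 1, 2, 2, 1, 3, 1, 2, 1, 2, 1, 3, 1, 4, 5, 5, 4, 6, 4, 5, 4, 6, 4]))) (.node 3809 (.leaf 359 16 [1, 3, 1, 3, 3, 1, 2, 2, 1, 2, 1, 3, 6, 6, 6, 4, 5, 4, 6, 6, 4, 5, 4, 6, 4, 5, 3, 3, 1, 3, 1, 2, 1, 3, 1, 2, 1, 2, 1, 2, 1, 2]) (.node 3810 (.leaf 74 29 [6, 4, 2, 1, 3, 3, 1, 2, 1, 3, 1, 2, 1, 2, 1, 3, 1, 2, 1, 2, 2, 1, 3, 3, 1, 3, 3, 5, 5, 4, 6]) (.leaf 107 7 [3, 3, 1, 2, 1, 2, 2, 1, 3, 1, 3, 3, 1, 3, 3, 1, 3, 3, 5, 5, 5, 4, 6, 4, 5, 5, 4, 6, 2, 1, 2, 1, 3, 3, 1]))))) (.node 3816 (.node 3813 (.node 3812 (.leaf 126 36 [6, 1, 3, 1, 2, 1, 2, 2, 1, 3, 3, 1, 2, 1, 3, 1, 2, 1, 2, 1, 2, 1, 3, 3, 1, 3, 1, 6, 4, 5, 5, 4, 6, 4, 5, 5, 4]) (.leaf 134 20 [1, 2, 2, 1, 2, 2, 5, 4, 6, 4, 5, 4, 6, 4, 5, 4, 6, 4, 1, 2, 1, 2, 1, 3, 1, 3, 3, 1, 3, 1, 2, 1, 3, 1, 2, 1, 3, 3])) (.node 3814 (.leaf 198 20 [1, 3, 1, 3, 3, 1, 3, 6, 6, 4, 5, 5, 4, 6, 4, 5, 5, 5, 4, 1, 2, 2, 1, 2, 1, 3, 3, 1, 2, 2, 1, 2, 1, 3, 1, 2, 2, 1, 3]) (.node 3815 (.leaf 215 39 [4, 1, 3, 1, 3, 1, 2, 1, 3, 1, 3, 1, 2, 1, 2, 2, 1, 2, 2, 1, 2, 1, 3, 1, 2, 1, 2, 2, 4, 5, 5, 5, 5, 4, 6, 4, 5, 5, 4, 6]) (.leaf 226 10 [1, 3, 1, 2, 1, 2, 1, 2, 2, 1, 2, 2, 1, 2, 1, 3, 3, 6, 4, 5, 4, 6, 4, 5, 5, 5, 2, 2, 1, 2, 2, 1, 3, 1, 3, 3])))) (.node 3819 (.node 3817 (.leaf 322 21 [3, 3, 1, 3, 3, 1, 3, 6, 6, 4, 5, 5, 1, 3, 1, 2, 2, 1, 3, 1, 3, 1, 3, 3, 1, 3, 1, 2, 1, 2, 1, 3, 1]) (.node 3818 (.leaf 324 3 [2, 2, 1, 2, 1, 2, 1, 2, 2, 1, 3, 1, 3, 1, 3, 1, 2, 2, 1, 2, 1, 2, 1, 2, 2, 5, 5, 5, 5, 4, 6, 4, 5, 5, 5, 4, 2, 2, 1]) (.leaf 352 23 [2, 2, 1, 3, 3, 4, 6, 4, 5, 5, 4, 6, 4, 5, 5, 4, 6, 4, 5, 1, 3, 1, 3, 1, 3, 1, 2, 2, 1, 3, 1, 3, 3, 1, 3, 1, 2, 1, 3, 1, 2, 1]))) (.node 3820 (.leaf 362 34 [4, 5, 4, 6, 4, 5, 5, 1, 3, 1, 2, 1, 2, 2, 1, 2, 1, 2, 1, 3, 1, 2, 2, 1, 3, 1, 2, 1, 2, 2, 1, 3, 3, 1, 3, 5, 5, 5, 4, 6, 6]) (.node 3821 (.leaf 371 5 [3, 3, 1, 2, 1, 2, 1, 3, 1, 3, 1, 3, 1, 3, 1, 2, 1, 2, 1, 3, 1, 2, 1, 5, 4, 6, 6, 4, 5, 4, 6, 4, 5, 5, 4, 3, 3, 1, 2, 1]) (.leaf 36 32 [5, 4, 6, 3, 3, 1, 3, 1, 2, 1, 3, 1, 3, 1, 2, 2, 1, 3, 1, 2, 1, 3, 3, 1, 3, 3, 4, 5, 5, 5, 4, 6, 6, 6, 4])))))) (.node 3833 (.node 3827 (.node 3824 (.node 3823 (.leaf 83 23 [2, 1, 6, 6, 6, 4, 5, 5, 5, 4, 6, 1, 2, 1, 2, 1, 3, 1, 3, 1, 3, 3, 1, 2, 1, 2, 1, 3, 1, 2, 1, 2, 1, 2]) (.leaf 130 18 [3, 1, 2, 1, 3, 1, 3, 1, 6, 6, 4, 5, 5, 5, 4, 2, 2, 1, 2, 1, 2, 1, 3, 3, 1, 2, 1, 2, 1, 3, 1, 3, 1])) (.node 3825 (.leaf 151 29 [6, 6, 4, 5, 2, 1, 3, 3, 1, 3, 3, 1, 3, 1, 2, 2, 1, 2, 2, 1, 2, 2, 1, 3, 1, 2, 2, 1, 2, 2, 5, 5, 4]) (.node 3826 (.leaf 180 29 [6, 6, 6, 4, 5, 4, 6, 6, 6, 4, 5, 2, 1, 2, 1, 3, 1, 2, 1, 3, 1, 3, 1, 2, 2, 1, 3, 1, 3, 1, 3, 1, 2, 1, 2, 1, 2, 1, 6, 4]) (.leaf 221 1 [1, 2, 1, 2, 1, 3, 3, 1, 2, 1, 3, 1, 2, 1, 3, 1, 2, 2, 1, 3, 1, 2, 2, 1, 3, 1, 4, 6, 4, 5, 5, 5, 4, 6, 6, 6, 4, 5, 5, 2])))) (.node 3830 (.node 3828 (.leaf 228 26 [3, 6, 4, 6, 6, 6, 4, 5, 4, 6, 6, 4, 5, 4, 5, 1, 3, 3, 1, 3, 3, 1, 2, 1, 2, 1, 3, 1, 2, 1, 2, 1, 2, 1, 2, 1, 2, 2, 1, 2, 1]) (.node 3829 (.leaf 232 40 [5, 1, 3, 1, 3, 3, 1, 2, 1, 3, 1, 2, 2, 1, 2, 1, 3, 1, 2, 1, 2, 2, 1, 3, 1, 3, 3, 1, 6, 6, 4, 5, 5, 5, 4, 6, 6, 6, 4, 5, 5]) (.leaf 284 17 [3, 3, 1, 2, 1, 3, 3, 1, 3, 1, 3, 4, 6, 4, 5, 5, 5, 4, 6, 6, 1, 3, 1, 3, 1, 2, 1, 3, 1, 2, 2, 1, 3, 1, 2, 2, 1]))) (.node 3831 (.leaf 298 26 [3, 1, 4, 5, 5, 5, 4, 6, 6, 4, 5, 1, 3, 3, 1, 3, 1, 3, 3, 1, 3, 3, 1, 2, 1, 3, 3, 1, 2, 1, 3, 1, 3, 1, 2, 1, 3]) (.node 3832 (.leaf 326 28 [5, 5, 4, 6, 6, 6, 4, 5, 4, 6, 6, 6, 4, 5, 5, 5, 2, 1, 2, 1, 2, 1, 2, 1, 3, 1, 2, 1, 2, 2, 1, 2, 1, 3, 3, 1, 3, 1, 2, 1, 3, 1, 3, 1]) (.leaf 347 1 [3, 3, 1, 2, 1, 2, 2, 1, 3, 1, 2, 1, 2, 1, 2, 1, 3, 3, 1, 3, 1, 2, 2, 1, 3, 3, 1, 5, 4, 6, 6, 6, 4, 5, 5, 5, 4, 5, 1]))))) (.node 3838 (.node 3835 (.node 3834 (.leaf 357 43 [5, 2, 1, 2, 2, 1, 2, 1, 3, 1, 2, 2, 1, 2, 2, 1, 2, 2, 1, 3, 1, 2, 1, 2, 2, 1, 2, 1, 3, 6, 6, 6, 4, 5, 4, 6, 6, 6, 4, 5, 4, 6, 6, 4]) (.leaf 11 10 [2, 2, 1, 2, 2, 1, 5, 5, 4, 6, 4, 5, 5, 5, 4, 6, 4, 5, 5, 4, 6, 6, 4, 5, 2, 2, 1, 3, 1, 2, 1, 2, 2, 1])) (.node 3836 (.leaf 48 10 [2, 2, 1, 2, 2, 1, 2, 1, 2, 2, 1, 3, 1, 4, 6, 6, 6, 4, 5, 5, 5, 4, 6, 4, 5, 5, 4, 6, 6, 1, 3, 3, 1, 2, 1, 3, 1, 3, 1]) (.node 3837 (.leaf 51 30 [4, 6, 1, 2, 1, 3, 1, 3, 3, 1, 2, 2, 1, 3, 1, 2, 1, 3, 1, 3, 1, 3, 3, 1, 2, 2, 5, 4, 6, 6, 6, 6]) (.leaf 75 23 [3, 3, 6, 6, 4, 5, 5, 5, 4, 6, 4, 5, 5, 5, 4, 1, 2, 1, 3, 1, 2, 1, 3, 3, 1, 3, 3, 1, 2, 2, 1, 3, 3, 1, 2, 1, 2, 1])))) (.node 3841 (.node 3839 (.leaf 86 11 [2, 1, 3, 3, 1, 2, 2, 1, 2, 1, 2, 1, 2, 2, 4, 5, 5, 4, 6, 4, 5, 5, 5, 4, 6, 6, 1, 3, 1, 3, 1, 3, 3, 1, 2, 2, 1]) (.node 3840 (.leaf 87 2 [3, 1, 2, 2, 1, 2, 2, 1, 3, 3, 1, 3, 1, 2, 2, 1, 2, 1, 3, 1, 2, 2, 1, 5, 5, 4, 6, 4, 5, 5, 5, 4, 6, 4, 5, 5, 5, 1, 3]) (.leaf 87 13 [3, 1, 2, 2, 1, 2, 1, 3, 1, 2, 2, 1, 5, 5, 4, 6, 4, 5, 5, 5, 4, 6, 4, 5, 5, 5, 1, 3, 3, 1, 2, 2, 1, 2, 2, 1, 3, 3, 1]))) (.node 3842 (.leaf 88 20 [3, 3, 1, 2, 1, 5, 4, 6, 4, 5, 5, 4, 6, 6, 4, 5, 4, 2, 2, 1, 2, 2, 1, 3, 3, 1, 3, 1, 2, 2, 1, 3, 1, 3, 1, 3, 1]) (.node 3843 (.leaf 128 14 [1, 3, 1, 2, 1, 3, 3, 1, 2, 1, 2, 2, 5, 4, 5, 5, 5, 4, 6, 4, 5, 5, 5, 4, 6, 4, 5, 2, 1, 3, 3, 1, 2, 1, 2, 1, 2, 1, 3, 1, 2]) (.leaf 153 35 [5, 1, 3, 1, 3, 1, 2, 2, 1, 2, 1, 2, 1, 2, 2, 1, 2, 1, 2, 2, 1, 2, 1, 3, 3, 1, 3, 4, 6, 6, 6, 4, 5, 5, 5, 4])))))))))) (.node 4019 (.node 3931 (.node 3887 (.node 3865 (.node 3854 (.node 3849 (.node 3846 (.node 3845 (.leaf 155 3 [3, 1, 2, 2, 1, 3, 1, 2, 2, 1, 2, 2, 1, 3, 1, 2, 1, 3, 3, 1, 3, 1, 2, 1, 6, 4, 5, 5, 4, 6, 4, 5, 5, 5, 4, 6, 4, 5, 5, 4, 1, 2, 1]) (.leaf 168 4 [3, 1, 3, 1, 2, 1, 3, 1, 3, 1, 3, 1, 2, 1, 3, 3, 1, 3, 1, 3, 1, 3, 1, 5, 4, 6, 4, 5, 5, 5, 4, 6, 4, 5, 5, 4, 1, 2, 1, 3])) (.node 3847 (.leaf 184 17 [3, 1, 3, 1, 2, 2, 1, 3, 3, 1, 6, 6, 6, 4, 5, 5, 5, 4, 6, 4, 5, 5, 4, 6, 6, 6, 2, 1, 3, 1, 3, 1, 3, 1, 2, 1, 2, 2, 1, 2, 2, 1, 3]) (.node 3848 (.leaf 220 14 [1, 2, 1, 2, 1, 2, 2, 1, 2, 1, 3, 1, 3, 4, 6, 4, 5, 5, 5, 4, 6, 4, 5, 5, 4, 6, 6, 4, 5, 3, 3, 1, 2, 1, 3, 3, 1, 2, 1, 2, 2, 1, 2]) (.leaf 221 6 [3, 3, 1, 2, 1, 3, 1, 2, 1, 3, 1, 2, 2, 1, 3, 1, 2, 2, 1, 3, 1, 4, 6, 4, 5, 5, 5, 4, 6, 6, 6, 4, 5, 5, 2, 1, 2, 1, 2, 1])))) (.node 3851 (.node 3850 (.leaf 235 10 [1, 2, 1, 2, 1, 3, 1, 2, 2, 1, 3, 1, 3, 1, 2, 1, 3, 4, 6, 6, 6, 4, 5, 5, 5, 4, 5, 2, 2, 1, 3, 1, 3, 1, 2, 1, 2]) (.leaf 292 27 [3, 5, 5, 4, 6, 4, 5, 5, 5, 4, 6, 6, 6, 4, 5, 5, 5, 1, 2, 1, 3, 1, 2, 2, 1, 2, 1, 3, 3, 1, 3, 1, 3, 1, 2, 2, 1, 3, 1, 2, 1, 3, 3, 1])) (.node 3852 (.leaf 330 25 [3, 3, 1, 6, 4, 5, 5, 5, 4, 6, 4, 5, 5, 5, 2, 1, 2, 1, 3, 1, 2, 1, 3, 1, 2, 1, 3, 1, 3, 1, 3, 3, 1, 3, 1, 2, 1, 2, 1]) (.node 3853 (.leaf 343 17 [1, 3, 3, 1, 3, 3, 1, 3, 3, 1, 3, 6, 6, 6, 4, 5, 5, 5, 4, 6, 6, 6, 4, 5, 5, 5, 1, 2, 1, 2, 2, 1, 3, 3, 1, 2, 1, 2, 1, 2, 2, 1, 2]) (.leaf 368 16 [1, 3, 3, 1, 3, 1, 2, 1, 2, 1, 2, 2, 4, 5, 5, 5, 4, 6, 6, 6, 4, 5, 5, 5, 4, 6, 2, 2, 1, 3, 3, 1, 3, 3, 1, 2, 1, 3, 3, 1, 2, 2]))))) (.node 3859 (.node 3856 (.node 3855 (.leaf 384 9 [1, 3, 1, 2, 1, 3, 1, 2, 1, 2, 1, 3, 3, 1, 3, 1, 2, 2, 1, 6, 6, 6, 4, 5, 5, 5, 4, 6, 4, 2, 1, 3, 1, 2, 1, 3, 1, 2]) (.leaf 37 6 [3, 1, 3, 1, 2, 1, 3, 3, 1, 3, 1, 3, 3, 1, 2, 1, 3, 5, 5, 4, 6, 4, 5, 4, 6, 4, 5, 4, 6, 4, 5, 4, 6, 3, 3, 1, 2, 1, 3])) (.node 3857 (.leaf 46 24 [5, 5, 5, 5, 4, 6, 6, 6, 1, 3, 1, 3, 3, 1, 2, 2, 1, 3, 3, 1, 2, 1, 2, 2, 1, 2, 1, 3, 1, 2, 1, 4]) (.node 3858 (.leaf 50 9 [2, 2, 1, 2, 1, 3, 3, 1, 3, 3, 1, 2, 2, 1, 3, 4, 6, 4, 5, 5, 5, 5, 1, 3, 3, 1, 2, 1, 3, 3, 1]) (.leaf 54 36 [6, 4, 1, 2, 2, 1, 3, 3, 1, 2, 1, 2, 1, 2, 2, 1, 2, 1, 3, 1, 2, 1, 2, 1, 3, 3, 5, 5, 4, 6, 4, 5, 4, 6, 4, 5, 5, 4])))) (.node 3862 (.node 3860 (.leaf 59 22 [3, 3, 5, 5, 4, 6, 6, 6, 4, 2, 1, 2, 1, 3, 1, 3, 3, 1, 3, 3, 1, 2, 1, 3, 3, 1, 2, 2, 1, 2, 1]) (.node 3861 (.leaf 63 34 [5, 4, 6, 4, 5, 1, 3, 1, 3, 1, 3, 1, 2, 2, 1, 2, 1, 2, 2, 1, 3, 1, 3, 1, 3, 3, 1, 3, 3, 4, 5, 4, 5, 5, 5, 4, 6, 4, 5]) (.leaf 63 29 [5, 4, 6, 4, 5, 5, 4, 6, 4, 5, 1, 3, 1, 3, 1, 3, 1, 2, 2, 1, 2, 1, 2, 2, 1, 3, 1, 3, 1, 3, 3, 1, 3, 3, 4, 5, 4, 5, 5]))) (.node 3863 (.leaf 68 30 [5, 4, 5, 1, 2, 1, 2, 1, 2, 1, 3, 3, 1, 3, 1, 2, 2, 1, 3, 1, 2, 1, 2, 2, 1, 3, 3, 4, 5, 4, 5, 5, 5]) (.node 3864 (.leaf 69 6 [1, 3, 3, 1, 2, 2, 1, 2, 1, 3, 1, 3, 1, 3, 3, 1, 3, 3, 5, 5, 4, 6, 4, 5, 4, 6, 4, 5, 4, 6, 6, 4, 5, 4, 3, 3, 1, 2, 1, 3]) (.leaf 70 18 [1, 3, 1, 2, 1, 2, 1, 6, 4, 5, 5, 5, 4, 5, 1, 2, 1, 2, 1, 3, 1, 2, 1, 3, 1, 3, 1, 2, 1, 3, 1, 2])))))) (.node 3876 (.node 3870 (.node 3867 (.node 3866 (.leaf 84 20 [2, 1, 2, 1, 3, 5, 4, 5, 5, 5, 5, 4, 6, 6, 6, 4, 2, 2, 1, 3, 3, 1, 2, 2, 1, 3, 1, 2, 1, 3, 1, 3, 1, 2, 1, 2]) (.leaf 94 14 [2, 1, 3, 1, 3, 3, 1, 3, 1, 3, 3, 4, 5, 5, 5, 5, 4, 6, 6, 6, 4, 6, 2, 2, 1, 3, 1, 3, 1, 2, 1, 2, 2, 1, 2, 1])) (.node 3868 (.leaf 110 24 [1, 5, 5, 5, 5, 4, 6, 6, 6, 4, 5, 4, 6, 2, 2, 1, 2, 1, 2, 1, 2, 1, 3, 1, 2, 2, 1, 2, 1, 2, 2, 1, 2, 1, 3, 1, 3]) (.node 3869 (.leaf 126 7 [1, 3, 3, 1, 2, 1, 3, 1, 2, 1, 2, 1, 2, 1, 3, 3, 1, 3, 1, 6, 4, 5, 5, 4, 6, 4, 5, 5, 4, 6, 1, 3, 1, 2, 1, 2, 2]) (.leaf 129 5 [2, 1, 2, 2, 1, 3, 1, 2, 2, 1, 3, 1, 2, 1, 2, 2, 1, 2, 1, 3, 3, 5, 5, 5, 4, 6, 6, 6, 4, 5, 5, 1, 2, 1, 3, 1])))) (.node 3873 (.node 3871 (.leaf 135 4 [2, 1, 2, 1, 3, 1, 2, 2, 1, 2, 1, 2, 1, 2, 1, 2, 2, 1, 2, 1, 2, 1, 4, 6, 4, 5, 5, 5, 4, 6, 6, 6, 4, 5, 4, 1, 3, 1, 2]) (.node 3872 (.leaf 138 3 [3, 1, 2, 2, 1, 3, 3, 1, 3, 3, 1, 3, 1, 3, 3, 1, 2, 1, 2, 2, 1, 2, 2, 6, 4, 5, 5, 4, 6, 4, 1, 3, 1]) (.leaf 140 14 [1, 2, 1, 3, 1, 3, 3, 1, 2, 2, 1, 3, 5, 4, 5, 5, 5, 4, 6, 4, 5, 5, 4, 6, 4, 5, 4, 6, 1, 2, 1, 3, 1, 3, 1, 3, 3, 1, 3, 1, 2, 2]))) (.node 3874 (.leaf 147 9 [3, 1, 2, 2, 1, 3, 1, 3, 1, 2, 1, 2, 1, 2, 1, 3, 3, 5, 5, 4, 6, 4, 5, 5, 4, 6, 6, 4, 5, 2, 2, 1, 3, 1, 3, 3, 1, 3]) (.node 3875 (.leaf 148 15 [1, 2, 1, 3, 1, 2, 1, 3, 1, 2, 2, 4, 5, 5, 5, 5, 4, 6, 6, 6, 4, 5, 4, 6, 6, 6, 4, 2, 1, 3, 3, 1, 2, 2, 1, 3, 3, 1, 2, 1, 2, 2]) (.leaf 159 15 [2, 1, 2, 2, 1, 3, 3, 1, 3, 1, 3, 1, 4, 5, 4, 5, 5, 5, 4, 6, 4, 5, 4, 6, 6, 3, 3, 1, 3, 1, 3, 1, 3, 3, 1, 3, 1, 2, 1, 2]))))) (.node 3881 (.node 3878 (.node 3877 (.leaf 161 38 [5, 1, 2, 1, 2, 1, 2, 2, 1, 3, 3, 1, 3, 1, 2, 1, 3, 3, 1, 3, 3, 1, 2, 1, 3, 3, 1, 3, 5, 5, 5, 4, 6, 4, 5, 4, 6, 6, 4]) (.leaf 162 2 [2, 1, 2, 2, 1, 3, 1, 3, 1, 3, 1, 2, 2, 1, 2, 2, 1, 2, 1, 2, 1, 3, 1, 2, 2, 5, 4, 5, 5, 5, 4, 6, 4, 5, 5, 4, 6, 4, 5, 1, 2])) (.node 3879 (.leaf 169 27 [4, 6, 4, 5, 5, 4, 6, 4, 5, 5, 2, 2, 1, 3, 1, 3, 1, 2, 2, 1, 2, 1, 3, 1, 2, 1, 2, 1, 3, 1, 3, 3, 1, 2, 1, 3, 3]) (.node 3880 (.leaf 170 35 [6, 4, 5, 4, 5, 1, 2, 1, 2, 1, 3, 1, 3, 1, 3, 3, 1, 3, 1, 2, 1, 2, 2, 1, 2, 2, 1, 3, 3, 1, 2, 2, 5, 5, 4, 6, 4, 5, 4, 6]) (.leaf 171 3 [3, 3, 1, 3, 3, 1, 2, 1, 3, 3, 1, 2, 2, 1, 3, 1, 2, 2, 1, 2, 2, 1, 2, 1, 4, 5, 5, 5, 4, 6, 4, 5, 4, 6, 4, 5, 4, 6, 6, 1, 3, 1])))) (.node 3884 (.node 3882 (.leaf 176 41 [5, 4, 2, 1, 2, 2, 1, 3, 3, 1, 2, 2, 1, 2, 1, 2, 1, 2, 2, 1, 2, 2, 1, 2, 2, 1, 2, 1, 3, 4, 5, 5, 4, 6, 4, 5, 4, 6, 4, 5, 4, 6, 4]) (.node 3883 (.leaf 183 8 [3, 1, 2, 1, 3, 1, 2, 1, 3, 1, 2, 2, 1, 3, 1, 3, 1, 3, 3, 4, 5, 5, 4, 6, 4, 5, 4, 6, 4, 5, 4, 6, 6, 4, 5, 4, 2, 2, 1, 2, 1, 2, 1, 3]) (.leaf 187 38 [6, 6, 4, 5, 3, 3, 1, 2, 2, 1, 2, 2, 1, 3, 1, 3, 3, 1, 3, 1, 3, 3, 1, 2, 2, 1, 2, 1, 3, 3, 1, 5, 5, 5, 4, 6, 6, 6, 4, 5, 4, 6]))) (.node 3885 (.leaf 188 38 [6, 4, 5, 4, 6, 2, 1, 3, 3, 1, 3, 1, 3, 1, 3, 3, 1, 3, 1, 2, 1, 2, 2, 1, 2, 1, 2, 1, 2, 2, 1, 3, 4, 5, 4, 6, 4, 5, 4, 6, 4, 5, 4]) (.node 3886 (.leaf 189 23 [3, 3, 1, 3, 4, 5, 5, 5, 4, 6, 6, 6, 4, 5, 1, 3, 1, 2, 1, 3, 3, 1, 3, 1, 3, 1, 2, 1, 3, 3, 1, 3, 3, 1, 2, 2, 1]) (.leaf 197 21 [3, 3, 1, 3, 3, 1, 4, 6, 4, 5, 5, 4, 6, 4, 5, 4, 6, 4, 5, 5, 1, 2, 1, 3, 1, 3, 3, 1, 2, 1, 2, 1, 3, 1, 3, 1, 3, 3, 1, 2, 1]))))))) (.node 3909 (.node 3898 (.node 3892 (.node 3889 (.node 3888 (.leaf 197 40 [5, 1, 2, 1, 3, 1, 3, 3, 1, 2, 1, 2, 1, 3, 1, 3, 1, 3, 3, 1, 2, 1, 3, 3, 1, 3, 3, 1, 4, 6, 4, 5, 5, 4, 6, 4, 5, 4, 6, 4, 5]) (.leaf 200 22 [1, 3, 3, 1, 3, 5, 4, 6, 4, 5, 5, 5, 4, 6, 4, 5, 5, 4, 1, 2, 2, 1, 3, 1, 3, 1, 2, 2, 1, 2, 1, 2, 2, 1, 2, 1, 2, 1, 3, 3])) (.node 3890 (.leaf 206 12 [1, 2, 1, 2, 2, 1, 3, 1, 3, 3, 1, 3, 1, 3, 3, 6, 4, 5, 5, 4, 6, 4, 6, 2, 1, 3, 1, 3, 1, 3, 3, 1, 2, 1, 3]) (.node 3891 (.leaf 209 17 [2, 2, 1, 2, 1, 3, 1, 3, 1, 3, 4, 5, 5, 4, 6, 4, 5, 5, 4, 6, 4, 5, 5, 2, 1, 2, 1, 3, 3, 1, 2, 1, 2, 2, 1, 2, 1, 2, 2, 1]) (.leaf 214 21 [2, 1, 3, 1, 2, 1, 6, 4, 5, 5, 5, 4, 6, 6, 6, 4, 5, 5, 5, 1, 3, 1, 3, 3, 1, 2, 1, 3, 3, 1, 2, 1, 2, 1, 3, 3, 1, 3, 3, 1])))) (.node 3895 (.node 3893 (.leaf 215 2 [1, 3, 1, 2, 1, 3, 1, 3, 1, 2, 1, 2, 2, 1, 2, 2, 1, 2, 1, 3, 1, 2, 1, 2, 2, 4, 5, 5, 5, 5, 4, 6, 4, 5, 5, 4, 6, 4, 1, 3]) (.node 3894 (.leaf 217 15 [3, 1, 3, 1, 3, 1, 3, 1, 2, 1, 2, 2, 4, 5, 5, 5, 4, 6, 4, 5, 4, 6, 4, 5, 4, 6, 4, 5, 1, 2, 1, 3, 1, 2, 2, 1, 3, 1, 3, 3, 1, 2, 1]) (.leaf 219 37 [5, 4, 2, 1, 2, 2, 1, 2, 1, 3, 1, 2, 1, 2, 1, 2, 2, 1, 2, 2, 1, 3, 3, 1, 3, 1, 3, 3, 1, 5, 4, 5, 5, 5, 4, 6, 4, 5, 5]))) (.node 3896 (.leaf 223 37 [6, 4, 5, 5, 4, 2, 1, 3, 1, 3, 1, 3, 1, 3, 3, 1, 3, 1, 2, 1, 2, 2, 1, 2, 2, 1, 2, 2, 1, 3, 1, 3, 4, 5, 5, 4, 6, 4, 5, 5, 5, 4]) (.node 3897 (.leaf 237 24 [1, 3, 3, 6, 4, 5, 5, 4, 6, 1, 3, 1, 2, 2, 1, 2, 2, 1, 2, 2, 1, 3, 1, 2, 1, 2, 2, 1, 2, 2, 1, 2, 2]) (.leaf 243 15 [2, 2, 1, 2, 1, 3, 3, 1, 2, 1, 2, 1, 4, 6, 4, 5, 5, 5, 4, 6, 4, 5, 5, 4, 6, 2, 2, 1, 2, 1, 3, 1, 3, 3, 1, 2, 2, 1, 2, 1]))))) (.node 3903 (.node 3900 (.node 3899 (.leaf 248 25 [2, 1, 5, 5, 5, 5, 4, 6, 4, 5, 5, 5, 4, 6, 4, 5, 5, 4, 2, 2, 1, 3, 3, 1, 2, 1, 2, 1, 3, 3, 1, 2, 1, 3, 3, 1, 2, 1, 2, 2, 1, 2, 1]) (.leaf 252 43 [6, 1, 2, 1, 2, 1, 2, 2, 1, 3, 3, 1, 2, 2, 1, 3, 3, 1, 2, 2, 1, 3, 3, 1, 3, 1, 3, 1, 4, 5, 5, 5, 4, 6, 6, 4, 5, 4, 6, 4, 5, 5, 5, 4])) (.node 3901 (.leaf 256 17 [2, 1, 3, 1, 2, 1, 2, 1, 3, 1, 4, 5, 5, 4, 6, 4, 5, 4, 6, 4, 5, 4, 1, 2, 2, 1, 3, 1, 3, 1, 3, 3, 1, 2, 1, 2, 2, 1, 2]) (.node 3902 (.leaf 256 22 [1, 2, 1, 3, 1, 4, 5, 5, 4, 6, 4, 5, 4, 6, 4, 5, 4, 1, 2, 2, 1, 3, 1, 3, 1, 3, 3, 1, 2, 1, 2, 2, 1, 2, 2, 1, 3, 1, 2]) (.leaf 261 19 [2, 1, 3, 1, 2, 1, 2, 1, 3, 4, 6, 4, 5, 5, 5, 4, 6, 6, 6, 4, 6, 1, 3, 1, 3, 1, 2, 2, 1, 2, 1, 2, 1, 2, 1, 2, 1, 2, 2, 1])))) (.node 3906 (.node 3904 (.leaf 271 19 [2, 2, 1, 3, 1, 2, 1, 3, 1, 4, 5, 4, 6, 4, 5, 4, 6, 4, 5, 4, 6, 6, 4, 5, 4, 2, 2, 1, 2, 1, 2, 1, 2, 1, 3, 1, 2, 1, 2, 1, 3, 1, 2, 1]) (.node 3905 (.leaf 275 25 [2, 1, 3, 4, 5, 4, 6, 4, 5, 4, 6, 6, 6, 4, 6, 3, 3, 1, 3, 3, 1, 2, 1, 3, 1, 2, 1, 2, 1, 2, 2, 1, 2, 2, 1, 2, 2, 1, 3, 1]) (.leaf 284 12 [3, 1, 2, 2, 1, 3, 3, 1, 2, 1, 3, 3, 1, 3, 1, 3, 4, 6, 4, 5, 5, 5, 4, 6, 6, 1, 3, 1, 3, 1, 2, 1, 3, 1, 2, 2, 1]))) (.node 3907 (.leaf 286 8 [2, 1, 2, 1, 2, 1, 2, 1, 3, 3, 1, 3, 3, 1, 3, 1, 3, 1, 3, 1, 5, 4, 6, 4, 5, 4, 6, 4, 5, 4, 6, 4, 5, 4, 2, 2, 1, 3, 3, 1, 3, 1]) (.node 3908 (.leaf 302 42 [4, 5, 4, 1, 3, 1, 3, 3, 1, 2, 2, 1, 2, 2, 1, 3, 1, 2, 2, 1, 2, 2, 1, 2, 1, 2, 1, 3, 1, 3, 3, 4, 5, 4, 6, 4, 5, 4, 6, 4, 5, 4, 6, 6, 6]) (.leaf 305 20 [2, 1, 2, 2, 1, 3, 3, 1, 4, 6, 4, 5, 5, 4, 6, 4, 5, 5, 4, 6, 1, 3, 1, 3, 3, 1, 2, 2, 1, 3, 1, 3, 3, 1, 2, 1, 2, 1, 2, 1])))))) (.node 3920 (.node 3914 (.node 3911 (.node 3910 (.leaf 322 19 [3, 1, 3, 3, 1, 3, 3, 1, 3, 6, 6, 4, 5, 5, 1, 3, 1, 2, 2, 1, 3, 1, 3, 1, 3, 3, 1, 3, 1, 2, 1, 2, 1]) (.leaf 330 30 [5, 5, 5, 4, 6, 4, 5, 5, 5, 2, 1, 2, 1, 3, 1, 2, 1, 3, 1, 2, 1, 3, 1, 3, 1, 3, 3, 1, 3, 1, 2, 1, 2, 1, 3, 3, 1, 6, 4])) (.node 3912 (.leaf 342 29 [6, 4, 5, 4, 6, 4, 5, 4, 6, 6, 6, 4, 6, 2, 1, 3, 3, 1, 3, 3, 1, 2, 1, 2, 1, 2, 2, 1, 3, 1, 2, 2, 1, 2, 1, 3, 1, 3, 1, 2, 2, 4]) (.node 3913 (.leaf 356 38 [6, 1, 2, 2, 1, 3, 1, 3, 1, 3, 1, 2, 1, 3, 3, 1, 3, 3, 1, 2, 1, 3, 1, 3, 1, 2, 1, 2, 2, 6, 4, 5, 4, 6, 4, 5, 4, 6, 6]) (.leaf 364 12 [1, 2, 1, 3, 1, 3, 1, 2, 2, 1, 2, 1, 2, 1, 2, 1, 4, 5, 5, 5, 4, 6, 6, 6, 4, 5, 4, 6, 6, 4, 5, 5, 4, 6, 1, 2, 2, 1, 3, 1, 3, 3, 1, 3, 1, 2])))) (.node 3917 (.node 3915 (.leaf 381 17 [3, 1, 2, 2, 1, 2, 1, 3, 1, 3, 3, 4, 5, 5, 4, 6, 4, 5, 5, 4, 6, 6, 4, 2, 2, 1, 2, 1, 2, 1, 3, 1, 3, 3, 1, 3, 1, 2, 1, 3]) (.node 3916 (.leaf 382 8 [2, 1, 3, 1, 2, 2, 1, 3, 3, 1, 3, 3, 1, 3, 3, 1, 3, 1, 2, 1, 4, 5, 5, 5, 5, 4, 6, 4, 5, 5, 4, 6, 1, 3, 1, 2, 2, 1, 3, 1]) (.leaf 382 29 [5, 5, 5, 5, 4, 6, 4, 5, 5, 4, 6, 1, 3, 1, 2, 2, 1, 3, 1, 2, 1, 3, 1, 2, 2, 1, 3, 3, 1, 3, 3, 1, 3, 3, 1, 3, 1, 2, 1, 4]))) (.node 3918 (.leaf 383 20 [2, 1, 2, 1, 2, 1, 2, 1, 6, 4, 5, 5, 5, 5, 4, 6, 6, 6, 4, 5, 4, 6, 3, 3, 1, 2, 2, 1, 2, 1, 2, 2, 1, 3, 1, 2, 2, 1, 2, 1, 2, 1]) (.node 3919 (.leaf 386 19 [1, 3, 3, 1, 2, 2, 1, 2, 2, 4, 5, 4, 6, 4, 5, 4, 6, 4, 5, 4, 6, 4, 5, 5, 4, 2, 2, 1, 2, 2, 1, 2, 2, 1, 3, 3, 1, 2, 1, 2, 1, 2, 1, 3]) (.leaf 388 8 [1, 2, 1, 2, 1, 2, 1, 3, 1, 3, 1, 3, 1, 3, 1, 3, 1, 3, 3, 1, 5, 4, 6, 4, 5, 4, 6, 4, 5, 5, 4, 6, 4, 1, 3, 3, 1, 3, 1, 3, 3]))))) (.node 3925 (.node 3922 (.node 3921 (.leaf 392 4 [1, 2, 2, 1, 2, 1, 3, 1, 2, 2, 1, 3, 3, 1, 2, 1, 3, 1, 3, 3, 1, 3, 3, 1, 3, 6, 6, 4, 5, 5, 5, 4, 6, 6, 6, 4, 5, 5, 2, 1, 2, 2]) (.leaf 393 8 [3, 1, 3, 3, 1, 3, 1, 3, 1, 2, 1, 3, 1, 3, 3, 1, 3, 3, 1, 3, 1, 4, 6, 4, 5, 5, 5, 4, 6, 4, 5, 5, 5, 4, 6, 4, 5, 1, 3, 3, 1, 3, 1, 3, 1])) (.node 3923 (.leaf 394 22 [1, 3, 1, 3, 3, 1, 3, 5, 4, 5, 5, 5, 4, 6, 4, 5, 5, 5, 4, 6, 4, 5, 2, 2, 1, 3, 1, 2, 2, 1, 2, 2, 1, 2, 2, 1, 2, 1, 2, 2, 1, 3, 1, 3]) (.node 3924 (.leaf 12 11 [3, 3, 1, 2, 1, 3, 4, 6, 6, 4, 5, 4, 6, 6, 6, 4, 5, 4, 6, 6, 3, 3, 1, 2, 1, 2, 2, 1, 2, 2, 1]) (.leaf 17 20 [1, 4, 5, 5, 4, 6, 6, 4, 5, 4, 6, 6, 6, 4, 5, 5, 1, 2, 1, 3, 3, 1, 2, 2, 1, 2, 1, 3, 1, 3, 3, 1, 3, 1, 2, 2])))) (.node 3928 (.node 3926 (.leaf 29 13 [2, 1, 3, 1, 3, 3, 1, 2, 1, 4, 5, 4, 6, 6, 4, 5, 4, 6, 4, 5, 4, 6, 6, 4, 1, 3, 1, 2, 1, 3, 3, 1, 2, 1, 3, 1, 2]) (.node 3927 (.leaf 37 38 [6, 3, 3, 1, 2, 1, 3, 3, 1, 3, 1, 2, 1, 3, 3, 1, 3, 1, 3, 3, 1, 2, 1, 3, 5, 5, 4, 6, 4, 5, 4, 6, 4, 5, 4, 6, 4, 5, 4]) (.leaf 39 2 [3, 1, 2, 2, 1, 2, 2, 1, 3, 1, 2, 1, 3, 3, 1, 3, 3, 1, 2, 2, 1, 4, 5, 5, 4, 6, 4, 5, 5, 4, 6, 6, 4, 5, 5, 1, 3]))) (.node 3929 (.leaf 42 36 [4, 5, 2, 1, 2, 1, 2, 1, 2, 2, 1, 2, 2, 1, 3, 3, 1, 3, 3, 1, 3, 1, 3, 1, 3, 6, 4, 5, 4, 6, 4, 5, 4, 6, 4, 5, 4, 6]) (.node 3930 (.leaf 44 19 [1, 2, 2, 1, 4, 6, 4, 5, 4, 6, 6, 4, 5, 5, 5, 4, 3, 3, 1, 3, 3, 1, 2, 2, 1, 2, 1, 2, 1, 3, 1, 3, 3, 1, 2]) (.leaf 53 5 [1, 2, 2, 1, 2, 1, 2, 2, 1, 3, 1, 3, 1, 2, 1, 3, 3, 1, 3, 5, 4, 5, 5, 5, 4, 6, 6, 4, 5, 4, 1, 2, 2, 1, 2])))))))) (.node 3975 (.node 3953 (.node 3942 (.node 3936 (.node 3933 (.node 3932 (.leaf 66 9 [3, 1, 2, 2, 1, 2, 1, 3, 3, 1, 2, 2, 1, 2, 2, 5, 5, 4, 6, 4, 5, 4, 6, 6, 4, 5, 5, 1, 3, 3, 1, 2, 1, 3, 1, 3]) (.leaf 70 2 [1, 2, 1, 3, 1, 2, 1, 3, 1, 3, 1, 2, 1, 3, 1, 2, 1, 3, 1, 2, 1, 2, 1, 6, 4, 5, 5, 5, 4, 5, 1, 2])) (.node 3934 (.leaf 93 25 [5, 5, 5, 4, 6, 4, 5, 4, 6, 4, 5, 4, 6, 6, 6, 2, 1, 2, 2, 1, 2, 1, 3, 3, 1, 3, 1, 2, 1, 2, 1, 2, 1, 3, 3, 1, 2, 1, 2, 2]) (.node 3935 (.leaf 101 6 [1, 2, 2, 1, 2, 1, 2, 2, 1, 2, 2, 1, 2, 1, 2, 2, 1, 2, 1, 4, 6, 4, 5, 4, 6, 6, 4, 5, 1, 3, 1, 2, 1, 2]) (.leaf 109 10 [3, 1, 2, 2, 1, 2, 1, 3, 1, 2, 1, 2, 1, 2, 2, 6, 4, 5, 5, 5, 2, 2, 1, 2, 1, 2, 1, 3, 3, 1])))) (.node 3939 (.node 3937 (.leaf 111 27 [6, 4, 5, 5, 5, 5, 4, 6, 4, 5, 5, 5, 4, 6, 1, 2, 2, 1, 2, 1, 2, 1, 3, 1, 3, 1, 2, 1, 2, 1, 3, 1, 3, 3, 1, 3, 3, 1, 2, 1, 4]) (.node 3938 (.leaf 114 38 [5, 4, 6, 4, 1, 3, 3, 1, 3, 3, 1, 2, 1, 3, 1, 3, 1, 3, 1, 2, 1, 2, 1, 2, 1, 2, 1, 2, 2, 1, 4, 5, 4, 6, 6, 4, 5, 4, 6, 4, 5, 5]) (.leaf 122 3 [3, 3, 1, 2, 1, 2, 2, 1, 3, 3, 1, 3, 1, 2, 2, 1, 2, 2, 1, 3, 1, 2, 2, 4, 5, 5, 5, 4, 6, 4, 5, 5, 5, 4, 5, 1, 2, 1]))) (.node 3940 (.leaf 125 27 [6, 6, 4, 5, 4, 6, 6, 4, 5, 4, 6, 4, 5, 2, 1, 3, 3, 1, 2, 2, 1, 3, 1, 2, 1, 2, 2, 1, 2, 1, 2, 1, 3, 3, 1, 2, 1, 2, 1, 4]) (.node 3941 (.leaf 132 0 [1, 3, 1, 3, 1, 2, 1, 2, 1, 2, 2, 1, 2, 1, 3, 1, 2, 1, 2, 1, 2, 1, 2, 1, 3, 1, 6, 6, 4, 5, 4, 6, 4, 5, 4, 6, 4]) (.leaf 132 16 [2, 1, 2, 1, 2, 1, 2, 1, 3, 1, 6, 6, 4, 5, 4, 6, 4, 5, 4, 6, 4, 1, 3, 1, 3, 1, 2, 1, 2, 1, 2, 2, 1, 2, 1, 3, 1]))))) (.node 3947 (.node 3944 (.node 3943 (.leaf 134 14 [3, 1, 2, 1, 3, 3, 1, 2, 2, 1, 2, 2, 5, 4, 6, 4, 5, 4, 6, 4, 5, 4, 6, 4, 1, 2, 1, 2, 1, 3, 1, 3, 3, 1, 3, 1, 2, 1]) (.leaf 137 25 [3, 6, 6, 4, 5, 4, 6, 6, 4, 5, 4, 6, 4, 5, 5, 5, 4, 1, 3, 3, 1, 2, 2, 1, 3, 1, 3, 1, 3, 3, 1, 3, 3, 1, 2, 2, 1, 2, 2, 1, 3, 1])) (.node 3945 (.leaf 145 17 [3, 3, 1, 3, 1, 3, 1, 2, 1, 5, 4, 5, 5, 5, 4, 6, 4, 5, 4, 6, 2, 1, 3, 3, 1, 2, 2, 1, 3, 1, 3, 1, 2, 1, 3, 3, 1]) (.node 3946 (.leaf 146 11 [2, 1, 2, 1, 3, 3, 1, 3, 3, 1, 2, 2, 1, 3, 3, 5, 5, 5, 4, 6, 4, 5, 4, 6, 4, 5, 4, 6, 6, 6, 1, 3, 3, 1, 2, 2, 1, 3, 1, 3, 1]) (.leaf 146 15 [3, 3, 1, 3, 3, 1, 2, 2, 1, 3, 3, 5, 5, 5, 4, 6, 4, 5, 4, 6, 4, 5, 4, 6, 6, 6, 1, 3, 3, 1, 2, 2, 1, 3, 1, 3, 1, 2, 1, 2, 1])))) (.node 3950 (.node 3948 (.leaf 148 11 [2, 1, 2, 2, 1, 2, 1, 3, 1, 2, 1, 3, 1, 2, 2, 4, 5, 5, 5, 5, 4, 6, 6, 6, 4, 5, 4, 6, 6, 6, 4, 2, 1, 3, 3, 1, 2, 2, 1, 3, 3, 1]) (.node 3949 (.leaf 150 41 [5, 1, 2, 1, 3, 1, 2, 1, 2, 2, 1, 2, 2, 1, 2, 1, 2, 2, 1, 2, 1, 3, 3, 1, 2, 1, 3, 4, 6, 6, 4, 5, 4, 6, 6, 6, 4, 5, 4, 6, 6, 4]) (.leaf 151 11 [2, 1, 2, 2, 1, 2, 2, 1, 3, 1, 2, 2, 1, 2, 2, 5, 5, 4, 6, 6, 4, 5, 2, 1, 3, 3, 1, 3, 3, 1, 3, 1, 2]))) (.node 3951 (.leaf 154 26 [4, 5, 4, 5, 5, 5, 4, 6, 4, 5, 5, 5, 4, 6, 6, 6, 2, 1, 2, 2, 1, 3, 1, 2, 1, 2, 1, 2, 1, 2, 2, 1, 3, 1, 3, 1, 2, 1, 3, 1, 2, 2]) (.node 3952 (.leaf 157 12 [2, 1, 2, 1, 3, 1, 3, 1, 2, 1, 3, 3, 1, 2, 1, 4, 6, 6, 6, 4, 5, 4, 6, 6, 6, 4, 6, 1, 2, 2, 1, 3, 1, 2, 2, 1, 2, 1, 2]) (.leaf 157 20 [2, 1, 3, 3, 1, 2, 1, 4, 6, 6, 6, 4, 5, 4, 6, 6, 6, 4, 6, 1, 2, 2, 1, 3, 1, 2, 2, 1, 2, 1, 2, 2, 1, 2, 1, 3, 1, 3, 1])))))) (.node 3964 (.node 3958 (.node 3955 (.node 3954 (.leaf 158 3 [1, 2, 1, 2, 1, 2, 1, 3, 1, 3, 1, 2, 1, 3, 1, 3, 3, 1, 3, 1, 2, 1, 2, 1, 6, 4, 5, 5, 5, 4, 6, 4, 5, 4, 6, 6, 4, 5, 1, 2, 2]) (.leaf 165 5 [1, 3, 3, 1, 3, 1, 3, 3, 1, 2, 1, 2, 2, 1, 2, 1, 2, 2, 1, 2, 2, 1, 4, 5, 5, 4, 6, 4, 5, 5, 4, 6, 4, 5, 4, 6, 6, 2, 1, 3, 1, 3])) (.node 3956 (.leaf 165 28 [5, 5, 4, 6, 4, 5, 5, 4, 6, 4, 5, 4, 6, 6, 2, 1, 3, 1, 3, 1, 3, 3, 1, 3, 1, 3, 3, 1, 2, 1, 2, 2, 1, 2, 1, 2, 2, 1, 2, 2, 1, 4]) (.node 3957 (.leaf 176 11 [2, 1, 2, 1, 2, 2, 1, 2, 2, 1, 2, 2, 1, 2, 1, 3, 4, 5, 5, 4, 6, 4, 5, 4, 6, 4, 5, 4, 6, 4, 5, 4, 2, 1, 2, 2, 1, 3, 3, 1, 2, 2, 1]) (.leaf 183 20 [1, 3, 1, 3, 1, 3, 3, 4, 5, 5, 4, 6, 4, 5, 4, 6, 4, 5, 4, 6, 6, 4, 5, 4, 2, 2, 1, 2, 1, 2, 1, 3, 3, 1, 2, 1, 3, 1, 2, 1, 3, 1, 2, 2])))) (.node 3961 (.node 3959 (.leaf 184 7 [1, 2, 1, 2, 2, 1, 2, 2, 1, 3, 3, 1, 3, 1, 2, 2, 1, 3, 3, 1, 6, 6, 6, 4, 5, 5, 5, 4, 6, 4, 5, 5, 4, 6, 6, 6, 2, 1, 3, 1, 3, 1, 3]) (.node 3960 (.leaf 186 12 [2, 1, 2, 1, 2, 2, 1, 3, 1, 2, 1, 2, 2, 1, 3, 6, 4, 5, 5, 4, 6, 6, 4, 5, 5, 5, 4, 2, 1, 3, 1, 3, 3, 1, 2, 1, 3, 1, 2]) (.leaf 190 6 [2, 1, 2, 2, 1, 3, 1, 2, 2, 1, 2, 1, 2, 1, 3, 1, 3, 1, 2, 1, 3, 4, 5, 5, 4, 6, 4, 5, 5, 4, 6, 4, 5, 4, 6, 1, 3, 1, 2, 1, 2]))) (.node 3962 (.leaf 192 12 [3, 1, 3, 1, 3, 1, 2, 1, 3, 1, 2, 1, 3, 3, 1, 5, 5, 4, 6, 6, 4, 5, 4, 6, 4, 5, 5, 5, 4, 6, 2, 2, 1, 3, 3, 1, 3, 3, 1, 3, 1, 3]) (.node 3963 (.leaf 194 22 [3, 1, 3, 1, 3, 5, 4, 6, 4, 5, 4, 6, 6, 4, 5, 4, 6, 6, 6, 4, 5, 1, 3, 1, 2, 1, 2, 2, 1, 3, 1, 3, 1, 2, 1, 3, 3, 1, 2, 1, 2, 1, 3]) (.leaf 205 42 [4, 2, 1, 2, 1, 3, 3, 1, 2, 1, 3, 3, 1, 2, 2, 1, 2, 2, 1, 2, 2, 1, 3, 1, 2, 1, 2, 1, 4, 6, 4, 5, 4, 6, 4, 5, 4, 6, 4, 5, 5, 4, 6]))))) (.node 3969 (.node 3966 (.node 3965 (.leaf 210 22 [3, 3, 1, 2, 1, 6, 4, 5, 4, 6, 4, 5, 4, 6, 6, 4, 5, 4, 1, 2, 2, 1, 3, 1, 2, 2, 1, 3, 1, 2, 2, 1, 2, 1, 2, 1, 3, 1, 2, 1]) (.leaf 212 12 [3, 1, 3, 1, 2, 2, 1, 3, 1, 3, 1, 3, 1, 3, 1, 6, 4, 6, 6, 6, 4, 5, 4, 6, 6, 6, 4, 5, 2, 1, 3, 1, 2, 1, 3, 1, 2, 1, 3, 1])) (.node 3967 (.leaf 224 22 [3, 1, 3, 1, 3, 5, 5, 4, 6, 6, 4, 5, 4, 6, 6, 6, 2, 2, 1, 3, 3, 1, 3, 1, 3, 1, 2, 2, 1, 2, 2, 1, 3, 1, 3, 1, 2, 1]) (.node 3968 (.leaf 228 27 [6, 4, 6, 6, 6, 4, 5, 4, 6, 6, 4, 5, 4, 5, 1, 3, 3, 1, 3, 3, 1, 2, 1, 2, 1, 3, 1, 2, 1, 2, 1, 2, 1, 2, 1, 2, 2, 1, 2, 1, 3]) (.leaf 235 5 [3, 1, 2, 1, 2, 1, 2, 1, 2, 1, 3, 1, 2, 2, 1, 3, 1, 3, 1, 2, 1, 3, 4, 6, 6, 6, 4, 5, 5, 5, 4, 5, 2, 2, 1, 3, 1])))) (.node 3972 (.node 3970 (.leaf 236 9 [1, 3, 3, 1, 2, 1, 2, 1, 3, 3, 1, 3, 1, 2, 1, 3, 3, 1, 4, 6, 6, 4, 5, 4, 6, 6, 6, 4, 5, 5, 1, 3, 1, 3, 3, 1, 2, 1, 3]) (.node 3971 (.leaf 239 14 [3, 1, 3, 1, 3, 1, 3, 3, 1, 3, 1, 2, 1, 5, 4, 6, 4, 5, 4, 6, 4, 5, 4, 6, 4, 5, 4, 6, 1, 3, 1, 2, 1, 2, 2, 1, 2, 1, 2, 1, 2, 1]) (.leaf 240 27 [6, 6, 4, 5, 5, 4, 6, 4, 5, 4, 6, 6, 4, 5, 5, 5, 2, 2, 1, 2, 1, 2, 2, 1, 3, 1, 3, 3, 1, 2, 1, 3, 1, 3, 1, 3, 1, 2, 2, 1, 3, 1, 3]))) (.node 3973 (.leaf 249 10 [2, 1, 2, 1, 2, 2, 1, 3, 3, 1, 3, 3, 1, 2, 1, 2, 1, 6, 4, 5, 4, 6, 6, 4, 5, 4, 6, 6, 4, 1, 2, 2, 1, 2, 2, 1, 2, 2, 1]) (.node 3974 (.leaf 249 12 [2, 1, 2, 2, 1, 3, 3, 1, 3, 3, 1, 2, 1, 2, 1, 6, 4, 5, 4, 6, 6, 4, 5, 4, 6, 6, 4, 1, 2, 2, 1, 2, 2, 1, 2, 2, 1, 2, 1]) (.leaf 259 16 [1, 3, 3, 1, 3, 1, 3, 1, 3, 1, 2, 1, 6, 4, 5, 4, 6, 6, 6, 4, 6, 1, 2, 1, 2, 1, 2, 2, 1, 3, 1, 3, 1, 2, 2, 1, 2]))))))) (.node 3997 (.node 3986 (.node 3980 (.node 3977 (.node 3976 (.leaf 266 23 [1, 3, 1, 3, 3, 6, 6, 4, 5, 5, 5, 4, 6, 6, 2, 1, 2, 1, 2, 1, 3, 1, 2, 1, 2, 1, 2, 2, 1, 3, 1, 3, 3, 1, 2, 1, 2]) (.leaf 273 10 [3, 1, 2, 1, 2, 2, 1, 2, 1, 2, 1, 2, 2, 1, 2, 1, 2, 2, 5, 5, 5, 5, 4, 6, 4, 5, 5, 5, 4, 6, 6, 1, 3, 3, 1, 2, 1, 3, 1, 2, 1])) (.node 3978 (.leaf 274 5 [2, 1, 2, 1, 3, 1, 2, 1, 2, 1, 2, 1, 3, 1, 3, 1, 2, 1, 2, 2, 1, 2, 1, 4, 5, 5, 4, 6, 6, 4, 5, 4, 6, 6, 6, 4, 5, 5, 5, 4, 1, 2, 1, 2, 1]) (.node 3979 (.leaf 276 19 [2, 1, 3, 1, 3, 3, 1, 3, 1, 6, 6, 6, 4, 5, 5, 5, 4, 6, 6, 6, 4, 5, 5, 5, 1, 2, 1, 2, 2, 1, 3, 3, 1, 2, 2, 1, 2, 2, 1, 2, 2, 1, 2]) (.leaf 285 11 [2, 1, 2, 2, 1, 3, 3, 1, 2, 2, 1, 3, 1, 2, 1, 3, 1, 4, 5, 5, 5, 4, 6, 4, 5, 5, 4, 6, 6, 4, 5, 4, 6, 6, 1, 3, 1, 3, 3, 1, 3, 1, 2, 1, 2])))) (.node 3983 (.node 3981 (.leaf 293 8 [3, 1, 2, 2, 1, 3, 1, 3, 3, 1, 3, 1, 3, 1, 2, 1, 3, 1, 3, 3, 6, 6, 4, 5, 4, 6, 6, 6, 4, 5, 4, 6, 6, 4, 5, 1, 3, 3, 1, 3, 1, 2, 1]) (.node 3982 (.leaf 294 24 [2, 1, 2, 2, 6, 6, 6, 4, 5, 4, 6, 6, 4, 5, 2, 2, 1, 3, 3, 1, 2, 1, 3, 3, 1, 3, 1, 3, 1, 3, 1, 3, 1, 3, 3, 1, 3, 1]) (.leaf 297 18 [3, 1, 2, 1, 2, 1, 3, 3, 1, 3, 4, 6, 6, 4, 5, 4, 6, 6, 6, 4, 5, 4, 6, 6, 4, 5, 5, 1, 3, 3, 1, 2, 2, 1, 3, 1, 2, 1, 2, 1, 3, 1, 2, 1, 3]))) (.node 3984 (.leaf 308 30 [4, 5, 5, 4, 6, 6, 6, 4, 6, 1, 2, 2, 1, 2, 2, 1, 3, 1, 3, 1, 2, 1, 3, 1, 2, 1, 3, 1, 3, 1, 2, 1, 2, 1, 3, 3, 1, 4, 6]) (.node 3985 (.leaf 310 1 [1, 3, 1, 3, 1, 2, 1, 2, 1, 3, 1, 3, 1, 2, 1, 2, 1, 2, 1, 3, 3, 1, 3, 1, 2, 2, 1, 5, 4, 5, 5, 5, 4, 6, 4, 5, 4, 6, 6, 4, 5, 2]) (.leaf 314 29 [5, 5, 5, 4, 6, 6, 6, 4, 5, 4, 6, 6, 6, 4, 5, 1, 3, 3, 1, 2, 1, 3, 1, 2, 1, 2, 1, 3, 1, 3, 1, 2, 2, 1, 2, 2, 1, 3, 1, 2, 1, 2, 1, 4]))))) (.node 3991 (.node 3988 (.node 3987 (.leaf 326 2 [2, 1, 2, 1, 2, 1, 3, 1, 2, 1, 2, 2, 1, 2, 1, 3, 3, 1, 3, 1, 2, 1, 3, 1, 3, 1, 5, 5, 4, 6, 6, 6, 4, 5, 4, 6, 6, 6, 4, 5, 5, 5, 2, 1]) (.leaf 332 13 [2, 2, 1, 3, 1, 3, 1, 2, 1, 3, 1, 2, 1, 2, 2, 4, 6, 4, 5, 4, 6, 4, 5, 4, 6, 6, 6, 4, 5, 4, 2, 2, 1, 3, 1, 2, 1, 3, 1, 3, 1, 3, 1])) (.node 3989 (.leaf 335 7 [1, 2, 1, 3, 3, 1, 2, 1, 3, 1, 2, 2, 1, 3, 1, 2, 1, 3, 1, 2, 2, 6, 6, 6, 4, 5, 5, 5, 4, 6, 6, 6, 4, 3, 3, 1, 2, 1, 3, 3]) (.node 3990 (.leaf 341 22 [1, 3, 3, 1, 3, 1, 4, 5, 4, 6, 4, 5, 4, 6, 4, 5, 4, 6, 4, 5, 5, 3, 3, 1, 2, 2, 1, 2, 1, 2, 2, 1, 2, 2, 1, 3, 1, 3, 3, 1, 3, 1, 2]) (.leaf 342 11 [1, 2, 2, 1, 3, 1, 2, 2, 1, 2, 1, 3, 1, 3, 1, 2, 2, 4, 6, 4, 5, 4, 6, 4, 5, 4, 6, 6, 6, 4, 6, 2, 1, 3, 3, 1, 3, 3, 1, 2, 1, 2])))) (.node 3994 (.node 3992 (.leaf 345 19 [1, 2, 1, 3, 3, 1, 3, 1, 3, 6, 4, 5, 5, 5, 5, 4, 6, 6, 6, 4, 6, 2, 1, 2, 1, 2, 1, 3, 1, 3, 1, 3, 1, 3, 1, 2, 1, 2, 1, 2]) (.node 3993 (.leaf 354 4 [1, 3, 3, 1, 2, 2, 1, 2, 1, 2, 1, 3, 1, 3, 1, 3, 3, 1, 2, 2, 1, 3, 3, 1, 6, 6, 6, 1, 2, 1, 2]) (.leaf 357 19 [1, 2, 1, 2, 2, 1, 2, 1, 3, 6, 6, 6, 4, 5, 4, 6, 6, 6, 4, 5, 4, 6, 6, 4, 5, 2, 1, 2, 2, 1, 2, 1, 3, 1, 2, 2, 1, 2, 2, 1, 2, 2, 1, 3]))) (.node 3995 (.leaf 366 0 [2, 1, 2, 1, 3, 1, 2, 2, 1, 3, 3, 1, 2, 2, 1, 3, 3, 1, 2, 2, 1, 3, 1, 3, 1, 3, 3, 1, 4, 6, 4, 5, 4, 6, 6, 4, 5, 4, 6, 6, 4]) (.node 3996 (.leaf 366 19 [2, 1, 3, 1, 3, 1, 3, 3, 1, 4, 6, 4, 5, 4, 6, 6, 4, 5, 4, 6, 6, 4, 2, 1, 2, 1, 3, 1, 2, 2, 1, 3, 3, 1, 2, 2, 1, 3, 3, 1, 2]) (.leaf 377 41 [6, 1, 2, 2, 1, 3, 1, 2, 1, 3, 3, 1, 3, 3, 1, 2, 1, 2, 2, 1, 2, 1, 3, 1, 2, 1, 2, 2, 1, 5, 4, 6, 6, 4, 5, 4, 6, 4, 5, 5, 4, 6])))))) (.node 4008 (.node 4002 (.node 3999 (.node 3998 (.leaf 386 15 [1, 2, 1, 3, 1, 3, 3, 1, 2, 2, 1, 2, 2, 4, 5, 4, 6, 4, 5, 4, 6, 4, 5, 4, 6, 4, 5, 5, 4, 2, 2, 1, 2, 2, 1, 2, 2, 1, 3, 3, 1, 2, 1, 2]) (.leaf 387 8 [2, 1, 2, 1, 2, 2, 1, 3, 1, 3, 1, 2, 2, 1, 3, 3, 1, 2, 2, 1, 4, 6, 4, 6, 6, 6, 6, 4, 5, 4, 2, 1, 2, 1, 3, 3, 1, 2])) (.node 4000 (.leaf 388 7 [3, 1, 2, 1, 2, 1, 2, 1, 3, 1, 3, 1, 3, 1, 3, 1, 3, 1, 3, 3, 1, 5, 4, 6, 4, 5, 4, 6, 4, 5, 5, 4, 6, 4, 1, 3, 3, 1, 3, 1, 3]) (.node 4001 (.leaf 21 12 [2, 2, 1, 2, 1, 3, 3, 1, 2, 2, 4, 5, 4, 6, 6, 4, 5, 4, 6, 6, 6, 4, 6, 2, 1, 2, 1, 2, 1, 3, 3, 1, 2, 2, 1]) (.leaf 22 14 [2, 2, 1, 2, 2, 1, 3, 1, 5, 5, 4, 6, 4, 5, 4, 3, 3, 1, 2, 1, 2, 1, 2, 1, 2, 2, 1, 3, 1])))) (.node 4005 (.node 4003 (.leaf 36 34 [6, 3, 3, 1, 3, 1, 2, 1, 3, 1, 3, 1, 2, 2, 1, 3, 1, 2, 1, 3, 3, 1, 3, 3, 4, 5, 5, 5, 4, 6, 6, 6, 4, 5, 4]) (.node 4004 (.leaf 51 15 [3, 1, 3, 1, 3, 3, 1, 2, 2, 5, 4, 6, 6, 6, 6, 4, 6, 1, 2, 1, 3, 1, 3, 3, 1, 2, 2, 1, 3, 1, 2, 1]) (.leaf 59 15 [3, 1, 2, 2, 1, 2, 1, 3, 3, 5, 5, 4, 6, 6, 6, 4, 2, 1, 2, 1, 3, 1, 3, 3, 1, 3, 3, 1, 2, 1, 3]))) (.node 4006 (.leaf 72 24 [1, 6, 6, 6, 4, 5, 4, 6, 6, 4, 5, 2, 2, 1, 2, 1, 3, 1, 2, 1, 2, 2, 1, 2, 1, 2, 1, 2, 1, 2, 1, 2, 2, 1, 3]) (.node 4007 (.leaf 95 9 [2, 1, 2, 1, 3, 1, 3, 3, 1, 3, 1, 3, 1, 3, 3, 1, 6, 6, 4, 5, 4, 6, 4, 5, 5, 1, 2, 2, 1, 2, 1, 2, 1, 2]) (.leaf 98 37 [6, 4, 3, 3, 1, 3, 3, 1, 3, 3, 1, 3, 1, 2, 2, 1, 3, 1, 3, 3, 1, 2, 1, 2, 1, 3, 1, 6, 6, 4, 5, 4, 6, 6, 6, 4, 5, 4, 6]))))) (.node 4013 (.node 4010 (.node 4009 (.leaf 100 8 [1, 3, 3, 1, 2, 2, 1, 2, 2, 1, 2, 1, 3, 3, 1, 2, 1, 5, 4, 5, 5, 5, 4, 6, 6, 4, 5, 5, 2, 1, 2, 1, 2, 1, 3, 3]) (.leaf 131 16 [1, 3, 3, 1, 3, 1, 3, 1, 2, 2, 5, 4, 6, 6, 4, 5, 4, 6, 6, 6, 4, 5, 4, 2, 1, 3, 1, 2, 1, 3, 1, 3, 1, 2, 1, 2, 1, 2, 2])) (.node 4011 (.leaf 172 26 [3, 4, 6, 6, 4, 5, 4, 6, 4, 1, 3, 3, 1, 3, 1, 2, 1, 2, 2, 1, 2, 1, 2, 2, 1, 2, 1, 2, 1, 2, 2, 1, 3, 3, 1]) (.node 4012 (.leaf 182 6 [1, 2, 2, 1, 2, 1, 3, 1, 2, 1, 3, 1, 3, 3, 1, 3, 3, 1, 2, 1, 3, 4, 5, 4, 5, 5, 5, 4, 6, 4, 6, 2, 1, 3, 1, 2, 2]) (.leaf 196 22 [2, 1, 2, 1, 3, 5, 4, 5, 5, 5, 4, 6, 4, 5, 5, 4, 6, 3, 3, 1, 2, 1, 3, 1, 2, 1, 3, 3, 1, 2, 2, 1, 3, 1, 2, 1, 2, 2, 1])))) (.node 4016 (.node 4014 (.leaf 201 11 [1, 2, 2, 1, 3, 1, 3, 1, 3, 1, 3, 1, 2, 2, 1, 3, 4, 5, 5, 5, 4, 6, 4, 5, 5, 4, 6, 4, 5, 5, 2, 2, 1, 3, 1, 3, 3, 1, 3, 1, 3]) (.node 4015 (.leaf 211 40 [4, 5, 1, 3, 1, 2, 1, 3, 3, 1, 3, 1, 2, 1, 2, 2, 1, 2, 2, 1, 2, 2, 1, 2, 1, 2, 1, 3, 1, 5, 5, 4, 6, 4, 5, 5, 4, 6, 4, 5, 4, 6]) (.leaf 221 15 [3, 1, 2, 2, 1, 3, 1, 2, 2, 1, 3, 1, 4, 6, 4, 5, 5, 5, 4, 6, 6, 6, 4, 5, 5, 2, 1, 2, 1, 2, 1, 3, 3, 1, 2, 1, 3, 1, 2, 1]))) (.node 4017 (.leaf 224 16 [3, 1, 3, 1, 2, 1, 3, 1, 3, 1, 3, 5, 5, 4, 6, 6, 4, 5, 4, 6, 6, 6, 2, 2, 1, 3, 3, 1, 3, 1, 3, 1, 2, 2, 1, 2, 2, 1]) (.node 4018 (.leaf 230 15 [2, 1, 2, 1, 3, 1, 2, 1, 2, 2, 1, 3, 4, 5, 4, 6, 6, 4, 5, 5, 5, 4, 1, 2, 1, 3, 1, 3, 1, 3, 1, 2, 2, 1, 2, 1, 2]) (.leaf 231 0 [3, 3, 1, 3, 1, 2, 2, 1, 2, 1, 2, 1, 3, 1, 2, 1, 2, 1, 2, 2, 1, 3, 3, 1, 3, 1, 3, 4, 5, 5, 5, 4, 6, 4, 5, 4, 6, 6, 4, 5, 5]))))))))) (.node 4106 (.node 4062 (.node 4040 (.node 4029 (.node 4024 (.node 4021 (.node 4020 (.leaf 235 15 [3, 1, 2, 2, 1, 3, 1, 3, 1, 2, 1, 3, 4, 6, 6, 6, 4, 5, 5, 5, 4, 5, 2, 2, 1, 3, 1, 3, 1, 2, 1, 2, 1, 2, 1, 2, 1]) (.leaf 240 29 [4, 5, 5, 4, 6, 4, 5, 4, 6, 6, 4, 5, 5, 5, 2, 2, 1, 2, 1, 2, 2, 1, 3, 1, 3, 3, 1, 2, 1, 3, 1, 3, 1, 3, 1, 2, 2, 1, 3, 1, 3, 6, 6])) (.node 4022 (.leaf 244 19 [1, 3, 1, 2, 1, 2, 1, 3, 5, 4, 6, 4, 5, 5, 4, 6, 4, 5, 5, 4, 6, 4, 1, 2, 2, 1, 2, 1, 2, 1, 2, 1, 3, 1, 2, 2, 1, 3, 3, 1, 3]) (.node 4023 (.leaf 245 11 [2, 2, 1, 3, 1, 3, 1, 2, 1, 2, 2, 1, 2, 1, 3, 3, 5, 5, 4, 6, 6, 4, 5, 4, 6, 4, 5, 4, 6, 4, 2, 2, 1, 3, 3, 1, 2, 2, 1, 3, 1]) (.leaf 255 40 [4, 1, 2, 2, 1, 3, 3, 1, 2, 1, 2, 2, 1, 2, 1, 2, 1, 3, 3, 1, 3, 1, 2, 2, 1, 2, 1, 3, 5, 4, 6, 6, 4, 5, 4, 6, 4, 5, 4, 6, 6])))) (.node 4026 (.node 4025 (.leaf 265 40 [6, 3, 3, 1, 2, 2, 1, 2, 1, 3, 1, 2, 1, 2, 2, 1, 2, 1, 3, 3, 1, 2, 1, 3, 3, 1, 2, 1, 3, 5, 4, 6, 4, 5, 4, 6, 4, 5, 5, 4, 6]) (.leaf 272 2 [1, 3, 3, 1, 3, 3, 1, 3, 3, 1, 2, 1, 2, 1, 3, 3, 1, 2, 1, 2, 2, 1, 2, 1, 3, 3, 5, 5, 4, 6, 6, 4, 5, 4, 6, 6, 6, 4, 5, 5, 5, 3, 3])) (.node 4027 (.leaf 282 8 [2, 1, 3, 3, 1, 3, 1, 3, 3, 1, 2, 1, 3, 3, 1, 2, 1, 3, 1, 3, 6, 6, 6, 4, 5, 5, 5, 4, 6, 1, 2, 1, 2, 1, 3, 3, 1]) (.node 4028 (.leaf 287 43 [5, 2, 1, 3, 1, 3, 1, 3, 1, 3, 3, 1, 2, 1, 2, 1, 2, 1, 3, 1, 3, 3, 1, 2, 1, 3, 1, 2, 2, 4, 6, 4, 5, 5, 4, 6, 6, 4, 5, 4, 6, 6, 6, 4]) (.leaf 290 37 [4, 1, 2, 1, 2, 2, 1, 3, 1, 3, 3, 1, 3, 1, 2, 2, 1, 2, 2, 1, 3, 3, 1, 3, 1, 3, 1, 3, 3, 5, 4, 6, 6, 6, 4, 5, 5, 5]))))) (.node 4034 (.node 4031 (.node 4030 (.leaf 295 19 [1, 3, 1, 2, 1, 3, 1, 2, 2, 6, 4, 5, 4, 6, 6, 4, 5, 4, 5, 1, 2, 2, 1, 2, 1, 3, 1, 3, 3, 1, 3, 1, 2, 1, 3, 3, 1, 2]) (.leaf 305 7 [2, 1, 3, 1, 3, 3, 1, 2, 1, 2, 1, 2, 1, 2, 1, 2, 2, 1, 3, 3, 1, 4, 6, 4, 5, 5, 4, 6, 4, 5, 5, 4, 6, 1, 3, 1, 3, 3, 1, 2])) (.node 4032 (.leaf 307 6 [3, 1, 3, 1, 2, 2, 1, 2, 1, 3, 3, 1, 3, 3, 1, 2, 1, 3, 3, 1, 3, 1, 6, 6, 4, 5, 5, 5, 4, 6, 6, 6, 4, 5, 5, 5, 4, 1, 2, 1, 3, 1, 3]) (.node 4033 (.leaf 310 39 [6, 4, 5, 2, 1, 3, 1, 3, 1, 2, 1, 2, 1, 3, 1, 3, 1, 2, 1, 2, 1, 2, 1, 3, 3, 1, 3, 1, 2, 2, 1, 5, 4, 5, 5, 5, 4, 6, 4, 5, 4, 6]) (.leaf 311 25 [1, 2, 2, 5, 4, 5, 5, 5, 4, 6, 4, 5, 5, 4, 2, 1, 3, 1, 2, 1, 3, 1, 2, 1, 3, 3, 1, 2, 2, 1, 2, 1, 2, 2, 1, 3, 3, 1, 2])))) (.node 4037 (.node 4035 (.leaf 348 41 [6, 1, 3, 1, 3, 1, 3, 1, 2, 2, 1, 3, 3, 1, 2, 1, 3, 1, 2, 1, 3, 1, 3, 3, 1, 2, 1, 3, 1, 6, 6, 4, 5, 4, 6, 6, 6, 4, 5, 4, 6, 6]) (.node 4036 (.leaf 359 26 [1, 3, 6, 6, 6, 4, 5, 4, 6, 6, 4, 5, 4, 6, 4, 5, 3, 3, 1, 3, 1, 2, 1, 3, 1, 2, 1, 2, 1, 2, 1, 2, 1, 3, 1, 3, 3, 1, 2, 2, 1, 2]) (.leaf 362 5 [2, 2, 1, 2, 1, 2, 1, 3, 1, 2, 2, 1, 3, 1, 2, 1, 2, 2, 1, 3, 3, 1, 3, 5, 5, 5, 4, 6, 6, 4, 5, 4, 6, 4, 5, 5, 1, 3, 1, 2, 1]))) (.node 4038 (.leaf 377 24 [1, 2, 2, 1, 5, 4, 6, 6, 4, 5, 4, 6, 4, 5, 5, 4, 6, 6, 1, 2, 2, 1, 3, 1, 2, 1, 3, 3, 1, 3, 3, 1, 2, 1, 2, 2, 1, 2, 1, 3, 1, 2]) (.node 4039 (.leaf 20 15 [2, 2, 1, 3, 3, 1, 3, 4, 5, 4, 6, 6, 4, 5, 4, 6, 6, 6, 4, 2, 2, 1, 3, 1, 3, 1, 3, 3, 1, 2, 2, 1, 3, 1]) (.leaf 35 20 [2, 1, 3, 5, 4, 6, 4, 5, 5, 4, 6, 6, 4, 5, 2, 2, 1, 3, 3, 1, 3, 1, 2, 2, 1, 2, 1, 2, 1, 2, 1, 2, 1, 2])))))) (.node 4051 (.node 4045 (.node 4042 (.node 4041 (.leaf 36 0 [3, 3, 1, 3, 1, 2, 1, 3, 1, 3, 1, 2, 2, 1, 3, 1, 2, 1, 3, 3, 1, 3, 3, 4, 5, 5, 5, 4, 6, 6, 6, 4, 5, 4, 6]) (.leaf 43 18 [2, 1, 3, 1, 3, 4, 5, 5, 4, 6, 6, 4, 5, 4, 6, 6, 6, 4, 5, 5, 5, 4, 2, 2, 1, 2, 1, 3, 1, 2, 2, 1, 3, 1, 3, 3, 1, 2, 2, 1])) (.node 4043 (.leaf 54 8 [1, 2, 1, 2, 2, 1, 2, 1, 3, 1, 2, 1, 2, 1, 3, 3, 5, 5, 4, 6, 4, 5, 4, 6, 4, 5, 5, 4, 6, 4, 1, 2, 2, 1, 3, 3, 1, 2]) (.node 4044 (.leaf 55 8 [1, 3, 1, 3, 1, 2, 1, 2, 1, 3, 1, 3, 3, 1, 2, 2, 4, 6, 6, 4, 5, 4, 6, 6, 4, 5, 4, 6, 6, 2, 1, 2, 1, 3, 3, 1, 2]) (.leaf 80 20 [3, 1, 2, 2, 1, 5, 4, 6, 4, 5, 5, 4, 6, 3, 3, 1, 2, 1, 3, 1, 3, 1, 2, 1, 2, 2, 1, 2, 1, 3, 1, 2, 1])))) (.node 4048 (.node 4046 (.leaf 86 5 [3, 3, 1, 2, 2, 1, 2, 1, 3, 3, 1, 2, 2, 1, 2, 1, 2, 1, 2, 2, 4, 5, 5, 4, 6, 4, 5, 5, 5, 4, 6, 6, 1, 3, 1, 3, 1]) (.node 4047 (.leaf 107 17 [3, 3, 1, 3, 3, 1, 3, 3, 5, 5, 5, 4, 6, 4, 5, 5, 4, 6, 2, 1, 2, 1, 3, 3, 1, 3, 3, 1, 2, 1, 2, 2, 1, 3, 1]) (.leaf 107 10 [2, 1, 2, 2, 1, 3, 1, 3, 3, 1, 3, 3, 1, 3, 3, 5, 5, 5, 4, 6, 4, 5, 5, 4, 6, 2, 1, 2, 1, 3, 3, 1, 3, 3, 1]))) (.node 4049 (.leaf 118 12 [2, 1, 2, 1, 3, 1, 3, 3, 1, 3, 1, 2, 1, 3, 4, 5, 4, 6, 4, 5, 5, 4, 6, 4, 5, 5, 4, 6, 1, 3, 3, 1, 2, 1, 2, 2, 1, 2, 2, 1]) (.node 4050 (.leaf 133 11 [2, 1, 2, 1, 2, 2, 1, 2, 1, 2, 2, 1, 2, 1, 3, 4, 5, 5, 4, 6, 4, 5, 5, 4, 6, 4, 5, 5, 2, 1, 2, 1, 2, 2, 1, 2, 1, 3, 1]) (.leaf 134 24 [2, 2, 5, 4, 6, 4, 5, 4, 6, 4, 5, 4, 6, 4, 1, 2, 1, 2, 1, 3, 1, 3, 3, 1, 3, 1, 2, 1, 3, 1, 2, 1, 3, 3, 1, 2, 2, 1]))))) (.node 4056 (.node 4053 (.node 4052 (.leaf 136 42 [6, 2, 1, 2, 1, 3, 1, 2, 1, 3, 3, 1, 2, 1, 2, 1, 2, 2, 1, 2, 2, 1, 3, 3, 1, 3, 3, 4, 5, 4, 6, 6, 4, 5, 5, 4, 6, 4, 5, 5, 5, 4, 6]) (.leaf 147 22 [2, 1, 3, 3, 5, 5, 4, 6, 4, 5, 5, 4, 6, 6, 4, 5, 2, 2, 1, 3, 1, 3, 3, 1, 3, 3, 1, 2, 2, 1, 3, 1, 3, 1, 2, 1, 2, 1])) (.node 4054 (.leaf 148 41 [4, 2, 1, 3, 3, 1, 2, 2, 1, 3, 3, 1, 2, 1, 2, 2, 1, 2, 1, 3, 1, 2, 1, 3, 1, 2, 2, 4, 5, 5, 5, 5, 4, 6, 6, 6, 4, 5, 4, 6, 6, 6]) (.node 4055 (.leaf 148 30 [5, 4, 6, 6, 6, 4, 5, 4, 6, 6, 6, 4, 2, 1, 3, 3, 1, 2, 2, 1, 3, 3, 1, 2, 1, 2, 2, 1, 2, 1, 3, 1, 2, 1, 3, 1, 2, 2, 4, 5, 5, 5]) (.leaf 156 18 [3, 1, 2, 1, 3, 3, 1, 3, 3, 5, 5, 4, 6, 6, 6, 4, 5, 4, 6, 6, 4, 5, 5, 4, 6, 4, 1, 2, 1, 2, 1, 3, 3, 1, 3, 3, 1, 2, 1, 2, 2, 1, 3, 1])))) (.node 4059 (.node 4057 (.leaf 162 5 [2, 1, 3, 1, 3, 1, 3, 1, 2, 2, 1, 2, 2, 1, 2, 1, 2, 1, 3, 1, 2, 2, 5, 4, 5, 5, 5, 4, 6, 4, 5, 5, 4, 6, 4, 5, 1, 2, 2, 1, 2]) (.node 4058 (.leaf 171 27 [4, 5, 5, 5, 4, 6, 4, 5, 4, 6, 4, 5, 4, 6, 6, 1, 3, 1, 3, 3, 1, 3, 3, 1, 2, 1, 3, 3, 1, 2, 2, 1, 3, 1, 2, 2, 1, 2, 2, 1, 2, 1]) (.leaf 172 14 [2, 1, 2, 1, 2, 1, 2, 2, 1, 3, 3, 1, 3, 4, 6, 6, 4, 5, 4, 6, 4, 1, 3, 3, 1, 3, 1, 2, 1, 2, 2, 1, 2, 1, 2]))) (.node 4060 (.leaf 177 22 [1, 2, 1, 3, 1, 5, 5, 4, 6, 6, 6, 4, 5, 4, 6, 6, 4, 5, 5, 4, 6, 4, 1, 3, 3, 1, 3, 1, 3, 1, 2, 1, 2, 1, 2, 1, 3, 1, 3, 1, 2, 2, 1, 2]) (.node 4061 (.leaf 185 23 [3, 1, 3, 1, 5, 5, 4, 6, 4, 5, 5, 4, 6, 4, 5, 5, 5, 4, 1, 3, 3, 1, 3, 3, 1, 2, 1, 2, 2, 1, 2, 2, 1, 2, 1, 3, 1, 3, 1, 2, 1]) (.leaf 191 16 [3, 1, 3, 1, 3, 1, 3, 1, 3, 1, 3, 6, 4, 5, 5, 5, 4, 6, 4, 5, 5, 5, 4, 6, 6, 6, 2, 2, 1, 3, 3, 1, 3, 3, 1, 3, 1, 2, 1, 2, 1, 3]))))))) (.node 4084 (.node 4073 (.node 4067 (.node 4064 (.node 4063 (.leaf 231 17 [1, 2, 2, 1, 3, 3, 1, 3, 1, 3, 4, 5, 5, 5, 4, 6, 4, 5, 4, 6, 6, 4, 5, 5, 3, 3, 1, 3, 1, 2, 2, 1, 2, 1, 2, 1, 3, 1, 2, 1, 2]) (.leaf 243 17 [1, 2, 1, 3, 3, 1, 2, 1, 2, 1, 4, 6, 4, 5, 5, 5, 4, 6, 4, 5, 5, 4, 6, 2, 2, 1, 2, 1, 3, 1, 3, 3, 1, 2, 2, 1, 2, 1, 2, 2])) (.node 4065 (.leaf 247 27 [6, 4, 5, 4, 6, 6, 6, 4, 5, 4, 6, 6, 4, 5, 4, 1, 2, 2, 1, 2, 2, 1, 3, 1, 2, 2, 1, 2, 2, 1, 2, 2, 1, 2, 1, 2, 1, 3, 1, 3, 3, 1]) (.node 4066 (.leaf 251 16 [2, 1, 3, 3, 1, 2, 1, 2, 1, 3, 1, 5, 5, 4, 6, 4, 5, 5, 5, 4, 6, 4, 5, 5, 4, 6, 6, 2, 1, 2, 1, 2, 1, 3, 1, 2, 1, 3, 3, 1, 2, 2, 1]) (.leaf 263 12 [2, 2, 1, 2, 1, 3, 1, 2, 1, 2, 1, 2, 2, 1, 2, 1, 4, 5, 5, 5, 4, 6, 6, 4, 5, 5, 4, 6, 3, 3, 1, 3, 3, 1, 3, 1, 3, 1, 3, 1])))) (.node 4070 (.node 4068 (.leaf 264 7 [2, 1, 3, 1, 2, 1, 2, 1, 2, 1, 3, 1, 2, 2, 1, 3, 1, 2, 1, 2, 2, 4, 6, 4, 5, 5, 5, 4, 6, 4, 5, 5, 4, 6, 2, 1, 3, 1, 3, 1, 2]) (.node 4069 (.leaf 278 0 [2, 1, 3, 1, 2, 1, 3, 3, 1, 3, 1, 3, 1, 2, 1, 2, 1, 2, 1, 2, 1, 2, 2, 1, 2, 1, 3, 1, 4, 5, 4, 6, 6, 6, 4, 5, 4, 6, 6, 4, 5, 4, 6, 4, 5]) (.leaf 279 32 [6, 6, 4, 5, 4, 6, 6, 6, 4, 5, 4, 6, 1, 3, 1, 3, 1, 2, 2, 1, 2, 2, 1, 3, 1, 2, 1, 2, 2, 1, 2, 1, 2, 1, 3, 1, 2, 1, 3, 1, 5, 5, 4, 6]))) (.node 4071 (.leaf 282 24 [1, 3, 1, 3, 6, 6, 6, 4, 5, 5, 5, 4, 6, 1, 2, 1, 2, 1, 3, 3, 1, 2, 1, 3, 3, 1, 3, 1, 3, 3, 1, 2, 1, 3, 3, 1, 2]) (.node 4072 (.leaf 289 12 [2, 2, 1, 3, 1, 2, 1, 2, 2, 1, 3, 3, 1, 3, 1, 3, 6, 4, 6, 6, 6, 6, 4, 5, 4, 1, 3, 1, 3, 1, 3, 3, 1, 3, 1, 2, 1]) (.leaf 293 27 [3, 6, 6, 4, 5, 4, 6, 6, 6, 4, 5, 4, 6, 6, 4, 5, 1, 3, 3, 1, 3, 1, 2, 1, 3, 1, 2, 2, 1, 3, 1, 3, 3, 1, 3, 1, 3, 1, 2, 1, 3, 1, 3]))))) (.node 4078 (.node 4075 (.node 4074 (.leaf 294 18 [1, 3, 3, 1, 3, 1, 2, 1, 2, 2, 6, 6, 6, 4, 5, 4, 6, 6, 4, 5, 2, 2, 1, 3, 3, 1, 2, 1, 3, 3, 1, 3, 1, 3, 1, 3, 1, 3]) (.leaf 307 24 [3, 1, 3, 1, 6, 6, 4, 5, 5, 5, 4, 6, 6, 6, 4, 5, 5, 5, 4, 1, 2, 1, 3, 1, 3, 3, 1, 3, 1, 2, 2, 1, 2, 1, 3, 3, 1, 3, 3, 1, 2, 1, 3])) (.node 4076 (.leaf 308 4 [2, 2, 1, 3, 1, 3, 1, 2, 1, 3, 1, 2, 1, 3, 1, 3, 1, 2, 1, 2, 1, 3, 3, 1, 4, 6, 4, 5, 5, 4, 6, 6, 6, 4, 6, 1, 2, 2, 1]) (.node 4077 (.leaf 309 22 [2, 1, 3, 3, 1, 3, 6, 4, 5, 4, 6, 4, 5, 4, 6, 6, 6, 4, 6, 3, 3, 1, 2, 2, 1, 3, 1, 2, 1, 2, 2, 1, 2, 1, 2, 2, 1, 3, 3, 1, 2]) (.leaf 311 21 [3, 3, 1, 2, 1, 2, 2, 5, 4, 5, 5, 5, 4, 6, 4, 5, 5, 4, 2, 1, 3, 1, 2, 1, 3, 1, 2, 1, 3, 3, 1, 2, 2, 1, 2, 1, 2, 2, 1])))) (.node 4081 (.node 4079 (.leaf 317 16 [3, 3, 1, 2, 1, 2, 2, 1, 3, 3, 1, 3, 4, 6, 6, 4, 5, 4, 6, 6, 6, 4, 5, 5, 1, 3, 1, 2, 1, 2, 1, 2, 1, 3, 3, 1, 3, 1, 2, 1]) (.node 4080 (.leaf 319 13 [3, 1, 3, 1, 2, 2, 1, 3, 1, 2, 1, 3, 1, 3, 3, 4, 6, 6, 6, 4, 5, 5, 5, 4, 6, 4, 5, 5, 4, 6, 6, 1, 2, 2, 1, 3, 1, 2, 1, 3, 1, 2, 1, 3]) (.leaf 321 5 [2, 1, 2, 1, 3, 3, 1, 2, 1, 2, 1, 3, 1, 3, 1, 2, 1, 2, 1, 3, 1, 2, 1, 4, 6, 4, 5, 4, 6, 6, 4, 5, 4, 6, 6, 6, 4, 6, 2, 1, 3, 1, 2]))) (.node 4082 (.leaf 323 28 [6, 6, 4, 5, 4, 6, 4, 5, 4, 6, 4, 5, 4, 6, 1, 3, 3, 1, 2, 1, 3, 3, 1, 3, 3, 1, 3, 1, 2, 1, 3, 1, 2, 1, 3, 1, 3, 1, 3, 1, 3, 3]) (.node 4083 (.leaf 324 16 [1, 3, 1, 2, 2, 1, 2, 1, 2, 1, 2, 2, 5, 5, 5, 5, 4, 6, 4, 5, 5, 5, 4, 2, 2, 1, 2, 2, 1, 2, 1, 2, 1, 2, 2, 1, 3, 1, 3]) (.leaf 326 16 [1, 3, 3, 1, 3, 1, 2, 1, 3, 1, 3, 1, 5, 5, 4, 6, 6, 6, 4, 5, 4, 6, 6, 6, 4, 5, 5, 5, 2, 1, 2, 1, 2, 1, 2, 1, 3, 1, 2, 1, 2, 2, 1, 2])))))) (.node 4095 (.node 4089 (.node 4086 (.node 4085 (.leaf 331 19 [3, 3, 1, 3, 1, 2, 1, 3, 1, 4, 5, 5, 4, 6, 4, 5, 4, 6, 6, 6, 4, 2, 1, 2, 1, 2, 2, 1, 3, 3, 1, 2, 1, 2, 2, 1, 3, 1, 2, 1]) (.leaf 337 22 [1, 3, 3, 1, 3, 1, 5, 5, 4, 6, 4, 5, 4, 6, 4, 5, 5, 4, 6, 4, 5, 3, 3, 1, 2, 2, 1, 2, 1, 3, 1, 2, 2, 1, 2, 1, 2, 1, 2, 2, 1, 3, 3])) (.node 4087 (.leaf 339 1 [1, 3, 3, 1, 2, 1, 3, 1, 2, 2, 1, 3, 1, 2, 2, 1, 3, 1, 2, 2, 1, 2, 1, 3, 1, 2, 2, 6, 6, 6, 4, 5, 5, 5, 4, 6, 6, 6, 4, 2]) (.node 4088 (.leaf 345 7 [1, 3, 1, 3, 1, 3, 1, 2, 1, 2, 1, 2, 1, 2, 1, 3, 3, 1, 3, 1, 3, 6, 4, 5, 5, 5, 5, 4, 6, 6, 6, 4, 6, 2, 1, 2, 1, 2, 1, 3]) (.leaf 353 14 [2, 2, 1, 2, 2, 1, 2, 2, 1, 2, 1, 2, 2, 1, 5, 4, 5, 5, 5, 4, 6, 4, 5, 5, 4, 6, 4, 5, 4, 6, 6, 6, 2, 1, 2, 2, 1, 3, 1, 3, 3, 1, 3, 1, 2, 1])))) (.node 4092 (.node 4090 (.leaf 371 18 [3, 1, 2, 1, 2, 1, 3, 1, 2, 1, 5, 4, 6, 6, 4, 5, 4, 6, 4, 5, 5, 4, 3, 3, 1, 2, 1, 3, 3, 1, 2, 1, 2, 1, 3, 1, 3, 1, 3, 1]) (.node 4091 (.leaf 374 29 [5, 4, 6, 6, 4, 5, 4, 6, 4, 5, 4, 6, 6, 4, 5, 2, 1, 3, 1, 2, 1, 2, 1, 2, 1, 3, 1, 2, 1, 2, 2, 1, 3, 3, 1, 3, 3, 1, 2, 2, 1, 3, 1, 4]) (.leaf 376 1 [3, 1, 3, 1, 3, 1, 3, 3, 1, 2, 2, 1, 2, 1, 3, 1, 3, 1, 3, 3, 1, 2, 1, 3, 1, 2, 1, 6, 4, 5, 5, 4, 6, 6, 6, 1]))) (.node 4093 (.leaf 381 6 [1, 3, 1, 3, 3, 1, 3, 1, 2, 1, 3, 3, 1, 2, 2, 1, 2, 1, 3, 1, 3, 3, 4, 5, 5, 4, 6, 4, 5, 5, 4, 6, 6, 4, 2, 2, 1, 2, 1, 2]) (.node 4094 (.leaf 95 26 [6, 4, 5, 4, 6, 4, 5, 5, 1, 2, 2, 1, 2, 1, 2, 1, 2, 2, 1, 2, 1, 3, 1, 3, 3, 1, 3, 1, 3, 1, 3, 3, 1, 6]) (.leaf 114 27 [5, 4, 6, 6, 4, 5, 4, 6, 4, 5, 5, 5, 4, 6, 4, 1, 3, 3, 1, 3, 3, 1, 2, 1, 3, 1, 3, 1, 3, 1, 2, 1, 2, 1, 2, 1, 2, 1, 2, 2, 1, 4]))))) (.node 4100 (.node 4097 (.node 4096 (.leaf 142 23 [3, 1, 3, 4, 5, 4, 5, 5, 5, 5, 4, 2, 1, 3, 3, 1, 2, 1, 3, 1, 3, 1, 2, 2, 1, 3, 3, 1, 3, 1, 3, 1, 2, 1]) (.leaf 154 16 [3, 1, 3, 1, 2, 1, 3, 1, 2, 2, 4, 5, 4, 5, 5, 5, 4, 6, 4, 5, 5, 5, 4, 6, 6, 6, 2, 1, 2, 2, 1, 3, 1, 2, 1, 2, 1, 2, 1, 2, 2, 1])) (.node 4098 (.leaf 160 40 [5, 1, 2, 2, 1, 2, 1, 2, 1, 3, 3, 1, 3, 3, 1, 2, 1, 3, 1, 3, 1, 2, 1, 3, 3, 1, 2, 2, 5, 4, 6, 6, 6, 4, 5, 5, 5, 4, 6, 4, 5]) (.node 4099 (.leaf 198 29 [4, 5, 5, 4, 6, 4, 5, 5, 5, 4, 1, 2, 2, 1, 2, 1, 3, 3, 1, 2, 2, 1, 2, 1, 3, 1, 2, 2, 1, 3, 1, 3, 1, 3, 3, 1, 3, 6, 6]) (.leaf 237 26 [3, 6, 4, 5, 5, 4, 6, 1, 3, 1, 2, 2, 1, 2, 2, 1, 2, 2, 1, 3, 1, 2, 1, 2, 2, 1, 2, 2, 1, 2, 2, 1, 3])))) (.node 4103 (.node 4101 (.leaf 243 24 [1, 2, 1, 4, 6, 4, 5, 5, 5, 4, 6, 4, 5, 5, 4, 6, 2, 2, 1, 2, 1, 3, 1, 3, 3, 1, 2, 2, 1, 2, 1, 2, 2, 1, 2, 1, 3, 3, 1, 2]) (.node 4102 (.leaf 251 27 [5, 5, 4, 6, 4, 5, 5, 5, 4, 6, 4, 5, 5, 4, 6, 6, 2, 1, 2, 1, 2, 1, 3, 1, 2, 1, 3, 3, 1, 2, 2, 1, 2, 1, 3, 3, 1, 2, 1, 2, 1, 3, 1]) (.leaf 269 28 [5, 5, 4, 6, 6, 4, 5, 4, 6, 4, 5, 5, 4, 6, 4, 2, 1, 3, 1, 2, 1, 2, 2, 1, 3, 1, 3, 1, 2, 1, 2, 2, 1, 3, 1, 2, 1, 3, 3, 1, 2, 1, 3]))) (.node 4104 (.leaf 280 35 [5, 5, 4, 6, 4, 5, 5, 5, 2, 1, 3, 3, 1, 2, 2, 1, 2, 1, 2, 1, 3, 1, 3, 1, 2, 1, 3, 1, 2, 2, 1, 3, 1, 2, 1, 3, 6, 4, 5, 4, 6, 6, 4]) (.node 4105 (.leaf 282 7 [1, 2, 1, 3, 3, 1, 3, 1, 3, 3, 1, 2, 1, 3, 3, 1, 2, 1, 3, 1, 3, 6, 6, 6, 4, 5, 5, 5, 4, 6, 1, 2, 1, 2, 1, 3, 3]) (.leaf 290 16 [2, 2, 1, 3, 3, 1, 3, 1, 3, 1, 3, 3, 5, 4, 6, 6, 6, 4, 5, 5, 5, 4, 1, 2, 1, 2, 2, 1, 3, 1, 3, 3, 1, 3, 1, 2, 2, 1])))))))) (.node 4150 (.node 4128 (.node 4117 (.node 4111 (.node 4108 (.node 4107 (.leaf 316 40 [5, 4, 2, 1, 3, 3, 1, 2, 1, 2, 2, 1, 2, 1, 3, 1, 2, 1, 3, 1, 2, 1, 2, 2, 1, 3, 3, 1, 2, 2, 6, 4, 5, 5, 4, 6, 4, 5, 5, 4, 6, 4]) (.leaf 352 1 [3, 1, 3, 1, 3, 1, 2, 2, 1, 3, 1, 3, 3, 1, 3, 1, 2, 1, 3, 1, 2, 1, 2, 2, 1, 3, 3, 4, 6, 4, 5, 5, 4, 6, 4, 5, 5, 4, 6, 4, 5, 1])) (.node 4109 (.leaf 370 11 [3, 1, 3, 1, 3, 1, 3, 1, 3, 1, 3, 1, 3, 3, 1, 2, 2, 4, 5, 4, 6, 6, 4, 5, 5, 5, 2, 2, 1, 3, 3, 1, 3, 1, 2, 2, 1]) (.node 4110 (.leaf 13 14 [3, 1, 2, 1, 4, 6, 4, 5, 4, 6, 6, 4, 5, 4, 5, 1, 3, 3, 1, 2, 1, 2, 1, 2, 1, 2, 2, 1, 3]) (.leaf 30 37 [5, 2, 2, 1, 2, 1, 3, 3, 1, 3, 1, 2, 1, 3, 3, 1, 2, 1, 3, 3, 1, 2, 1, 4, 5, 5, 5, 4, 6, 6, 6, 4, 5, 4, 6, 6, 6, 4])))) (.node 4114 (.node 4112 (.leaf 33 0 [2, 2, 1, 3, 1, 3, 1, 3, 1, 3, 1, 2, 1, 2, 1, 3, 1, 2, 1, 3, 1, 3, 3, 4, 6, 6, 4, 5, 4, 6, 6, 6, 4, 5, 4, 6]) (.node 4113 (.leaf 44 13 [3, 1, 3, 3, 1, 2, 1, 2, 2, 1, 4, 6, 4, 5, 4, 6, 6, 4, 5, 5, 5, 4, 3, 3, 1, 3, 3, 1, 2, 2, 1, 2, 1, 2, 1]) (.leaf 51 0 [1, 2, 1, 3, 1, 3, 3, 1, 2, 2, 1, 3, 1, 2, 1, 3, 1, 3, 1, 3, 3, 1, 2, 2, 5, 4, 6, 6, 6, 6, 4, 6]))) (.node 4115 (.leaf 71 17 [3, 1, 2, 2, 1, 3, 1, 3, 6, 6, 6, 4, 5, 4, 6, 6, 4, 5, 5, 5, 2, 1, 2, 1, 2, 1, 3, 1, 2, 1, 2, 2, 1, 3, 3, 1, 3]) (.node 4116 (.leaf 73 26 [6, 6, 6, 4, 5, 4, 6, 6, 6, 4, 5, 4, 6, 6, 4, 2, 2, 1, 2, 1, 3, 3, 1, 3, 3, 1, 3, 1, 3, 1, 3, 3, 1, 2, 1, 3, 3, 1, 3, 3, 4]) (.leaf 79 25 [4, 5, 5, 5, 4, 6, 4, 5, 5, 4, 6, 6, 6, 1, 2, 1, 3, 3, 1, 2, 1, 2, 1, 2, 1, 2, 1, 3, 1, 3, 1, 3, 3, 1, 3, 1, 3, 3]))))) (.node 4122 (.node 4119 (.node 4118 (.leaf 90 8 [2, 2, 1, 2, 1, 2, 2, 1, 3, 1, 3, 1, 2, 1, 2, 2, 1, 6, 6, 4, 5, 4, 6, 6, 4, 5, 5, 4, 6, 4, 5, 1, 2, 2, 1, 2, 1, 3, 1]) (.leaf 98 0 [3, 3, 1, 3, 3, 1, 3, 3, 1, 3, 1, 2, 2, 1, 3, 1, 3, 3, 1, 2, 1, 2, 1, 3, 1, 6, 6, 4, 5, 4, 6, 6, 6, 4, 5, 4, 6, 6, 4])) (.node 4120 (.leaf 101 4 [1, 2, 1, 2, 2, 1, 2, 1, 2, 2, 1, 2, 2, 1, 2, 1, 2, 2, 1, 2, 1, 4, 6, 4, 5, 4, 6, 6, 4, 5, 1, 3, 1, 2]) (.node 4121 (.leaf 111 29 [5, 5, 5, 5, 4, 6, 4, 5, 5, 5, 4, 6, 1, 2, 2, 1, 2, 1, 2, 1, 3, 1, 3, 1, 2, 1, 2, 1, 3, 1, 3, 3, 1, 3, 3, 1, 2, 1, 4, 6, 4]) (.leaf 119 24 [3, 1, 4, 6, 6, 4, 5, 5, 5, 4, 5, 1, 3, 3, 1, 3, 1, 2, 2, 1, 2, 1, 2, 2, 1, 3, 3, 1, 3, 1, 3, 1, 3, 1, 3])))) (.node 4125 (.node 4123 (.leaf 120 29 [6, 6, 6, 4, 5, 5, 1, 3, 1, 3, 1, 3, 3, 1, 3, 1, 3, 1, 2, 1, 3, 1, 3, 1, 3, 1, 3, 3, 1, 2, 1, 3, 4, 6, 4]) (.node 4124 (.leaf 122 26 [4, 5, 5, 5, 4, 6, 4, 5, 5, 5, 4, 5, 1, 2, 1, 3, 3, 1, 2, 1, 2, 2, 1, 3, 3, 1, 3, 1, 2, 2, 1, 2, 2, 1, 3, 1, 2, 2]) (.leaf 126 9 [3, 1, 2, 1, 3, 1, 2, 1, 2, 1, 2, 1, 3, 3, 1, 3, 1, 6, 4, 5, 5, 4, 6, 4, 5, 5, 4, 6, 1, 3, 1, 2, 1, 2, 2, 1, 3]))) (.node 4126 (.leaf 128 26 [5, 4, 5, 5, 5, 4, 6, 4, 5, 5, 5, 4, 6, 4, 5, 2, 1, 3, 3, 1, 2, 1, 2, 1, 2, 1, 3, 1, 2, 1, 3, 1, 2, 1, 3, 3, 1, 2, 1, 2, 2]) (.node 4127 (.leaf 133 16 [2, 1, 2, 1, 2, 2, 1, 2, 1, 3, 4, 5, 5, 4, 6, 4, 5, 5, 4, 6, 4, 5, 5, 2, 1, 2, 1, 2, 2, 1, 2, 1, 3, 1, 2, 1, 2, 1, 2]) (.leaf 156 40 [5, 4, 6, 4, 1, 2, 1, 2, 1, 3, 3, 1, 3, 3, 1, 2, 1, 2, 2, 1, 3, 1, 3, 1, 2, 1, 3, 3, 1, 3, 3, 5, 5, 4, 6, 6, 6, 4, 5, 4, 6, 6, 4, 5])))))) (.node 4139 (.node 4133 (.node 4130 (.node 4129 (.leaf 162 4 [2, 2, 1, 3, 1, 3, 1, 3, 1, 2, 2, 1, 2, 2, 1, 2, 1, 2, 1, 3, 1, 2, 2, 5, 4, 5, 5, 5, 4, 6, 4, 5, 5, 4, 6, 4, 5, 1, 2, 2, 1]) (.leaf 164 10 [1, 3, 3, 1, 3, 1, 3, 1, 2, 1, 2, 2, 1, 3, 1, 2, 1, 6, 6, 4, 5, 4, 6, 6, 6, 4, 5, 4, 6, 6, 4, 5, 4, 3, 3, 1, 3, 3, 1, 2, 1, 2, 2])) (.node 4131 (.leaf 177 23 [2, 1, 3, 1, 5, 5, 4, 6, 6, 6, 4, 5, 4, 6, 6, 4, 5, 5, 4, 6, 4, 1, 3, 3, 1, 3, 1, 3, 1, 2, 1, 2, 1, 2, 1, 3, 1, 3, 1, 2, 2, 1, 2, 1]) (.node 4132 (.leaf 180 7 [1, 3, 1, 3, 1, 2, 2, 1, 3, 1, 3, 1, 3, 1, 2, 1, 2, 1, 2, 1, 6, 4, 6, 6, 6, 4, 5, 4, 6, 6, 6, 4, 5, 2, 1, 2, 1, 3, 1, 2]) (.leaf 190 35 [4, 6, 4, 5, 4, 6, 1, 3, 1, 2, 1, 2, 2, 1, 2, 2, 1, 3, 1, 2, 2, 1, 2, 1, 2, 1, 3, 1, 3, 1, 2, 1, 3, 4, 5, 5, 4, 6, 4, 5, 5])))) (.node 4136 (.node 4134 (.leaf 196 25 [1, 3, 5, 4, 5, 5, 5, 4, 6, 4, 5, 5, 4, 6, 3, 3, 1, 2, 1, 3, 1, 2, 1, 3, 3, 1, 2, 2, 1, 3, 1, 2, 1, 2, 2, 1, 2, 1, 2]) (.node 4135 (.leaf 196 18 [1, 2, 2, 1, 2, 1, 2, 1, 3, 5, 4, 5, 5, 5, 4, 6, 4, 5, 5, 4, 6, 3, 3, 1, 2, 1, 3, 1, 2, 1, 3, 3, 1, 2, 2, 1, 3, 1, 2]) (.leaf 228 14 [1, 2, 1, 2, 1, 2, 1, 2, 2, 1, 2, 1, 3, 6, 4, 6, 6, 6, 4, 5, 4, 6, 6, 4, 5, 4, 5, 1, 3, 3, 1, 3, 3, 1, 2, 1, 2, 1, 3, 1, 2]))) (.node 4137 (.leaf 231 16 [2, 1, 2, 2, 1, 3, 3, 1, 3, 1, 3, 4, 5, 5, 5, 4, 6, 4, 5, 4, 6, 6, 4, 5, 5, 3, 3, 1, 3, 1, 2, 2, 1, 2, 1, 2, 1, 3, 1, 2, 1]) (.node 4138 (.leaf 247 5 [2, 1, 3, 1, 2, 2, 1, 2, 2, 1, 2, 2, 1, 2, 1, 2, 1, 3, 1, 3, 3, 1, 6, 4, 5, 4, 6, 6, 6, 4, 5, 4, 6, 6, 4, 5, 4, 1, 2, 2, 1, 2]) (.leaf 262 3 [3, 1, 3, 3, 1, 2, 2, 1, 3, 3, 1, 3, 1, 3, 1, 2, 1, 2, 1, 2, 2, 1, 2, 1, 3, 5, 4, 6, 6, 4, 5, 4, 6, 4, 2, 1, 3]))))) (.node 4144 (.node 4141 (.node 4140 (.leaf 271 28 [4, 5, 4, 6, 4, 5, 4, 6, 4, 5, 4, 6, 6, 4, 5, 4, 2, 2, 1, 2, 1, 2, 1, 2, 1, 3, 1, 2, 1, 2, 1, 3, 1, 2, 1, 2, 2, 1, 3, 1, 2, 1, 3, 1]) (.leaf 275 37 [6, 4, 6, 3, 3, 1, 3, 3, 1, 2, 1, 3, 1, 2, 1, 2, 1, 2, 2, 1, 2, 2, 1, 2, 2, 1, 3, 1, 2, 1, 3, 4, 5, 4, 6, 4, 5, 4, 6, 6])) (.node 4142 (.leaf 284 27 [3, 4, 6, 4, 5, 5, 5, 4, 6, 6, 1, 3, 1, 3, 1, 2, 1, 3, 1, 2, 2, 1, 3, 1, 2, 2, 1, 3, 3, 1, 2, 1, 3, 3, 1, 3, 1]) (.node 4143 (.leaf 286 30 [6, 4, 5, 4, 6, 4, 5, 4, 6, 4, 5, 4, 2, 2, 1, 3, 3, 1, 3, 1, 2, 1, 2, 1, 2, 1, 2, 1, 3, 3, 1, 3, 3, 1, 3, 1, 3, 1, 3, 1, 5, 4]) (.leaf 288 17 [2, 1, 3, 3, 1, 3, 3, 1, 3, 1, 3, 4, 6, 4, 5, 4, 6, 4, 5, 4, 6, 4, 5, 4, 6, 4, 5, 3, 3, 1, 2, 1, 3, 1, 3, 3, 1, 2, 1, 3, 1, 3, 1, 2])))) (.node 4147 (.node 4145 (.leaf 291 15 [1, 2, 2, 1, 2, 1, 3, 1, 3, 3, 1, 2, 1, 4, 6, 4, 6, 6, 6, 4, 5, 4, 6, 6, 4, 5, 4, 5, 3, 3, 1, 3, 3, 1, 3, 1, 3, 3, 1, 3, 3, 1, 3]) (.node 4146 (.leaf 295 8 [3, 3, 1, 3, 1, 2, 1, 3, 3, 1, 2, 1, 3, 1, 2, 1, 3, 1, 2, 2, 6, 4, 5, 4, 6, 6, 4, 5, 4, 5, 1, 2, 2, 1, 2, 1, 3, 1]) (.leaf 300 24 [3, 1, 3, 1, 5, 5, 5, 4, 6, 6, 6, 4, 5, 4, 6, 6, 4, 5, 5, 1, 3, 1, 3, 3, 1, 2, 2, 1, 2, 1, 3, 3, 1, 2, 1, 3, 3, 1, 3, 1, 2, 1, 3]))) (.node 4148 (.leaf 308 5 [2, 1, 3, 1, 3, 1, 2, 1, 3, 1, 2, 1, 3, 1, 3, 1, 2, 1, 2, 1, 3, 3, 1, 4, 6, 4, 5, 5, 4, 6, 6, 6, 4, 6, 1, 2, 2, 1, 2]) (.node 4149 (.leaf 336 21 [3, 3, 1, 3, 3, 1, 3, 5, 4, 6, 6, 6, 4, 5, 4, 6, 6, 4, 5, 5, 5, 2, 1, 3, 1, 2, 1, 2, 1, 3, 1, 2, 1, 3, 1, 3, 1, 3, 1, 2, 2, 1]) (.leaf 337 29 [5, 4, 6, 4, 5, 4, 6, 4, 5, 5, 4, 6, 4, 5, 3, 3, 1, 2, 2, 1, 2, 1, 3, 1, 2, 2, 1, 2, 1, 2, 1, 2, 2, 1, 3, 3, 1, 3, 3, 1, 3, 1, 5]))))))) (.node 4172 (.node 4161 (.node 4155 (.node 4152 (.node 4151 (.leaf 341 7 [1, 2, 2, 1, 2, 2, 1, 3, 1, 3, 3, 1, 3, 1, 2, 1, 3, 3, 1, 3, 1, 4, 5, 4, 6, 4, 5, 4, 6, 4, 5, 4, 6, 4, 5, 5, 3, 3, 1, 2, 2, 1, 2]) (.leaf 342 20 [2, 1, 3, 1, 3, 1, 2, 2, 4, 6, 4, 5, 4, 6, 4, 5, 4, 6, 6, 6, 4, 6, 2, 1, 3, 3, 1, 3, 3, 1, 2, 1, 2, 1, 2, 2, 1, 3, 1, 2, 2, 1])) (.node 4153 (.leaf 348 15 [3, 1, 2, 1, 3, 1, 3, 3, 1, 2, 1, 3, 1, 6, 6, 4, 5, 4, 6, 6, 6, 4, 5, 4, 6, 6, 6, 1, 3, 1, 3, 1, 3, 1, 2, 2, 1, 3, 3, 1, 2, 1]) (.node 4154 (.leaf 351 39 [4, 2, 2, 1, 3, 3, 1, 3, 3, 1, 2, 1, 3, 1, 2, 1, 3, 3, 1, 3, 3, 1, 2, 1, 2, 2, 1, 3, 1, 5, 5, 5, 4, 6, 4, 5, 4, 6, 4, 5]) (.leaf 356 24 [2, 1, 2, 2, 6, 4, 5, 4, 6, 4, 5, 4, 6, 6, 6, 1, 2, 2, 1, 3, 1, 3, 1, 3, 1, 2, 1, 3, 3, 1, 3, 3, 1, 2, 1, 3, 1, 3, 1])))) (.node 4158 (.node 4156 (.leaf 363 29 [6, 6, 4, 5, 4, 6, 4, 5, 4, 6, 4, 5, 4, 6, 4, 1, 3, 1, 3, 3, 1, 2, 2, 1, 2, 2, 1, 3, 3, 1, 3, 3, 1, 3, 1, 3, 3, 1, 2, 1, 3, 1, 3, 4]) (.node 4157 (.leaf 377 21 [3, 1, 2, 1, 2, 2, 1, 5, 4, 6, 6, 4, 5, 4, 6, 4, 5, 5, 4, 6, 6, 1, 2, 2, 1, 3, 1, 2, 1, 3, 3, 1, 3, 3, 1, 2, 1, 2, 2, 1, 2, 1]) (.leaf 384 7 [1, 2, 1, 3, 1, 2, 1, 3, 1, 2, 1, 2, 1, 3, 3, 1, 3, 1, 2, 2, 1, 6, 6, 6, 4, 5, 5, 5, 4, 6, 4, 2, 1, 3, 1, 2, 1, 3]))) (.node 4159 (.leaf 389 40 [6, 4, 2, 1, 3, 3, 1, 3, 1, 2, 1, 3, 1, 3, 1, 2, 1, 2, 2, 1, 2, 1, 3, 1, 3, 3, 1, 2, 1, 3, 4, 5, 4, 6, 6, 4, 5, 4, 6, 4, 5, 4]) (.node 4160 (.leaf 391 45 [6, 1, 3, 3, 1, 2, 1, 3, 1, 3, 3, 1, 3, 1, 2, 1, 3, 1, 3, 3, 1, 2, 1, 2, 2, 1, 3, 1, 2, 1, 5, 5, 4, 6, 6, 6, 4, 5, 4, 6, 6, 4, 5, 5, 4, 6]) (.leaf 394 11 [2, 2, 1, 2, 1, 2, 2, 1, 3, 1, 3, 1, 3, 1, 3, 3, 1, 3, 5, 4, 5, 5, 5, 4, 6, 4, 5, 5, 5, 4, 6, 4, 5, 2, 2, 1, 3, 1, 2, 2, 1, 2, 2, 1]))))) (.node 4166 (.node 4163 (.node 4162 (.leaf 6 26 [1, 3, 1, 3, 1, 3, 1, 3, 1, 3, 1, 3, 1, 3, 1, 3, 1, 3, 1, 3, 1, 3, 1, 3, 1, 3, 1, 3, 1, 3, 1, 3, 1, 3, 1, 3, 1, 3]) (.leaf 134 37 [4, 1, 2, 1, 2, 1, 3, 1, 3, 3, 1, 3, 1, 2, 1, 3, 1, 2, 1, 3, 3, 1, 2, 2, 1, 2, 2, 5, 4, 6, 4, 5, 4, 6, 4, 5, 4, 6])) (.node 4164 (.leaf 200 38 [5, 4, 1, 2, 2, 1, 3, 1, 3, 1, 2, 2, 1, 2, 1, 2, 2, 1, 2, 1, 2, 1, 3, 3, 1, 3, 3, 1, 3, 5, 4, 6, 4, 5, 5, 5, 4, 6, 4, 5]) (.node 4165 (.leaf 216 22 [3, 3, 1, 3, 1, 6, 4, 5, 5, 4, 6, 2, 2, 1, 2, 1, 3, 3, 1, 3, 1, 3, 3, 1, 2, 2, 1, 3, 1, 3, 1, 2, 1]) (.leaf 292 18 [2, 1, 3, 1, 2, 1, 3, 3, 1, 3, 5, 5, 4, 6, 4, 5, 5, 5, 4, 6, 6, 6, 4, 5, 5, 5, 1, 2, 1, 3, 1, 2, 2, 1, 2, 1, 3, 3, 1, 3, 1, 3, 1, 2])))) (.node 4169 (.node 4167 (.leaf 367 34 [6, 4, 5, 4, 6, 4, 5, 4, 1, 2, 1, 3, 3, 1, 2, 2, 1, 3, 3, 1, 2, 1, 2, 1, 2, 1, 3, 1, 3, 1, 3, 1, 3, 1, 2, 1, 4, 6, 4, 5, 5, 4]) (.node 4168 (.leaf 144 14 [3, 1, 3, 1, 2, 1, 2, 1, 3, 1, 3, 1, 5, 4, 6, 4, 5, 5, 4, 6, 4, 5, 4, 6, 6, 4, 3, 3, 1, 3, 1, 2, 1, 3, 3, 1, 2, 2, 1, 3]) (.leaf 164 25 [2, 1, 6, 6, 4, 5, 4, 6, 6, 6, 4, 5, 4, 6, 6, 4, 5, 4, 3, 3, 1, 3, 3, 1, 2, 1, 2, 2, 1, 3, 3, 1, 3, 1, 3, 1, 2, 1, 2, 2, 1, 3, 1]))) (.node 4170 (.leaf 176 28 [5, 5, 4, 6, 4, 5, 4, 6, 4, 5, 4, 6, 4, 5, 4, 2, 1, 2, 2, 1, 3, 3, 1, 2, 2, 1, 2, 1, 2, 1, 2, 2, 1, 2, 2, 1, 2, 2, 1, 2, 1, 3, 4]) (.node 4171 (.leaf 184 27 [6, 6, 6, 4, 5, 5, 5, 4, 6, 4, 5, 5, 4, 6, 6, 6, 2, 1, 3, 1, 3, 1, 3, 1, 2, 1, 2, 2, 1, 2, 2, 1, 3, 3, 1, 3, 1, 2, 2, 1, 3, 3, 1]) (.leaf 199 3 [2, 1, 3, 1, 3, 1, 2, 2, 1, 3, 1, 2, 2, 1, 2, 2, 1, 3, 1, 2, 2, 1, 2, 1, 5, 4, 6, 6, 6, 4, 5, 5, 5, 4, 6, 2, 2, 1])))))) (.node 4183 (.node 4177 (.node 4174 (.node 4173 (.leaf 218 9 [1, 3, 1, 3, 1, 2, 1, 2, 2, 1, 2, 2, 1, 2, 1, 2, 1, 3, 4, 6, 4, 5, 5, 5, 4, 6, 4, 5, 4, 6, 6, 4, 5, 4, 2, 2, 1, 3, 1, 3, 1, 2, 2]) (.leaf 250 0 [3, 3, 1, 3, 1, 2, 1, 2, 1, 2, 1, 2, 1, 2, 1, 3, 1, 2, 2, 1, 3, 1, 3, 1, 3, 3, 1, 6, 4, 6, 6, 6, 4, 5, 4, 6, 6, 6, 4, 5, 4])) (.node 4175 (.leaf 266 7 [1, 2, 1, 2, 1, 2, 2, 1, 3, 1, 3, 3, 1, 2, 1, 2, 1, 3, 1, 3, 3, 6, 6, 4, 5, 5, 5, 4, 6, 6, 2, 1, 2, 1, 2, 1, 3]) (.node 4176 (.leaf 271 22 [3, 1, 2, 1, 3, 1, 4, 5, 4, 6, 4, 5, 4, 6, 4, 5, 4, 6, 6, 4, 5, 4, 2, 2, 1, 2, 1, 2, 1, 2, 1, 3, 1, 2, 1, 2, 1, 3, 1, 2, 1, 2, 2, 1]) (.leaf 277 23 [3, 3, 1, 2, 2, 5, 5, 4, 6, 6, 4, 5, 5, 1, 2, 2, 1, 2, 2, 1, 2, 1, 2, 1, 2, 1, 3, 1, 2, 1, 3, 1, 2, 1, 2, 1])))) (.node 4180 (.node 4178 (.leaf 289 33 [6, 4, 5, 4, 1, 3, 1, 3, 1, 3, 3, 1, 3, 1, 2, 1, 2, 2, 1, 3, 1, 2, 1, 2, 2, 1, 3, 3, 1, 3, 1, 3, 6, 4, 6, 6, 6]) (.node 4179 (.leaf 381 34 [5, 5, 4, 6, 6, 4, 2, 2, 1, 2, 1, 2, 1, 3, 1, 3, 3, 1, 3, 1, 2, 1, 3, 3, 1, 2, 2, 1, 2, 1, 3, 1, 3, 3, 4, 5, 5, 4, 6, 4]) (.leaf 22 17 [2, 2, 1, 3, 1, 5, 5, 4, 6, 4, 5, 4, 3, 3, 1, 2, 1, 2, 1, 2, 1, 2, 2, 1, 3, 1, 2, 2, 1]))) (.node 4181 (.leaf 23 26 [5, 5, 4, 6, 4, 5, 1, 2, 1, 3, 1, 3, 3, 1, 3, 1, 2, 1, 3, 3, 1, 2, 1, 3, 1, 2, 1, 3, 4, 5, 4, 5]) (.node 4182 (.leaf 127 4 [1, 2, 2, 1, 3, 1, 2, 1, 2, 2, 1, 2, 1, 3, 1, 2, 1, 2, 2, 1, 2, 1, 4, 6, 4, 5, 5, 4, 6, 4, 5, 5, 5, 4, 6, 4, 5, 5, 5, 3, 3, 1, 3]) (.leaf 141 40 [4, 2, 2, 1, 2, 1, 3, 3, 1, 3, 1, 3, 1, 2, 1, 2, 1, 3, 1, 2, 1, 2, 1, 3, 3, 1, 3, 5, 5, 4, 6, 4, 5, 4, 6, 4, 5, 4, 6, 4, 5]))))) (.node 4188 (.node 4185 (.node 4184 (.leaf 155 9 [1, 2, 2, 1, 2, 2, 1, 3, 1, 2, 1, 3, 3, 1, 3, 1, 2, 1, 6, 4, 5, 5, 4, 6, 4, 5, 5, 5, 4, 6, 4, 5, 5, 4, 1, 2, 1, 3, 1, 2, 2, 1, 3]) (.leaf 159 7 [3, 3, 1, 3, 1, 2, 1, 2, 2, 1, 2, 2, 1, 3, 3, 1, 3, 1, 3, 1, 4, 5, 4, 5, 5, 5, 4, 6, 4, 5, 4, 6, 6, 3, 3, 1, 3, 1, 3, 1])) (.node 4186 (.leaf 160 31 [6, 4, 5, 5, 5, 4, 6, 4, 5, 5, 1, 2, 2, 1, 2, 1, 2, 1, 3, 3, 1, 3, 3, 1, 2, 1, 3, 1, 3, 1, 2, 1, 3, 3, 1, 2, 2, 5, 4, 6, 6]) (.node 4187 (.leaf 161 27 [5, 5, 5, 4, 6, 4, 5, 4, 6, 6, 4, 5, 1, 2, 1, 2, 1, 2, 2, 1, 3, 3, 1, 3, 1, 2, 1, 3, 3, 1, 3, 3, 1, 2, 1, 3, 3, 1, 3]) (.leaf 162 9 [3, 1, 3, 1, 2, 2, 1, 2, 2, 1, 2, 1, 2, 1, 3, 1, 2, 2, 5, 4, 5, 5, 5, 4, 6, 4, 5, 5, 4, 6, 4, 5, 1, 2, 2, 1, 2, 2, 1, 3, 1])))) (.node 4191 (.node 4189 (.leaf 177 29 [4, 6, 6, 6, 4, 5, 4, 6, 6, 4, 5, 5, 4, 6, 4, 1, 3, 3, 1, 3, 1, 3, 1, 2, 1, 2, 1, 2, 1, 3, 1, 3, 1, 2, 2, 1, 2, 1, 2, 1, 3, 1, 5, 5]) (.node 4190 (.leaf 189 36 [5, 1, 3, 1, 2, 1, 3, 3, 1, 3, 1, 3, 1, 2, 1, 3, 3, 1, 3, 3, 1, 2, 2, 1, 3, 3, 1, 3, 4, 5, 5, 5, 4, 6, 6, 6, 4]) (.leaf 213 6 [3, 3, 1, 3, 1, 3, 1, 2, 1, 3, 1, 3, 1, 3, 3, 1, 3, 1, 3, 1, 3, 5, 4, 5, 5, 5, 5, 4, 5, 1, 3, 1, 3, 3, 1]))) (.node 4192 (.leaf 231 15 [1, 2, 1, 2, 2, 1, 3, 3, 1, 3, 1, 3, 4, 5, 5, 5, 4, 6, 4, 5, 4, 6, 6, 4, 5, 5, 3, 3, 1, 3, 1, 2, 2, 1, 2, 1, 2, 1, 3, 1, 2]) (.node 4193 (.leaf 246 12 [1, 2, 1, 3, 3, 1, 3, 1, 3, 3, 1, 3, 1, 3, 3, 6, 6, 6, 4, 5, 4, 6, 6, 4, 5, 4, 6, 4, 1, 2, 1, 2, 2, 1, 2, 2, 1, 2, 1, 2]) (.leaf 248 15 [3, 3, 1, 2, 1, 2, 2, 1, 2, 1, 2, 1, 5, 5, 5, 5, 4, 6, 4, 5, 5, 5, 4, 6, 4, 5, 5, 4, 2, 2, 1, 3, 3, 1, 2, 1, 2, 1, 3, 3, 1, 2, 1])))))))))))) (.node 4893 (.node 4543 (.node 4368 (.node 4281 (.node 4237 (.node 4215 (.node 4204 (.node 4199 (.node 4196 (.node 4195 (.leaf 265 12 [2, 2, 1, 2, 1, 3, 3, 1, 2, 1, 3, 3, 1, 2, 1, 3, 5, 4, 6, 4, 5, 4, 6, 4, 5, 5, 4, 6, 6, 3, 3, 1, 2, 2, 1, 2, 1, 3, 1, 2, 1]) (.leaf 283 22 [1, 3, 1, 3, 1, 3, 4, 5, 5, 5, 5, 4, 6, 4, 5, 5, 4, 6, 4, 5, 4, 1, 2, 1, 2, 1, 2, 1, 3, 1, 3, 1, 2, 2, 1, 2, 2, 1, 3, 1, 2, 1, 3])) (.node 4197 (.leaf 286 40 [5, 4, 2, 2, 1, 3, 3, 1, 3, 1, 2, 1, 2, 1, 2, 1, 2, 1, 3, 3, 1, 3, 3, 1, 3, 1, 3, 1, 3, 1, 5, 4, 6, 4, 5, 4, 6, 4, 5, 4, 6, 4]) (.node 4198 (.leaf 291 14 [3, 1, 2, 2, 1, 2, 1, 3, 1, 3, 3, 1, 2, 1, 4, 6, 4, 6, 6, 6, 4, 5, 4, 6, 6, 4, 5, 4, 5, 3, 3, 1, 3, 3, 1, 3, 1, 3, 3, 1, 3, 3, 1]) (.leaf 292 4 [1, 2, 2, 1, 2, 1, 3, 3, 1, 3, 1, 3, 1, 2, 2, 1, 3, 1, 2, 1, 3, 3, 1, 3, 5, 5, 4, 6, 4, 5, 5, 5, 4, 6, 6, 6, 4, 5, 5, 5, 1, 2, 1, 3])))) (.node 4201 (.node 4200 (.leaf 294 13 [3, 1, 3, 1, 3, 1, 3, 3, 1, 3, 1, 2, 1, 2, 2, 6, 6, 6, 4, 5, 4, 6, 6, 4, 5, 2, 2, 1, 3, 3, 1, 2, 1, 3, 3, 1, 3, 1]) (.leaf 300 1 [3, 1, 3, 3, 1, 2, 2, 1, 2, 1, 3, 3, 1, 2, 1, 3, 3, 1, 3, 1, 2, 1, 3, 3, 1, 3, 1, 5, 5, 5, 4, 6, 6, 6, 4, 5, 4, 6, 6, 4, 5, 5, 1])) (.node 4202 (.leaf 303 14 [2, 1, 3, 3, 1, 3, 1, 3, 1, 3, 3, 1, 2, 1, 6, 6, 6, 4, 5, 5, 5, 4, 6, 4, 5, 2, 1, 3, 3, 1, 3, 1, 3, 1, 3, 1, 2, 1, 2]) (.node 4203 (.leaf 316 2 [3, 3, 1, 2, 1, 2, 2, 1, 2, 1, 3, 1, 2, 1, 3, 1, 2, 1, 2, 2, 1, 3, 3, 1, 2, 2, 6, 4, 5, 5, 4, 6, 4, 5, 5, 4, 6, 4, 5, 4, 2, 1]) (.leaf 328 38 [6, 6, 4, 2, 1, 3, 1, 2, 1, 2, 1, 3, 3, 1, 2, 2, 1, 3, 1, 3, 3, 1, 3, 1, 3, 3, 1, 3, 1, 3, 1, 6, 6, 4, 5, 4, 6, 4, 5, 4, 6]))))) (.node 4209 (.node 4206 (.node 4205 (.leaf 340 10 [2, 1, 3, 3, 1, 2, 2, 1, 3, 1, 2, 1, 2, 1, 3, 1, 3, 3, 6, 6, 4, 5, 5, 4, 6, 4, 5, 5, 5, 4, 6, 1, 3, 1, 3, 3, 1, 3, 3, 1, 2]) (.leaf 349 39 [4, 5, 4, 6, 4, 1, 2, 1, 3, 1, 3, 3, 1, 2, 1, 2, 2, 1, 2, 2, 1, 2, 1, 2, 2, 1, 3, 1, 2, 2, 1, 3, 1, 5, 4, 5, 5, 5, 4, 6, 4, 5, 4, 6])) (.node 4207 (.leaf 358 1 [3, 1, 3, 3, 1, 3, 1, 2, 2, 1, 2, 1, 2, 1, 3, 3, 1, 2, 1, 3, 1, 3, 1, 2, 1, 3, 1, 4, 5, 5, 4, 6, 4, 5, 5, 4, 6, 4, 5, 4, 6, 6, 6, 1]) (.node 4208 (.leaf 359 15 [2, 1, 3, 1, 3, 3, 1, 2, 2, 1, 2, 1, 3, 6, 6, 6, 4, 5, 4, 6, 6, 4, 5, 4, 6, 4, 5, 3, 3, 1, 3, 1, 2, 1, 3, 1, 2, 1, 2, 1, 2, 1]) (.leaf 375 11 [2, 1, 2, 2, 1, 3, 1, 3, 3, 1, 3, 3, 1, 2, 1, 3, 1, 4, 5, 4, 5, 5, 5, 4, 6, 4, 5, 4, 6, 4, 5, 4, 6, 6, 2, 2, 1, 3, 1, 2, 2, 1, 3, 1, 2])))) (.node 4212 (.node 4210 (.leaf 380 11 [3, 3, 1, 2, 1, 3, 3, 1, 2, 1, 2, 1, 3, 1, 3, 1, 3, 4, 6, 4, 5, 5, 4, 6, 4, 5, 4, 6, 4, 1, 3, 3, 1, 3, 1, 2, 1, 3, 3, 1]) (.node 4211 (.leaf 382 26 [2, 1, 4, 5, 5, 5, 5, 4, 6, 4, 5, 5, 4, 6, 1, 3, 1, 2, 2, 1, 3, 1, 2, 1, 3, 1, 2, 2, 1, 3, 3, 1, 3, 3, 1, 3, 3, 1, 3, 1]) (.leaf 388 9 [2, 1, 2, 1, 2, 1, 3, 1, 3, 1, 3, 1, 3, 1, 3, 1, 3, 3, 1, 5, 4, 6, 4, 5, 4, 6, 4, 5, 5, 4, 6, 4, 1, 3, 3, 1, 3, 1, 3, 3, 1]))) (.node 4213 (.leaf 393 32 [5, 5, 5, 4, 6, 4, 5, 5, 5, 4, 6, 4, 5, 1, 3, 3, 1, 3, 1, 3, 1, 3, 1, 3, 3, 1, 3, 1, 3, 1, 2, 1, 3, 1, 3, 3, 1, 3, 3, 1, 3, 1, 4, 6, 4]) (.node 4214 (.leaf 395 29 [6, 6, 6, 4, 5, 5, 5, 4, 6, 4, 5, 5, 4, 6, 4, 1, 3, 1, 3, 1, 2, 1, 3, 3, 1, 3, 1, 3, 3, 1, 2, 1, 2, 2, 1, 2, 1, 2, 2, 1, 2, 1, 3, 3]) (.leaf 16 10 [2, 1, 2, 1, 2, 1, 2, 2, 1, 6, 4, 5, 4, 6, 6, 4, 5, 4, 6, 4, 5, 4, 6, 6, 1, 2, 1, 3, 1, 2, 1, 3, 1, 2])))))) (.node 4226 (.node 4220 (.node 4217 (.node 4216 (.leaf 17 21 [4, 5, 5, 4, 6, 6, 4, 5, 4, 6, 6, 6, 4, 5, 5, 1, 2, 1, 3, 3, 1, 2, 2, 1, 2, 1, 3, 1, 3, 3, 1, 3, 1, 2, 2, 1]) (.leaf 29 15 [3, 1, 3, 3, 1, 2, 1, 4, 5, 4, 6, 6, 4, 5, 4, 6, 4, 5, 4, 6, 6, 4, 1, 3, 1, 2, 1, 3, 3, 1, 2, 1, 3, 1, 2, 2, 1])) (.node 4218 (.leaf 67 16 [3, 3, 1, 3, 3, 1, 3, 3, 4, 6, 6, 6, 4, 5, 4, 6, 6, 6, 4, 5, 4, 6, 6, 4, 5, 4, 1, 2, 1, 3, 3, 1, 3, 1, 3, 1, 3, 1, 2, 1, 2, 1]) (.node 4219 (.leaf 97 27 [4, 5, 5, 4, 6, 6, 4, 5, 4, 6, 6, 6, 4, 6, 2, 1, 3, 1, 3, 1, 2, 1, 2, 2, 1, 3, 1, 2, 1, 3, 3, 1, 3, 1, 2, 1, 2, 1, 3, 4, 6]) (.leaf 97 26 [6, 4, 5, 5, 4, 6, 6, 4, 5, 4, 6, 6, 6, 4, 6, 2, 1, 3, 1, 3, 1, 2, 1, 2, 2, 1, 3, 1, 2, 1, 3, 3, 1, 3, 1, 2, 1, 2, 1, 3, 4])))) (.node 4223 (.node 4221 (.leaf 119 6 [2, 2, 1, 2, 1, 2, 2, 1, 3, 3, 1, 3, 1, 3, 1, 3, 1, 3, 3, 1, 4, 6, 6, 4, 5, 5, 5, 4, 5, 1, 3, 3, 1, 3, 1]) (.node 4222 (.leaf 136 19 [2, 1, 3, 3, 1, 3, 3, 4, 5, 4, 6, 6, 4, 5, 5, 4, 6, 4, 5, 5, 5, 4, 6, 6, 2, 1, 2, 1, 3, 1, 2, 1, 3, 3, 1, 2, 1, 2, 1, 2, 2, 1, 2]) (.leaf 145 19 [1, 3, 1, 3, 1, 2, 1, 5, 4, 5, 5, 5, 4, 6, 4, 5, 4, 6, 2, 1, 3, 3, 1, 2, 2, 1, 3, 1, 3, 1, 2, 1, 3, 3, 1, 3, 3]))) (.node 4224 (.leaf 150 19 [1, 3, 3, 1, 2, 1, 3, 4, 6, 6, 4, 5, 4, 6, 6, 6, 4, 5, 4, 6, 6, 4, 5, 1, 2, 1, 3, 1, 2, 1, 2, 2, 1, 2, 2, 1, 2, 1, 2, 2, 1, 2]) (.node 4225 (.leaf 153 9 [1, 2, 1, 2, 2, 1, 2, 1, 2, 2, 1, 2, 1, 3, 3, 1, 3, 4, 6, 6, 6, 4, 5, 5, 5, 4, 5, 1, 3, 1, 3, 1, 2, 2, 1, 2]) (.leaf 158 18 [3, 3, 1, 3, 1, 2, 1, 2, 1, 6, 4, 5, 5, 5, 4, 6, 4, 5, 4, 6, 6, 4, 5, 1, 2, 2, 1, 2, 1, 2, 1, 2, 1, 3, 1, 3, 1, 2, 1, 3, 1]))))) (.node 4231 (.node 4228 (.node 4227 (.leaf 170 9 [3, 3, 1, 3, 1, 2, 1, 2, 2, 1, 2, 2, 1, 3, 3, 1, 2, 2, 5, 5, 4, 6, 4, 5, 4, 6, 6, 4, 5, 4, 5, 1, 2, 1, 2, 1, 3, 1, 3, 1]) (.leaf 173 25 [3, 1, 5, 4, 6, 4, 5, 4, 6, 4, 5, 4, 6, 4, 5, 4, 6, 6, 2, 1, 2, 2, 1, 2, 1, 2, 2, 1, 3, 1, 2, 2, 1, 3, 1, 3, 3, 1, 2, 2, 1, 2, 1])) (.node 4229 (.leaf 186 35 [5, 5, 5, 4, 2, 1, 3, 1, 3, 3, 1, 2, 1, 3, 1, 2, 2, 1, 2, 1, 2, 2, 1, 3, 1, 2, 1, 2, 2, 1, 3, 6, 4, 5, 5, 4, 6, 6, 4]) (.node 4230 (.leaf 188 40 [5, 4, 6, 2, 1, 3, 3, 1, 3, 1, 3, 1, 3, 3, 1, 3, 1, 2, 1, 2, 2, 1, 2, 1, 2, 1, 2, 2, 1, 3, 4, 5, 4, 6, 4, 5, 4, 6, 4, 5, 4, 6, 4]) (.leaf 195 12 [3, 1, 3, 3, 1, 3, 1, 2, 1, 2, 1, 2, 1, 2, 1, 6, 4, 5, 4, 6, 6, 4, 5, 4, 6, 4, 5, 1, 2, 1, 3, 1, 2, 2, 1, 2, 1, 3, 1])))) (.node 4234 (.node 4232 (.leaf 197 19 [2, 1, 3, 3, 1, 3, 3, 1, 4, 6, 4, 5, 5, 4, 6, 4, 5, 4, 6, 4, 5, 5, 1, 2, 1, 3, 1, 3, 3, 1, 2, 1, 2, 1, 3, 1, 3, 1, 3, 3, 1]) (.node 4233 (.leaf 210 10 [1, 2, 2, 1, 2, 1, 2, 1, 3, 1, 2, 1, 3, 3, 1, 2, 1, 6, 4, 5, 4, 6, 4, 5, 4, 6, 6, 4, 5, 4, 1, 2, 2, 1, 3, 1, 2, 2, 1, 3]) (.leaf 224 19 [1, 2, 1, 3, 1, 3, 1, 3, 5, 5, 4, 6, 6, 4, 5, 4, 6, 6, 6, 2, 2, 1, 3, 3, 1, 3, 1, 3, 1, 2, 2, 1, 2, 2, 1, 3, 1, 3]))) (.node 4235 (.leaf 231 22 [3, 1, 3, 1, 3, 4, 5, 5, 5, 4, 6, 4, 5, 4, 6, 6, 4, 5, 5, 3, 3, 1, 3, 1, 2, 2, 1, 2, 1, 2, 1, 3, 1, 2, 1, 2, 1, 2, 2, 1, 3]) (.node 4236 (.leaf 233 9 [1, 3, 1, 2, 1, 2, 2, 1, 2, 1, 2, 1, 2, 2, 1, 2, 1, 3, 5, 4, 6, 6, 4, 5, 4, 6, 6, 2, 1, 2, 1, 3, 1, 3, 1, 2]) (.leaf 233 23 [1, 2, 1, 3, 5, 4, 6, 6, 4, 5, 4, 6, 6, 2, 1, 2, 1, 3, 1, 3, 1, 2, 1, 3, 1, 2, 1, 2, 2, 1, 2, 1, 2, 1, 2, 2]))))))) (.node 4259 (.node 4248 (.node 4242 (.node 4239 (.node 4238 (.leaf 239 3 [2, 1, 2, 2, 1, 2, 1, 2, 1, 2, 1, 3, 1, 3, 1, 3, 1, 3, 3, 1, 3, 1, 2, 1, 5, 4, 6, 4, 5, 4, 6, 4, 5, 4, 6, 4, 5, 4, 6, 1, 3, 1]) (.leaf 240 1 [2, 1, 2, 1, 2, 2, 1, 3, 1, 3, 3, 1, 2, 1, 3, 1, 3, 1, 3, 1, 2, 2, 1, 3, 1, 3, 6, 6, 4, 5, 5, 4, 6, 4, 5, 4, 6, 6, 4, 5, 5, 5, 2])) (.node 4240 (.leaf 245 21 [2, 1, 2, 1, 3, 3, 5, 5, 4, 6, 6, 4, 5, 4, 6, 4, 5, 4, 6, 4, 2, 2, 1, 3, 3, 1, 2, 2, 1, 3, 1, 2, 2, 1, 3, 1, 3, 1, 2, 1, 2]) (.node 4241 (.leaf 246 8 [1, 2, 1, 2, 1, 2, 1, 3, 3, 1, 3, 1, 3, 3, 1, 3, 1, 3, 3, 6, 6, 6, 4, 5, 4, 6, 6, 4, 5, 4, 6, 4, 1, 2, 1, 2, 2, 1, 2, 2]) (.leaf 254 19 [1, 3, 1, 3, 3, 1, 2, 2, 4, 5, 5, 5, 4, 6, 4, 5, 4, 6, 6, 4, 5, 5, 5, 3, 3, 1, 3, 1, 3, 1, 2, 1, 3, 1, 2, 1, 2, 1, 2, 1, 2, 2])))) (.node 4245 (.node 4243 (.leaf 266 11 [1, 2, 2, 1, 3, 1, 3, 3, 1, 2, 1, 2, 1, 3, 1, 3, 3, 6, 6, 4, 5, 5, 5, 4, 6, 6, 2, 1, 2, 1, 2, 1, 3, 1, 2, 1, 2]) (.node 4244 (.leaf 269 6 [2, 2, 1, 3, 1, 3, 1, 2, 1, 2, 2, 1, 3, 1, 2, 1, 3, 3, 1, 2, 1, 3, 5, 5, 4, 6, 6, 4, 5, 4, 6, 4, 5, 5, 4, 6, 4, 2, 1, 3, 1, 2, 1]) (.leaf 275 8 [3, 1, 2, 1, 2, 1, 2, 2, 1, 2, 2, 1, 2, 2, 1, 3, 1, 2, 1, 3, 4, 5, 4, 6, 4, 5, 4, 6, 6, 6, 4, 6, 3, 3, 1, 3, 3, 1, 2, 1]))) (.node 4246 (.leaf 275 18 [2, 1, 2, 2, 1, 3, 1, 2, 1, 3, 4, 5, 4, 6, 4, 5, 4, 6, 6, 6, 4, 6, 3, 3, 1, 3, 3, 1, 2, 1, 3, 1, 2, 1, 2, 1, 2, 2, 1, 2]) (.node 4247 (.leaf 280 3 [3, 1, 2, 2, 1, 2, 1, 2, 1, 3, 1, 3, 1, 2, 1, 3, 1, 2, 2, 1, 3, 1, 2, 1, 3, 6, 4, 5, 4, 6, 6, 4, 5, 5, 4, 6, 4, 5, 5, 5, 2, 1, 3]) (.leaf 282 26 [1, 3, 6, 6, 6, 4, 5, 5, 5, 4, 6, 1, 2, 1, 2, 1, 3, 3, 1, 2, 1, 3, 3, 1, 3, 1, 3, 3, 1, 2, 1, 3, 3, 1, 2, 1, 3]))))) (.node 4253 (.node 4250 (.node 4249 (.leaf 287 28 [4, 6, 4, 5, 5, 4, 6, 6, 4, 5, 4, 6, 6, 6, 4, 5, 2, 1, 3, 1, 3, 1, 3, 1, 3, 3, 1, 2, 1, 2, 1, 2, 1, 3, 1, 3, 3, 1, 2, 1, 3, 1, 2, 2]) (.leaf 288 14 [3, 1, 2, 2, 1, 3, 3, 1, 3, 3, 1, 3, 1, 3, 4, 6, 4, 5, 4, 6, 4, 5, 4, 6, 4, 5, 4, 6, 4, 5, 3, 3, 1, 2, 1, 3, 1, 3, 3, 1, 2, 1, 3, 1])) (.node 4251 (.leaf 288 25 [3, 1, 3, 4, 6, 4, 5, 4, 6, 4, 5, 4, 6, 4, 5, 4, 6, 4, 5, 3, 3, 1, 2, 1, 3, 1, 3, 3, 1, 2, 1, 3, 1, 3, 1, 2, 2, 1, 3, 3, 1, 3, 3, 1]) (.node 4252 (.leaf 291 11 [3, 3, 1, 3, 1, 2, 2, 1, 2, 1, 3, 1, 3, 3, 1, 2, 1, 4, 6, 4, 6, 6, 6, 4, 5, 4, 6, 6, 4, 5, 4, 5, 3, 3, 1, 3, 3, 1, 3, 1, 3, 3, 1]) (.leaf 294 26 [2, 2, 6, 6, 6, 4, 5, 4, 6, 6, 4, 5, 2, 2, 1, 3, 3, 1, 2, 1, 3, 3, 1, 3, 1, 3, 1, 3, 1, 3, 1, 3, 3, 1, 3, 1, 2, 1])))) (.node 4256 (.node 4254 (.leaf 307 23 [3, 3, 1, 3, 1, 6, 6, 4, 5, 5, 5, 4, 6, 6, 6, 4, 5, 5, 5, 4, 1, 2, 1, 3, 1, 3, 3, 1, 3, 1, 2, 2, 1, 2, 1, 3, 3, 1, 3, 3, 1, 2, 1]) (.node 4255 (.leaf 308 2 [2, 1, 2, 2, 1, 3, 1, 3, 1, 2, 1, 3, 1, 2, 1, 3, 1, 3, 1, 2, 1, 2, 1, 3, 3, 1, 4, 6, 4, 5, 5, 4, 6, 6, 6, 4, 6, 1, 2]) (.leaf 309 17 [1, 3, 3, 1, 2, 2, 1, 3, 3, 1, 3, 6, 4, 5, 4, 6, 4, 5, 4, 6, 6, 6, 4, 6, 3, 3, 1, 2, 2, 1, 3, 1, 2, 1, 2, 2, 1, 2, 1, 2, 2]))) (.node 4257 (.leaf 309 16 [2, 1, 3, 3, 1, 2, 2, 1, 3, 3, 1, 3, 6, 4, 5, 4, 6, 4, 5, 4, 6, 6, 6, 4, 6, 3, 3, 1, 2, 2, 1, 3, 1, 2, 1, 2, 2, 1, 2, 1, 2]) (.node 4258 (.leaf 315 39 [4, 6, 2, 2, 1, 3, 1, 3, 1, 2, 1, 3, 3, 1, 3, 1, 2, 1, 2, 1, 2, 1, 2, 2, 1, 2, 1, 2, 1, 3, 6, 4, 5, 5, 4, 6, 4, 5, 5, 4, 6]) (.leaf 316 13 [1, 2, 1, 3, 1, 2, 1, 2, 2, 1, 3, 3, 1, 2, 2, 6, 4, 5, 5, 4, 6, 4, 5, 5, 4, 6, 4, 5, 4, 2, 1, 3, 3, 1, 2, 1, 2, 2, 1, 2, 1, 3])))))) (.node 4270 (.node 4264 (.node 4261 (.node 4260 (.leaf 317 9 [3, 3, 1, 3, 1, 2, 1, 3, 3, 1, 2, 1, 2, 2, 1, 3, 3, 1, 3, 4, 6, 6, 4, 5, 4, 6, 6, 6, 4, 5, 5, 1, 3, 1, 2, 1, 2, 1, 2, 1]) (.leaf 331 4 [2, 2, 1, 3, 3, 1, 2, 1, 2, 2, 1, 3, 1, 2, 1, 3, 3, 1, 3, 1, 2, 1, 3, 1, 4, 5, 5, 4, 6, 4, 5, 4, 6, 6, 6, 4, 2, 1, 2, 1])) (.node 4262 (.leaf 338 23 [3, 3, 1, 2, 2, 6, 6, 6, 4, 5, 4, 6, 6, 6, 4, 5, 4, 6, 6, 6, 2, 1, 3, 1, 2, 2, 1, 2, 1, 3, 3, 1, 3, 1, 2, 1, 3, 3, 1, 2, 1, 3, 1]) (.node 4263 (.leaf 356 10 [2, 1, 3, 3, 1, 3, 3, 1, 2, 1, 3, 1, 3, 1, 2, 1, 2, 2, 6, 4, 5, 4, 6, 4, 5, 4, 6, 6, 6, 1, 2, 2, 1, 3, 1, 3, 1, 3, 1]) (.leaf 360 6 [3, 3, 1, 3, 1, 3, 3, 1, 2, 2, 1, 3, 1, 2, 2, 1, 2, 1, 3, 3, 1, 3, 6, 4, 5, 4, 6, 6, 4, 5, 4, 6, 6, 6, 4, 5, 4, 6, 2, 1, 2, 1, 2, 1])))) (.node 4267 (.node 4265 (.leaf 366 18 [2, 2, 1, 3, 1, 3, 1, 3, 3, 1, 4, 6, 4, 5, 4, 6, 6, 4, 5, 4, 6, 6, 4, 2, 1, 2, 1, 3, 1, 2, 2, 1, 3, 3, 1, 2, 2, 1, 3, 3, 1]) (.node 4266 (.leaf 367 22 [3, 1, 3, 1, 2, 1, 4, 6, 4, 5, 5, 4, 6, 4, 5, 4, 6, 4, 5, 4, 1, 2, 1, 3, 3, 1, 2, 2, 1, 3, 3, 1, 2, 1, 2, 1, 2, 1, 3, 1, 3, 1]) (.leaf 372 8 [1, 3, 3, 1, 3, 1, 2, 1, 3, 3, 1, 2, 1, 3, 1, 3, 3, 1, 2, 1, 6, 4, 6, 6, 6, 4, 6, 1, 2, 2, 1, 3, 3, 1, 2]))) (.node 4268 (.leaf 376 21 [1, 2, 1, 3, 1, 2, 1, 6, 4, 5, 5, 4, 6, 6, 6, 1, 3, 1, 3, 1, 3, 1, 3, 3, 1, 2, 2, 1, 2, 1, 3, 1, 3, 1, 3, 3]) (.node 4269 (.leaf 6 10 [1, 3, 1, 3, 1, 3, 1, 3, 1, 3, 1, 3, 1, 3, 1, 3, 1, 3, 1, 3, 1, 3, 1, 3, 1, 3, 1, 3, 1, 3, 1, 3, 1, 3, 1, 3, 1, 3]) (.leaf 10 13 [3, 3, 3, 1, 3, 3, 3, 1, 3, 3, 3, 1, 3, 3, 3, 1, 3, 3, 3, 1, 3, 3, 3, 1, 3, 3, 3, 1, 3, 3, 3, 1, 3, 3, 3, 1, 3, 3, 3, 1]))))) (.node 4275 (.node 4272 (.node 4271 (.leaf 47 0 [2, 2, 1, 2, 1, 3, 1, 2, 2, 1, 2, 2, 1, 3, 3, 1, 3, 1, 2, 1, 2, 2, 1, 5, 5, 5, 4, 6, 6, 4]) (.leaf 163 3 [3, 3, 1, 3, 1, 2, 1, 2, 1, 2, 2, 1, 3, 1, 3, 1, 2, 1, 2, 1, 3, 3, 1, 3, 4, 6, 6, 4, 5, 5, 4, 6, 4, 5, 5, 5, 4, 6, 4, 5, 3, 3, 1])) (.node 4273 (.leaf 167 10 [1, 2, 1, 2, 1, 2, 1, 2, 2, 1, 3, 1, 3, 3, 1, 3, 1, 5, 4, 6, 6, 4, 5, 5, 5, 1, 3, 1, 3, 1, 3, 1, 2, 1, 3]) (.node 4274 (.leaf 213 4 [3, 1, 3, 3, 1, 3, 1, 3, 1, 2, 1, 3, 1, 3, 1, 3, 3, 1, 3, 1, 3, 1, 3, 5, 4, 5, 5, 5, 5, 4, 5, 1, 3, 1, 3]) (.leaf 265 8 [3, 1, 2, 1, 2, 2, 1, 2, 1, 3, 3, 1, 2, 1, 3, 3, 1, 2, 1, 3, 5, 4, 6, 4, 5, 4, 6, 4, 5, 5, 4, 6, 6, 3, 3, 1, 2, 2, 1, 2, 1])))) (.node 4278 (.node 4276 (.leaf 273 36 [5, 5, 4, 6, 6, 1, 3, 3, 1, 2, 1, 3, 1, 2, 1, 3, 1, 2, 1, 2, 2, 1, 2, 1, 2, 1, 2, 2, 1, 2, 1, 2, 2, 5, 5, 5, 5, 4, 6, 4, 5]) (.node 4277 (.leaf 278 33 [6, 4, 5, 4, 6, 6, 4, 5, 4, 6, 4, 5, 2, 1, 3, 1, 2, 1, 3, 3, 1, 3, 1, 3, 1, 2, 1, 2, 1, 2, 1, 2, 1, 2, 2, 1, 2, 1, 3, 1, 4, 5, 4, 6, 6]) (.leaf 284 36 [6, 1, 3, 1, 3, 1, 2, 1, 3, 1, 2, 2, 1, 3, 1, 2, 2, 1, 3, 3, 1, 2, 1, 3, 3, 1, 3, 1, 3, 4, 6, 4, 5, 5, 5, 4, 6]))) (.node 4279 (.leaf 290 2 [1, 2, 2, 1, 3, 1, 3, 3, 1, 3, 1, 2, 2, 1, 2, 2, 1, 3, 3, 1, 3, 1, 3, 1, 3, 3, 5, 4, 6, 6, 6, 4, 5, 5, 5, 4, 1, 2]) (.node 4280 (.leaf 294 0 [2, 2, 1, 3, 3, 1, 2, 1, 3, 3, 1, 3, 1, 3, 1, 3, 1, 3, 1, 3, 3, 1, 3, 1, 2, 1, 2, 2, 6, 6, 6, 4, 5, 4, 6, 6, 4, 5]) (.leaf 352 29 [6, 4, 5, 5, 4, 6, 4, 5, 5, 4, 6, 4, 5, 1, 3, 1, 3, 1, 3, 1, 2, 2, 1, 3, 1, 3, 3, 1, 3, 1, 2, 1, 3, 1, 2, 1, 2, 2, 1, 3, 3, 4])))))))) (.node 4324 (.node 4302 (.node 4291 (.node 4286 (.node 4283 (.node 4282 (.leaf 392 41 [5, 2, 1, 2, 2, 1, 2, 2, 1, 2, 1, 3, 1, 2, 2, 1, 3, 3, 1, 2, 1, 3, 1, 3, 3, 1, 3, 3, 1, 3, 6, 6, 4, 5, 5, 5, 4, 6, 6, 6, 4, 5]) (.leaf 396 6 [1, 3, 1, 2, 1, 2, 1, 3, 1, 3, 1, 2, 1, 3, 3, 1, 2, 2, 1, 3, 1, 2, 2, 4, 5, 5, 5, 4, 6, 4, 5, 5, 5, 4, 6, 4, 5, 5, 4, 6, 4, 1, 2, 1, 2, 1, 2])) (.node 4284 (.leaf 18 15 [2, 2, 1, 3, 1, 3, 6, 6, 6, 4, 5, 5, 5, 4, 2, 1, 3, 1, 2, 2, 1, 3, 1, 3, 1, 3, 1, 2, 1]) (.node 4285 (.leaf 72 34 [5, 2, 2, 1, 2, 1, 3, 1, 2, 1, 2, 2, 1, 2, 1, 2, 1, 2, 1, 2, 1, 2, 2, 1, 3, 1, 6, 6, 6, 4, 5, 4, 6, 6, 4]) (.leaf 176 15 [2, 2, 1, 2, 2, 1, 2, 2, 1, 2, 1, 3, 4, 5, 5, 4, 6, 4, 5, 4, 6, 4, 5, 4, 6, 4, 5, 4, 2, 1, 2, 2, 1, 3, 3, 1, 2, 2, 1, 2, 1, 2, 1])))) (.node 4288 (.node 4287 (.leaf 233 30 [6, 4, 5, 4, 6, 6, 2, 1, 2, 1, 3, 1, 3, 1, 2, 1, 3, 1, 2, 1, 2, 2, 1, 2, 1, 2, 1, 2, 2, 1, 2, 1, 3, 5, 4, 6]) (.leaf 236 31 [5, 4, 6, 6, 6, 4, 5, 5, 1, 3, 1, 3, 3, 1, 2, 1, 3, 1, 3, 3, 1, 2, 1, 2, 1, 3, 3, 1, 3, 1, 2, 1, 3, 3, 1, 4, 6, 6, 4])) (.node 4289 (.leaf 260 14 [1, 3, 3, 1, 2, 1, 2, 1, 3, 1, 3, 1, 3, 3, 4, 5, 4, 6, 6, 4, 5, 4, 6, 4, 3, 3, 1, 3, 1, 3, 3, 1, 2, 1, 2, 1, 2, 2]) (.node 4290 (.leaf 306 28 [5, 5, 5, 5, 4, 6, 4, 5, 5, 4, 6, 6, 4, 5, 5, 1, 2, 1, 2, 1, 3, 3, 1, 2, 1, 2, 1, 2, 1, 2, 1, 2, 1, 2, 1, 2, 1, 3, 1, 2, 2, 1, 3]) (.leaf 320 1 [3, 3, 1, 3, 3, 1, 3, 1, 2, 2, 1, 3, 3, 1, 3, 1, 3, 1, 2, 1, 2, 2, 1, 2, 2, 1, 3, 6, 4, 5, 5, 5, 5, 4, 6, 4, 5, 5, 5, 4, 6, 1]))))) (.node 4296 (.node 4293 (.node 4292 (.leaf 146 4 [2, 2, 1, 3, 1, 3, 1, 2, 1, 2, 1, 3, 3, 1, 3, 3, 1, 2, 2, 1, 3, 3, 5, 5, 5, 4, 6, 4, 5, 4, 6, 4, 5, 4, 6, 6, 6, 1, 3, 3, 1]) (.leaf 294 8 [3, 3, 1, 3, 1, 3, 1, 3, 1, 3, 1, 3, 3, 1, 3, 1, 2, 1, 2, 2, 6, 6, 6, 4, 5, 4, 6, 6, 4, 5, 2, 2, 1, 3, 3, 1, 2, 1])) (.node 4294 (.leaf 313 27 [1, 5, 5, 5, 4, 6, 4, 5, 5, 4, 6, 6, 4, 5, 3, 3, 1, 2, 2, 1, 3, 1, 2, 2, 1, 3, 3, 1, 3, 1, 3, 3, 1, 3, 1, 2, 2, 1, 3, 1, 3]) (.node 4295 (.leaf 330 8 [3, 1, 2, 1, 3, 1, 3, 1, 3, 3, 1, 3, 1, 2, 1, 2, 1, 3, 3, 1, 6, 4, 5, 5, 5, 4, 6, 4, 5, 5, 5, 2, 1, 2, 1, 3, 1, 2, 1]) (.leaf 333 34 [4, 6, 6, 6, 4, 5, 4, 2, 1, 2, 2, 1, 2, 1, 3, 3, 1, 2, 2, 1, 2, 1, 3, 3, 1, 3, 3, 1, 2, 2, 1, 3, 1, 3, 3, 4, 6, 4, 5, 5, 5])))) (.node 4299 (.node 4297 (.leaf 381 4 [1, 2, 1, 3, 1, 3, 3, 1, 3, 1, 2, 1, 3, 3, 1, 2, 2, 1, 2, 1, 3, 1, 3, 3, 4, 5, 5, 4, 6, 4, 5, 5, 4, 6, 6, 4, 2, 2, 1, 2]) (.node 4298 (.leaf 385 30 [4, 5, 5, 4, 2, 2, 1, 3, 3, 1, 3, 3, 1, 2, 2, 1, 3, 1, 3, 3, 1, 3, 1, 2, 1, 2, 1, 2, 1, 3, 3, 1, 6, 6]) (.leaf 71 26 [6, 6, 4, 5, 4, 6, 6, 4, 5, 5, 5, 2, 1, 2, 1, 2, 1, 3, 1, 2, 1, 2, 2, 1, 3, 3, 1, 3, 3, 1, 2, 2, 1, 3, 1, 3, 6]))) (.node 4300 (.leaf 87 25 [5, 5, 4, 6, 4, 5, 5, 5, 4, 6, 4, 5, 5, 5, 1, 3, 3, 1, 2, 2, 1, 2, 2, 1, 3, 3, 1, 3, 1, 2, 2, 1, 2, 1, 3, 1, 2, 2, 1]) (.node 4301 (.leaf 156 9 [3, 1, 2, 1, 2, 2, 1, 3, 1, 3, 1, 2, 1, 3, 3, 1, 3, 3, 5, 5, 4, 6, 6, 6, 4, 5, 4, 6, 6, 4, 5, 5, 4, 6, 4, 1, 2, 1, 2, 1, 3, 3, 1, 3]) (.leaf 179 0 [3, 3, 1, 2, 1, 2, 1, 3, 1, 2, 1, 2, 2, 1, 3, 3, 1, 2, 2, 1, 3, 3, 1, 3, 1, 2, 1, 5, 4, 5, 5, 5, 4, 6, 6, 6, 4])))))) (.node 4313 (.node 4307 (.node 4304 (.node 4303 (.leaf 199 23 [2, 1, 2, 1, 5, 4, 6, 6, 6, 4, 5, 5, 5, 4, 6, 2, 2, 1, 2, 1, 3, 1, 3, 1, 2, 2, 1, 3, 1, 2, 2, 1, 2, 2, 1, 3, 1, 2]) (.leaf 272 10 [3, 1, 2, 1, 2, 1, 3, 3, 1, 2, 1, 2, 2, 1, 2, 1, 3, 3, 5, 5, 4, 6, 6, 4, 5, 4, 6, 6, 6, 4, 5, 5, 5, 3, 3, 1, 3, 3, 1, 3, 3, 1, 3])) (.node 4305 (.leaf 322 7 [1, 3, 1, 3, 3, 1, 3, 1, 2, 1, 2, 1, 3, 1, 3, 3, 1, 3, 3, 1, 3, 6, 6, 4, 5, 5, 1, 3, 1, 2, 2, 1, 3]) (.node 4306 (.leaf 363 38 [6, 4, 5, 4, 6, 4, 1, 3, 1, 3, 3, 1, 2, 2, 1, 2, 2, 1, 3, 3, 1, 3, 3, 1, 3, 1, 3, 3, 1, 2, 1, 3, 1, 3, 4, 6, 6, 4, 5, 4, 6, 4, 5, 4]) (.leaf 368 30 [5, 5, 4, 6, 6, 6, 4, 5, 5, 5, 4, 6, 2, 2, 1, 3, 3, 1, 3, 3, 1, 2, 1, 3, 3, 1, 2, 2, 1, 3, 3, 1, 3, 1, 2, 1, 2, 1, 2, 2, 4, 5])))) (.node 4310 (.node 4308 (.leaf 84 27 [5, 5, 5, 5, 4, 6, 6, 6, 4, 2, 2, 1, 3, 3, 1, 2, 2, 1, 3, 1, 2, 1, 3, 1, 3, 1, 2, 1, 2, 2, 1, 2, 1, 3, 5, 4]) (.node 4309 (.leaf 134 32 [6, 4, 5, 4, 6, 4, 1, 2, 1, 2, 1, 3, 1, 3, 3, 1, 3, 1, 2, 1, 3, 1, 2, 1, 3, 3, 1, 2, 2, 1, 2, 2, 5, 4, 6, 4, 5, 4]) (.leaf 152 40 [5, 5, 1, 2, 2, 1, 3, 1, 3, 1, 2, 1, 3, 3, 1, 2, 1, 3, 3, 1, 2, 1, 2, 1, 2, 2, 1, 3, 5, 5, 5, 4, 6, 4, 5, 4, 6, 4, 5, 4, 6, 4]))) (.node 4311 (.leaf 189 34 [6, 4, 5, 1, 3, 1, 2, 1, 3, 3, 1, 3, 1, 3, 1, 2, 1, 3, 3, 1, 3, 3, 1, 2, 2, 1, 3, 3, 1, 3, 4, 5, 5, 5, 4, 6, 6]) (.node 4312 (.leaf 266 17 [3, 3, 1, 2, 1, 2, 1, 3, 1, 3, 3, 6, 6, 4, 5, 5, 5, 4, 6, 6, 2, 1, 2, 1, 2, 1, 3, 1, 2, 1, 2, 1, 2, 2, 1, 3, 1]) (.leaf 68 15 [3, 1, 2, 1, 2, 2, 1, 3, 3, 4, 5, 4, 5, 5, 5, 5, 4, 5, 1, 2, 1, 2, 1, 2, 1, 3, 3, 1, 3, 1, 2, 2, 1]))))) (.node 4318 (.node 4315 (.node 4314 (.leaf 95 4 [2, 1, 2, 1, 2, 2, 1, 2, 1, 3, 1, 3, 3, 1, 3, 1, 3, 1, 3, 3, 1, 6, 6, 4, 5, 4, 6, 4, 5, 5, 1, 2, 2, 1]) (.leaf 142 33 [4, 2, 1, 3, 3, 1, 2, 1, 3, 1, 3, 1, 2, 2, 1, 3, 3, 1, 3, 1, 3, 1, 2, 1, 3, 1, 3, 4, 5, 4, 5, 5, 5, 5])) (.node 4316 (.leaf 379 28 [4, 6, 4, 5, 5, 5, 4, 6, 3, 3, 1, 2, 1, 2, 1, 3, 1, 2, 1, 3, 1, 2, 2, 1, 2, 1, 2, 1, 2, 1, 2, 1, 2, 1, 3, 1]) (.node 4317 (.leaf 20 25 [6, 6, 4, 5, 4, 6, 6, 6, 4, 2, 2, 1, 3, 1, 3, 1, 3, 3, 1, 2, 2, 1, 3, 1, 2, 2, 1, 3, 3, 1, 3, 4, 5, 4]) (.leaf 53 2 [2, 1, 2, 1, 2, 2, 1, 2, 1, 2, 2, 1, 3, 1, 3, 1, 2, 1, 3, 3, 1, 3, 5, 4, 5, 5, 5, 4, 6, 6, 4, 5, 4, 1, 2])))) (.node 4321 (.node 4319 (.leaf 74 21 [3, 1, 3, 3, 5, 5, 4, 6, 6, 4, 2, 1, 3, 3, 1, 2, 1, 3, 1, 2, 1, 2, 1, 3, 1, 2, 1, 2, 2, 1, 3]) (.node 4320 (.leaf 97 28 [5, 5, 4, 6, 6, 4, 5, 4, 6, 6, 6, 4, 6, 2, 1, 3, 1, 3, 1, 2, 1, 2, 2, 1, 3, 1, 2, 1, 3, 3, 1, 3, 1, 2, 1, 2, 1, 3, 4, 6, 4]) (.leaf 120 2 [1, 3, 1, 3, 3, 1, 3, 1, 3, 1, 2, 1, 3, 1, 3, 1, 3, 1, 3, 3, 1, 2, 1, 3, 4, 6, 4, 6, 6, 6, 4, 5, 5, 1, 3]))) (.node 4322 (.leaf 122 27 [5, 5, 5, 4, 6, 4, 5, 5, 5, 4, 5, 1, 2, 1, 3, 3, 1, 2, 1, 2, 2, 1, 3, 3, 1, 3, 1, 2, 2, 1, 2, 2, 1, 3, 1, 2, 2, 4]) (.node 4323 (.leaf 135 15 [2, 1, 2, 1, 2, 2, 1, 2, 1, 2, 1, 4, 6, 4, 5, 5, 5, 4, 6, 6, 6, 4, 5, 4, 1, 3, 1, 2, 2, 1, 2, 1, 3, 1, 2, 2, 1, 2, 1]) (.leaf 179 19 [1, 3, 3, 1, 3, 1, 2, 1, 5, 4, 5, 5, 5, 4, 6, 6, 6, 4, 3, 3, 1, 2, 1, 2, 1, 3, 1, 2, 1, 2, 2, 1, 3, 3, 1, 2, 2]))))))) (.node 4346 (.node 4335 (.node 4329 (.node 4326 (.node 4325 (.leaf 200 37 [5, 5, 4, 1, 2, 2, 1, 3, 1, 3, 1, 2, 2, 1, 2, 1, 2, 2, 1, 2, 1, 2, 1, 3, 3, 1, 3, 3, 1, 3, 5, 4, 6, 4, 5, 5, 5, 4, 6, 4]) (.leaf 248 18 [2, 1, 2, 2, 1, 2, 1, 2, 1, 5, 5, 5, 5, 4, 6, 4, 5, 5, 5, 4, 6, 4, 5, 5, 4, 2, 2, 1, 3, 3, 1, 2, 1, 2, 1, 3, 3, 1, 2, 1, 3, 3, 1])) (.node 4327 (.leaf 282 3 [2, 1, 3, 3, 1, 2, 1, 3, 3, 1, 3, 1, 3, 3, 1, 2, 1, 3, 3, 1, 2, 1, 3, 1, 3, 6, 6, 6, 4, 5, 5, 5, 4, 6, 1, 2, 1]) (.node 4328 (.leaf 295 2 [2, 1, 2, 1, 3, 1, 3, 3, 1, 3, 1, 2, 1, 3, 3, 1, 2, 1, 3, 1, 2, 1, 3, 1, 2, 2, 6, 4, 5, 4, 6, 6, 4, 5, 4, 5, 1, 2]) (.leaf 320 2 [3, 1, 3, 3, 1, 3, 1, 2, 2, 1, 3, 3, 1, 3, 1, 3, 1, 2, 1, 2, 2, 1, 2, 2, 1, 3, 6, 4, 5, 5, 5, 5, 4, 6, 4, 5, 5, 5, 4, 6, 1, 3])))) (.node 4332 (.node 4330 (.leaf 333 10 [2, 2, 1, 2, 1, 3, 3, 1, 3, 3, 1, 2, 2, 1, 3, 1, 3, 3, 4, 6, 4, 5, 5, 5, 4, 6, 6, 6, 4, 5, 4, 2, 1, 2, 2, 1, 2, 1, 3, 3, 1]) (.node 4331 (.leaf 368 6 [3, 3, 1, 2, 1, 3, 3, 1, 2, 2, 1, 3, 3, 1, 3, 1, 2, 1, 2, 1, 2, 2, 4, 5, 5, 5, 4, 6, 6, 6, 4, 5, 5, 5, 4, 6, 2, 2, 1, 3, 3, 1]) (.leaf 373 41 [5, 4, 1, 3, 3, 1, 3, 1, 3, 1, 3, 1, 2, 1, 2, 1, 3, 1, 2, 2, 1, 2, 2, 1, 3, 3, 1, 3, 3, 1, 4, 6, 6, 6, 4, 5, 5, 5, 4, 6, 4, 5, 5]))) (.node 4333 (.leaf 379 4 [1, 2, 1, 3, 1, 2, 1, 3, 1, 2, 2, 1, 2, 1, 2, 1, 2, 1, 2, 1, 2, 1, 3, 1, 4, 6, 4, 5, 5, 5, 4, 6, 3, 3, 1, 2]) (.node 4334 (.leaf 384 2 [3, 1, 2, 1, 3, 1, 2, 1, 3, 1, 2, 1, 3, 1, 2, 1, 2, 1, 3, 3, 1, 3, 1, 2, 2, 1, 6, 6, 6, 4, 5, 5, 5, 4, 6, 4, 2, 1]) (.leaf 395 10 [3, 1, 3, 3, 1, 2, 1, 2, 2, 1, 2, 1, 2, 2, 1, 2, 1, 3, 3, 6, 6, 6, 4, 5, 5, 5, 4, 6, 4, 5, 5, 4, 6, 4, 1, 3, 1, 3, 1, 2, 1, 3, 3, 1]))))) (.node 4340 (.node 4337 (.node 4336 (.leaf 396 8 [1, 2, 1, 2, 1, 3, 1, 3, 1, 2, 1, 3, 3, 1, 2, 2, 1, 3, 1, 2, 2, 4, 5, 5, 5, 4, 6, 4, 5, 5, 5, 4, 6, 4, 5, 5, 4, 6, 4, 1, 2, 1, 2, 1, 2, 1, 3]) (.leaf 132 26 [6, 6, 4, 5, 4, 6, 4, 5, 4, 6, 4, 1, 3, 1, 3, 1, 2, 1, 2, 1, 2, 2, 1, 2, 1, 3, 1, 2, 1, 2, 1, 2, 1, 2, 1, 3, 1])) (.node 4338 (.leaf 198 36 [5, 5, 4, 1, 2, 2, 1, 2, 1, 3, 3, 1, 2, 2, 1, 2, 1, 3, 1, 2, 2, 1, 3, 1, 3, 1, 3, 3, 1, 3, 6, 6, 4, 5, 5, 4, 6, 4, 5]) (.node 4339 (.leaf 256 38 [4, 1, 2, 2, 1, 3, 1, 3, 1, 3, 3, 1, 2, 1, 2, 2, 1, 2, 2, 1, 3, 1, 2, 1, 2, 1, 3, 1, 4, 5, 5, 4, 6, 4, 5, 4, 6, 4, 5]) (.leaf 266 35 [6, 6, 2, 1, 2, 1, 2, 1, 3, 1, 2, 1, 2, 1, 2, 2, 1, 3, 1, 3, 3, 1, 2, 1, 2, 1, 3, 1, 3, 3, 6, 6, 4, 5, 5, 5, 4])))) (.node 4343 (.node 4341 (.leaf 280 16 [2, 1, 3, 1, 2, 2, 1, 3, 1, 2, 1, 3, 6, 4, 5, 4, 6, 6, 4, 5, 5, 4, 6, 4, 5, 5, 5, 2, 1, 3, 3, 1, 2, 2, 1, 2, 1, 2, 1, 3, 1, 3, 1]) (.node 4342 (.leaf 282 5 [3, 3, 1, 2, 1, 3, 3, 1, 3, 1, 3, 3, 1, 2, 1, 3, 3, 1, 2, 1, 3, 1, 3, 6, 6, 6, 4, 5, 5, 5, 4, 6, 1, 2, 1, 2, 1]) (.leaf 286 28 [5, 4, 6, 4, 5, 4, 6, 4, 5, 4, 6, 4, 5, 4, 2, 2, 1, 3, 3, 1, 3, 1, 2, 1, 2, 1, 2, 1, 2, 1, 3, 3, 1, 3, 3, 1, 3, 1, 3, 1, 3, 1]))) (.node 4344 (.leaf 294 36 [4, 5, 2, 2, 1, 3, 3, 1, 2, 1, 3, 3, 1, 3, 1, 3, 1, 3, 1, 3, 1, 3, 3, 1, 3, 1, 2, 1, 2, 2, 6, 6, 6, 4, 5, 4, 6, 6]) (.node 4345 (.leaf 299 33 [6, 4, 5, 5, 5, 4, 5, 1, 3, 1, 2, 1, 3, 1, 3, 3, 1, 2, 2, 1, 2, 2, 1, 3, 1, 2, 1, 3, 1, 2, 1, 2, 1, 2, 2, 6, 6, 4, 5, 4]) (.leaf 313 29 [5, 5, 4, 6, 4, 5, 5, 4, 6, 6, 4, 5, 3, 3, 1, 2, 2, 1, 3, 1, 2, 2, 1, 3, 3, 1, 3, 1, 3, 3, 1, 3, 1, 2, 2, 1, 3, 1, 3, 1, 5])))))) (.node 4357 (.node 4351 (.node 4348 (.node 4347 (.leaf 330 0 [2, 1, 2, 1, 3, 1, 2, 1, 3, 1, 2, 1, 3, 1, 3, 1, 3, 3, 1, 3, 1, 2, 1, 2, 1, 3, 3, 1, 6, 4, 5, 5, 5, 4, 6, 4, 5, 5, 5]) (.leaf 333 39 [5, 4, 2, 1, 2, 2, 1, 2, 1, 3, 3, 1, 2, 2, 1, 2, 1, 3, 3, 1, 3, 3, 1, 2, 2, 1, 3, 1, 3, 3, 4, 6, 4, 5, 5, 5, 4, 6, 6, 6, 4])) (.node 4349 (.leaf 367 6 [2, 2, 1, 3, 3, 1, 2, 1, 2, 1, 2, 1, 3, 1, 3, 1, 3, 1, 3, 1, 2, 1, 4, 6, 4, 5, 5, 4, 6, 4, 5, 4, 6, 4, 5, 4, 1, 2, 1, 3, 3, 1]) (.node 4350 (.leaf 379 5 [2, 1, 3, 1, 2, 1, 3, 1, 2, 2, 1, 2, 1, 2, 1, 2, 1, 2, 1, 2, 1, 3, 1, 4, 6, 4, 5, 5, 5, 4, 6, 3, 3, 1, 2, 1]) (.leaf 33 34 [4, 6, 2, 2, 1, 3, 1, 3, 1, 3, 1, 3, 1, 2, 1, 2, 1, 3, 1, 2, 1, 3, 1, 3, 3, 4, 6, 6, 4, 5, 4, 6, 6, 6, 4, 5])))) (.node 4354 (.node 4352 (.leaf 33 1 [2, 1, 3, 1, 3, 1, 3, 1, 3, 1, 2, 1, 2, 1, 3, 1, 2, 1, 3, 1, 3, 3, 4, 6, 6, 4, 5, 4, 6, 6, 6, 4, 5, 4, 6, 2]) (.node 4353 (.leaf 44 8 [1, 2, 1, 2, 1, 3, 1, 3, 3, 1, 2, 1, 2, 2, 1, 4, 6, 4, 5, 4, 6, 6, 4, 5, 5, 5, 4, 3, 3, 1, 3, 3, 1, 2, 2]) (.leaf 55 7 [2, 1, 3, 1, 3, 1, 2, 1, 2, 1, 3, 1, 3, 3, 1, 2, 2, 4, 6, 6, 4, 5, 4, 6, 6, 4, 5, 4, 6, 6, 2, 1, 2, 1, 3, 3, 1]))) (.node 4355 (.leaf 71 11 [2, 1, 3, 3, 1, 3, 3, 1, 2, 2, 1, 3, 1, 3, 6, 6, 6, 4, 5, 4, 6, 6, 4, 5, 5, 5, 2, 1, 2, 1, 2, 1, 3, 1, 2, 1, 2]) (.node 4356 (.leaf 71 18 [1, 2, 2, 1, 3, 1, 3, 6, 6, 6, 4, 5, 4, 6, 6, 4, 5, 5, 5, 2, 1, 2, 1, 2, 1, 3, 1, 2, 1, 2, 2, 1, 3, 3, 1, 3, 3]) (.leaf 72 18 [2, 1, 2, 2, 1, 3, 1, 6, 6, 6, 4, 5, 4, 6, 6, 4, 5, 2, 2, 1, 2, 1, 3, 1, 2, 1, 2, 2, 1, 2, 1, 2, 1, 2, 1]))))) (.node 4362 (.node 4359 (.node 4358 (.leaf 75 14 [2, 1, 3, 3, 1, 2, 1, 2, 1, 3, 3, 6, 6, 4, 5, 5, 5, 4, 6, 4, 5, 5, 5, 4, 1, 2, 1, 3, 1, 2, 1, 3, 3, 1, 3, 3, 1, 2]) (.leaf 85 38 [6, 6, 2, 2, 1, 2, 1, 3, 1, 3, 1, 3, 1, 3, 1, 3, 1, 2, 1, 3, 3, 1, 2, 2, 1, 2, 1, 6, 6, 6, 4, 5, 4, 6, 6, 6, 4, 5, 4, 6])) (.node 4360 (.leaf 98 15 [1, 3, 3, 1, 2, 1, 2, 1, 3, 1, 6, 6, 4, 5, 4, 6, 6, 6, 4, 5, 4, 6, 6, 4, 3, 3, 1, 3, 3, 1, 3, 3, 1, 3, 1, 2, 2, 1, 3]) (.node 4361 (.leaf 98 3 [3, 3, 1, 3, 3, 1, 3, 1, 2, 2, 1, 3, 1, 3, 3, 1, 2, 1, 2, 1, 3, 1, 6, 6, 4, 5, 4, 6, 6, 6, 4, 5, 4, 6, 6, 4, 3, 3, 1]) (.leaf 100 13 [2, 1, 2, 2, 1, 2, 1, 3, 3, 1, 2, 1, 5, 4, 5, 5, 5, 4, 6, 6, 4, 5, 5, 2, 1, 2, 1, 2, 1, 3, 3, 1, 3, 3, 1, 2])))) (.node 4365 (.node 4363 (.leaf 105 26 [6, 6, 4, 5, 4, 6, 4, 5, 4, 6, 4, 5, 5, 4, 3, 3, 1, 2, 1, 3, 1, 2, 1, 2, 1, 2, 1, 3, 1, 3, 1, 3, 1, 2, 1, 3, 1, 2, 2, 4]) (.node 4364 (.leaf 110 9 [3, 1, 2, 2, 1, 2, 1, 2, 2, 1, 2, 1, 3, 1, 3, 1, 5, 5, 5, 5, 4, 6, 6, 6, 4, 5, 4, 6, 2, 2, 1, 2, 1, 2, 1, 2, 1]) (.leaf 118 37 [5, 4, 6, 1, 3, 3, 1, 2, 1, 2, 2, 1, 2, 2, 1, 2, 1, 2, 1, 3, 1, 3, 3, 1, 3, 1, 2, 1, 3, 4, 5, 4, 6, 4, 5, 5, 4, 6, 4, 5]))) (.node 4366 (.leaf 118 10 [2, 1, 2, 1, 2, 1, 3, 1, 3, 3, 1, 3, 1, 2, 1, 3, 4, 5, 4, 6, 4, 5, 5, 4, 6, 4, 5, 5, 4, 6, 1, 3, 3, 1, 2, 1, 2, 2, 1, 2]) (.node 4367 (.leaf 120 3 [3, 1, 3, 3, 1, 3, 1, 3, 1, 2, 1, 3, 1, 3, 1, 3, 1, 3, 3, 1, 2, 1, 3, 4, 6, 4, 6, 6, 6, 4, 5, 5, 1, 3, 1]) (.leaf 126 20 [1, 3, 3, 1, 3, 1, 6, 4, 5, 5, 4, 6, 4, 5, 5, 4, 6, 1, 3, 1, 2, 1, 2, 2, 1, 3, 3, 1, 2, 1, 3, 1, 2, 1, 2, 1, 2]))))))))) (.node 4455 (.node 4411 (.node 4389 (.node 4378 (.node 4373 (.node 4370 (.node 4369 (.leaf 129 35 [5, 1, 2, 1, 3, 1, 2, 1, 2, 2, 1, 3, 1, 2, 2, 1, 3, 1, 2, 1, 2, 2, 1, 2, 1, 3, 3, 5, 5, 5, 4, 6, 6, 6, 4, 5]) (.leaf 129 2 [1, 3, 1, 2, 1, 2, 2, 1, 3, 1, 2, 2, 1, 3, 1, 2, 1, 2, 2, 1, 2, 1, 3, 3, 5, 5, 5, 4, 6, 6, 6, 4, 5, 5, 1, 2])) (.node 4371 (.leaf 144 19 [1, 2, 1, 3, 1, 3, 1, 5, 4, 6, 4, 5, 5, 4, 6, 4, 5, 4, 6, 6, 4, 3, 3, 1, 3, 1, 2, 1, 3, 3, 1, 2, 2, 1, 3, 3, 1, 3, 1, 2]) (.node 4372 (.leaf 147 8 [3, 3, 1, 2, 2, 1, 3, 1, 3, 1, 2, 1, 2, 1, 2, 1, 3, 3, 5, 5, 4, 6, 4, 5, 5, 4, 6, 6, 4, 5, 2, 2, 1, 3, 1, 3, 3, 1]) (.leaf 164 6 [2, 1, 2, 2, 1, 3, 3, 1, 3, 1, 3, 1, 2, 1, 2, 2, 1, 3, 1, 2, 1, 6, 6, 4, 5, 4, 6, 6, 6, 4, 5, 4, 6, 6, 4, 5, 4, 3, 3, 1, 3, 3, 1])))) (.node 4375 (.node 4374 (.leaf 170 24 [1, 2, 2, 5, 5, 4, 6, 4, 5, 4, 6, 6, 4, 5, 4, 5, 1, 2, 1, 2, 1, 3, 1, 3, 1, 3, 3, 1, 3, 1, 2, 1, 2, 2, 1, 2, 2, 1, 3, 3]) (.leaf 180 14 [1, 3, 1, 3, 1, 3, 1, 2, 1, 2, 1, 2, 1, 6, 4, 6, 6, 6, 4, 5, 4, 6, 6, 6, 4, 5, 2, 1, 2, 1, 3, 1, 2, 1, 3, 1, 3, 1, 2, 2])) (.node 4376 (.leaf 183 27 [4, 5, 5, 4, 6, 4, 5, 4, 6, 4, 5, 4, 6, 6, 4, 5, 4, 2, 2, 1, 2, 1, 2, 1, 3, 3, 1, 2, 1, 3, 1, 2, 1, 3, 1, 2, 2, 1, 3, 1, 3, 1, 3, 3]) (.node 4377 (.leaf 184 16 [3, 3, 1, 3, 1, 2, 2, 1, 3, 3, 1, 6, 6, 6, 4, 5, 5, 5, 4, 6, 4, 5, 5, 4, 6, 6, 6, 2, 1, 3, 1, 3, 1, 3, 1, 2, 1, 2, 2, 1, 2, 2, 1]) (.leaf 190 27 [4, 5, 5, 4, 6, 4, 5, 5, 4, 6, 4, 5, 4, 6, 1, 3, 1, 2, 1, 2, 2, 1, 2, 2, 1, 3, 1, 2, 2, 1, 2, 1, 2, 1, 3, 1, 3, 1, 2, 1, 3]))))) (.node 4383 (.node 4380 (.node 4379 (.leaf 193 8 [1, 3, 1, 2, 1, 2, 1, 2, 1, 2, 1, 3, 1, 3, 3, 1, 2, 2, 1, 4, 6, 4, 5, 4, 6, 6, 4, 5, 5, 5, 4, 1, 2, 1, 3, 3, 1, 3, 3]) (.leaf 199 15 [2, 1, 2, 2, 1, 3, 1, 2, 2, 1, 2, 1, 5, 4, 6, 6, 6, 4, 5, 5, 5, 4, 6, 2, 2, 1, 2, 1, 3, 1, 3, 1, 2, 2, 1, 3, 1, 2])) (.node 4381 (.leaf 210 4 [3, 1, 2, 2, 1, 3, 1, 2, 2, 1, 2, 1, 2, 1, 3, 1, 2, 1, 3, 3, 1, 2, 1, 6, 4, 5, 4, 6, 4, 5, 4, 6, 6, 4, 5, 4, 1, 2, 2, 1]) (.node 4382 (.leaf 220 3 [2, 1, 3, 3, 1, 2, 1, 2, 2, 1, 2, 1, 2, 1, 2, 1, 2, 2, 1, 2, 1, 3, 1, 3, 4, 6, 4, 5, 5, 5, 4, 6, 4, 5, 5, 4, 6, 6, 4, 5, 3, 3, 1]) (.leaf 221 5 [1, 3, 3, 1, 2, 1, 3, 1, 2, 1, 3, 1, 2, 2, 1, 3, 1, 2, 2, 1, 3, 1, 4, 6, 4, 5, 5, 5, 4, 6, 6, 6, 4, 5, 5, 2, 1, 2, 1, 2])))) (.node 4386 (.node 4384 (.leaf 224 6 [3, 1, 3, 1, 2, 2, 1, 2, 2, 1, 3, 1, 3, 1, 2, 1, 3, 1, 3, 1, 3, 5, 5, 4, 6, 6, 4, 5, 4, 6, 6, 6, 2, 2, 1, 3, 3, 1]) (.node 4385 (.leaf 225 2 [2, 1, 3, 1, 2, 2, 1, 3, 3, 1, 2, 2, 1, 3, 1, 2, 1, 3, 1, 2, 1, 3, 1, 3, 3, 4, 6, 4, 5, 4, 6, 4, 5, 4, 6, 4, 5, 4, 6, 1, 2]) (.leaf 231 27 [4, 5, 5, 5, 4, 6, 4, 5, 4, 6, 6, 4, 5, 5, 3, 3, 1, 3, 1, 2, 2, 1, 2, 1, 2, 1, 3, 1, 2, 1, 2, 1, 2, 2, 1, 3, 3, 1, 3, 1, 3]))) (.node 4387 (.leaf 235 7 [2, 1, 2, 1, 2, 1, 2, 1, 3, 1, 2, 2, 1, 3, 1, 3, 1, 2, 1, 3, 4, 6, 6, 6, 4, 5, 5, 5, 4, 5, 2, 2, 1, 3, 1, 3, 1]) (.node 4388 (.leaf 235 11 [2, 1, 2, 1, 3, 1, 2, 2, 1, 3, 1, 3, 1, 2, 1, 3, 4, 6, 6, 6, 4, 5, 5, 5, 4, 5, 2, 2, 1, 3, 1, 3, 1, 2, 1, 2, 1]) (.leaf 236 5 [1, 2, 1, 3, 1, 3, 3, 1, 2, 1, 2, 1, 3, 3, 1, 3, 1, 2, 1, 3, 3, 1, 4, 6, 6, 4, 5, 4, 6, 6, 6, 4, 5, 5, 1, 3, 1, 3, 3])))))) (.node 4400 (.node 4394 (.node 4391 (.node 4390 (.leaf 236 17 [3, 3, 1, 3, 1, 2, 1, 3, 3, 1, 4, 6, 6, 4, 5, 4, 6, 6, 6, 4, 5, 5, 1, 3, 1, 3, 3, 1, 2, 1, 3, 1, 3, 3, 1, 2, 1, 2, 1]) (.leaf 245 38 [4, 6, 4, 2, 2, 1, 3, 3, 1, 2, 2, 1, 3, 1, 2, 2, 1, 3, 1, 3, 1, 2, 1, 2, 2, 1, 2, 1, 3, 3, 5, 5, 4, 6, 6, 4, 5, 4, 6, 4, 5])) (.node 4392 (.leaf 246 24 [1, 3, 3, 6, 6, 6, 4, 5, 4, 6, 6, 4, 5, 4, 6, 4, 1, 2, 1, 2, 2, 1, 2, 2, 1, 2, 1, 2, 1, 2, 1, 3, 3, 1, 3, 1, 3, 3, 1, 3]) (.node 4393 (.leaf 247 17 [1, 2, 1, 2, 1, 3, 1, 3, 3, 1, 6, 4, 5, 4, 6, 6, 6, 4, 5, 4, 6, 6, 4, 5, 4, 1, 2, 2, 1, 2, 2, 1, 3, 1, 2, 2, 1, 2, 2, 1, 2, 2]) (.leaf 254 24 [1, 2, 2, 4, 5, 5, 5, 4, 6, 4, 5, 4, 6, 6, 4, 5, 5, 5, 3, 3, 1, 3, 1, 3, 1, 2, 1, 3, 1, 2, 1, 2, 1, 2, 1, 2, 2, 1, 3, 1, 3, 3])))) (.node 4397 (.node 4395 (.leaf 256 15 [1, 2, 2, 1, 3, 1, 2, 1, 2, 1, 3, 1, 4, 5, 5, 4, 6, 4, 5, 4, 6, 4, 5, 4, 1, 2, 2, 1, 3, 1, 3, 1, 3, 3, 1, 2, 1, 2, 2]) (.node 4396 (.leaf 261 17 [2, 1, 2, 1, 3, 1, 2, 1, 2, 1, 3, 4, 6, 4, 5, 5, 5, 4, 6, 6, 6, 4, 6, 1, 3, 1, 3, 1, 2, 2, 1, 2, 1, 2, 1, 2, 1, 2, 1, 2]) (.leaf 261 28 [4, 6, 4, 5, 5, 5, 4, 6, 6, 6, 4, 6, 1, 3, 1, 3, 1, 2, 2, 1, 2, 1, 2, 1, 2, 1, 2, 1, 2, 2, 1, 2, 1, 3, 1, 2, 1, 2, 1, 3]))) (.node 4398 (.leaf 262 7 [1, 2, 2, 1, 3, 3, 1, 3, 1, 3, 1, 2, 1, 2, 1, 2, 2, 1, 2, 1, 3, 5, 4, 6, 6, 4, 5, 4, 6, 4, 2, 1, 3, 3, 1, 3, 3]) (.node 4399 (.leaf 264 26 [2, 2, 4, 6, 4, 5, 5, 5, 4, 6, 4, 5, 5, 4, 6, 2, 1, 3, 1, 3, 1, 2, 2, 1, 3, 1, 2, 1, 2, 1, 2, 1, 3, 1, 2, 2, 1, 3, 1, 2, 1]) (.leaf 268 21 [2, 1, 2, 2, 1, 2, 2, 4, 6, 4, 5, 5, 5, 4, 6, 4, 5, 4, 6, 6, 4, 5, 4, 1, 3, 3, 1, 3, 1, 3, 3, 1, 2, 1, 3, 3, 1, 2, 1, 3, 3, 1, 2, 1]))))) (.node 4405 (.node 4402 (.node 4401 (.leaf 286 9 [1, 2, 1, 2, 1, 2, 1, 3, 3, 1, 3, 3, 1, 3, 1, 3, 1, 3, 1, 5, 4, 6, 4, 5, 4, 6, 4, 5, 4, 6, 4, 5, 4, 2, 2, 1, 3, 3, 1, 3, 1, 2]) (.leaf 287 23 [1, 3, 1, 2, 2, 4, 6, 4, 5, 5, 4, 6, 6, 4, 5, 4, 6, 6, 6, 4, 5, 2, 1, 3, 1, 3, 1, 3, 1, 3, 3, 1, 2, 1, 2, 1, 2, 1, 3, 1, 3, 3, 1, 2])) (.node 4403 (.leaf 293 42 [5, 1, 3, 3, 1, 3, 1, 2, 1, 3, 1, 2, 2, 1, 3, 1, 3, 3, 1, 3, 1, 3, 1, 2, 1, 3, 1, 3, 3, 6, 6, 4, 5, 4, 6, 6, 6, 4, 5, 4, 6, 6, 4]) (.node 4404 (.leaf 297 44 [5, 1, 3, 3, 1, 2, 2, 1, 3, 1, 2, 1, 2, 1, 3, 1, 2, 1, 3, 3, 1, 2, 1, 2, 1, 3, 3, 1, 3, 4, 6, 6, 4, 5, 4, 6, 6, 6, 4, 5, 4, 6, 6, 4, 5]) (.leaf 302 11 [1, 3, 1, 2, 2, 1, 2, 2, 1, 2, 1, 2, 1, 3, 1, 3, 3, 4, 5, 4, 6, 4, 5, 4, 6, 4, 5, 4, 6, 6, 6, 4, 5, 4, 1, 3, 1, 3, 3, 1, 2, 2, 1, 2, 2])))) (.node 4408 (.node 4406 (.leaf 313 4 [2, 1, 3, 1, 2, 2, 1, 3, 3, 1, 3, 1, 3, 3, 1, 3, 1, 2, 2, 1, 3, 1, 3, 1, 5, 5, 5, 4, 6, 4, 5, 5, 4, 6, 6, 4, 5, 3, 3, 1, 2]) (.node 4407 (.leaf 323 21 [1, 3, 1, 3, 1, 3, 3, 6, 6, 4, 5, 4, 6, 4, 5, 4, 6, 4, 5, 4, 6, 1, 3, 3, 1, 2, 1, 3, 3, 1, 3, 3, 1, 3, 1, 2, 1, 3, 1, 2, 1, 3]) (.leaf 332 15 [1, 3, 1, 3, 1, 2, 1, 3, 1, 2, 1, 2, 2, 4, 6, 4, 5, 4, 6, 4, 5, 4, 6, 6, 6, 4, 5, 4, 2, 2, 1, 3, 1, 2, 1, 3, 1, 3, 1, 3, 1, 2, 2]))) (.node 4409 (.leaf 333 25 [1, 3, 3, 4, 6, 4, 5, 5, 5, 4, 6, 6, 6, 4, 5, 4, 2, 1, 2, 2, 1, 2, 1, 3, 3, 1, 2, 2, 1, 2, 1, 3, 3, 1, 3, 3, 1, 2, 2, 1, 3]) (.node 4410 (.leaf 344 6 [2, 1, 3, 3, 1, 3, 3, 1, 2, 1, 2, 1, 3, 1, 3, 3, 1, 3, 3, 1, 3, 3, 4, 6, 6, 4, 5, 5, 4, 6, 6, 2, 2, 1, 3, 3, 1]) (.leaf 348 10 [3, 3, 1, 2, 1, 3, 1, 2, 1, 3, 1, 3, 3, 1, 2, 1, 3, 1, 6, 6, 4, 5, 4, 6, 6, 6, 4, 5, 4, 6, 6, 6, 1, 3, 1, 3, 1, 3, 1, 2, 2, 1]))))))) (.node 4433 (.node 4422 (.node 4416 (.node 4413 (.node 4412 (.leaf 355 11 [1, 2, 2, 1, 2, 2, 1, 2, 1, 3, 3, 1, 2, 1, 3, 3, 1, 5, 4, 6, 6, 4, 5, 4, 6, 6, 6, 4, 5, 4, 6, 2, 1, 3, 3, 1, 2, 1, 3, 3, 1, 2]) (.leaf 355 25 [3, 3, 1, 5, 4, 6, 6, 4, 5, 4, 6, 6, 6, 4, 5, 4, 6, 2, 1, 3, 3, 1, 2, 1, 3, 3, 1, 2, 1, 2, 2, 1, 2, 2, 1, 2, 1, 3, 3, 1, 2, 1])) (.node 4414 (.leaf 355 26 [3, 1, 5, 4, 6, 6, 4, 5, 4, 6, 6, 6, 4, 5, 4, 6, 2, 1, 3, 3, 1, 2, 1, 3, 3, 1, 2, 1, 2, 2, 1, 2, 2, 1, 2, 1, 3, 3, 1, 2, 1, 3]) (.node 4415 (.leaf 356 19 [1, 3, 1, 3, 1, 2, 1, 2, 2, 6, 4, 5, 4, 6, 4, 5, 4, 6, 6, 6, 1, 2, 2, 1, 3, 1, 3, 1, 3, 1, 2, 1, 3, 3, 1, 3, 3, 1, 2]) (.leaf 364 44 [4, 6, 1, 2, 2, 1, 3, 1, 3, 3, 1, 3, 1, 2, 1, 2, 1, 3, 1, 3, 1, 2, 2, 1, 2, 1, 2, 1, 2, 1, 4, 5, 5, 5, 4, 6, 6, 6, 4, 5, 4, 6, 6, 4, 5, 5])))) (.node 4419 (.node 4417 (.leaf 366 8 [1, 3, 3, 1, 2, 2, 1, 3, 3, 1, 2, 2, 1, 3, 1, 3, 1, 3, 3, 1, 4, 6, 4, 5, 4, 6, 6, 4, 5, 4, 6, 6, 4, 2, 1, 2, 1, 3, 1, 2, 2]) (.node 4418 (.leaf 371 8 [2, 1, 2, 1, 3, 1, 3, 1, 3, 1, 3, 1, 2, 1, 2, 1, 3, 1, 2, 1, 5, 4, 6, 6, 4, 5, 4, 6, 4, 5, 5, 4, 3, 3, 1, 2, 1, 3, 3, 1]) (.leaf 374 43 [5, 2, 1, 3, 1, 2, 1, 2, 1, 2, 1, 3, 1, 2, 1, 2, 2, 1, 3, 3, 1, 3, 3, 1, 2, 2, 1, 3, 1, 4, 5, 4, 6, 6, 4, 5, 4, 6, 4, 5, 4, 6, 6, 4]))) (.node 4420 (.leaf 376 22 [2, 1, 3, 1, 2, 1, 6, 4, 5, 5, 4, 6, 6, 6, 1, 3, 1, 3, 1, 3, 1, 3, 3, 1, 2, 2, 1, 2, 1, 3, 1, 3, 1, 3, 3, 1]) (.node 4421 (.leaf 380 15 [1, 3, 3, 1, 2, 1, 2, 1, 3, 1, 3, 1, 3, 4, 6, 4, 5, 5, 4, 6, 4, 5, 4, 6, 4, 1, 3, 3, 1, 3, 1, 2, 1, 3, 3, 1, 3, 3, 1, 2]) (.leaf 383 11 [3, 1, 2, 2, 1, 2, 1, 2, 1, 2, 1, 2, 1, 2, 1, 2, 1, 6, 4, 5, 5, 5, 5, 4, 6, 6, 6, 4, 5, 4, 6, 3, 3, 1, 2, 2, 1, 2, 1, 2, 2, 1]))))) (.node 4427 (.node 4424 (.node 4423 (.leaf 387 9 [1, 2, 1, 2, 2, 1, 3, 1, 3, 1, 2, 2, 1, 3, 3, 1, 2, 2, 1, 4, 6, 4, 6, 6, 6, 6, 4, 5, 4, 2, 1, 2, 1, 3, 3, 1, 2, 2]) (.leaf 389 12 [1, 2, 1, 2, 2, 1, 2, 1, 3, 1, 3, 3, 1, 2, 1, 3, 4, 5, 4, 6, 6, 4, 5, 4, 6, 4, 5, 4, 6, 4, 2, 1, 3, 3, 1, 3, 1, 2, 1, 3, 1, 3])) (.node 4425 (.leaf 5 16 [1, 2, 1, 2, 1, 2, 1, 2, 1, 2, 1, 2, 1, 2, 1, 2, 1, 2, 1, 2, 1, 2, 1, 2, 1, 2, 1, 2, 1, 2, 1, 2, 1, 2, 1, 2, 1, 2]) (.node 4426 (.leaf 31 4 [2, 2, 1, 2, 2, 1, 2, 1, 2, 2, 1, 2, 2, 1, 3, 3, 1, 3, 4, 6, 4, 5, 5, 5, 4, 6, 4, 5, 4, 2, 1, 2, 1]) (.leaf 83 14 [2, 1, 3, 1, 2, 1, 2, 1, 2, 2, 1, 6, 6, 6, 4, 5, 5, 5, 4, 6, 1, 2, 1, 2, 1, 3, 1, 3, 1, 3, 3, 1, 2, 1])))) (.node 4430 (.node 4428 (.leaf 104 34 [4, 6, 4, 1, 3, 1, 2, 1, 2, 1, 3, 1, 3, 3, 1, 2, 2, 1, 3, 3, 1, 3, 1, 2, 2, 1, 2, 1, 6, 6, 4, 5, 4, 6, 4, 5, 5]) (.node 4429 (.leaf 166 16 [3, 1, 2, 2, 1, 3, 1, 2, 2, 1, 3, 5, 5, 4, 6, 6, 4, 5, 5, 2, 1, 2, 1, 2, 1, 2, 2, 1, 3, 1, 2, 1, 2, 1, 3]) (.leaf 170 7 [3, 1, 3, 3, 1, 3, 1, 2, 1, 2, 2, 1, 2, 2, 1, 3, 3, 1, 2, 2, 5, 5, 4, 6, 4, 5, 4, 6, 6, 4, 5, 4, 5, 1, 2, 1, 2, 1, 3, 1]))) (.node 4431 (.leaf 173 27 [5, 4, 6, 4, 5, 4, 6, 4, 5, 4, 6, 4, 5, 4, 6, 6, 2, 1, 2, 2, 1, 2, 1, 2, 2, 1, 3, 1, 2, 2, 1, 3, 1, 3, 3, 1, 2, 2, 1, 2, 1, 3, 1]) (.node 4432 (.leaf 184 8 [2, 1, 2, 2, 1, 2, 2, 1, 3, 3, 1, 3, 1, 2, 2, 1, 3, 3, 1, 6, 6, 6, 4, 5, 5, 5, 4, 6, 4, 5, 5, 4, 6, 6, 6, 2, 1, 3, 1, 3, 1, 3, 1]) (.leaf 201 12 [2, 2, 1, 3, 1, 3, 1, 3, 1, 3, 1, 2, 2, 1, 3, 4, 5, 5, 5, 4, 6, 4, 5, 5, 4, 6, 4, 5, 5, 2, 2, 1, 3, 1, 3, 3, 1, 3, 1, 3, 1])))))) (.node 4444 (.node 4438 (.node 4435 (.node 4434 (.leaf 249 7 [2, 2, 1, 2, 1, 2, 1, 2, 2, 1, 3, 3, 1, 3, 3, 1, 2, 1, 2, 1, 6, 4, 5, 4, 6, 6, 4, 5, 4, 6, 6, 4, 1, 2, 2, 1, 2, 2, 1]) (.leaf 262 6 [3, 1, 2, 2, 1, 3, 3, 1, 3, 1, 3, 1, 2, 1, 2, 1, 2, 2, 1, 2, 1, 3, 5, 4, 6, 6, 4, 5, 4, 6, 4, 2, 1, 3, 3, 1, 3])) (.node 4436 (.leaf 273 24 [2, 1, 2, 2, 5, 5, 5, 5, 4, 6, 4, 5, 5, 5, 4, 6, 6, 1, 3, 3, 1, 2, 1, 3, 1, 2, 1, 3, 1, 2, 1, 2, 2, 1, 2, 1, 2, 1, 2, 2, 1]) (.node 4437 (.leaf 282 27 [3, 6, 6, 6, 4, 5, 5, 5, 4, 6, 1, 2, 1, 2, 1, 3, 3, 1, 2, 1, 3, 3, 1, 3, 1, 3, 3, 1, 2, 1, 3, 3, 1, 2, 1, 3, 1]) (.leaf 383 7 [1, 2, 2, 1, 3, 1, 2, 2, 1, 2, 1, 2, 1, 2, 1, 2, 1, 2, 1, 2, 1, 6, 4, 5, 5, 5, 5, 4, 6, 6, 6, 4, 5, 4, 6, 3, 3, 1, 2, 2, 1, 2])))) (.node 4441 (.node 4439 (.leaf 147 17 [1, 2, 1, 2, 1, 2, 1, 3, 3, 5, 5, 4, 6, 4, 5, 5, 4, 6, 6, 4, 5, 2, 2, 1, 3, 1, 3, 3, 1, 3, 3, 1, 2, 2, 1, 3, 1, 3]) (.node 4440 (.leaf 167 2 [1, 3, 1, 3, 1, 2, 1, 3, 1, 2, 1, 2, 1, 2, 1, 2, 2, 1, 3, 1, 3, 3, 1, 3, 1, 5, 4, 6, 6, 4, 5, 5, 5, 1, 3]) (.leaf 185 15 [2, 1, 3, 1, 3, 1, 2, 1, 3, 1, 3, 1, 5, 5, 4, 6, 4, 5, 5, 4, 6, 4, 5, 5, 5, 4, 1, 3, 3, 1, 3, 3, 1, 2, 1, 2, 2, 1, 2, 2, 1]))) (.node 4442 (.leaf 251 11 [3, 1, 2, 2, 1, 2, 1, 3, 3, 1, 2, 1, 2, 1, 3, 1, 5, 5, 4, 6, 4, 5, 5, 5, 4, 6, 4, 5, 5, 4, 6, 6, 2, 1, 2, 1, 2, 1, 3, 1, 2, 1, 3]) (.node 4443 (.leaf 256 10 [1, 2, 1, 2, 2, 1, 2, 2, 1, 3, 1, 2, 1, 2, 1, 3, 1, 4, 5, 5, 4, 6, 4, 5, 4, 6, 4, 5, 4, 1, 2, 2, 1, 3, 1, 3, 1, 3, 3]) (.leaf 261 29 [6, 4, 5, 5, 5, 4, 6, 6, 6, 4, 6, 1, 3, 1, 3, 1, 2, 2, 1, 2, 1, 2, 1, 2, 1, 2, 1, 2, 2, 1, 2, 1, 3, 1, 2, 1, 2, 1, 3, 4]))))) (.node 4449 (.node 4446 (.node 4445 (.leaf 329 20 [3, 1, 3, 1, 3, 3, 1, 3, 4, 6, 6, 6, 4, 5, 4, 6, 6, 6, 1, 3, 1, 2, 2, 1, 2, 1, 2, 1, 3, 1, 2, 2, 1, 2, 1, 2, 1, 3]) (.leaf 337 35 [6, 4, 5, 5, 4, 6, 4, 5, 3, 3, 1, 2, 2, 1, 2, 1, 3, 1, 2, 2, 1, 2, 1, 2, 1, 2, 2, 1, 3, 3, 1, 3, 3, 1, 3, 1, 5, 5, 4, 6, 4, 5, 4])) (.node 4447 (.leaf 356 37 [6, 6, 1, 2, 2, 1, 3, 1, 3, 1, 3, 1, 2, 1, 3, 3, 1, 3, 3, 1, 2, 1, 3, 1, 3, 1, 2, 1, 2, 2, 6, 4, 5, 4, 6, 4, 5, 4, 6]) (.node 4448 (.leaf 5 9 [2, 1, 2, 1, 2, 1, 2, 1, 2, 1, 2, 1, 2, 1, 2, 1, 2, 1, 2, 1, 2, 1, 2, 1, 2, 1, 2, 1, 2, 1, 2, 1, 2, 1, 2, 1, 2, 1]) (.leaf 64 35 [4, 2, 2, 1, 2, 1, 2, 1, 3, 1, 2, 1, 2, 2, 1, 3, 3, 1, 2, 1, 3, 3, 1, 3, 3, 4, 6, 4, 5, 5, 4, 6, 6, 6, 4, 5])))) (.node 4452 (.node 4450 (.leaf 65 3 [3, 3, 1, 2, 1, 2, 1, 2, 1, 2, 1, 2, 1, 2, 1, 2, 1, 3, 1, 2, 1, 6, 6, 4, 5, 5, 4, 6, 4, 5, 4, 6, 4, 5, 5, 5, 2, 2, 1]) (.node 4451 (.leaf 138 19 [2, 1, 2, 2, 1, 2, 2, 6, 4, 5, 5, 4, 6, 4, 1, 3, 1, 3, 1, 2, 2, 1, 3, 3, 1, 3, 3, 1, 3, 1, 3, 3, 1]) (.leaf 192 17 [1, 2, 1, 3, 1, 2, 1, 3, 3, 1, 5, 5, 4, 6, 6, 4, 5, 4, 6, 4, 5, 5, 5, 4, 6, 2, 2, 1, 3, 3, 1, 3, 3, 1, 3, 1, 3, 3, 1, 3, 1, 3]))) (.node 4453 (.leaf 225 14 [1, 3, 1, 2, 1, 3, 1, 2, 1, 3, 1, 3, 3, 4, 6, 4, 5, 4, 6, 4, 5, 4, 6, 4, 5, 4, 6, 1, 2, 2, 1, 3, 1, 2, 2, 1, 3, 3, 1, 2, 2]) (.node 4454 (.leaf 278 8 [1, 3, 1, 3, 1, 2, 1, 2, 1, 2, 1, 2, 1, 2, 2, 1, 2, 1, 3, 1, 4, 5, 4, 6, 6, 6, 4, 5, 4, 6, 6, 4, 5, 4, 6, 4, 5, 2, 1, 3, 1, 2, 1, 3, 3]) (.leaf 299 39 [5, 1, 3, 1, 2, 1, 3, 1, 3, 3, 1, 2, 2, 1, 2, 2, 1, 3, 1, 2, 1, 3, 1, 2, 1, 2, 1, 2, 2, 6, 6, 4, 5, 4, 6, 4, 5, 5, 5, 4])))))))) (.node 4499 (.node 4477 (.node 4466 (.node 4460 (.node 4457 (.node 4456 (.leaf 323 10 [3, 1, 3, 1, 2, 1, 3, 1, 2, 1, 3, 1, 3, 1, 3, 1, 3, 3, 6, 6, 4, 5, 4, 6, 4, 5, 4, 6, 4, 5, 4, 6, 1, 3, 3, 1, 2, 1, 3, 3, 1, 3]) (.leaf 344 33 [5, 4, 6, 6, 2, 2, 1, 3, 3, 1, 2, 1, 3, 3, 1, 3, 3, 1, 2, 1, 2, 1, 3, 1, 3, 3, 1, 3, 3, 1, 3, 3, 4, 6, 6, 4, 5])) (.node 4458 (.leaf 354 0 [1, 2, 1, 2, 1, 3, 3, 1, 2, 2, 1, 2, 1, 2, 1, 3, 1, 3, 1, 3, 3, 1, 2, 2, 1, 3, 3, 1, 6, 6, 6]) (.node 4459 (.leaf 13 3 [1, 2, 1, 2, 1, 2, 1, 2, 2, 1, 3, 3, 1, 2, 1, 4, 6, 4, 5, 4, 6, 6, 4, 5, 4, 5, 1, 3, 3]) (.leaf 62 4 [1, 3, 3, 1, 2, 2, 1, 2, 1, 2, 2, 1, 2, 1, 3, 1, 3, 1, 3, 1, 4, 5, 4, 6, 6, 4, 5, 4, 6, 4, 5, 4, 6, 6, 4, 2, 1, 3, 3])))) (.node 4463 (.node 4461 (.leaf 119 29 [4, 5, 5, 5, 4, 5, 1, 3, 3, 1, 3, 1, 2, 2, 1, 2, 1, 2, 2, 1, 3, 3, 1, 3, 1, 3, 1, 3, 1, 3, 3, 1, 4, 6, 6]) (.node 4462 (.leaf 175 32 [5, 4, 6, 6, 6, 4, 5, 5, 1, 3, 1, 3, 1, 2, 2, 1, 3, 1, 2, 1, 3, 1, 3, 3, 1, 3, 1, 3, 1, 2, 1, 3, 1, 2, 2, 6, 6, 4, 5, 5]) (.leaf 180 30 [6, 6, 4, 5, 4, 6, 6, 6, 4, 5, 2, 1, 2, 1, 3, 1, 2, 1, 3, 1, 3, 1, 2, 2, 1, 3, 1, 3, 1, 3, 1, 2, 1, 2, 1, 2, 1, 6, 4, 6]))) (.node 4464 (.leaf 199 31 [6, 4, 5, 5, 5, 4, 6, 2, 2, 1, 2, 1, 3, 1, 3, 1, 2, 2, 1, 3, 1, 2, 2, 1, 2, 2, 1, 3, 1, 2, 2, 1, 2, 1, 5, 4, 6, 6]) (.node 4465 (.leaf 249 21 [3, 1, 2, 1, 2, 1, 6, 4, 5, 4, 6, 6, 4, 5, 4, 6, 6, 4, 1, 2, 2, 1, 2, 2, 1, 2, 2, 1, 2, 1, 2, 1, 2, 2, 1, 3, 3, 1, 3]) (.leaf 253 12 [1, 2, 2, 1, 2, 1, 3, 1, 3, 3, 1, 2, 1, 3, 1, 6, 6, 4, 5, 5, 4, 6, 4, 5, 5, 5, 4, 6, 2, 1, 3, 1, 3, 3, 1, 2, 1, 3, 1, 2]))))) (.node 4471 (.node 4468 (.node 4467 (.leaf 269 36 [6, 4, 5, 5, 4, 6, 4, 2, 1, 3, 1, 2, 1, 2, 2, 1, 3, 1, 3, 1, 2, 1, 2, 2, 1, 3, 1, 2, 1, 3, 3, 1, 2, 1, 3, 5, 5, 4, 6, 6, 4, 5, 4]) (.leaf 286 10 [2, 1, 2, 1, 2, 1, 3, 3, 1, 3, 3, 1, 3, 1, 3, 1, 3, 1, 5, 4, 6, 4, 5, 4, 6, 4, 5, 4, 6, 4, 5, 4, 2, 2, 1, 3, 3, 1, 3, 1, 2, 1])) (.node 4469 (.leaf 317 13 [1, 2, 1, 3, 3, 1, 2, 1, 2, 2, 1, 3, 3, 1, 3, 4, 6, 6, 4, 5, 4, 6, 6, 6, 4, 5, 5, 1, 3, 1, 2, 1, 2, 1, 2, 1, 3, 3, 1, 3]) (.node 4470 (.leaf 361 20 [3, 1, 2, 2, 1, 2, 2, 1, 6, 6, 4, 5, 5, 4, 6, 4, 5, 5, 5, 4, 6, 6, 6, 4, 2, 1, 3, 1, 3, 3, 1, 2, 2, 1, 2, 1, 2, 2, 1, 2, 2, 1, 2, 1]) (.leaf 385 17 [3, 1, 2, 1, 2, 1, 2, 1, 3, 3, 1, 6, 6, 4, 5, 5, 4, 2, 2, 1, 3, 3, 1, 3, 3, 1, 2, 2, 1, 3, 1, 3, 3, 1])))) (.node 4474 (.node 4472 (.leaf 390 18 [1, 2, 1, 3, 3, 1, 2, 1, 2, 2, 1, 5, 4, 6, 6, 6, 2, 1, 3, 1, 2, 2, 1, 3, 1, 2, 2, 1, 2, 1, 2, 1, 3, 3]) (.node 4473 (.leaf 395 15 [2, 1, 2, 2, 1, 2, 1, 2, 2, 1, 2, 1, 3, 3, 6, 6, 6, 4, 5, 5, 5, 4, 6, 4, 5, 5, 4, 6, 4, 1, 3, 1, 3, 1, 2, 1, 3, 3, 1, 3, 1, 3, 3, 1]) (.leaf 39 21 [2, 1, 4, 5, 5, 4, 6, 4, 5, 5, 4, 6, 6, 4, 5, 5, 1, 3, 3, 1, 2, 2, 1, 2, 2, 1, 3, 1, 2, 1, 3, 3, 1, 3, 3, 1, 2]))) (.node 4475 (.leaf 101 21 [2, 1, 2, 1, 4, 6, 4, 5, 4, 6, 6, 4, 5, 1, 3, 1, 2, 1, 2, 1, 2, 2, 1, 2, 1, 2, 2, 1, 2, 2, 1, 2, 1, 2]) (.node 4476 (.leaf 133 24 [1, 3, 4, 5, 5, 4, 6, 4, 5, 5, 4, 6, 4, 5, 5, 2, 1, 2, 1, 2, 2, 1, 2, 1, 3, 1, 2, 1, 2, 1, 2, 2, 1, 2, 1, 2, 2, 1, 2]) (.leaf 181 8 [2, 1, 3, 3, 1, 2, 1, 3, 3, 1, 2, 1, 3, 1, 3, 1, 3, 1, 3, 4, 5, 5, 4, 6, 4, 1, 3, 1, 2, 2, 1, 3, 1])))))) (.node 4488 (.node 4482 (.node 4479 (.node 4478 (.leaf 205 9 [3, 3, 1, 2, 2, 1, 2, 2, 1, 2, 2, 1, 3, 1, 2, 1, 2, 1, 4, 6, 4, 5, 4, 6, 4, 5, 4, 6, 4, 5, 5, 4, 6, 4, 2, 1, 2, 1, 3, 3, 1, 2, 1]) (.leaf 243 39 [6, 2, 2, 1, 2, 1, 3, 1, 3, 3, 1, 2, 2, 1, 2, 1, 2, 2, 1, 2, 1, 3, 3, 1, 2, 1, 2, 1, 4, 6, 4, 5, 5, 5, 4, 6, 4, 5, 5, 4])) (.node 4480 (.leaf 263 4 [3, 1, 3, 1, 3, 1, 3, 1, 2, 2, 1, 2, 1, 3, 1, 2, 1, 2, 1, 2, 2, 1, 2, 1, 4, 5, 5, 5, 4, 6, 6, 4, 5, 5, 4, 6, 3, 3, 1, 3]) (.node 4481 (.leaf 384 17 [1, 2, 1, 3, 3, 1, 3, 1, 2, 2, 1, 6, 6, 6, 4, 5, 5, 5, 4, 6, 4, 2, 1, 3, 1, 2, 1, 3, 1, 2, 1, 3, 1, 2, 1, 3, 1, 2]) (.leaf 28 8 [3, 1, 2, 2, 1, 3, 1, 3, 3, 1, 2, 1, 2, 1, 4, 5, 4, 6, 4, 5, 5, 4, 6, 4, 5, 5, 5, 3, 3, 1, 2, 1, 2, 1, 3])))) (.node 4485 (.node 4483 (.leaf 39 35 [5, 5, 1, 3, 3, 1, 2, 2, 1, 2, 2, 1, 3, 1, 2, 1, 3, 3, 1, 3, 3, 1, 2, 2, 1, 4, 5, 5, 4, 6, 4, 5, 5, 4, 6, 6, 4]) (.node 4484 (.leaf 87 16 [2, 1, 2, 1, 3, 1, 2, 2, 1, 5, 5, 4, 6, 4, 5, 5, 5, 4, 6, 4, 5, 5, 5, 1, 3, 3, 1, 2, 2, 1, 2, 2, 1, 3, 3, 1, 3, 1, 2]) (.leaf 139 6 [2, 2, 1, 2, 1, 3, 1, 2, 2, 1, 2, 2, 1, 3, 3, 1, 3, 1, 3, 3, 4, 5, 4, 6, 6, 6, 4, 5, 4, 6, 6, 4, 5, 4, 6, 4, 3, 3, 1, 2, 2, 1]))) (.node 4486 (.leaf 151 25 [2, 5, 5, 4, 6, 6, 4, 5, 2, 1, 3, 3, 1, 3, 3, 1, 3, 1, 2, 2, 1, 2, 2, 1, 2, 2, 1, 3, 1, 2, 2, 1, 2]) (.node 4487 (.leaf 193 37 [5, 4, 1, 2, 1, 3, 3, 1, 3, 3, 1, 3, 1, 2, 1, 2, 1, 2, 1, 2, 1, 3, 1, 3, 3, 1, 2, 2, 1, 4, 6, 4, 5, 4, 6, 6, 4, 5, 5]) (.leaf 313 26 [3, 1, 5, 5, 5, 4, 6, 4, 5, 5, 4, 6, 6, 4, 5, 3, 3, 1, 2, 2, 1, 3, 1, 2, 2, 1, 3, 3, 1, 3, 1, 3, 3, 1, 3, 1, 2, 2, 1, 3, 1]))))) (.node 4493 (.node 4490 (.node 4489 (.leaf 381 5 [2, 1, 3, 1, 3, 3, 1, 3, 1, 2, 1, 3, 3, 1, 2, 2, 1, 2, 1, 3, 1, 3, 3, 4, 5, 5, 4, 6, 4, 5, 5, 4, 6, 6, 4, 2, 2, 1, 2, 1]) (.leaf 6 15 [3, 1, 3, 1, 3, 1, 3, 1, 3, 1, 3, 1, 3, 1, 3, 1, 3, 1, 3, 1, 3, 1, 3, 1, 3, 1, 3, 1, 3, 1, 3, 1, 3, 1, 3, 1, 3, 1])) (.node 4491 (.leaf 57 18 [3, 3, 1, 3, 3, 1, 6, 6, 6, 4, 5, 4, 6, 6, 4, 5, 5, 2, 2, 1, 3, 3, 1, 3, 1, 3, 1, 3, 1, 2, 1, 3, 1, 3, 1]) (.node 4492 (.leaf 58 20 [1, 3, 3, 1, 4, 6, 4, 5, 5, 5, 4, 6, 6, 4, 1, 3, 1, 3, 1, 2, 1, 3, 3, 1, 2, 2, 1, 2, 2, 1, 3, 1, 3, 3]) (.leaf 59 2 [2, 1, 3, 1, 3, 3, 1, 3, 3, 1, 2, 1, 3, 3, 1, 2, 2, 1, 2, 1, 3, 3, 5, 5, 4, 6, 6, 6, 4, 2, 1])))) (.node 4496 (.node 4494 (.leaf 87 37 [5, 5, 1, 3, 3, 1, 2, 2, 1, 2, 2, 1, 3, 3, 1, 3, 1, 2, 2, 1, 2, 1, 3, 1, 2, 2, 1, 5, 5, 4, 6, 4, 5, 5, 5, 4, 6, 4, 5]) (.node 4495 (.leaf 92 29 [6, 6, 4, 2, 1, 2, 1, 3, 1, 2, 1, 2, 1, 2, 1, 2, 1, 3, 1, 2, 2, 1, 2, 1, 3, 1, 3, 3, 6, 4, 6, 6]) (.leaf 114 14 [1, 2, 1, 2, 1, 2, 1, 2, 1, 2, 2, 1, 4, 5, 4, 6, 6, 4, 5, 4, 6, 4, 5, 5, 5, 4, 6, 4, 1, 3, 3, 1, 3, 3, 1, 2, 1, 3, 1, 3, 1, 3]))) (.node 4497 (.leaf 141 6 [3, 1, 3, 1, 3, 1, 2, 1, 2, 1, 3, 1, 2, 1, 2, 1, 3, 3, 1, 3, 5, 5, 4, 6, 4, 5, 4, 6, 4, 5, 4, 6, 4, 5, 4, 2, 2, 1, 2, 1, 3]) (.node 4498 (.leaf 142 9 [3, 1, 2, 2, 1, 3, 3, 1, 3, 1, 3, 1, 2, 1, 3, 1, 3, 4, 5, 4, 5, 5, 5, 5, 4, 2, 1, 3, 3, 1, 2, 1, 3, 1]) (.leaf 143 30 [5, 5, 5, 4, 3, 3, 1, 2, 2, 1, 2, 2, 1, 3, 3, 1, 2, 1, 3, 3, 1, 3, 3, 1, 3, 3, 1, 3, 1, 3, 4, 6, 4, 5]))))))) (.node 4521 (.node 4510 (.node 4504 (.node 4501 (.node 4500 (.leaf 178 6 [3, 3, 1, 2, 1, 2, 2, 1, 2, 1, 2, 1, 2, 1, 3, 1, 3, 3, 1, 3, 1, 5, 5, 5, 4, 6, 4, 5, 5, 4, 6, 4, 5, 5, 5, 4, 5, 1, 3, 3, 1, 2, 1]) (.leaf 209 39 [5, 2, 1, 2, 1, 3, 3, 1, 2, 1, 2, 2, 1, 2, 1, 2, 2, 1, 2, 2, 1, 2, 1, 3, 1, 3, 1, 3, 4, 5, 5, 4, 6, 4, 5, 5, 4, 6, 4, 5])) (.node 4502 (.leaf 212 30 [6, 6, 4, 5, 4, 6, 6, 6, 4, 5, 2, 1, 3, 1, 2, 1, 3, 1, 2, 1, 3, 1, 3, 1, 3, 1, 2, 2, 1, 3, 1, 3, 1, 3, 1, 3, 1, 6, 4, 6]) (.node 4503 (.leaf 282 23 [2, 1, 3, 1, 3, 6, 6, 6, 4, 5, 5, 5, 4, 6, 1, 2, 1, 2, 1, 3, 3, 1, 2, 1, 3, 3, 1, 3, 1, 3, 3, 1, 2, 1, 3, 3, 1]) (.leaf 306 8 [2, 1, 2, 1, 2, 1, 2, 1, 2, 1, 2, 1, 2, 1, 3, 1, 2, 2, 1, 3, 5, 5, 5, 5, 4, 6, 4, 5, 5, 4, 6, 6, 4, 5, 5, 1, 2, 1, 2, 1, 3, 3, 1])))) (.node 4507 (.node 4505 (.leaf 369 12 [2, 1, 2, 1, 3, 1, 3, 3, 1, 3, 3, 1, 3, 1, 3, 3, 4, 5, 5, 4, 6, 4, 2, 1, 2, 2, 1, 2, 1, 2, 1, 2, 1, 2]) (.node 4506 (.leaf 387 32 [6, 6, 6, 4, 5, 4, 2, 1, 2, 1, 3, 3, 1, 2, 2, 1, 2, 1, 2, 2, 1, 3, 1, 3, 1, 2, 2, 1, 3, 3, 1, 2, 2, 1, 4, 6, 4, 6]) (.leaf 21 23 [5, 4, 6, 6, 4, 5, 4, 6, 6, 6, 4, 6, 2, 1, 2, 1, 2, 1, 3, 3, 1, 2, 2, 1, 2, 2, 1, 2, 1, 3, 3, 1, 2, 2, 4]))) (.node 4508 (.leaf 34 30 [5, 4, 2, 2, 1, 2, 2, 1, 3, 1, 3, 1, 2, 1, 2, 1, 2, 2, 1, 2, 1, 3, 1, 2, 2, 4, 5, 5, 5, 4, 6, 4]) (.node 4509 (.leaf 101 15 [2, 2, 1, 2, 1, 2, 2, 1, 2, 1, 4, 6, 4, 5, 4, 6, 6, 4, 5, 1, 3, 1, 2, 1, 2, 1, 2, 2, 1, 2, 1, 2, 2, 1]) (.leaf 123 18 [1, 2, 2, 1, 2, 1, 3, 1, 5, 4, 6, 4, 5, 4, 6, 6, 4, 5, 4, 6, 6, 6, 4, 6, 2, 2, 1, 3, 1, 3, 3, 1, 2, 1, 2, 2, 1, 3, 1, 2, 1, 3]))))) (.node 4515 (.node 4512 (.node 4511 (.leaf 133 26 [4, 5, 5, 4, 6, 4, 5, 5, 4, 6, 4, 5, 5, 2, 1, 2, 1, 2, 2, 1, 2, 1, 3, 1, 2, 1, 2, 1, 2, 2, 1, 2, 1, 2, 2, 1, 2, 1, 3]) (.leaf 227 7 [1, 3, 1, 3, 1, 2, 2, 1, 3, 1, 2, 1, 2, 1, 3, 1, 3, 1, 3, 1, 4, 5, 5, 5, 4, 6, 6, 4, 2, 2, 1, 2, 2, 1, 3])) (.node 4513 (.leaf 322 30 [4, 5, 5, 1, 3, 1, 2, 2, 1, 3, 1, 3, 1, 3, 3, 1, 3, 1, 2, 1, 2, 1, 3, 1, 3, 3, 1, 3, 3, 1, 3, 6, 6]) (.node 4514 (.leaf 338 1 [1, 3, 1, 2, 2, 1, 2, 1, 3, 3, 1, 3, 1, 2, 1, 3, 3, 1, 2, 1, 3, 1, 3, 3, 1, 2, 2, 6, 6, 6, 4, 5, 4, 6, 6, 6, 4, 5, 4, 6, 6, 6, 2]) (.leaf 21 10 [2, 1, 2, 2, 1, 2, 1, 3, 3, 1, 2, 2, 4, 5, 4, 6, 6, 4, 5, 4, 6, 6, 6, 4, 6, 2, 1, 2, 1, 2, 1, 3, 3, 1, 2])))) (.node 4518 (.node 4516 (.leaf 33 33 [5, 4, 6, 2, 2, 1, 3, 1, 3, 1, 3, 1, 3, 1, 2, 1, 2, 1, 3, 1, 2, 1, 3, 1, 3, 3, 4, 6, 6, 4, 5, 4, 6, 6, 6, 4]) (.node 4517 (.leaf 40 0 [3, 3, 1, 2, 1, 3, 3, 1, 2, 1, 3, 1, 2, 1, 3, 3, 1, 3, 1, 2, 2, 1, 3, 5, 4, 6, 4, 5, 4, 6, 4, 5, 5, 4]) (.leaf 90 38 [5, 1, 2, 2, 1, 2, 1, 3, 1, 2, 2, 1, 2, 1, 2, 2, 1, 3, 1, 3, 1, 2, 1, 2, 2, 1, 6, 6, 4, 5, 4, 6, 6, 4, 5, 5, 4, 6, 4]))) (.node 4519 (.leaf 124 2 [3, 3, 1, 2, 1, 2, 1, 3, 1, 2, 2, 1, 3, 3, 1, 2, 1, 3, 1, 2, 1, 3, 3, 1, 5, 4, 6, 6, 4, 5, 5, 4, 6, 4, 5, 5, 5, 4, 6, 2, 1]) (.node 4520 (.leaf 143 19 [1, 3, 3, 1, 3, 1, 3, 4, 6, 4, 5, 5, 5, 5, 4, 3, 3, 1, 2, 2, 1, 2, 2, 1, 3, 3, 1, 2, 1, 3, 3, 1, 3, 3]) (.leaf 148 22 [3, 1, 2, 2, 4, 5, 5, 5, 5, 4, 6, 6, 6, 4, 5, 4, 6, 6, 6, 4, 2, 1, 3, 3, 1, 2, 2, 1, 3, 3, 1, 2, 1, 2, 2, 1, 2, 1, 3, 1, 2, 1])))))) (.node 4532 (.node 4526 (.node 4523 (.node 4522 (.leaf 164 4 [3, 1, 2, 1, 2, 2, 1, 3, 3, 1, 3, 1, 3, 1, 2, 1, 2, 2, 1, 3, 1, 2, 1, 6, 6, 4, 5, 4, 6, 6, 6, 4, 5, 4, 6, 6, 4, 5, 4, 3, 3, 1, 3]) (.leaf 185 14 [1, 2, 1, 3, 1, 3, 1, 2, 1, 3, 1, 3, 1, 5, 5, 4, 6, 4, 5, 5, 4, 6, 4, 5, 5, 5, 4, 1, 3, 3, 1, 3, 3, 1, 2, 1, 2, 2, 1, 2, 2])) (.node 4524 (.leaf 191 17 [1, 3, 1, 3, 1, 3, 1, 3, 1, 3, 6, 4, 5, 5, 5, 4, 6, 4, 5, 5, 5, 4, 6, 6, 6, 2, 2, 1, 3, 3, 1, 3, 3, 1, 3, 1, 2, 1, 2, 1, 3, 3]) (.node 4525 (.leaf 200 11 [2, 1, 2, 2, 1, 2, 1, 2, 1, 3, 3, 1, 3, 3, 1, 3, 5, 4, 6, 4, 5, 5, 5, 4, 6, 4, 5, 5, 4, 1, 2, 2, 1, 3, 1, 3, 1, 2, 2, 1]) (.leaf 218 0 [2, 2, 1, 3, 1, 3, 1, 2, 2, 1, 3, 1, 3, 1, 2, 1, 2, 2, 1, 2, 2, 1, 2, 1, 2, 1, 3, 4, 6, 4, 5, 5, 5, 4, 6, 4, 5, 4, 6, 6, 4, 5, 4])))) (.node 4529 (.node 4527 (.leaf 247 21 [1, 3, 1, 3, 3, 1, 6, 4, 5, 4, 6, 6, 6, 4, 5, 4, 6, 6, 4, 5, 4, 1, 2, 2, 1, 2, 2, 1, 3, 1, 2, 2, 1, 2, 2, 1, 2, 2, 1, 2, 1, 2]) (.node 4528 (.leaf 333 11 [2, 1, 2, 1, 3, 3, 1, 3, 3, 1, 2, 2, 1, 3, 1, 3, 3, 4, 6, 4, 5, 5, 5, 4, 6, 6, 6, 4, 5, 4, 2, 1, 2, 2, 1, 2, 1, 3, 3, 1, 2]) (.leaf 337 12 [1, 2, 1, 2, 1, 2, 2, 1, 3, 3, 1, 3, 3, 1, 3, 1, 5, 5, 4, 6, 4, 5, 4, 6, 4, 5, 5, 4, 6, 4, 5, 3, 3, 1, 2, 2, 1, 2, 1, 3, 1, 2, 2]))) (.node 4530 (.leaf 18 9 [3, 1, 3, 1, 2, 1, 2, 2, 1, 3, 1, 3, 6, 6, 6, 4, 5, 5, 5, 4, 2, 1, 3, 1, 2, 2, 1, 3, 1]) (.node 4531 (.leaf 41 31 [6, 6, 4, 5, 4, 6, 6, 4, 5, 5, 1, 2, 2, 1, 2, 2, 1, 2, 1, 3, 1, 2, 1, 3, 1, 2, 1, 3, 1, 2, 2, 1, 3, 5, 4, 6, 6, 4, 5, 4, 6]) (.leaf 107 33 [4, 6, 2, 1, 2, 1, 3, 3, 1, 3, 3, 1, 2, 1, 2, 2, 1, 3, 1, 3, 3, 1, 3, 3, 1, 3, 3, 5, 5, 5, 4, 6, 4, 5, 5]))))) (.node 4537 (.node 4534 (.node 4533 (.leaf 134 34 [5, 4, 6, 4, 1, 2, 1, 2, 1, 3, 1, 3, 3, 1, 3, 1, 2, 1, 3, 1, 2, 1, 3, 3, 1, 2, 2, 1, 2, 2, 5, 4, 6, 4, 5, 4, 6, 4]) (.leaf 165 22 [2, 1, 2, 2, 1, 4, 5, 5, 4, 6, 4, 5, 5, 4, 6, 4, 5, 4, 6, 6, 2, 1, 3, 1, 3, 1, 3, 3, 1, 3, 1, 3, 3, 1, 2, 1, 2, 2, 1, 2, 1, 2])) (.node 4535 (.leaf 182 27 [4, 5, 4, 5, 5, 5, 4, 6, 4, 6, 2, 1, 3, 1, 2, 2, 1, 2, 2, 1, 2, 1, 3, 1, 2, 1, 3, 1, 3, 3, 1, 3, 3, 1, 2, 1, 3]) (.node 4536 (.leaf 183 17 [1, 2, 2, 1, 3, 1, 3, 1, 3, 3, 4, 5, 5, 4, 6, 4, 5, 4, 6, 4, 5, 4, 6, 6, 4, 5, 4, 2, 2, 1, 2, 1, 2, 1, 3, 3, 1, 2, 1, 3, 1, 2, 1, 3]) (.leaf 190 32 [4, 5, 5, 4, 6, 4, 5, 4, 6, 1, 3, 1, 2, 1, 2, 2, 1, 2, 2, 1, 3, 1, 2, 2, 1, 2, 1, 2, 1, 3, 1, 3, 1, 2, 1, 3, 4, 5, 5, 4, 6])))) (.node 4540 (.node 4538 (.leaf 198 7 [3, 1, 2, 2, 1, 2, 1, 3, 1, 2, 2, 1, 3, 1, 3, 1, 3, 3, 1, 3, 6, 6, 4, 5, 5, 4, 6, 4, 5, 5, 5, 4, 1, 2, 2, 1, 2, 1, 3]) (.node 4539 (.leaf 271 11 [2, 1, 2, 1, 3, 1, 2, 1, 2, 2, 1, 3, 1, 2, 1, 3, 1, 4, 5, 4, 6, 4, 5, 4, 6, 4, 5, 4, 6, 6, 4, 5, 4, 2, 2, 1, 2, 1, 2, 1, 2, 1, 3, 1]) (.leaf 292 13 [3, 1, 3, 1, 2, 2, 1, 3, 1, 2, 1, 3, 3, 1, 3, 5, 5, 4, 6, 4, 5, 5, 5, 4, 6, 6, 6, 4, 5, 5, 5, 1, 2, 1, 3, 1, 2, 2, 1, 2, 1, 3, 3, 1]))) (.node 4541 (.leaf 318 29 [5, 4, 6, 6, 4, 5, 4, 6, 4, 5, 5, 4, 6, 2, 1, 3, 1, 2, 1, 2, 2, 1, 3, 1, 3, 3, 1, 2, 1, 3, 3, 1, 3, 1, 2, 1, 2, 2, 1, 3, 1, 4]) (.node 4542 (.leaf 326 14 [1, 2, 1, 3, 3, 1, 3, 1, 2, 1, 3, 1, 3, 1, 5, 5, 4, 6, 6, 6, 4, 5, 4, 6, 6, 6, 4, 5, 5, 5, 2, 1, 2, 1, 2, 1, 2, 1, 3, 1, 2, 1, 2, 2]) (.leaf 343 6 [3, 3, 1, 2, 1, 2, 1, 2, 2, 1, 2, 1, 3, 3, 1, 3, 3, 1, 3, 3, 1, 3, 6, 6, 6, 4, 5, 5, 5, 4, 6, 6, 6, 4, 5, 5, 5, 1, 2, 1, 2, 2, 1])))))))))) (.node 4718 (.node 4630 (.node 4586 (.node 4564 (.node 4553 (.node 4548 (.node 4545 (.node 4544 (.leaf 362 12 [3, 1, 2, 2, 1, 3, 1, 2, 1, 2, 2, 1, 3, 3, 1, 3, 5, 5, 5, 4, 6, 6, 4, 5, 4, 6, 4, 5, 5, 1, 3, 1, 2, 1, 2, 2, 1, 2, 1, 2, 1]) (.leaf 374 12 [2, 1, 2, 2, 1, 3, 3, 1, 3, 3, 1, 2, 2, 1, 3, 1, 4, 5, 4, 6, 6, 4, 5, 4, 6, 4, 5, 4, 6, 6, 4, 5, 2, 1, 3, 1, 2, 1, 2, 1, 2, 1, 3, 1])) (.node 4546 (.leaf 395 27 [3, 3, 6, 6, 6, 4, 5, 5, 5, 4, 6, 4, 5, 5, 4, 6, 4, 1, 3, 1, 3, 1, 2, 1, 3, 3, 1, 3, 1, 3, 3, 1, 2, 1, 2, 2, 1, 2, 1, 2, 2, 1, 2, 1]) (.node 4547 (.leaf 24 17 [3, 3, 1, 3, 1, 5, 5, 5, 5, 4, 6, 4, 5, 5, 1, 2, 1, 3, 1, 3, 3, 1, 3, 3, 1, 3, 1, 2, 1, 2, 1]) (.leaf 27 7 [3, 1, 3, 1, 2, 1, 3, 1, 2, 2, 1, 2, 1, 2, 2, 4, 6, 4, 5, 5, 4, 6, 4, 5, 5, 4, 1, 2, 1, 2, 2, 1, 3])))) (.node 4550 (.node 4549 (.leaf 27 16 [2, 1, 2, 1, 2, 2, 4, 6, 4, 5, 5, 4, 6, 4, 5, 5, 4, 1, 2, 1, 2, 2, 1, 3, 3, 1, 3, 1, 2, 1, 3, 1, 2]) (.leaf 28 22 [4, 5, 4, 6, 4, 5, 5, 4, 6, 4, 5, 5, 5, 3, 3, 1, 2, 1, 2, 1, 3, 3, 1, 2, 2, 1, 3, 1, 3, 3, 1, 2, 1, 2, 1])) (.node 4551 (.leaf 40 21 [1, 3, 5, 4, 6, 4, 5, 4, 6, 4, 5, 5, 4, 3, 3, 1, 2, 1, 3, 3, 1, 2, 1, 3, 1, 2, 1, 3, 3, 1, 3, 1, 2, 2]) (.node 4552 (.leaf 54 37 [4, 1, 2, 2, 1, 3, 3, 1, 2, 1, 2, 1, 2, 2, 1, 2, 1, 3, 1, 2, 1, 2, 1, 3, 3, 5, 5, 4, 6, 4, 5, 4, 6, 4, 5, 5, 4, 6]) (.leaf 54 20 [2, 1, 3, 3, 5, 5, 4, 6, 4, 5, 4, 6, 4, 5, 5, 4, 6, 4, 1, 2, 2, 1, 3, 3, 1, 2, 1, 2, 1, 2, 2, 1, 2, 1, 3, 1, 2, 1]))))) (.node 4558 (.node 4555 (.node 4554 (.leaf 56 13 [1, 3, 1, 3, 1, 3, 1, 2, 1, 3, 1, 4, 5, 5, 5, 4, 6, 4, 5, 5, 5, 4, 6, 6, 6, 4, 5, 2, 1, 2, 1, 2, 1, 3, 1, 3, 1, 2, 1, 3]) (.leaf 64 11 [2, 2, 1, 3, 3, 1, 2, 1, 3, 3, 1, 3, 3, 4, 6, 4, 5, 5, 4, 6, 6, 6, 4, 5, 4, 2, 2, 1, 2, 1, 2, 1, 3, 1, 2, 1])) (.node 4556 (.leaf 75 37 [4, 1, 2, 1, 3, 1, 2, 1, 3, 3, 1, 3, 3, 1, 2, 2, 1, 3, 3, 1, 2, 1, 2, 1, 3, 3, 6, 6, 4, 5, 5, 5, 4, 6, 4, 5, 5, 5]) (.node 4557 (.leaf 76 16 [1, 2, 2, 1, 2, 2, 1, 2, 2, 6, 4, 5, 4, 6, 6, 4, 5, 5, 4, 6, 1, 2, 1, 3, 1, 2, 1, 2, 1, 3, 3, 1, 2, 2, 1, 3]) (.leaf 78 13 [2, 1, 2, 2, 1, 3, 1, 2, 1, 2, 2, 1, 5, 5, 4, 6, 6, 4, 5, 4, 6, 6, 6, 4, 5, 5, 5, 4, 2, 2, 1, 3, 1, 3, 1, 2, 2, 1, 2, 2, 1])))) (.node 4561 (.node 4559 (.leaf 80 1 [3, 1, 2, 1, 3, 1, 3, 1, 2, 1, 2, 2, 1, 2, 1, 3, 1, 2, 1, 3, 1, 2, 2, 1, 5, 4, 6, 4, 5, 5, 4, 6, 3]) (.node 4560 (.leaf 80 3 [2, 1, 3, 1, 3, 1, 2, 1, 2, 2, 1, 2, 1, 3, 1, 2, 1, 3, 1, 2, 2, 1, 5, 4, 6, 4, 5, 5, 4, 6, 3, 3, 1]) (.leaf 86 35 [6, 6, 1, 3, 1, 3, 1, 3, 3, 1, 2, 2, 1, 2, 1, 3, 3, 1, 2, 2, 1, 2, 1, 2, 1, 2, 2, 4, 5, 5, 4, 6, 4, 5, 5, 5, 4]))) (.node 4562 (.leaf 89 3 [3, 1, 3, 3, 1, 3, 3, 1, 3, 1, 3, 1, 2, 2, 1, 2, 1, 2, 1, 3, 1, 3, 6, 6, 4, 5, 5, 5, 4, 6, 4, 5, 5, 5, 4, 6, 6, 6, 1, 3, 1]) (.node 4563 (.leaf 94 25 [4, 5, 5, 5, 5, 4, 6, 6, 6, 4, 6, 2, 2, 1, 3, 1, 3, 1, 2, 1, 2, 2, 1, 2, 1, 2, 1, 3, 1, 3, 3, 1, 3, 1, 3, 3]) (.leaf 96 39 [5, 3, 3, 1, 3, 1, 2, 1, 2, 2, 1, 2, 2, 1, 3, 1, 2, 1, 3, 1, 3, 3, 1, 2, 1, 3, 5, 5, 4, 6, 6, 4, 5, 4, 6, 4, 5, 5, 5, 4])))))) (.node 4575 (.node 4569 (.node 4566 (.node 4565 (.leaf 101 33 [5, 1, 3, 1, 2, 1, 2, 1, 2, 2, 1, 2, 1, 2, 2, 1, 2, 2, 1, 2, 1, 2, 2, 1, 2, 1, 4, 6, 4, 5, 4, 6, 6, 4]) (.leaf 106 31 [4, 2, 1, 3, 3, 1, 3, 1, 2, 1, 2, 2, 1, 2, 1, 3, 1, 3, 1, 3, 1, 2, 2, 1, 2, 2, 5, 4, 6, 6, 6, 6])) (.node 4567 (.leaf 113 15 [1, 2, 2, 1, 3, 3, 1, 3, 3, 1, 3, 4, 6, 4, 5, 5, 5, 4, 6, 6, 6, 4, 5, 5, 5, 2, 2, 1, 3, 1, 2, 1, 3, 1, 2, 1, 3, 1, 2, 2]) (.node 4568 (.leaf 115 2 [1, 2, 1, 2, 1, 2, 1, 3, 3, 1, 2, 1, 2, 1, 3, 1, 3, 3, 1, 2, 2, 1, 2, 1, 5, 4, 6, 4, 5, 5, 4, 6, 4, 5, 4, 6, 6, 4, 5, 4, 6, 2, 2]) (.leaf 115 41 [4, 6, 2, 2, 1, 2, 1, 2, 1, 2, 1, 3, 3, 1, 2, 1, 2, 1, 3, 1, 3, 3, 1, 2, 2, 1, 2, 1, 5, 4, 6, 4, 5, 5, 4, 6, 4, 5, 4, 6, 6, 4, 5])))) (.node 4572 (.node 4570 (.leaf 118 8 [1, 2, 2, 1, 2, 1, 2, 1, 3, 1, 3, 3, 1, 3, 1, 2, 1, 3, 4, 5, 4, 6, 4, 5, 5, 4, 6, 4, 5, 5, 4, 6, 1, 3, 3, 1, 2, 1, 2, 2]) (.node 4571 (.leaf 135 37 [5, 4, 1, 3, 1, 2, 2, 1, 2, 1, 3, 1, 2, 2, 1, 2, 1, 2, 1, 2, 1, 2, 2, 1, 2, 1, 2, 1, 4, 6, 4, 5, 5, 5, 4, 6, 6, 6, 4]) (.leaf 140 40 [4, 6, 1, 2, 1, 3, 1, 3, 1, 3, 3, 1, 3, 1, 2, 2, 1, 2, 1, 3, 1, 3, 3, 1, 2, 2, 1, 3, 5, 4, 5, 5, 5, 4, 6, 4, 5, 5, 4, 6, 4, 5]))) (.node 4573 (.leaf 144 11 [2, 1, 3, 3, 1, 3, 1, 2, 1, 2, 1, 3, 1, 3, 1, 5, 4, 6, 4, 5, 5, 4, 6, 4, 5, 4, 6, 6, 4, 3, 3, 1, 3, 1, 2, 1, 3, 3, 1, 2]) (.node 4574 (.leaf 144 39 [4, 3, 3, 1, 3, 1, 2, 1, 3, 3, 1, 2, 2, 1, 3, 3, 1, 3, 1, 2, 1, 2, 1, 3, 1, 3, 1, 5, 4, 6, 4, 5, 5, 4, 6, 4, 5, 4, 6, 6]) (.leaf 146 26 [5, 5, 5, 4, 6, 4, 5, 4, 6, 4, 5, 4, 6, 6, 6, 1, 3, 3, 1, 2, 2, 1, 3, 1, 3, 1, 2, 1, 2, 1, 3, 3, 1, 3, 3, 1, 2, 2, 1, 3, 3]))))) (.node 4580 (.node 4577 (.node 4576 (.leaf 148 10 [1, 2, 1, 2, 2, 1, 2, 1, 3, 1, 2, 1, 3, 1, 2, 2, 4, 5, 5, 5, 5, 4, 6, 6, 6, 4, 5, 4, 6, 6, 6, 4, 2, 1, 3, 3, 1, 2, 2, 1, 3, 3]) (.leaf 155 10 [2, 2, 1, 2, 2, 1, 3, 1, 2, 1, 3, 3, 1, 3, 1, 2, 1, 6, 4, 5, 5, 4, 6, 4, 5, 5, 5, 4, 6, 4, 5, 5, 4, 1, 2, 1, 3, 1, 2, 2, 1, 3, 1])) (.node 4578 (.leaf 156 43 [4, 1, 2, 1, 2, 1, 3, 3, 1, 3, 3, 1, 2, 1, 2, 2, 1, 3, 1, 3, 1, 2, 1, 3, 3, 1, 3, 3, 5, 5, 4, 6, 6, 6, 4, 5, 4, 6, 6, 4, 5, 5, 4, 6]) (.node 4579 (.leaf 163 17 [3, 1, 2, 1, 2, 1, 3, 3, 1, 3, 4, 6, 6, 4, 5, 5, 4, 6, 4, 5, 5, 5, 4, 6, 4, 5, 3, 3, 1, 3, 3, 1, 3, 1, 2, 1, 2, 1, 2, 2, 1, 3, 1]) (.leaf 170 39 [5, 1, 2, 1, 2, 1, 3, 1, 3, 1, 3, 3, 1, 3, 1, 2, 1, 2, 2, 1, 2, 2, 1, 3, 3, 1, 2, 2, 5, 5, 4, 6, 4, 5, 4, 6, 6, 4, 5, 4])))) (.node 4583 (.node 4581 (.leaf 175 15 [3, 1, 3, 1, 3, 1, 2, 1, 3, 1, 2, 2, 6, 6, 4, 5, 5, 5, 4, 6, 6, 6, 4, 5, 5, 1, 3, 1, 3, 1, 2, 2, 1, 3, 1, 2, 1, 3, 1, 3]) (.node 4582 (.leaf 182 3 [1, 2, 2, 1, 2, 2, 1, 2, 1, 3, 1, 2, 1, 3, 1, 3, 3, 1, 3, 3, 1, 2, 1, 3, 4, 5, 4, 5, 5, 5, 4, 6, 4, 6, 2, 1, 3]) (.leaf 189 8 [3, 1, 3, 1, 2, 1, 3, 3, 1, 3, 3, 1, 2, 2, 1, 3, 3, 1, 3, 4, 5, 5, 5, 4, 6, 6, 6, 4, 5, 1, 3, 1, 2, 1, 3, 3, 1]))) (.node 4584 (.leaf 193 36 [5, 5, 4, 1, 2, 1, 3, 3, 1, 3, 3, 1, 3, 1, 2, 1, 2, 1, 2, 1, 2, 1, 3, 1, 3, 3, 1, 2, 2, 1, 4, 6, 4, 5, 4, 6, 6, 4, 5]) (.node 4585 (.leaf 199 2 [1, 2, 1, 3, 1, 3, 1, 2, 2, 1, 3, 1, 2, 2, 1, 2, 2, 1, 3, 1, 2, 2, 1, 2, 1, 5, 4, 6, 6, 6, 4, 5, 5, 5, 4, 6, 2, 2]) (.leaf 210 24 [1, 2, 1, 6, 4, 5, 4, 6, 4, 5, 4, 6, 6, 4, 5, 4, 1, 2, 2, 1, 3, 1, 2, 2, 1, 3, 1, 2, 2, 1, 2, 1, 2, 1, 3, 1, 2, 1, 3, 3]))))))) (.node 4608 (.node 4597 (.node 4591 (.node 4588 (.node 4587 (.leaf 211 12 [2, 2, 1, 2, 2, 1, 2, 2, 1, 2, 1, 2, 1, 3, 1, 5, 5, 4, 6, 4, 5, 5, 4, 6, 4, 5, 4, 6, 4, 5, 1, 3, 1, 2, 1, 3, 3, 1, 3, 1, 2, 1]) (.leaf 219 17 [2, 1, 3, 3, 1, 3, 1, 3, 3, 1, 5, 4, 5, 5, 5, 4, 6, 4, 5, 5, 5, 4, 2, 1, 2, 2, 1, 2, 1, 3, 1, 2, 1, 2, 1, 2, 2, 1, 2])) (.node 4589 (.leaf 228 29 [6, 6, 6, 4, 5, 4, 6, 6, 4, 5, 4, 5, 1, 3, 3, 1, 3, 3, 1, 2, 1, 2, 1, 3, 1, 2, 1, 2, 1, 2, 1, 2, 1, 2, 2, 1, 2, 1, 3, 6, 4]) (.node 4590 (.leaf 230 10 [2, 1, 2, 1, 2, 2, 1, 2, 1, 3, 1, 2, 1, 2, 2, 1, 3, 4, 5, 4, 6, 6, 4, 5, 5, 5, 4, 1, 2, 1, 3, 1, 3, 1, 3, 1, 2]) (.leaf 232 16 [1, 2, 1, 2, 2, 1, 3, 1, 3, 3, 1, 6, 6, 4, 5, 5, 5, 4, 6, 6, 6, 4, 5, 5, 5, 1, 3, 1, 3, 3, 1, 2, 1, 3, 1, 2, 2, 1, 2, 1, 3])))) (.node 4594 (.node 4592 (.leaf 244 40 [4, 1, 2, 2, 1, 2, 1, 2, 1, 2, 1, 3, 1, 2, 2, 1, 3, 3, 1, 3, 1, 3, 1, 2, 1, 2, 1, 3, 5, 4, 6, 4, 5, 5, 4, 6, 4, 5, 5, 4, 6]) (.node 4593 (.leaf 245 9 [3, 1, 2, 2, 1, 3, 1, 3, 1, 2, 1, 2, 2, 1, 2, 1, 3, 3, 5, 5, 4, 6, 6, 4, 5, 4, 6, 4, 5, 4, 6, 4, 2, 2, 1, 3, 3, 1, 2, 2, 1]) (.leaf 247 26 [1, 6, 4, 5, 4, 6, 6, 6, 4, 5, 4, 6, 6, 4, 5, 4, 1, 2, 2, 1, 2, 2, 1, 3, 1, 2, 2, 1, 2, 2, 1, 2, 2, 1, 2, 1, 2, 1, 3, 1, 3, 3]))) (.node 4595 (.leaf 250 17 [2, 2, 1, 3, 1, 3, 1, 3, 3, 1, 6, 4, 6, 6, 6, 4, 5, 4, 6, 6, 6, 4, 5, 4, 3, 3, 1, 3, 1, 2, 1, 2, 1, 2, 1, 2, 1, 2, 1, 3, 1]) (.node 4596 (.leaf 252 17 [2, 2, 1, 3, 3, 1, 3, 1, 3, 1, 4, 5, 5, 5, 4, 6, 6, 4, 5, 4, 6, 4, 5, 5, 5, 4, 6, 1, 2, 1, 2, 1, 2, 2, 1, 3, 3, 1, 2, 2, 1, 3, 3, 1]) (.leaf 253 39 [6, 2, 1, 3, 1, 3, 3, 1, 2, 1, 3, 1, 2, 1, 2, 2, 1, 2, 1, 3, 1, 3, 3, 1, 2, 1, 3, 1, 6, 6, 4, 5, 5, 4, 6, 4, 5, 5, 5, 4]))))) (.node 4602 (.node 4599 (.node 4598 (.leaf 253 5 [3, 1, 2, 1, 3, 1, 2, 1, 2, 2, 1, 2, 1, 3, 1, 3, 3, 1, 2, 1, 3, 1, 6, 6, 4, 5, 5, 4, 6, 4, 5, 5, 5, 4, 6, 2, 1, 3, 1, 3]) (.leaf 272 0 [3, 3, 1, 3, 3, 1, 3, 3, 1, 3, 3, 1, 2, 1, 2, 1, 3, 3, 1, 2, 1, 2, 2, 1, 2, 1, 3, 3, 5, 5, 4, 6, 6, 4, 5, 4, 6, 6, 6, 4, 5, 5, 5])) (.node 4600 (.leaf 278 3 [1, 2, 1, 3, 3, 1, 3, 1, 3, 1, 2, 1, 2, 1, 2, 1, 2, 1, 2, 2, 1, 2, 1, 3, 1, 4, 5, 4, 6, 6, 6, 4, 5, 4, 6, 6, 4, 5, 4, 6, 4, 5, 2, 1, 3]) (.node 4601 (.leaf 278 12 [1, 2, 1, 2, 1, 2, 1, 2, 1, 2, 2, 1, 2, 1, 3, 1, 4, 5, 4, 6, 6, 6, 4, 5, 4, 6, 6, 4, 5, 4, 6, 4, 5, 2, 1, 3, 1, 2, 1, 3, 3, 1, 3, 1, 3]) (.leaf 280 2 [3, 3, 1, 2, 2, 1, 2, 1, 2, 1, 3, 1, 3, 1, 2, 1, 3, 1, 2, 2, 1, 3, 1, 2, 1, 3, 6, 4, 5, 4, 6, 6, 4, 5, 5, 4, 6, 4, 5, 5, 5, 2, 1])))) (.node 4605 (.node 4603 (.leaf 281 16 [3, 3, 1, 2, 2, 1, 2, 1, 3, 1, 3, 1, 6, 6, 4, 5, 5, 4, 6, 4, 5, 5, 5, 4, 6, 6, 6, 4, 2, 1, 3, 3, 1, 3, 3, 1, 3, 3, 1, 3, 3, 1, 2, 1]) (.node 4604 (.leaf 284 5 [2, 1, 3, 1, 2, 2, 1, 3, 1, 2, 2, 1, 3, 3, 1, 2, 1, 3, 3, 1, 3, 1, 3, 4, 6, 4, 5, 5, 5, 4, 6, 6, 1, 3, 1, 3, 1]) (.leaf 290 8 [3, 3, 1, 3, 1, 2, 2, 1, 2, 2, 1, 3, 3, 1, 3, 1, 3, 1, 3, 3, 5, 4, 6, 6, 6, 4, 5, 5, 5, 4, 1, 2, 1, 2, 2, 1, 3, 1]))) (.node 4606 (.leaf 299 12 [1, 2, 2, 1, 3, 1, 2, 1, 3, 1, 2, 1, 2, 1, 2, 2, 6, 6, 4, 5, 4, 6, 4, 5, 5, 5, 4, 5, 1, 3, 1, 2, 1, 3, 1, 3, 3, 1, 2, 2]) (.node 4607 (.leaf 299 18 [2, 1, 3, 1, 2, 1, 2, 1, 2, 2, 6, 6, 4, 5, 4, 6, 4, 5, 5, 5, 4, 5, 1, 3, 1, 2, 1, 3, 1, 3, 3, 1, 2, 2, 1, 2, 2, 1, 3, 1]) (.leaf 301 4 [1, 3, 1, 2, 1, 3, 1, 2, 2, 1, 2, 2, 1, 3, 1, 3, 3, 1, 2, 1, 3, 3, 1, 3, 5, 4, 6, 4, 5, 4, 6, 4, 5, 4, 6, 6, 4, 5, 5, 1, 3, 1, 3])))))) (.node 4619 (.node 4613 (.node 4610 (.node 4609 (.leaf 303 36 [6, 4, 5, 2, 1, 3, 3, 1, 3, 1, 3, 1, 3, 1, 2, 1, 2, 2, 1, 3, 3, 1, 3, 1, 3, 1, 3, 3, 1, 2, 1, 6, 6, 6, 4, 5, 5, 5, 4]) (.leaf 313 28 [5, 5, 5, 4, 6, 4, 5, 5, 4, 6, 6, 4, 5, 3, 3, 1, 2, 2, 1, 3, 1, 2, 2, 1, 3, 3, 1, 3, 1, 3, 3, 1, 3, 1, 2, 2, 1, 3, 1, 3, 1])) (.node 4611 (.leaf 315 1 [2, 1, 3, 1, 3, 1, 2, 1, 3, 3, 1, 3, 1, 2, 1, 2, 1, 2, 1, 2, 2, 1, 2, 1, 2, 1, 3, 6, 4, 5, 5, 4, 6, 4, 5, 5, 4, 6, 4, 6, 2]) (.node 4612 (.leaf 318 14 [2, 1, 3, 3, 1, 3, 1, 2, 1, 2, 2, 1, 3, 1, 4, 5, 4, 6, 6, 4, 5, 4, 6, 4, 5, 5, 4, 6, 2, 1, 3, 1, 2, 1, 2, 2, 1, 3, 1, 3, 3, 1]) (.leaf 325 11 [1, 2, 2, 1, 3, 1, 3, 1, 3, 1, 3, 3, 1, 2, 2, 1, 3, 4, 6, 4, 5, 5, 4, 6, 6, 6, 1, 3, 3, 1, 2, 1, 3, 1, 3, 1, 3])))) (.node 4616 (.node 4614 (.leaf 328 10 [1, 2, 2, 1, 3, 1, 3, 3, 1, 3, 1, 3, 3, 1, 3, 1, 3, 1, 6, 6, 4, 5, 4, 6, 4, 5, 4, 6, 6, 6, 4, 2, 1, 3, 1, 2, 1, 2, 1, 3, 3]) (.node 4615 (.leaf 330 26 [3, 1, 6, 4, 5, 5, 5, 4, 6, 4, 5, 5, 5, 2, 1, 2, 1, 3, 1, 2, 1, 3, 1, 2, 1, 3, 1, 3, 1, 3, 3, 1, 3, 1, 2, 1, 2, 1, 3]) (.leaf 331 28 [4, 5, 5, 4, 6, 4, 5, 4, 6, 6, 6, 4, 2, 1, 2, 1, 2, 2, 1, 3, 3, 1, 2, 1, 2, 2, 1, 3, 1, 2, 1, 3, 3, 1, 3, 1, 2, 1, 3, 1]))) (.node 4617 (.leaf 334 22 [2, 2, 1, 3, 1, 3, 4, 5, 5, 4, 6, 4, 5, 4, 6, 4, 5, 4, 3, 3, 1, 2, 1, 2, 1, 2, 1, 3, 3, 1, 2, 2, 1, 3, 3, 1, 2, 1, 2, 1]) (.node 4618 (.leaf 337 6 [2, 1, 3, 1, 2, 2, 1, 2, 1, 2, 1, 2, 2, 1, 3, 3, 1, 3, 3, 1, 3, 1, 5, 5, 4, 6, 4, 5, 4, 6, 4, 5, 5, 4, 6, 4, 5, 3, 3, 1, 2, 2, 1]) (.leaf 338 16 [3, 3, 1, 2, 1, 3, 1, 3, 3, 1, 2, 2, 6, 6, 6, 4, 5, 4, 6, 6, 6, 4, 5, 4, 6, 6, 6, 2, 1, 3, 1, 2, 2, 1, 2, 1, 3, 3, 1, 3, 1, 2, 1]))))) (.node 4624 (.node 4621 (.node 4620 (.leaf 342 21 [1, 3, 1, 3, 1, 2, 2, 4, 6, 4, 5, 4, 6, 4, 5, 4, 6, 6, 6, 4, 6, 2, 1, 3, 3, 1, 3, 3, 1, 2, 1, 2, 1, 2, 2, 1, 3, 1, 2, 2, 1, 2]) (.leaf 345 10 [3, 1, 3, 1, 2, 1, 2, 1, 2, 1, 2, 1, 3, 3, 1, 3, 1, 3, 6, 4, 5, 5, 5, 5, 4, 6, 6, 6, 4, 6, 2, 1, 2, 1, 2, 1, 3, 1, 3, 1])) (.node 4622 (.leaf 347 38 [5, 1, 3, 3, 1, 2, 1, 2, 2, 1, 3, 1, 2, 1, 2, 1, 2, 1, 3, 3, 1, 3, 1, 2, 2, 1, 3, 3, 1, 5, 4, 6, 6, 6, 4, 5, 5, 5, 4]) (.node 4623 (.leaf 348 22 [3, 1, 2, 1, 3, 1, 6, 6, 4, 5, 4, 6, 6, 6, 4, 5, 4, 6, 6, 6, 1, 3, 1, 3, 1, 3, 1, 2, 2, 1, 3, 3, 1, 2, 1, 3, 1, 2, 1, 3, 1, 3]) (.leaf 349 0 [1, 2, 1, 3, 1, 3, 3, 1, 2, 1, 2, 2, 1, 2, 2, 1, 2, 1, 2, 2, 1, 3, 1, 2, 2, 1, 3, 1, 5, 4, 5, 5, 5, 4, 6, 4, 5, 4, 6, 4, 5, 4, 6, 4])))) (.node 4627 (.node 4625 (.leaf 351 28 [5, 5, 5, 4, 6, 4, 5, 4, 6, 4, 5, 4, 2, 2, 1, 3, 3, 1, 3, 3, 1, 2, 1, 3, 1, 2, 1, 3, 3, 1, 3, 3, 1, 2, 1, 2, 2, 1, 3, 1]) (.node 4626 (.leaf 353 44 [6, 6, 2, 1, 2, 2, 1, 3, 1, 3, 3, 1, 3, 1, 2, 1, 2, 2, 1, 2, 2, 1, 2, 2, 1, 2, 1, 2, 2, 1, 5, 4, 5, 5, 5, 4, 6, 4, 5, 5, 4, 6, 4, 5, 4, 6]) (.leaf 353 28 [5, 4, 5, 5, 5, 4, 6, 4, 5, 5, 4, 6, 4, 5, 4, 6, 6, 6, 2, 1, 2, 2, 1, 3, 1, 3, 3, 1, 3, 1, 2, 1, 2, 2, 1, 2, 2, 1, 2, 2, 1, 2, 1, 2, 2, 1]))) (.node 4628 (.leaf 357 0 [2, 1, 2, 2, 1, 2, 1, 3, 1, 2, 2, 1, 2, 2, 1, 2, 2, 1, 3, 1, 2, 1, 2, 2, 1, 2, 1, 3, 6, 6, 6, 4, 5, 4, 6, 6, 6, 4, 5, 4, 6, 6, 4, 5]) (.node 4629 (.leaf 361 24 [1, 2, 2, 1, 6, 6, 4, 5, 5, 4, 6, 4, 5, 5, 5, 4, 6, 6, 6, 4, 2, 1, 3, 1, 3, 3, 1, 2, 2, 1, 2, 1, 2, 2, 1, 2, 2, 1, 2, 1, 3, 1, 2, 2]) (.leaf 366 39 [6, 4, 2, 1, 2, 1, 3, 1, 2, 2, 1, 3, 3, 1, 2, 2, 1, 3, 3, 1, 2, 2, 1, 3, 1, 3, 1, 3, 3, 1, 4, 6, 4, 5, 4, 6, 6, 4, 5, 4, 6])))))))) (.node 4674 (.node 4652 (.node 4641 (.node 4635 (.node 4632 (.node 4631 (.leaf 367 19 [1, 3, 1, 3, 1, 3, 1, 2, 1, 4, 6, 4, 5, 5, 4, 6, 4, 5, 4, 6, 4, 5, 4, 1, 2, 1, 3, 3, 1, 2, 2, 1, 3, 3, 1, 2, 1, 2, 1, 2, 1, 3]) (.leaf 367 25 [1, 2, 1, 4, 6, 4, 5, 5, 4, 6, 4, 5, 4, 6, 4, 5, 4, 1, 2, 1, 3, 3, 1, 2, 2, 1, 3, 3, 1, 2, 1, 2, 1, 2, 1, 3, 1, 3, 1, 3, 1, 3])) (.node 4633 (.leaf 368 26 [2, 2, 4, 5, 5, 5, 4, 6, 6, 6, 4, 5, 5, 5, 4, 6, 2, 2, 1, 3, 3, 1, 3, 3, 1, 2, 1, 3, 3, 1, 2, 2, 1, 3, 3, 1, 3, 1, 2, 1, 2, 1]) (.node 4634 (.leaf 370 1 [2, 1, 3, 3, 1, 3, 1, 2, 2, 1, 3, 1, 3, 1, 3, 1, 3, 1, 3, 1, 3, 1, 3, 3, 1, 2, 2, 4, 5, 4, 6, 6, 4, 5, 5, 5, 2]) (.leaf 374 21 [3, 1, 2, 2, 1, 3, 1, 4, 5, 4, 6, 6, 4, 5, 4, 6, 4, 5, 4, 6, 6, 4, 5, 2, 1, 3, 1, 2, 1, 2, 1, 2, 1, 3, 1, 2, 1, 2, 2, 1, 3, 3, 1, 3])))) (.node 4638 (.node 4636 (.leaf 375 1 [2, 1, 3, 1, 2, 2, 1, 3, 1, 2, 2, 1, 2, 2, 1, 3, 1, 3, 3, 1, 3, 3, 1, 2, 1, 3, 1, 4, 5, 4, 5, 5, 5, 4, 6, 4, 5, 4, 6, 4, 5, 4, 6, 6, 2]) (.node 4637 (.leaf 380 12 [3, 1, 2, 1, 3, 3, 1, 2, 1, 2, 1, 3, 1, 3, 1, 3, 4, 6, 4, 5, 5, 4, 6, 4, 5, 4, 6, 4, 1, 3, 3, 1, 3, 1, 2, 1, 3, 3, 1, 3]) (.leaf 384 4 [2, 1, 3, 1, 2, 1, 3, 1, 2, 1, 3, 1, 2, 1, 2, 1, 3, 3, 1, 3, 1, 2, 2, 1, 6, 6, 6, 4, 5, 5, 5, 4, 6, 4, 2, 1, 3, 1]))) (.node 4639 (.leaf 384 29 [6, 6, 4, 5, 5, 5, 4, 6, 4, 2, 1, 3, 1, 2, 1, 3, 1, 2, 1, 3, 1, 2, 1, 3, 1, 2, 1, 2, 1, 3, 3, 1, 3, 1, 2, 2, 1, 6]) (.node 4640 (.leaf 393 29 [4, 6, 4, 5, 5, 5, 4, 6, 4, 5, 5, 5, 4, 6, 4, 5, 1, 3, 3, 1, 3, 1, 3, 1, 3, 1, 3, 3, 1, 3, 1, 3, 1, 2, 1, 3, 1, 3, 3, 1, 3, 3, 1, 3, 1]) (.leaf 395 22 [2, 2, 1, 2, 1, 3, 3, 6, 6, 6, 4, 5, 5, 5, 4, 6, 4, 5, 5, 4, 6, 4, 1, 3, 1, 3, 1, 2, 1, 3, 3, 1, 3, 1, 3, 3, 1, 2, 1, 2, 2, 1, 2, 1]))))) (.node 4646 (.node 4643 (.node 4642 (.leaf 396 34 [6, 4, 5, 5, 5, 4, 6, 4, 5, 5, 4, 6, 4, 1, 2, 1, 2, 1, 2, 1, 3, 1, 2, 1, 2, 1, 3, 1, 3, 1, 2, 1, 3, 3, 1, 2, 2, 1, 3, 1, 2, 2, 4, 5, 5, 5, 4]) (.leaf 12 0 [3, 3, 1, 2, 1, 2, 2, 1, 2, 2, 1, 3, 3, 1, 2, 1, 3, 4, 6, 6, 4, 5, 4, 6, 6, 6, 4, 5, 4, 6, 6])) (.node 4644 (.leaf 14 16 [1, 2, 2, 5, 4, 5, 5, 5, 5, 4, 6, 4, 5, 5, 5, 4, 6, 6, 1, 3, 3, 1, 2, 2, 1, 2, 1, 2, 2, 1, 2, 2, 1, 2]) (.node 4645 (.leaf 21 17 [3, 3, 1, 2, 2, 4, 5, 4, 6, 6, 4, 5, 4, 6, 6, 6, 4, 6, 2, 1, 2, 1, 2, 1, 3, 3, 1, 2, 2, 1, 2, 2, 1, 2, 1]) (.leaf 25 36 [4, 2, 2, 1, 2, 2, 1, 3, 3, 1, 2, 1, 2, 2, 1, 3, 1, 2, 1, 2, 1, 2, 2, 4, 5, 4, 6, 4, 5, 4, 6, 4, 5, 4, 6, 6, 6])))) (.node 4649 (.node 4647 (.leaf 30 5 [3, 3, 1, 3, 1, 2, 1, 3, 3, 1, 2, 1, 3, 3, 1, 2, 1, 4, 5, 5, 5, 4, 6, 6, 6, 4, 5, 4, 6, 6, 6, 4, 5, 2, 2, 1, 2, 1]) (.node 4648 (.leaf 53 11 [2, 2, 1, 3, 1, 3, 1, 2, 1, 3, 3, 1, 3, 5, 4, 5, 5, 5, 4, 6, 6, 4, 5, 4, 1, 2, 2, 1, 2, 1, 2, 2, 1, 2, 1]) (.leaf 55 24 [4, 6, 6, 4, 5, 4, 6, 6, 4, 5, 4, 6, 6, 2, 1, 2, 1, 3, 3, 1, 2, 1, 3, 1, 3, 1, 2, 1, 2, 1, 3, 1, 3, 3, 1, 2, 2]))) (.node 4650 (.leaf 56 24 [4, 5, 5, 5, 4, 6, 4, 5, 5, 5, 4, 6, 6, 6, 4, 5, 2, 1, 2, 1, 2, 1, 3, 1, 3, 1, 2, 1, 3, 1, 3, 1, 3, 1, 3, 1, 2, 1, 3, 1]) (.node 4651 (.leaf 57 20 [1, 3, 3, 1, 6, 6, 6, 4, 5, 4, 6, 6, 4, 5, 5, 2, 2, 1, 3, 3, 1, 3, 1, 3, 1, 3, 1, 2, 1, 3, 1, 3, 1, 3, 3]) (.leaf 66 13 [1, 2, 1, 3, 3, 1, 2, 2, 1, 2, 2, 5, 5, 4, 6, 4, 5, 4, 6, 6, 4, 5, 5, 1, 3, 3, 1, 2, 1, 3, 1, 3, 3, 1, 2, 2])))))) (.node 4663 (.node 4657 (.node 4654 (.node 4653 (.leaf 67 27 [6, 4, 5, 4, 6, 6, 6, 4, 5, 4, 6, 6, 4, 5, 4, 1, 2, 1, 3, 3, 1, 3, 1, 3, 1, 3, 1, 2, 1, 2, 1, 3, 3, 1, 3, 3, 1, 3, 3, 4, 6, 6]) (.leaf 69 19 [3, 3, 1, 3, 3, 5, 5, 4, 6, 4, 5, 4, 6, 4, 5, 4, 6, 6, 4, 5, 4, 3, 3, 1, 2, 1, 3, 1, 3, 3, 1, 2, 2, 1, 2, 1, 3, 1, 3, 1])) (.node 4655 (.leaf 70 1 [2, 1, 2, 1, 3, 1, 2, 1, 3, 1, 3, 1, 2, 1, 3, 1, 2, 1, 3, 1, 2, 1, 2, 1, 6, 4, 5, 5, 5, 4, 5, 1]) (.node 4656 (.leaf 75 6 [1, 3, 3, 1, 3, 3, 1, 2, 2, 1, 3, 3, 1, 2, 1, 2, 1, 3, 3, 6, 6, 4, 5, 5, 5, 4, 6, 4, 5, 5, 5, 4, 1, 2, 1, 3, 1, 2]) (.leaf 76 13 [2, 1, 3, 1, 2, 2, 1, 2, 2, 1, 2, 2, 6, 4, 5, 4, 6, 6, 4, 5, 5, 4, 6, 1, 2, 1, 3, 1, 2, 1, 2, 1, 3, 3, 1, 2])))) (.node 4660 (.node 4658 (.leaf 79 10 [2, 1, 2, 1, 3, 1, 3, 1, 3, 3, 1, 3, 1, 3, 3, 4, 5, 5, 5, 4, 6, 4, 5, 5, 4, 6, 6, 6, 1, 2, 1, 3, 3, 1, 2, 1, 2, 1]) (.node 4659 (.leaf 79 5 [1, 2, 1, 2, 1, 2, 1, 2, 1, 3, 1, 3, 1, 3, 3, 1, 3, 1, 3, 3, 4, 5, 5, 5, 4, 6, 4, 5, 5, 4, 6, 6, 6, 1, 2, 1, 3, 3]) (.leaf 85 1 [2, 1, 2, 1, 3, 1, 3, 1, 3, 1, 3, 1, 3, 1, 2, 1, 3, 3, 1, 2, 2, 1, 2, 1, 6, 6, 6, 4, 5, 4, 6, 6, 6, 4, 5, 4, 6, 6, 6, 2]))) (.node 4661 (.leaf 86 6 [3, 1, 2, 2, 1, 2, 1, 3, 3, 1, 2, 2, 1, 2, 1, 2, 1, 2, 2, 4, 5, 5, 4, 6, 4, 5, 5, 5, 4, 6, 6, 1, 3, 1, 3, 1, 3]) (.node 4662 (.leaf 96 5 [2, 1, 2, 2, 1, 2, 2, 1, 3, 1, 2, 1, 3, 1, 3, 3, 1, 2, 1, 3, 5, 5, 4, 6, 6, 4, 5, 4, 6, 4, 5, 5, 5, 4, 5, 3, 3, 1, 3, 1]) (.leaf 97 18 [3, 1, 2, 1, 2, 1, 3, 4, 6, 4, 5, 5, 4, 6, 6, 4, 5, 4, 6, 6, 6, 4, 6, 2, 1, 3, 1, 3, 1, 2, 1, 2, 2, 1, 3, 1, 2, 1, 3, 3, 1]))))) (.node 4668 (.node 4665 (.node 4664 (.leaf 98 7 [3, 1, 3, 1, 2, 2, 1, 3, 1, 3, 3, 1, 2, 1, 2, 1, 3, 1, 6, 6, 4, 5, 4, 6, 6, 6, 4, 5, 4, 6, 6, 4, 3, 3, 1, 3, 3, 1, 3]) (.leaf 98 14 [3, 1, 3, 3, 1, 2, 1, 2, 1, 3, 1, 6, 6, 4, 5, 4, 6, 6, 6, 4, 5, 4, 6, 6, 4, 3, 3, 1, 3, 3, 1, 3, 3, 1, 3, 1, 2, 2, 1])) (.node 4666 (.leaf 107 23 [3, 3, 5, 5, 5, 4, 6, 4, 5, 5, 4, 6, 2, 1, 2, 1, 3, 3, 1, 3, 3, 1, 2, 1, 2, 2, 1, 3, 1, 3, 3, 1, 3, 3, 1]) (.node 4667 (.leaf 108 10 [1, 2, 2, 1, 2, 1, 3, 3, 1, 3, 1, 2, 1, 2, 2, 4, 5, 4, 6, 4, 5, 5, 4, 6, 4, 5, 5, 5, 4, 2, 2, 1, 3, 1, 3, 3, 1, 2, 2]) (.leaf 111 23 [1, 2, 1, 4, 6, 4, 5, 5, 5, 5, 4, 6, 4, 5, 5, 5, 4, 6, 1, 2, 2, 1, 2, 1, 2, 1, 3, 1, 3, 1, 2, 1, 2, 1, 3, 1, 3, 3, 1, 3, 3])))) (.node 4671 (.node 4669 (.leaf 112 11 [1, 2, 2, 1, 3, 1, 2, 1, 2, 1, 2, 2, 1, 3, 3, 4, 6, 6, 4, 5, 4, 6, 6, 4, 5, 5, 4, 6, 4, 1, 2, 2, 1, 2, 1, 2, 1, 3, 1, 3]) (.node 4670 (.leaf 113 16 [2, 2, 1, 3, 3, 1, 3, 3, 1, 3, 4, 6, 4, 5, 5, 5, 4, 6, 6, 6, 4, 5, 5, 5, 2, 2, 1, 3, 1, 2, 1, 3, 1, 2, 1, 3, 1, 2, 2, 1]) (.leaf 114 15 [2, 1, 2, 1, 2, 1, 2, 1, 2, 2, 1, 4, 5, 4, 6, 6, 4, 5, 4, 6, 4, 5, 5, 5, 4, 6, 4, 1, 3, 3, 1, 3, 3, 1, 2, 1, 3, 1, 3, 1, 3, 1]))) (.node 4672 (.leaf 115 18 [3, 3, 1, 2, 2, 1, 2, 1, 5, 4, 6, 4, 5, 5, 4, 6, 4, 5, 4, 6, 6, 4, 5, 4, 6, 2, 2, 1, 2, 1, 2, 1, 2, 1, 3, 3, 1, 2, 1, 2, 1, 3, 1]) (.node 4673 (.leaf 118 29 [6, 4, 5, 5, 4, 6, 4, 5, 5, 4, 6, 1, 3, 3, 1, 2, 1, 2, 2, 1, 2, 2, 1, 2, 1, 2, 1, 3, 1, 3, 3, 1, 3, 1, 2, 1, 3, 4, 5, 4]) (.leaf 119 33 [4, 5, 1, 3, 3, 1, 3, 1, 2, 2, 1, 2, 1, 2, 2, 1, 3, 3, 1, 3, 1, 3, 1, 3, 1, 3, 3, 1, 4, 6, 6, 4, 5, 5, 5]))))))) (.node 4696 (.node 4685 (.node 4679 (.node 4676 (.node 4675 (.leaf 119 11 [2, 2, 1, 3, 3, 1, 3, 1, 3, 1, 3, 1, 3, 3, 1, 4, 6, 6, 4, 5, 5, 5, 4, 5, 1, 3, 3, 1, 3, 1, 2, 2, 1, 2, 1]) (.leaf 121 21 [3, 1, 3, 3, 1, 6, 4, 5, 5, 5, 4, 6, 4, 5, 4, 6, 4, 5, 2, 1, 2, 1, 2, 2, 1, 2, 1, 3, 1, 3, 1, 2, 2, 1, 2, 1, 3, 1, 3])) (.node 4677 (.leaf 123 1 [2, 1, 3, 1, 3, 3, 1, 2, 1, 2, 2, 1, 3, 1, 2, 1, 3, 1, 2, 2, 1, 2, 1, 3, 1, 5, 4, 6, 4, 5, 4, 6, 6, 4, 5, 4, 6, 6, 6, 4, 6, 2]) (.node 4678 (.leaf 123 41 [6, 2, 2, 1, 3, 1, 3, 3, 1, 2, 1, 2, 2, 1, 3, 1, 2, 1, 3, 1, 2, 2, 1, 2, 1, 3, 1, 5, 4, 6, 4, 5, 4, 6, 6, 4, 5, 4, 6, 6, 6, 4]) (.leaf 125 24 [2, 1, 4, 6, 6, 4, 5, 4, 6, 6, 4, 5, 4, 6, 4, 5, 2, 1, 3, 3, 1, 2, 2, 1, 3, 1, 2, 1, 2, 2, 1, 2, 1, 2, 1, 3, 3, 1, 2, 1])))) (.node 4682 (.node 4680 (.leaf 128 40 [5, 2, 1, 3, 3, 1, 2, 1, 2, 1, 2, 1, 3, 1, 2, 1, 3, 1, 2, 1, 3, 3, 1, 2, 1, 2, 2, 5, 4, 5, 5, 5, 4, 6, 4, 5, 5, 5, 4, 6, 4]) (.node 4681 (.leaf 129 17 [2, 1, 2, 2, 1, 2, 1, 3, 3, 5, 5, 5, 4, 6, 6, 6, 4, 5, 5, 1, 2, 1, 3, 1, 2, 1, 2, 2, 1, 3, 1, 2, 2, 1, 3, 1]) (.leaf 131 8 [3, 1, 2, 1, 2, 1, 2, 2, 1, 3, 3, 1, 3, 1, 3, 1, 2, 2, 5, 4, 6, 6, 4, 5, 4, 6, 6, 6, 4, 5, 4, 2, 1, 3, 1, 2, 1, 3, 1]))) (.node 4683 (.leaf 136 25 [3, 4, 5, 4, 6, 6, 4, 5, 5, 4, 6, 4, 5, 5, 5, 4, 6, 6, 2, 1, 2, 1, 3, 1, 2, 1, 3, 3, 1, 2, 1, 2, 1, 2, 2, 1, 2, 2, 1, 3, 3, 1, 3]) (.node 4684 (.leaf 144 7 [3, 3, 1, 2, 2, 1, 3, 3, 1, 3, 1, 2, 1, 2, 1, 3, 1, 3, 1, 5, 4, 6, 4, 5, 5, 4, 6, 4, 5, 4, 6, 6, 4, 3, 3, 1, 3, 1, 2, 1]) (.leaf 145 21 [1, 3, 1, 2, 1, 5, 4, 5, 5, 5, 4, 6, 4, 5, 4, 6, 2, 1, 3, 3, 1, 2, 2, 1, 3, 1, 3, 1, 2, 1, 3, 3, 1, 3, 3, 1, 3]))))) (.node 4690 (.node 4687 (.node 4686 (.leaf 153 16 [1, 2, 2, 1, 2, 1, 3, 3, 1, 3, 4, 6, 6, 6, 4, 5, 5, 5, 4, 5, 1, 3, 1, 3, 1, 2, 2, 1, 2, 1, 2, 1, 2, 2, 1, 2]) (.leaf 155 41 [5, 4, 1, 2, 1, 3, 1, 2, 2, 1, 3, 1, 2, 2, 1, 2, 2, 1, 3, 1, 2, 1, 3, 3, 1, 3, 1, 2, 1, 6, 4, 5, 5, 4, 6, 4, 5, 5, 5, 4, 6, 4, 5])) (.node 4688 (.leaf 156 14 [2, 1, 3, 1, 3, 1, 2, 1, 3, 3, 1, 3, 3, 5, 5, 4, 6, 6, 6, 4, 5, 4, 6, 6, 4, 5, 5, 4, 6, 4, 1, 2, 1, 2, 1, 3, 3, 1, 3, 3, 1, 2, 1, 2]) (.node 4689 (.leaf 156 21 [1, 3, 3, 1, 3, 3, 5, 5, 4, 6, 6, 6, 4, 5, 4, 6, 6, 4, 5, 5, 4, 6, 4, 1, 2, 1, 2, 1, 3, 3, 1, 3, 3, 1, 2, 1, 2, 2, 1, 3, 1, 3, 1, 2]) (.leaf 160 2 [2, 1, 2, 1, 2, 1, 3, 3, 1, 3, 3, 1, 2, 1, 3, 1, 3, 1, 2, 1, 3, 3, 1, 2, 2, 5, 4, 6, 6, 6, 4, 5, 5, 5, 4, 6, 4, 5, 5, 1, 2])))) (.node 4693 (.node 4691 (.leaf 165 15 [1, 2, 2, 1, 2, 1, 2, 2, 1, 2, 2, 1, 4, 5, 5, 4, 6, 4, 5, 5, 4, 6, 4, 5, 4, 6, 6, 2, 1, 3, 1, 3, 1, 3, 3, 1, 3, 1, 3, 3, 1, 2]) (.node 4692 (.leaf 167 24 [1, 3, 1, 5, 4, 6, 6, 4, 5, 5, 5, 1, 3, 1, 3, 1, 3, 1, 2, 1, 3, 1, 2, 1, 2, 1, 2, 1, 2, 2, 1, 3, 1, 3, 3]) (.leaf 169 8 [2, 1, 2, 1, 3, 1, 2, 1, 2, 1, 3, 1, 3, 3, 1, 2, 1, 3, 3, 4, 6, 4, 5, 5, 4, 6, 4, 5, 5, 2, 2, 1, 3, 1, 3, 1, 2]))) (.node 4694 (.leaf 170 12 [3, 1, 2, 1, 2, 2, 1, 2, 2, 1, 3, 3, 1, 2, 2, 5, 5, 4, 6, 4, 5, 4, 6, 6, 4, 5, 4, 5, 1, 2, 1, 2, 1, 3, 1, 3, 1, 3, 3, 1]) (.node 4695 (.leaf 171 7 [3, 1, 2, 1, 3, 3, 1, 2, 2, 1, 3, 1, 2, 2, 1, 2, 2, 1, 2, 1, 4, 5, 5, 5, 4, 6, 4, 5, 4, 6, 4, 5, 4, 6, 6, 1, 3, 1, 3, 3, 1, 3]) (.leaf 172 6 [2, 1, 2, 2, 1, 2, 1, 2, 2, 1, 2, 1, 2, 1, 2, 2, 1, 3, 3, 1, 3, 4, 6, 6, 4, 5, 4, 6, 4, 1, 3, 3, 1, 3, 1])))))) (.node 4707 (.node 4701 (.node 4698 (.node 4697 (.leaf 173 30 [4, 5, 4, 6, 4, 5, 4, 6, 4, 5, 4, 6, 6, 2, 1, 2, 2, 1, 2, 1, 2, 2, 1, 3, 1, 2, 2, 1, 3, 1, 3, 3, 1, 2, 2, 1, 2, 1, 3, 1, 5, 4, 6]) (.leaf 177 17 [1, 2, 2, 1, 2, 1, 2, 1, 3, 1, 5, 5, 4, 6, 6, 6, 4, 5, 4, 6, 6, 4, 5, 5, 4, 6, 4, 1, 3, 3, 1, 3, 1, 3, 1, 2, 1, 2, 1, 2, 1, 3, 1, 3])) (.node 4699 (.leaf 178 9 [2, 1, 2, 2, 1, 2, 1, 2, 1, 2, 1, 3, 1, 3, 3, 1, 3, 1, 5, 5, 5, 4, 6, 4, 5, 5, 4, 6, 4, 5, 5, 5, 4, 5, 1, 3, 3, 1, 2, 1, 3, 3, 1]) (.node 4700 (.leaf 178 2 [3, 1, 2, 1, 3, 3, 1, 2, 1, 2, 2, 1, 2, 1, 2, 1, 2, 1, 3, 1, 3, 3, 1, 3, 1, 5, 5, 5, 4, 6, 4, 5, 5, 4, 6, 4, 5, 5, 5, 4, 5, 1, 3]) (.leaf 180 9 [1, 3, 1, 2, 2, 1, 3, 1, 3, 1, 3, 1, 2, 1, 2, 1, 2, 1, 6, 4, 6, 6, 6, 4, 5, 4, 6, 6, 6, 4, 5, 2, 1, 2, 1, 3, 1, 2, 1, 3])))) (.node 4704 (.node 4702 (.leaf 183 3 [2, 1, 2, 1, 3, 3, 1, 2, 1, 3, 1, 2, 1, 3, 1, 2, 2, 1, 3, 1, 3, 1, 3, 3, 4, 5, 5, 4, 6, 4, 5, 4, 6, 4, 5, 4, 6, 6, 4, 5, 4, 2, 2, 1]) (.node 4703 (.leaf 188 10 [3, 1, 3, 1, 2, 1, 2, 2, 1, 2, 1, 2, 1, 2, 2, 1, 3, 4, 5, 4, 6, 4, 5, 4, 6, 4, 5, 4, 6, 4, 5, 4, 6, 2, 1, 3, 3, 1, 3, 1, 3, 1, 3]) (.leaf 193 10 [1, 2, 1, 2, 1, 2, 1, 2, 1, 3, 1, 3, 3, 1, 2, 2, 1, 4, 6, 4, 5, 4, 6, 6, 4, 5, 5, 5, 4, 1, 2, 1, 3, 3, 1, 3, 3, 1, 3]))) (.node 4705 (.leaf 194 12 [2, 1, 3, 3, 1, 2, 1, 2, 1, 3, 3, 1, 3, 1, 3, 5, 4, 6, 4, 5, 4, 6, 6, 4, 5, 4, 6, 6, 6, 4, 5, 1, 3, 1, 2, 1, 2, 2, 1, 3, 1, 3, 1]) (.node 4706 (.leaf 195 15 [3, 1, 3, 1, 2, 1, 2, 1, 2, 1, 2, 1, 6, 4, 5, 4, 6, 6, 4, 5, 4, 6, 4, 5, 1, 2, 1, 3, 1, 2, 2, 1, 2, 1, 3, 1, 3, 1, 3]) (.leaf 196 27 [5, 4, 5, 5, 5, 4, 6, 4, 5, 5, 4, 6, 3, 3, 1, 2, 1, 3, 1, 2, 1, 3, 3, 1, 2, 2, 1, 3, 1, 2, 1, 2, 2, 1, 2, 1, 2, 1, 3]))))) (.node 4712 (.node 4709 (.node 4708 (.leaf 201 14 [1, 3, 1, 3, 1, 3, 1, 3, 1, 2, 2, 1, 3, 4, 5, 5, 5, 4, 6, 4, 5, 5, 4, 6, 4, 5, 5, 2, 2, 1, 3, 1, 3, 3, 1, 3, 1, 3, 1, 2, 2]) (.leaf 201 7 [1, 3, 1, 3, 1, 2, 2, 1, 3, 1, 3, 1, 3, 1, 3, 1, 2, 2, 1, 3, 4, 5, 5, 5, 4, 6, 4, 5, 5, 4, 6, 4, 5, 5, 2, 2, 1, 3, 1, 3, 3])) (.node 4710 (.leaf 208 11 [2, 2, 1, 2, 2, 1, 2, 1, 2, 2, 1, 2, 1, 3, 1, 3, 5, 5, 4, 6, 4, 5, 5, 4, 6, 4, 5, 5, 5, 4, 5, 3, 3, 1, 3, 3, 1, 3, 1, 3, 3, 1]) (.node 4711 (.leaf 217 20 [1, 3, 1, 2, 1, 2, 2, 4, 5, 5, 5, 4, 6, 4, 5, 4, 6, 4, 5, 4, 6, 4, 5, 1, 2, 1, 3, 1, 2, 2, 1, 3, 1, 3, 3, 1, 2, 1, 3, 1, 3, 1, 3]) (.leaf 217 23 [2, 1, 2, 2, 4, 5, 5, 5, 4, 6, 4, 5, 4, 6, 4, 5, 4, 6, 4, 5, 1, 2, 1, 3, 1, 2, 2, 1, 3, 1, 3, 3, 1, 2, 1, 3, 1, 3, 1, 3, 1, 3, 1])))) (.node 4715 (.node 4713 (.leaf 223 22 [2, 1, 3, 1, 3, 4, 5, 5, 4, 6, 4, 5, 5, 5, 4, 6, 4, 5, 5, 4, 2, 1, 3, 1, 3, 1, 3, 1, 3, 3, 1, 3, 1, 2, 1, 2, 2, 1, 2, 2, 1, 2]) (.node 4714 (.leaf 225 12 [2, 2, 1, 3, 1, 2, 1, 3, 1, 2, 1, 3, 1, 3, 3, 4, 6, 4, 5, 4, 6, 4, 5, 4, 6, 4, 5, 4, 6, 1, 2, 2, 1, 3, 1, 2, 2, 1, 3, 3, 1]) (.leaf 229 5 [2, 1, 3, 1, 3, 1, 2, 1, 2, 1, 3, 1, 2, 1, 2, 1, 2, 2, 1, 2, 2, 1, 4, 6, 6, 4, 5, 4, 6, 4, 5, 5, 4, 6, 4, 5, 5, 5, 2, 1, 2, 2, 1]))) (.node 4716 (.leaf 235 6 [1, 2, 1, 2, 1, 2, 1, 2, 1, 3, 1, 2, 2, 1, 3, 1, 3, 1, 2, 1, 3, 4, 6, 6, 6, 4, 5, 5, 5, 4, 5, 2, 2, 1, 3, 1, 3]) (.node 4717 (.leaf 240 11 [3, 1, 2, 1, 3, 1, 3, 1, 3, 1, 2, 2, 1, 3, 1, 3, 6, 6, 4, 5, 5, 4, 6, 4, 5, 4, 6, 6, 4, 5, 5, 5, 2, 2, 1, 2, 1, 2, 2, 1, 3, 1, 3]) (.leaf 246 20 [3, 3, 1, 3, 1, 3, 3, 6, 6, 6, 4, 5, 4, 6, 6, 4, 5, 4, 6, 4, 1, 2, 1, 2, 2, 1, 2, 2, 1, 2, 1, 2, 1, 2, 1, 3, 3, 1, 3, 1]))))))))) (.node 4805 (.node 4761 (.node 4739 (.node 4728 (.node 4723 (.node 4720 (.node 4719 (.leaf 248 26 [1, 5, 5, 5, 5, 4, 6, 4, 5, 5, 5, 4, 6, 4, 5, 5, 4, 2, 2, 1, 3, 3, 1, 2, 1, 2, 1, 3, 3, 1, 2, 1, 3, 3, 1, 2, 1, 2, 2, 1, 2, 1, 2]) (.leaf 248 16 [3, 1, 2, 1, 2, 2, 1, 2, 1, 2, 1, 5, 5, 5, 5, 4, 6, 4, 5, 5, 5, 4, 6, 4, 5, 5, 4, 2, 2, 1, 3, 3, 1, 2, 1, 2, 1, 3, 3, 1, 2, 1, 3])) (.node 4721 (.leaf 249 22 [1, 2, 1, 2, 1, 6, 4, 5, 4, 6, 6, 4, 5, 4, 6, 6, 4, 1, 2, 2, 1, 2, 2, 1, 2, 2, 1, 2, 1, 2, 1, 2, 2, 1, 3, 3, 1, 3, 3]) (.node 4722 (.leaf 252 15 [3, 1, 2, 2, 1, 3, 3, 1, 3, 1, 3, 1, 4, 5, 5, 5, 4, 6, 6, 4, 5, 4, 6, 4, 5, 5, 5, 4, 6, 1, 2, 1, 2, 1, 2, 2, 1, 3, 3, 1, 2, 2, 1, 3]) (.leaf 253 22 [1, 2, 1, 3, 1, 6, 6, 4, 5, 5, 4, 6, 4, 5, 5, 5, 4, 6, 2, 1, 3, 1, 3, 3, 1, 2, 1, 3, 1, 2, 1, 2, 2, 1, 2, 1, 3, 1, 3, 3])))) (.node 4725 (.node 4724 (.leaf 256 21 [2, 1, 2, 1, 3, 1, 4, 5, 5, 4, 6, 4, 5, 4, 6, 4, 5, 4, 1, 2, 2, 1, 3, 1, 3, 1, 3, 3, 1, 2, 1, 2, 2, 1, 2, 2, 1, 3, 1]) (.leaf 256 8 [3, 3, 1, 2, 1, 2, 2, 1, 2, 2, 1, 3, 1, 2, 1, 2, 1, 3, 1, 4, 5, 5, 4, 6, 4, 5, 4, 6, 4, 5, 4, 1, 2, 2, 1, 3, 1, 3, 1])) (.node 4726 (.leaf 256 27 [4, 5, 5, 4, 6, 4, 5, 4, 6, 4, 5, 4, 1, 2, 2, 1, 3, 1, 3, 1, 3, 3, 1, 2, 1, 2, 2, 1, 2, 2, 1, 3, 1, 2, 1, 2, 1, 3, 1]) (.node 4727 (.leaf 258 11 [2, 1, 2, 1, 2, 1, 3, 1, 3, 3, 1, 3, 1, 3, 1, 3, 3, 6, 4, 5, 5, 5, 5, 4, 6, 4, 5, 5, 5, 4, 6, 2, 1, 3, 3, 1, 3, 1, 2, 1, 2, 1]) (.leaf 268 17 [3, 1, 2, 1, 2, 1, 2, 2, 1, 2, 2, 4, 6, 4, 5, 5, 5, 4, 6, 4, 5, 4, 6, 6, 4, 5, 4, 1, 3, 3, 1, 3, 1, 3, 3, 1, 2, 1, 3, 3, 1, 2, 1, 3]))))) (.node 4733 (.node 4730 (.node 4729 (.leaf 270 23 [1, 2, 2, 1, 3, 5, 5, 5, 5, 4, 6, 4, 5, 2, 1, 3, 1, 3, 1, 2, 2, 1, 2, 1, 2, 1, 3, 1, 3, 1, 2, 1, 2, 2, 1, 2]) (.leaf 271 21 [1, 3, 1, 2, 1, 3, 1, 4, 5, 4, 6, 4, 5, 4, 6, 4, 5, 4, 6, 6, 4, 5, 4, 2, 2, 1, 2, 1, 2, 1, 2, 1, 3, 1, 2, 1, 2, 1, 3, 1, 2, 1, 2, 2])) (.node 4731 (.leaf 271 24 [2, 1, 3, 1, 4, 5, 4, 6, 4, 5, 4, 6, 4, 5, 4, 6, 6, 4, 5, 4, 2, 2, 1, 2, 1, 2, 1, 2, 1, 3, 1, 2, 1, 2, 1, 3, 1, 2, 1, 2, 2, 1, 3, 1]) (.node 4732 (.leaf 275 22 [1, 3, 1, 2, 1, 3, 4, 5, 4, 6, 4, 5, 4, 6, 6, 6, 4, 6, 3, 3, 1, 3, 3, 1, 2, 1, 3, 1, 2, 1, 2, 1, 2, 2, 1, 2, 2, 1, 2, 2]) (.leaf 275 15 [2, 1, 2, 2, 1, 2, 2, 1, 3, 1, 2, 1, 3, 4, 5, 4, 6, 4, 5, 4, 6, 6, 6, 4, 6, 3, 3, 1, 3, 3, 1, 2, 1, 3, 1, 2, 1, 2, 1, 2])))) (.node 4736 (.node 4734 (.leaf 282 25 [3, 1, 3, 6, 6, 6, 4, 5, 5, 5, 4, 6, 1, 2, 1, 2, 1, 3, 3, 1, 2, 1, 3, 3, 1, 3, 1, 3, 3, 1, 2, 1, 3, 3, 1, 2, 1]) (.node 4735 (.leaf 289 25 [3, 1, 3, 6, 4, 6, 6, 6, 6, 4, 5, 4, 1, 3, 1, 3, 1, 3, 3, 1, 3, 1, 2, 1, 2, 2, 1, 3, 1, 2, 1, 2, 2, 1, 3, 3, 1]) (.leaf 291 4 [3, 1, 3, 1, 3, 3, 1, 3, 3, 1, 3, 1, 2, 2, 1, 2, 1, 3, 1, 3, 3, 1, 2, 1, 4, 6, 4, 6, 6, 6, 4, 5, 4, 6, 6, 4, 5, 4, 5, 3, 3, 1, 3]))) (.node 4737 (.leaf 300 26 [3, 1, 5, 5, 5, 4, 6, 6, 6, 4, 5, 4, 6, 6, 4, 5, 5, 1, 3, 1, 3, 3, 1, 2, 2, 1, 2, 1, 3, 3, 1, 2, 1, 3, 3, 1, 3, 1, 2, 1, 3, 3, 1]) (.node 4738 (.leaf 300 29 [5, 5, 4, 6, 6, 6, 4, 5, 4, 6, 6, 4, 5, 5, 1, 3, 1, 3, 3, 1, 2, 2, 1, 2, 1, 3, 3, 1, 2, 1, 3, 3, 1, 3, 1, 2, 1, 3, 3, 1, 3, 1, 5]) (.leaf 304 17 [2, 1, 3, 1, 2, 1, 3, 1, 3, 1, 3, 6, 4, 5, 5, 5, 4, 6, 4, 5, 4, 6, 6, 4, 5, 4, 2, 1, 2, 1, 2, 2, 1, 3, 1, 3, 3, 1, 2, 2, 1, 3, 1])))))) (.node 4750 (.node 4744 (.node 4741 (.node 4740 (.leaf 309 21 [2, 2, 1, 3, 3, 1, 3, 6, 4, 5, 4, 6, 4, 5, 4, 6, 6, 6, 4, 6, 3, 3, 1, 2, 2, 1, 3, 1, 2, 1, 2, 2, 1, 2, 1, 2, 2, 1, 3, 3, 1]) (.leaf 309 5 [1, 3, 1, 2, 1, 2, 2, 1, 2, 1, 2, 2, 1, 3, 3, 1, 2, 2, 1, 3, 3, 1, 3, 6, 4, 5, 4, 6, 4, 5, 4, 6, 6, 6, 4, 6, 3, 3, 1, 2, 2])) (.node 4742 (.leaf 309 12 [1, 2, 1, 2, 2, 1, 3, 3, 1, 2, 2, 1, 3, 3, 1, 3, 6, 4, 5, 4, 6, 4, 5, 4, 6, 6, 6, 4, 6, 3, 3, 1, 2, 2, 1, 3, 1, 2, 1, 2, 2]) (.node 4743 (.leaf 310 15 [1, 2, 1, 2, 1, 3, 3, 1, 3, 1, 2, 2, 1, 5, 4, 5, 5, 5, 4, 6, 4, 5, 4, 6, 6, 4, 5, 2, 1, 3, 1, 3, 1, 2, 1, 2, 1, 3, 1, 3, 1, 2]) (.leaf 310 26 [2, 1, 5, 4, 5, 5, 5, 4, 6, 4, 5, 4, 6, 6, 4, 5, 2, 1, 3, 1, 3, 1, 2, 1, 2, 1, 3, 1, 3, 1, 2, 1, 2, 1, 2, 1, 3, 3, 1, 3, 1, 2])))) (.node 4747 (.node 4745 (.leaf 314 18 [1, 2, 2, 1, 3, 1, 2, 1, 2, 1, 4, 5, 5, 5, 4, 6, 6, 6, 4, 5, 4, 6, 6, 6, 4, 5, 1, 3, 3, 1, 2, 1, 3, 1, 2, 1, 2, 1, 3, 1, 3, 1, 2, 2]) (.node 4746 (.leaf 314 4 [2, 1, 3, 1, 2, 1, 2, 1, 3, 1, 3, 1, 2, 2, 1, 2, 2, 1, 3, 1, 2, 1, 2, 1, 4, 5, 5, 5, 4, 6, 6, 6, 4, 5, 4, 6, 6, 6, 4, 5, 1, 3, 3, 1]) (.leaf 315 3 [3, 1, 3, 1, 2, 1, 3, 3, 1, 3, 1, 2, 1, 2, 1, 2, 1, 2, 2, 1, 2, 1, 2, 1, 3, 6, 4, 5, 5, 4, 6, 4, 5, 5, 4, 6, 4, 6, 2, 2, 1]))) (.node 4748 (.leaf 321 22 [2, 1, 3, 1, 2, 1, 4, 6, 4, 5, 4, 6, 6, 4, 5, 4, 6, 6, 6, 4, 6, 2, 1, 3, 1, 2, 2, 1, 2, 1, 3, 3, 1, 2, 1, 2, 1, 3, 1, 3, 1, 2, 1]) (.node 4749 (.leaf 328 16 [3, 3, 1, 3, 1, 3, 3, 1, 3, 1, 3, 1, 6, 6, 4, 5, 4, 6, 4, 5, 4, 6, 6, 6, 4, 2, 1, 3, 1, 2, 1, 2, 1, 3, 3, 1, 2, 2, 1, 3, 1]) (.leaf 328 27 [1, 6, 6, 4, 5, 4, 6, 4, 5, 4, 6, 6, 6, 4, 2, 1, 3, 1, 2, 1, 2, 1, 3, 3, 1, 2, 2, 1, 3, 1, 3, 3, 1, 3, 1, 3, 3, 1, 3, 1, 3]))))) (.node 4755 (.node 4752 (.node 4751 (.leaf 331 22 [3, 1, 2, 1, 3, 1, 4, 5, 5, 4, 6, 4, 5, 4, 6, 6, 6, 4, 2, 1, 2, 1, 2, 2, 1, 3, 3, 1, 2, 1, 2, 2, 1, 3, 1, 2, 1, 3, 3, 1]) (.leaf 333 31 [5, 5, 5, 4, 6, 6, 6, 4, 5, 4, 2, 1, 2, 2, 1, 2, 1, 3, 3, 1, 2, 2, 1, 2, 1, 3, 3, 1, 3, 3, 1, 2, 2, 1, 3, 1, 3, 3, 4, 6, 4])) (.node 4753 (.leaf 335 11 [3, 1, 2, 1, 3, 1, 2, 2, 1, 3, 1, 2, 1, 3, 1, 2, 2, 6, 6, 6, 4, 5, 5, 5, 4, 6, 6, 6, 4, 3, 3, 1, 2, 1, 3, 3, 1, 2, 1, 3]) (.node 4754 (.leaf 336 4 [2, 1, 2, 1, 3, 1, 2, 1, 3, 1, 3, 1, 3, 1, 2, 2, 1, 3, 3, 1, 3, 3, 1, 3, 5, 4, 6, 6, 6, 4, 5, 4, 6, 6, 4, 5, 5, 5, 2, 1, 3, 1]) (.leaf 338 26 [2, 2, 6, 6, 6, 4, 5, 4, 6, 6, 6, 4, 5, 4, 6, 6, 6, 2, 1, 3, 1, 2, 2, 1, 2, 1, 3, 3, 1, 3, 1, 2, 1, 3, 3, 1, 2, 1, 3, 1, 3, 3, 1])))) (.node 4758 (.node 4756 (.leaf 348 26 [3, 1, 6, 6, 4, 5, 4, 6, 6, 6, 4, 5, 4, 6, 6, 6, 1, 3, 1, 3, 1, 3, 1, 2, 2, 1, 3, 3, 1, 2, 1, 3, 1, 2, 1, 3, 1, 3, 3, 1, 2, 1]) (.node 4757 (.leaf 349 10 [2, 2, 1, 2, 2, 1, 2, 1, 2, 2, 1, 3, 1, 2, 2, 1, 3, 1, 5, 4, 5, 5, 5, 4, 6, 4, 5, 4, 6, 4, 5, 4, 6, 4, 1, 2, 1, 3, 1, 3, 3, 1, 2, 1]) (.leaf 350 21 [1, 2, 1, 2, 1, 3, 1, 5, 5, 5, 4, 6, 6, 6, 4, 5, 5, 5, 4, 6, 6, 6, 2, 2, 1, 2, 1, 2, 1, 2, 2, 1, 3, 1, 2, 1, 2, 1, 3, 1, 3, 1, 2]))) (.node 4759 (.leaf 352 24 [2, 1, 3, 3, 4, 6, 4, 5, 5, 4, 6, 4, 5, 5, 4, 6, 4, 5, 1, 3, 1, 3, 1, 3, 1, 2, 2, 1, 3, 1, 3, 3, 1, 3, 1, 2, 1, 3, 1, 2, 1, 2]) (.node 4760 (.leaf 353 10 [3, 1, 2, 1, 2, 2, 1, 2, 2, 1, 2, 2, 1, 2, 1, 2, 2, 1, 5, 4, 5, 5, 5, 4, 6, 4, 5, 5, 4, 6, 4, 5, 4, 6, 6, 6, 2, 1, 2, 2, 1, 3, 1, 3, 3, 1]) (.leaf 353 22 [1, 2, 1, 2, 2, 1, 5, 4, 5, 5, 5, 4, 6, 4, 5, 5, 4, 6, 4, 5, 4, 6, 6, 6, 2, 1, 2, 2, 1, 3, 1, 3, 3, 1, 3, 1, 2, 1, 2, 2, 1, 2, 2, 1, 2, 2]))))))) (.node 4783 (.node 4772 (.node 4766 (.node 4763 (.node 4762 (.leaf 355 21 [3, 1, 2, 1, 3, 3, 1, 5, 4, 6, 6, 4, 5, 4, 6, 6, 6, 4, 5, 4, 6, 2, 1, 3, 3, 1, 2, 1, 3, 3, 1, 2, 1, 2, 2, 1, 2, 2, 1, 2, 1, 3]) (.leaf 356 23 [1, 2, 1, 2, 2, 6, 4, 5, 4, 6, 4, 5, 4, 6, 6, 6, 1, 2, 2, 1, 3, 1, 3, 1, 3, 1, 2, 1, 3, 3, 1, 3, 3, 1, 2, 1, 3, 1, 3])) (.node 4764 (.leaf 358 25 [1, 3, 1, 4, 5, 5, 4, 6, 4, 5, 5, 4, 6, 4, 5, 4, 6, 6, 6, 1, 3, 1, 3, 3, 1, 3, 1, 2, 2, 1, 2, 1, 2, 1, 3, 3, 1, 2, 1, 3, 1, 3, 1, 2]) (.node 4765 (.leaf 359 41 [5, 3, 3, 1, 3, 1, 2, 1, 3, 1, 2, 1, 2, 1, 2, 1, 2, 1, 3, 1, 3, 3, 1, 2, 2, 1, 2, 1, 3, 6, 6, 6, 4, 5, 4, 6, 6, 4, 5, 4, 6, 4]) (.leaf 360 19 [2, 2, 1, 2, 1, 3, 3, 1, 3, 6, 4, 5, 4, 6, 6, 4, 5, 4, 6, 6, 6, 4, 5, 4, 6, 2, 1, 2, 1, 2, 1, 3, 3, 1, 3, 1, 3, 3, 1, 2, 2, 1, 3, 1])))) (.node 4769 (.node 4767 (.leaf 361 26 [2, 1, 6, 6, 4, 5, 5, 4, 6, 4, 5, 5, 5, 4, 6, 6, 6, 4, 2, 1, 3, 1, 3, 3, 1, 2, 2, 1, 2, 1, 2, 2, 1, 2, 2, 1, 2, 1, 3, 1, 2, 2, 1, 2]) (.node 4768 (.leaf 363 28 [4, 6, 6, 4, 5, 4, 6, 4, 5, 4, 6, 4, 5, 4, 6, 4, 1, 3, 1, 3, 3, 1, 2, 2, 1, 2, 2, 1, 3, 3, 1, 3, 3, 1, 3, 1, 3, 3, 1, 2, 1, 3, 1, 3]) (.leaf 366 4 [3, 1, 2, 2, 1, 3, 3, 1, 2, 2, 1, 3, 3, 1, 2, 2, 1, 3, 1, 3, 1, 3, 3, 1, 4, 6, 4, 5, 4, 6, 6, 4, 5, 4, 6, 6, 4, 2, 1, 2, 1]))) (.node 4770 (.leaf 377 26 [2, 1, 5, 4, 6, 6, 4, 5, 4, 6, 4, 5, 5, 4, 6, 6, 1, 2, 2, 1, 3, 1, 2, 1, 3, 3, 1, 3, 3, 1, 2, 1, 2, 2, 1, 2, 1, 3, 1, 2, 1, 2]) (.node 4771 (.leaf 378 7 [3, 1, 3, 1, 2, 1, 2, 1, 3, 1, 3, 3, 1, 2, 1, 2, 1, 2, 1, 3, 3, 4, 6, 4, 5, 5, 5, 4, 6, 6, 6, 4, 5, 4, 6, 3, 3, 1, 3, 3, 1, 3]) (.leaf 379 6 [1, 3, 1, 2, 1, 3, 1, 2, 2, 1, 2, 1, 2, 1, 2, 1, 2, 1, 2, 1, 3, 1, 4, 6, 4, 5, 5, 5, 4, 6, 3, 3, 1, 2, 1, 2]))))) (.node 4777 (.node 4774 (.node 4773 (.leaf 382 21 [3, 3, 1, 3, 1, 2, 1, 4, 5, 5, 5, 5, 4, 6, 4, 5, 5, 4, 6, 1, 3, 1, 2, 2, 1, 3, 1, 2, 1, 3, 1, 2, 2, 1, 3, 3, 1, 3, 3, 1]) (.leaf 386 12 [2, 1, 2, 1, 2, 1, 3, 1, 3, 3, 1, 2, 2, 1, 2, 2, 4, 5, 4, 6, 4, 5, 4, 6, 4, 5, 4, 6, 4, 5, 5, 4, 2, 2, 1, 2, 2, 1, 2, 2, 1, 3, 3, 1])) (.node 4775 (.leaf 387 12 [2, 2, 1, 3, 1, 3, 1, 2, 2, 1, 3, 3, 1, 2, 2, 1, 4, 6, 4, 6, 6, 6, 6, 4, 5, 4, 2, 1, 2, 1, 3, 3, 1, 2, 2, 1, 2, 1]) (.node 4776 (.leaf 390 16 [3, 3, 1, 2, 1, 3, 3, 1, 2, 1, 2, 2, 1, 5, 4, 6, 6, 6, 2, 1, 3, 1, 2, 2, 1, 3, 1, 2, 2, 1, 2, 1, 2, 1]) (.leaf 391 26 [1, 2, 1, 5, 5, 4, 6, 6, 6, 4, 5, 4, 6, 6, 4, 5, 5, 4, 6, 6, 1, 3, 3, 1, 2, 1, 3, 1, 3, 3, 1, 3, 1, 2, 1, 3, 1, 3, 3, 1, 2, 1, 2, 2, 1, 3])))) (.node 4780 (.node 4778 (.leaf 393 44 [5, 1, 3, 3, 1, 3, 1, 3, 1, 3, 1, 3, 3, 1, 3, 1, 3, 1, 2, 1, 3, 1, 3, 3, 1, 3, 3, 1, 3, 1, 4, 6, 4, 5, 5, 5, 4, 6, 4, 5, 5, 5, 4, 6, 4]) (.node 4779 (.leaf 393 1 [3, 3, 1, 3, 1, 3, 1, 3, 1, 3, 3, 1, 3, 1, 3, 1, 2, 1, 3, 1, 3, 3, 1, 3, 3, 1, 3, 1, 4, 6, 4, 5, 5, 5, 4, 6, 4, 5, 5, 5, 4, 6, 4, 5, 1]) (.leaf 394 10 [1, 2, 2, 1, 2, 1, 2, 2, 1, 3, 1, 3, 1, 3, 1, 3, 3, 1, 3, 5, 4, 5, 5, 5, 4, 6, 4, 5, 5, 5, 4, 6, 4, 5, 2, 2, 1, 3, 1, 2, 2, 1, 2, 2]))) (.node 4781 (.leaf 396 5 [2, 1, 3, 1, 2, 1, 2, 1, 3, 1, 3, 1, 2, 1, 3, 3, 1, 2, 2, 1, 3, 1, 2, 2, 4, 5, 5, 5, 4, 6, 4, 5, 5, 5, 4, 6, 4, 5, 5, 4, 6, 4, 1, 2, 1, 2, 1]) (.node 4782 (.leaf 396 32 [5, 4, 6, 4, 5, 5, 5, 4, 6, 4, 5, 5, 4, 6, 4, 1, 2, 1, 2, 1, 2, 1, 3, 1, 2, 1, 2, 1, 3, 1, 3, 1, 2, 1, 3, 3, 1, 2, 2, 1, 3, 1, 2, 2, 4, 5, 5]) (.leaf 10 17 [3, 3, 3, 1, 3, 3, 3, 1, 3, 3, 3, 1, 3, 3, 3, 1, 3, 3, 3, 1, 3, 3, 3, 1, 3, 3, 3, 1, 3, 3, 3, 1, 3, 3, 3, 1, 3, 3, 3, 1])))))) (.node 4794 (.node 4788 (.node 4785 (.node 4784 (.leaf 28 23 [5, 4, 6, 4, 5, 5, 4, 6, 4, 5, 5, 5, 3, 3, 1, 2, 1, 2, 1, 3, 3, 1, 2, 2, 1, 3, 1, 3, 3, 1, 2, 1, 2, 1, 4]) (.leaf 56 15 [1, 3, 1, 3, 1, 2, 1, 3, 1, 4, 5, 5, 5, 4, 6, 4, 5, 5, 5, 4, 6, 6, 6, 4, 5, 2, 1, 2, 1, 2, 1, 3, 1, 3, 1, 2, 1, 3, 1, 3])) (.node 4786 (.leaf 59 18 [2, 1, 2, 1, 3, 3, 5, 5, 4, 6, 6, 6, 4, 2, 1, 2, 1, 3, 1, 3, 3, 1, 3, 3, 1, 2, 1, 3, 3, 1, 2]) (.node 4787 (.leaf 81 37 [6, 2, 1, 2, 1, 3, 1, 3, 3, 1, 2, 1, 3, 1, 2, 1, 3, 1, 2, 2, 1, 2, 1, 3, 1, 3, 5, 4, 5, 5, 5, 4, 6, 6, 4, 5, 5, 4]) (.leaf 110 13 [1, 2, 1, 2, 2, 1, 2, 1, 3, 1, 3, 1, 5, 5, 5, 5, 4, 6, 6, 6, 4, 5, 4, 6, 2, 2, 1, 2, 1, 2, 1, 2, 1, 3, 1, 2, 2])))) (.node 4791 (.node 4789 (.leaf 176 34 [4, 6, 4, 5, 4, 6, 4, 5, 4, 2, 1, 2, 2, 1, 3, 3, 1, 2, 2, 1, 2, 1, 2, 1, 2, 2, 1, 2, 2, 1, 2, 2, 1, 2, 1, 3, 4, 5, 5, 4, 6, 4, 5]) (.node 4790 (.leaf 209 30 [4, 6, 4, 5, 5, 4, 6, 4, 5, 5, 2, 1, 2, 1, 3, 3, 1, 2, 1, 2, 2, 1, 2, 1, 2, 2, 1, 2, 2, 1, 2, 1, 3, 1, 3, 1, 3, 4, 5, 5]) (.leaf 227 1 [2, 1, 2, 2, 1, 3, 1, 3, 1, 3, 1, 2, 2, 1, 3, 1, 2, 1, 2, 1, 3, 1, 3, 1, 3, 1, 4, 5, 5, 5, 4, 6, 6, 4, 2]))) (.node 4792 (.leaf 278 40 [5, 4, 6, 4, 5, 2, 1, 3, 1, 2, 1, 3, 3, 1, 3, 1, 3, 1, 2, 1, 2, 1, 2, 1, 2, 1, 2, 2, 1, 2, 1, 3, 1, 4, 5, 4, 6, 6, 6, 4, 5, 4, 6, 6, 4]) (.node 4793 (.leaf 283 26 [1, 3, 4, 5, 5, 5, 5, 4, 6, 4, 5, 5, 4, 6, 4, 5, 4, 1, 2, 1, 2, 1, 2, 1, 3, 1, 3, 1, 2, 2, 1, 2, 2, 1, 3, 1, 2, 1, 3, 1, 3, 1, 3]) (.leaf 315 28 [6, 4, 5, 5, 4, 6, 4, 5, 5, 4, 6, 4, 6, 2, 2, 1, 3, 1, 3, 1, 2, 1, 3, 3, 1, 3, 1, 2, 1, 2, 1, 2, 1, 2, 2, 1, 2, 1, 2, 1, 3]))))) (.node 4799 (.node 4796 (.node 4795 (.leaf 325 32 [5, 4, 6, 6, 6, 1, 3, 3, 1, 2, 1, 3, 1, 3, 1, 3, 1, 2, 2, 1, 3, 1, 3, 1, 3, 1, 3, 3, 1, 2, 2, 1, 3, 4, 6, 4, 5]) (.leaf 355 15 [2, 2, 1, 2, 1, 3, 3, 1, 2, 1, 3, 3, 1, 5, 4, 6, 6, 4, 5, 4, 6, 6, 6, 4, 5, 4, 6, 2, 1, 3, 3, 1, 2, 1, 3, 3, 1, 2, 1, 2, 2, 1])) (.node 4797 (.leaf 358 39 [5, 4, 6, 6, 6, 1, 3, 1, 3, 3, 1, 3, 1, 2, 2, 1, 2, 1, 2, 1, 3, 3, 1, 2, 1, 3, 1, 3, 1, 2, 1, 3, 1, 4, 5, 5, 4, 6, 4, 5, 5, 4, 6, 4]) (.node 4798 (.leaf 58 12 [1, 2, 2, 1, 3, 1, 3, 3, 1, 3, 3, 1, 4, 6, 4, 5, 5, 5, 4, 6, 6, 4, 1, 3, 1, 3, 1, 2, 1, 3, 3, 1, 2, 2]) (.leaf 61 27 [6, 4, 5, 4, 6, 6, 6, 4, 5, 4, 6, 2, 1, 3, 1, 3, 3, 1, 2, 2, 1, 3, 1, 2, 1, 2, 1, 2, 2, 1, 3, 3, 1, 2, 2, 4, 6, 6])))) (.node 4802 (.node 4800 (.leaf 68 19 [2, 2, 1, 3, 3, 4, 5, 4, 5, 5, 5, 5, 4, 5, 1, 2, 1, 2, 1, 2, 1, 3, 3, 1, 3, 1, 2, 2, 1, 3, 1, 2, 1]) (.node 4801 (.leaf 73 0 [2, 2, 1, 2, 1, 3, 3, 1, 3, 3, 1, 3, 1, 3, 1, 3, 3, 1, 2, 1, 3, 3, 1, 3, 3, 4, 6, 6, 6, 4, 5, 4, 6, 6, 6, 4, 5, 4, 6, 6, 4]) (.leaf 88 1 [2, 1, 2, 2, 1, 3, 3, 1, 3, 1, 2, 2, 1, 3, 1, 3, 1, 3, 1, 3, 3, 1, 2, 1, 5, 4, 6, 4, 5, 5, 4, 6, 6, 4, 5, 4, 2]))) (.node 4803 (.leaf 93 28 [4, 6, 4, 5, 4, 6, 4, 5, 4, 6, 6, 6, 2, 1, 2, 2, 1, 2, 1, 3, 3, 1, 3, 1, 2, 1, 2, 1, 2, 1, 3, 3, 1, 2, 1, 2, 2, 5, 5, 5]) (.node 4804 (.leaf 100 7 [3, 1, 3, 3, 1, 2, 2, 1, 2, 2, 1, 2, 1, 3, 3, 1, 2, 1, 5, 4, 5, 5, 5, 4, 6, 6, 4, 5, 5, 2, 1, 2, 1, 2, 1, 3]) (.leaf 124 7 [2, 1, 3, 1, 2, 2, 1, 3, 3, 1, 2, 1, 3, 1, 2, 1, 3, 3, 1, 5, 4, 6, 6, 4, 5, 5, 4, 6, 4, 5, 5, 5, 4, 6, 2, 1, 3, 3, 1, 2, 1])))))))) (.node 4849 (.node 4827 (.node 4816 (.node 4810 (.node 4807 (.node 4806 (.leaf 137 3 [1, 2, 2, 1, 3, 1, 3, 1, 3, 3, 1, 3, 3, 1, 2, 2, 1, 2, 2, 1, 3, 1, 3, 6, 6, 4, 5, 4, 6, 6, 4, 5, 4, 6, 4, 5, 5, 5, 4, 1, 3, 3]) (.leaf 185 12 [2, 2, 1, 2, 1, 3, 1, 3, 1, 2, 1, 3, 1, 3, 1, 5, 5, 4, 6, 4, 5, 5, 4, 6, 4, 5, 5, 5, 4, 1, 3, 3, 1, 3, 3, 1, 2, 1, 2, 2, 1])) (.node 4808 (.leaf 199 12 [3, 1, 2, 2, 1, 2, 2, 1, 3, 1, 2, 2, 1, 2, 1, 5, 4, 6, 6, 6, 4, 5, 5, 5, 4, 6, 2, 2, 1, 2, 1, 3, 1, 3, 1, 2, 2, 1]) (.node 4809 (.leaf 208 28 [5, 4, 6, 4, 5, 5, 4, 6, 4, 5, 5, 5, 4, 5, 3, 3, 1, 3, 3, 1, 3, 1, 3, 3, 1, 2, 2, 1, 2, 2, 1, 2, 1, 2, 2, 1, 2, 1, 3, 1, 3, 5]) (.leaf 235 32 [5, 5, 5, 4, 5, 2, 2, 1, 3, 1, 3, 1, 2, 1, 2, 1, 2, 1, 2, 1, 3, 1, 2, 2, 1, 3, 1, 3, 1, 2, 1, 3, 4, 6, 6, 6, 4])))) (.node 4813 (.node 4811 (.leaf 246 23 [3, 1, 3, 3, 6, 6, 6, 4, 5, 4, 6, 6, 4, 5, 4, 6, 4, 1, 2, 1, 2, 2, 1, 2, 2, 1, 2, 1, 2, 1, 2, 1, 3, 3, 1, 3, 1, 3, 3, 1]) (.node 4812 (.leaf 252 39 [5, 5, 5, 4, 6, 1, 2, 1, 2, 1, 2, 2, 1, 3, 3, 1, 2, 2, 1, 3, 3, 1, 2, 2, 1, 3, 3, 1, 3, 1, 3, 1, 4, 5, 5, 5, 4, 6, 6, 4, 5, 4, 6, 4]) (.leaf 255 29 [6, 6, 4, 5, 4, 6, 4, 5, 4, 6, 6, 4, 1, 2, 2, 1, 3, 3, 1, 2, 1, 2, 2, 1, 2, 1, 2, 1, 3, 3, 1, 3, 1, 2, 2, 1, 2, 1, 3, 5, 4]))) (.node 4814 (.leaf 259 24 [3, 1, 2, 1, 6, 4, 5, 4, 6, 6, 6, 4, 6, 1, 2, 1, 2, 1, 2, 2, 1, 3, 1, 3, 1, 2, 2, 1, 2, 1, 3, 3, 1, 3, 1, 3, 1]) (.node 4815 (.leaf 273 11 [1, 2, 1, 2, 2, 1, 2, 1, 2, 1, 2, 2, 1, 2, 1, 2, 2, 5, 5, 5, 5, 4, 6, 4, 5, 5, 5, 4, 6, 6, 1, 3, 3, 1, 2, 1, 3, 1, 2, 1, 3]) (.leaf 300 20 [1, 2, 1, 3, 3, 1, 3, 1, 5, 5, 5, 4, 6, 6, 6, 4, 5, 4, 6, 6, 4, 5, 5, 1, 3, 1, 3, 3, 1, 2, 2, 1, 2, 1, 3, 3, 1, 2, 1, 3, 3, 1, 3]))))) (.node 4821 (.node 4818 (.node 4817 (.leaf 324 2 [1, 2, 2, 1, 2, 1, 2, 1, 2, 2, 1, 3, 1, 3, 1, 3, 1, 2, 2, 1, 2, 1, 2, 1, 2, 2, 5, 5, 5, 5, 4, 6, 4, 5, 5, 5, 4, 2, 2]) (.leaf 329 24 [3, 3, 1, 3, 4, 6, 6, 6, 4, 5, 4, 6, 6, 6, 1, 3, 1, 2, 2, 1, 2, 1, 2, 1, 3, 1, 2, 2, 1, 2, 1, 2, 1, 3, 3, 1, 3, 1])) (.node 4819 (.leaf 343 9 [2, 1, 2, 1, 2, 2, 1, 2, 1, 3, 3, 1, 3, 3, 1, 3, 3, 1, 3, 6, 6, 6, 4, 5, 5, 5, 4, 6, 6, 6, 4, 5, 5, 5, 1, 2, 1, 2, 2, 1, 3, 3, 1]) (.node 4820 (.leaf 374 15 [2, 1, 3, 3, 1, 3, 3, 1, 2, 2, 1, 3, 1, 4, 5, 4, 6, 6, 4, 5, 4, 6, 4, 5, 4, 6, 6, 4, 5, 2, 1, 3, 1, 2, 1, 2, 1, 2, 1, 3, 1, 2, 1, 2]) (.leaf 377 8 [3, 3, 1, 3, 3, 1, 2, 1, 2, 2, 1, 2, 1, 3, 1, 2, 1, 2, 2, 1, 5, 4, 6, 6, 4, 5, 4, 6, 4, 5, 5, 4, 6, 6, 1, 2, 2, 1, 3, 1, 2, 1])))) (.node 4824 (.node 4822 (.leaf 380 8 [3, 3, 1, 3, 3, 1, 2, 1, 3, 3, 1, 2, 1, 2, 1, 3, 1, 3, 1, 3, 4, 6, 4, 5, 5, 4, 6, 4, 5, 4, 6, 4, 1, 3, 3, 1, 3, 1, 2, 1]) (.node 4823 (.leaf 192 38 [5, 5, 4, 6, 2, 2, 1, 3, 3, 1, 3, 3, 1, 3, 1, 3, 3, 1, 3, 1, 3, 1, 2, 1, 3, 1, 2, 1, 3, 3, 1, 5, 5, 4, 6, 6, 4, 5, 4, 6, 4, 5]) (.leaf 245 39 [6, 4, 2, 2, 1, 3, 3, 1, 2, 2, 1, 3, 1, 2, 2, 1, 3, 1, 3, 1, 2, 1, 2, 2, 1, 2, 1, 3, 3, 5, 5, 4, 6, 6, 4, 5, 4, 6, 4, 5, 4]))) (.node 4825 (.leaf 262 14 [3, 1, 3, 1, 2, 1, 2, 1, 2, 2, 1, 2, 1, 3, 5, 4, 6, 6, 4, 5, 4, 6, 4, 2, 1, 3, 3, 1, 3, 3, 1, 2, 2, 1, 3, 3, 1]) (.node 4826 (.leaf 278 31 [6, 6, 6, 4, 5, 4, 6, 6, 4, 5, 4, 6, 4, 5, 2, 1, 3, 1, 2, 1, 3, 3, 1, 3, 1, 3, 1, 2, 1, 2, 1, 2, 1, 2, 1, 2, 2, 1, 2, 1, 3, 1, 4, 5, 4]) (.leaf 336 18 [2, 2, 1, 3, 3, 1, 3, 3, 1, 3, 5, 4, 6, 6, 6, 4, 5, 4, 6, 6, 4, 5, 5, 5, 2, 1, 3, 1, 2, 1, 2, 1, 3, 1, 2, 1, 3, 1, 3, 1, 3, 1])))))) (.node 4838 (.node 4832 (.node 4829 (.node 4828 (.leaf 365 30 [5, 5, 5, 5, 4, 6, 6, 6, 4, 5, 4, 2, 2, 1, 2, 1, 2, 2, 1, 2, 2, 1, 2, 1, 2, 2, 1, 2, 2, 1, 2, 2, 1, 3, 1, 3, 1, 3, 1, 5, 4]) (.leaf 368 28 [4, 5, 5, 5, 4, 6, 6, 6, 4, 5, 5, 5, 4, 6, 2, 2, 1, 3, 3, 1, 3, 3, 1, 2, 1, 3, 3, 1, 2, 2, 1, 3, 3, 1, 3, 1, 2, 1, 2, 1, 2, 2])) (.node 4830 (.leaf 48 38 [6, 1, 3, 3, 1, 2, 1, 3, 1, 3, 1, 2, 2, 1, 2, 2, 1, 2, 1, 2, 2, 1, 3, 1, 4, 6, 6, 6, 4, 5, 5, 5, 4, 6, 4, 5, 5, 4, 6]) (.node 4831 (.leaf 101 30 [6, 6, 4, 5, 1, 3, 1, 2, 1, 2, 1, 2, 2, 1, 2, 1, 2, 2, 1, 2, 2, 1, 2, 1, 2, 2, 1, 2, 1, 4, 6, 4, 5, 4]) (.leaf 104 10 [3, 1, 2, 2, 1, 3, 3, 1, 3, 1, 2, 2, 1, 2, 1, 6, 6, 4, 5, 4, 6, 4, 5, 5, 4, 6, 4, 1, 3, 1, 2, 1, 2, 1, 3, 1, 3])))) (.node 4835 (.node 4833 (.leaf 110 6 [1, 2, 1, 3, 1, 2, 2, 1, 2, 1, 2, 2, 1, 2, 1, 3, 1, 3, 1, 5, 5, 5, 5, 4, 6, 6, 6, 4, 5, 4, 6, 2, 2, 1, 2, 1, 2]) (.node 4834 (.leaf 113 10 [1, 3, 1, 2, 2, 1, 2, 2, 1, 3, 3, 1, 3, 3, 1, 3, 4, 6, 4, 5, 5, 5, 4, 6, 6, 6, 4, 5, 5, 5, 2, 2, 1, 3, 1, 2, 1, 3, 1, 2]) (.leaf 114 30 [6, 4, 5, 4, 6, 4, 5, 5, 5, 4, 6, 4, 1, 3, 3, 1, 3, 3, 1, 2, 1, 3, 1, 3, 1, 3, 1, 2, 1, 2, 1, 2, 1, 2, 1, 2, 2, 1, 4, 5, 4, 6]))) (.node 4836 (.leaf 144 9 [1, 2, 2, 1, 3, 3, 1, 3, 1, 2, 1, 2, 1, 3, 1, 3, 1, 5, 4, 6, 4, 5, 5, 4, 6, 4, 5, 4, 6, 6, 4, 3, 3, 1, 3, 1, 2, 1, 3, 3]) (.node 4837 (.leaf 155 14 [2, 1, 3, 1, 2, 1, 3, 3, 1, 3, 1, 2, 1, 6, 4, 5, 5, 4, 6, 4, 5, 5, 5, 4, 6, 4, 5, 5, 4, 1, 2, 1, 3, 1, 2, 2, 1, 3, 1, 2, 2, 1, 2]) (.leaf 156 27 [5, 5, 4, 6, 6, 6, 4, 5, 4, 6, 6, 4, 5, 5, 4, 6, 4, 1, 2, 1, 2, 1, 3, 3, 1, 3, 3, 1, 2, 1, 2, 2, 1, 3, 1, 3, 1, 2, 1, 3, 3, 1, 3, 3]))))) (.node 4843 (.node 4840 (.node 4839 (.leaf 158 30 [5, 5, 4, 6, 4, 5, 4, 6, 6, 4, 5, 1, 2, 2, 1, 2, 1, 2, 1, 2, 1, 3, 1, 3, 1, 2, 1, 3, 1, 3, 3, 1, 3, 1, 2, 1, 2, 1, 6, 4, 5]) (.leaf 185 39 [5, 4, 1, 3, 3, 1, 3, 3, 1, 2, 1, 2, 2, 1, 2, 2, 1, 2, 1, 3, 1, 3, 1, 2, 1, 3, 1, 3, 1, 5, 5, 4, 6, 4, 5, 5, 4, 6, 4, 5, 5])) (.node 4841 (.leaf 209 18 [2, 1, 2, 1, 3, 1, 3, 1, 3, 4, 5, 5, 4, 6, 4, 5, 5, 4, 6, 4, 5, 5, 2, 1, 2, 1, 3, 3, 1, 2, 1, 2, 2, 1, 2, 1, 2, 2, 1, 2]) (.node 4842 (.leaf 220 20 [2, 1, 2, 1, 3, 1, 3, 4, 6, 4, 5, 5, 5, 4, 6, 4, 5, 5, 4, 6, 6, 4, 5, 3, 3, 1, 2, 1, 3, 3, 1, 2, 1, 2, 2, 1, 2, 1, 2, 1, 2, 1, 2]) (.leaf 220 34 [6, 4, 5, 5, 4, 6, 6, 4, 5, 3, 3, 1, 2, 1, 3, 3, 1, 2, 1, 2, 2, 1, 2, 1, 2, 1, 2, 1, 2, 2, 1, 2, 1, 3, 1, 3, 4, 6, 4, 5, 5, 5, 4])))) (.node 4846 (.node 4844 (.leaf 229 2 [2, 2, 1, 2, 1, 3, 1, 3, 1, 2, 1, 2, 1, 3, 1, 2, 1, 2, 1, 2, 2, 1, 2, 2, 1, 4, 6, 6, 4, 5, 4, 6, 4, 5, 5, 4, 6, 4, 5, 5, 5, 2, 1]) (.node 4845 (.leaf 243 11 [2, 1, 2, 1, 2, 2, 1, 2, 1, 3, 3, 1, 2, 1, 2, 1, 4, 6, 4, 5, 5, 5, 4, 6, 4, 5, 5, 4, 6, 2, 2, 1, 2, 1, 3, 1, 3, 3, 1, 2]) (.leaf 258 26 [3, 3, 6, 4, 5, 5, 5, 5, 4, 6, 4, 5, 5, 5, 4, 6, 2, 1, 3, 3, 1, 3, 1, 2, 1, 2, 1, 2, 1, 2, 1, 2, 1, 3, 1, 3, 3, 1, 3, 1, 3, 1]))) (.node 4847 (.leaf 259 23 [1, 3, 1, 2, 1, 6, 4, 5, 4, 6, 6, 6, 4, 6, 1, 2, 1, 2, 1, 2, 2, 1, 3, 1, 3, 1, 2, 2, 1, 2, 1, 3, 3, 1, 3, 1, 3]) (.node 4848 (.leaf 263 6 [3, 1, 3, 1, 3, 1, 2, 2, 1, 2, 1, 3, 1, 2, 1, 2, 1, 2, 2, 1, 2, 1, 4, 5, 5, 5, 4, 6, 6, 4, 5, 5, 4, 6, 3, 3, 1, 3, 3, 1]) (.leaf 274 44 [4, 1, 2, 1, 2, 1, 2, 1, 2, 1, 3, 1, 2, 1, 2, 1, 2, 1, 3, 1, 3, 1, 2, 1, 2, 2, 1, 2, 1, 4, 5, 5, 4, 6, 6, 4, 5, 4, 6, 6, 6, 4, 5, 5, 5]))))))) (.node 4871 (.node 4860 (.node 4854 (.node 4851 (.node 4850 (.leaf 276 24 [3, 1, 3, 1, 6, 6, 6, 4, 5, 5, 5, 4, 6, 6, 6, 4, 5, 5, 5, 1, 2, 1, 2, 2, 1, 3, 3, 1, 2, 2, 1, 2, 2, 1, 2, 2, 1, 2, 2, 1, 3, 1, 3]) (.leaf 281 9 [3, 1, 3, 3, 1, 2, 1, 3, 3, 1, 2, 2, 1, 2, 1, 3, 1, 3, 1, 6, 6, 4, 5, 5, 4, 6, 4, 5, 5, 5, 4, 6, 6, 6, 4, 2, 1, 3, 3, 1, 3, 3, 1, 3])) (.node 4852 (.leaf 295 21 [1, 2, 1, 3, 1, 2, 2, 6, 4, 5, 4, 6, 6, 4, 5, 4, 5, 1, 2, 2, 1, 2, 1, 3, 1, 3, 3, 1, 3, 1, 2, 1, 3, 3, 1, 2, 1, 3]) (.node 4853 (.leaf 296 23 [1, 3, 1, 2, 1, 6, 4, 5, 4, 6, 4, 5, 4, 6, 4, 5, 5, 4, 6, 1, 2, 1, 3, 3, 1, 2, 1, 2, 2, 1, 3, 1, 3, 1, 2, 1, 3, 1, 3, 3, 1, 2]) (.leaf 298 10 [3, 1, 2, 1, 3, 3, 1, 2, 1, 3, 1, 3, 1, 2, 1, 3, 3, 1, 4, 5, 5, 5, 4, 6, 6, 4, 5, 1, 3, 3, 1, 3, 1, 3, 3, 1, 3])))) (.node 4857 (.node 4855 (.leaf 300 30 [5, 4, 6, 6, 6, 4, 5, 4, 6, 6, 4, 5, 5, 1, 3, 1, 3, 3, 1, 2, 2, 1, 2, 1, 3, 3, 1, 2, 1, 3, 3, 1, 3, 1, 2, 1, 3, 3, 1, 3, 1, 5, 5]) (.node 4856 (.leaf 304 5 [2, 1, 3, 1, 3, 3, 1, 2, 2, 1, 3, 1, 2, 1, 3, 1, 2, 1, 3, 1, 3, 1, 3, 6, 4, 5, 5, 5, 4, 6, 4, 5, 4, 6, 6, 4, 5, 4, 2, 1, 2, 1, 2]) (.leaf 308 11 [2, 1, 3, 1, 2, 1, 3, 1, 3, 1, 2, 1, 2, 1, 3, 3, 1, 4, 6, 4, 5, 5, 4, 6, 6, 6, 4, 6, 1, 2, 2, 1, 2, 2, 1, 3, 1, 3, 1]))) (.node 4858 (.leaf 350 0 [2, 2, 1, 2, 1, 2, 1, 2, 2, 1, 3, 1, 2, 1, 2, 1, 3, 1, 3, 1, 2, 1, 2, 1, 2, 1, 3, 1, 5, 5, 5, 4, 6, 6, 6, 4, 5, 5, 5, 4, 6, 6, 6]) (.node 4859 (.leaf 352 39 [6, 4, 5, 1, 3, 1, 3, 1, 3, 1, 2, 2, 1, 3, 1, 3, 3, 1, 3, 1, 2, 1, 3, 1, 2, 1, 2, 2, 1, 3, 3, 4, 6, 4, 5, 5, 4, 6, 4, 5, 5, 4]) (.leaf 355 28 [5, 4, 6, 6, 4, 5, 4, 6, 6, 6, 4, 5, 4, 6, 2, 1, 3, 3, 1, 2, 1, 3, 3, 1, 2, 1, 2, 2, 1, 2, 2, 1, 2, 1, 3, 3, 1, 2, 1, 3, 3, 1]))))) (.node 4865 (.node 4862 (.node 4861 (.leaf 357 24 [1, 2, 1, 3, 6, 6, 6, 4, 5, 4, 6, 6, 6, 4, 5, 4, 6, 6, 4, 5, 2, 1, 2, 2, 1, 2, 1, 3, 1, 2, 2, 1, 2, 2, 1, 2, 2, 1, 3, 1, 2, 1, 2, 2]) (.leaf 358 3 [3, 3, 1, 3, 1, 2, 2, 1, 2, 1, 2, 1, 3, 3, 1, 2, 1, 3, 1, 3, 1, 2, 1, 3, 1, 4, 5, 5, 4, 6, 4, 5, 5, 4, 6, 4, 5, 4, 6, 6, 6, 1, 3, 1])) (.node 4863 (.leaf 361 21 [1, 2, 2, 1, 2, 2, 1, 6, 6, 4, 5, 5, 4, 6, 4, 5, 5, 5, 4, 6, 6, 6, 4, 2, 1, 3, 1, 3, 3, 1, 2, 2, 1, 2, 1, 2, 2, 1, 2, 2, 1, 2, 1, 3]) (.node 4864 (.leaf 365 26 [3, 1, 5, 4, 5, 5, 5, 5, 4, 6, 6, 6, 4, 5, 4, 2, 2, 1, 2, 1, 2, 2, 1, 2, 2, 1, 2, 1, 2, 2, 1, 2, 2, 1, 2, 2, 1, 3, 1, 3, 1]) (.leaf 368 2 [1, 3, 3, 1, 3, 3, 1, 2, 1, 3, 3, 1, 2, 2, 1, 3, 3, 1, 3, 1, 2, 1, 2, 1, 2, 2, 4, 5, 5, 5, 4, 6, 6, 6, 4, 5, 5, 5, 4, 6, 2, 2])))) (.node 4868 (.node 4866 (.leaf 372 27 [1, 6, 4, 6, 6, 6, 4, 6, 1, 2, 2, 1, 3, 3, 1, 2, 1, 3, 3, 1, 3, 1, 2, 1, 3, 3, 1, 2, 1, 3, 1, 3, 3, 1, 2]) (.node 4867 (.leaf 373 22 [3, 3, 1, 3, 3, 1, 4, 6, 6, 6, 4, 5, 5, 5, 4, 6, 4, 5, 5, 5, 4, 1, 3, 3, 1, 3, 1, 3, 1, 3, 1, 2, 1, 2, 1, 3, 1, 2, 2, 1, 2, 2, 1]) (.leaf 389 18 [2, 1, 3, 1, 3, 3, 1, 2, 1, 3, 4, 5, 4, 6, 6, 4, 5, 4, 6, 4, 5, 4, 6, 4, 2, 1, 3, 3, 1, 3, 1, 2, 1, 3, 1, 3, 1, 2, 1, 2, 2, 1]))) (.node 4869 (.leaf 393 21 [3, 3, 1, 3, 3, 1, 3, 1, 4, 6, 4, 5, 5, 5, 4, 6, 4, 5, 5, 5, 4, 6, 4, 5, 1, 3, 3, 1, 3, 1, 3, 1, 3, 1, 3, 3, 1, 3, 1, 3, 1, 2, 1, 3, 1]) (.node 4870 (.leaf 32 23 [4, 6, 4, 5, 5, 5, 4, 6, 6, 4, 5, 4, 1, 3, 3, 1, 3, 1, 2, 2, 1, 3, 3, 1, 2, 2, 1, 2, 1, 2, 1, 2, 1, 3, 1]) (.leaf 54 24 [5, 5, 4, 6, 4, 5, 4, 6, 4, 5, 5, 4, 6, 4, 1, 2, 2, 1, 3, 3, 1, 2, 1, 2, 1, 2, 2, 1, 2, 1, 3, 1, 2, 1, 2, 1, 3, 3])))))) (.node 4882 (.node 4876 (.node 4873 (.node 4872 (.leaf 62 28 [6, 4, 5, 4, 6, 4, 5, 4, 6, 6, 4, 2, 1, 3, 3, 1, 3, 3, 1, 2, 2, 1, 2, 1, 2, 2, 1, 2, 1, 3, 1, 3, 1, 3, 1, 4, 5, 4, 6]) (.leaf 66 1 [3, 3, 1, 2, 1, 3, 1, 3, 3, 1, 2, 2, 1, 2, 1, 3, 3, 1, 2, 2, 1, 2, 2, 5, 5, 4, 6, 4, 5, 4, 6, 6, 4, 5, 5, 1])) (.node 4874 (.leaf 95 15 [3, 3, 1, 3, 1, 3, 1, 3, 3, 1, 6, 6, 4, 5, 4, 6, 4, 5, 5, 1, 2, 2, 1, 2, 1, 2, 1, 2, 2, 1, 2, 1, 3, 1]) (.node 4875 (.leaf 97 7 [1, 2, 2, 1, 3, 1, 2, 1, 3, 3, 1, 3, 1, 2, 1, 2, 1, 3, 4, 6, 4, 5, 5, 4, 6, 6, 4, 5, 4, 6, 6, 6, 4, 6, 2, 1, 3, 1, 3, 1, 2]) (.leaf 102 13 [2, 1, 3, 1, 3, 1, 2, 1, 2, 2, 1, 3, 5, 5, 4, 6, 4, 5, 5, 4, 6, 6, 4, 5, 4, 6, 6, 2, 1, 3, 3, 1, 3, 1, 2, 1, 2, 1, 3, 1])))) (.node 4879 (.node 4877 (.leaf 117 27 [5, 5, 5, 4, 6, 3, 3, 1, 2, 2, 1, 2, 1, 3, 1, 3, 3, 1, 2, 1, 3, 1, 2, 1, 3, 3, 1, 3, 3, 1, 3, 5]) (.node 4878 (.leaf 124 36 [5, 5, 5, 4, 6, 2, 1, 3, 3, 1, 2, 1, 2, 1, 3, 1, 2, 2, 1, 3, 3, 1, 2, 1, 3, 1, 2, 1, 3, 3, 1, 5, 4, 6, 6, 4, 5, 5, 4, 6, 4]) (.leaf 126 16 [1, 2, 1, 2, 1, 3, 3, 1, 3, 1, 6, 4, 5, 5, 4, 6, 4, 5, 5, 4, 6, 1, 3, 1, 2, 1, 2, 2, 1, 3, 3, 1, 2, 1, 3, 1, 2]))) (.node 4880 (.leaf 132 9 [2, 2, 1, 2, 1, 3, 1, 2, 1, 2, 1, 2, 1, 2, 1, 3, 1, 6, 6, 4, 5, 4, 6, 4, 5, 4, 6, 4, 1, 3, 1, 3, 1, 2, 1, 2, 1]) (.node 4881 (.leaf 160 16 [3, 1, 3, 1, 2, 1, 3, 3, 1, 2, 2, 5, 4, 6, 6, 6, 4, 5, 5, 5, 4, 6, 4, 5, 5, 1, 2, 2, 1, 2, 1, 2, 1, 3, 3, 1, 3, 3, 1, 2, 1]) (.leaf 184 42 [6, 2, 1, 3, 1, 3, 1, 3, 1, 2, 1, 2, 2, 1, 2, 2, 1, 3, 3, 1, 3, 1, 2, 2, 1, 3, 3, 1, 6, 6, 6, 4, 5, 5, 5, 4, 6, 4, 5, 5, 4, 6, 6]))))) (.node 4887 (.node 4884 (.node 4883 (.leaf 185 9 [2, 2, 1, 2, 2, 1, 2, 1, 3, 1, 3, 1, 2, 1, 3, 1, 3, 1, 5, 5, 4, 6, 4, 5, 5, 4, 6, 4, 5, 5, 5, 4, 1, 3, 3, 1, 3, 3, 1, 2, 1]) (.leaf 190 2 [1, 2, 1, 2, 2, 1, 2, 2, 1, 3, 1, 2, 2, 1, 2, 1, 2, 1, 3, 1, 3, 1, 2, 1, 3, 4, 5, 5, 4, 6, 4, 5, 5, 4, 6, 4, 5, 4, 6, 1, 3])) (.node 4885 (.leaf 191 20 [3, 1, 3, 1, 3, 1, 3, 6, 4, 5, 5, 5, 4, 6, 4, 5, 5, 5, 4, 6, 6, 6, 2, 2, 1, 3, 3, 1, 3, 3, 1, 3, 1, 2, 1, 2, 1, 3, 3, 1, 3, 1]) (.node 4886 (.leaf 204 27 [5, 5, 4, 6, 4, 5, 4, 6, 4, 5, 4, 6, 4, 5, 5, 5, 1, 2, 1, 3, 1, 2, 1, 2, 2, 1, 2, 1, 2, 1, 3, 1, 3, 1, 3, 1, 3, 1, 2, 1, 2, 1, 3]) (.leaf 209 16 [1, 2, 2, 1, 2, 1, 3, 1, 3, 1, 3, 4, 5, 5, 4, 6, 4, 5, 5, 4, 6, 4, 5, 5, 2, 1, 2, 1, 3, 3, 1, 2, 1, 2, 2, 1, 2, 1, 2, 2])))) (.node 4890 (.node 4888 (.leaf 210 27 [6, 4, 5, 4, 6, 4, 5, 4, 6, 6, 4, 5, 4, 1, 2, 2, 1, 3, 1, 2, 2, 1, 3, 1, 2, 2, 1, 2, 1, 2, 1, 3, 1, 2, 1, 3, 3, 1, 2, 1]) (.node 4889 (.leaf 219 19 [3, 3, 1, 3, 1, 3, 3, 1, 5, 4, 5, 5, 5, 4, 6, 4, 5, 5, 5, 4, 2, 1, 2, 2, 1, 2, 1, 3, 1, 2, 1, 2, 1, 2, 2, 1, 2, 2, 1]) (.leaf 220 27 [4, 6, 4, 5, 5, 5, 4, 6, 4, 5, 5, 4, 6, 6, 4, 5, 3, 3, 1, 2, 1, 3, 3, 1, 2, 1, 2, 2, 1, 2, 1, 2, 1, 2, 1, 2, 2, 1, 2, 1, 3, 1, 3]))) (.node 4891 (.leaf 231 26 [3, 4, 5, 5, 5, 4, 6, 4, 5, 4, 6, 6, 4, 5, 5, 3, 3, 1, 3, 1, 2, 2, 1, 2, 1, 2, 1, 3, 1, 2, 1, 2, 1, 2, 2, 1, 3, 3, 1, 3, 1]) (.node 4892 (.leaf 233 26 [3, 5, 4, 6, 6, 4, 5, 4, 6, 6, 2, 1, 2, 1, 3, 1, 3, 1, 2, 1, 3, 1, 2, 1, 2, 2, 1, 2, 1, 2, 1, 2, 2, 1, 2, 1]) (.leaf 234 42 [4, 2, 1, 2, 1, 2, 2, 1, 3, 1, 2, 1, 3, 1, 2, 1, 3, 3, 1, 3, 1, 2, 1, 3, 3, 1, 3, 3, 5, 5, 4, 6, 4, 5, 4, 6, 4, 5, 4, 6, 6, 4, 5]))))))))))) (.node 5243 (.node 5068 (.node 4980 (.node 4936 (.node 4914 (.node 4903 (.node 4898 (.node 4895 (.node 4894 (.leaf 234 28 [5, 4, 6, 4, 5, 4, 6, 4, 5, 4, 6, 6, 4, 5, 4, 2, 1, 2, 1, 2, 2, 1, 3, 1, 2, 1, 3, 1, 2, 1, 3, 3, 1, 3, 1, 2, 1, 3, 3, 1, 3, 3, 5]) (.leaf 235 27 [4, 6, 6, 6, 4, 5, 5, 5, 4, 5, 2, 2, 1, 3, 1, 3, 1, 2, 1, 2, 1, 2, 1, 2, 1, 3, 1, 2, 2, 1, 3, 1, 3, 1, 2, 1, 3])) (.node 4896 (.leaf 241 27 [4, 5, 4, 6, 4, 5, 4, 6, 4, 5, 4, 6, 4, 5, 5, 3, 3, 1, 2, 2, 1, 3, 1, 3, 1, 2, 1, 2, 2, 1, 2, 1, 3, 3, 1, 3, 3, 1, 2, 1, 3, 1]) (.node 4897 (.leaf 242 2 [3, 1, 2, 1, 2, 2, 1, 3, 3, 1, 3, 1, 3, 3, 1, 3, 1, 3, 3, 1, 3, 1, 2, 1, 3, 5, 5, 5, 4, 6, 6, 6, 4, 5, 5, 5, 4, 6, 6, 1, 3]) (.leaf 245 1 [2, 1, 3, 3, 1, 2, 2, 1, 3, 1, 2, 2, 1, 3, 1, 3, 1, 2, 1, 2, 2, 1, 2, 1, 3, 3, 5, 5, 4, 6, 6, 4, 5, 4, 6, 4, 5, 4, 6, 4, 2])))) (.node 4900 (.node 4899 (.leaf 249 29 [5, 4, 6, 6, 4, 5, 4, 6, 6, 4, 1, 2, 2, 1, 2, 2, 1, 2, 2, 1, 2, 1, 2, 1, 2, 2, 1, 3, 3, 1, 3, 3, 1, 2, 1, 2, 1, 6, 4]) (.leaf 255 14 [2, 1, 3, 3, 1, 3, 1, 2, 2, 1, 2, 1, 3, 5, 4, 6, 6, 4, 5, 4, 6, 4, 5, 4, 6, 6, 4, 1, 2, 2, 1, 3, 3, 1, 2, 1, 2, 2, 1, 2, 1])) (.node 4901 (.leaf 265 23 [3, 1, 2, 1, 3, 5, 4, 6, 4, 5, 4, 6, 4, 5, 5, 4, 6, 6, 3, 3, 1, 2, 2, 1, 2, 1, 3, 1, 2, 1, 2, 2, 1, 2, 1, 3, 3, 1, 2, 1, 3]) (.node 4902 (.leaf 266 12 [2, 2, 1, 3, 1, 3, 3, 1, 2, 1, 2, 1, 3, 1, 3, 3, 6, 6, 4, 5, 5, 5, 4, 6, 6, 2, 1, 2, 1, 2, 1, 3, 1, 2, 1, 2, 1]) (.leaf 273 7 [1, 2, 1, 3, 1, 2, 1, 2, 2, 1, 2, 1, 2, 1, 2, 2, 1, 2, 1, 2, 2, 5, 5, 5, 5, 4, 6, 4, 5, 5, 5, 4, 6, 6, 1, 3, 3, 1, 2, 1, 3]))))) (.node 4908 (.node 4905 (.node 4904 (.leaf 275 29 [5, 4, 6, 4, 5, 4, 6, 6, 6, 4, 6, 3, 3, 1, 3, 3, 1, 2, 1, 3, 1, 2, 1, 2, 1, 2, 2, 1, 2, 2, 1, 2, 2, 1, 3, 1, 2, 1, 3, 4]) (.leaf 277 34 [5, 5, 1, 2, 2, 1, 2, 2, 1, 2, 1, 2, 1, 2, 1, 3, 1, 2, 1, 3, 1, 2, 1, 2, 1, 3, 3, 1, 2, 2, 5, 5, 4, 6, 6, 4])) (.node 4906 (.leaf 280 22 [1, 3, 1, 2, 1, 3, 6, 4, 5, 4, 6, 6, 4, 5, 5, 4, 6, 4, 5, 5, 5, 2, 1, 3, 3, 1, 2, 2, 1, 2, 1, 2, 1, 3, 1, 3, 1, 2, 1, 3, 1, 2, 2]) (.node 4907 (.leaf 284 10 [2, 1, 3, 1, 2, 2, 1, 3, 3, 1, 2, 1, 3, 3, 1, 3, 1, 3, 4, 6, 4, 5, 5, 5, 4, 6, 6, 1, 3, 1, 3, 1, 2, 1, 3, 1, 2]) (.leaf 285 16 [3, 3, 1, 2, 2, 1, 3, 1, 2, 1, 3, 1, 4, 5, 5, 5, 4, 6, 4, 5, 5, 4, 6, 6, 4, 5, 4, 6, 6, 1, 3, 1, 3, 3, 1, 3, 1, 2, 1, 2, 2, 1, 2, 2, 1])))) (.node 4911 (.node 4909 (.leaf 294 5 [1, 2, 1, 3, 3, 1, 3, 1, 3, 1, 3, 1, 3, 1, 3, 3, 1, 3, 1, 2, 1, 2, 2, 6, 6, 6, 4, 5, 4, 6, 6, 4, 5, 2, 2, 1, 3, 3]) (.node 4910 (.leaf 299 20 [3, 1, 2, 1, 2, 1, 2, 2, 6, 6, 4, 5, 4, 6, 4, 5, 5, 5, 4, 5, 1, 3, 1, 2, 1, 3, 1, 3, 3, 1, 2, 2, 1, 2, 2, 1, 3, 1, 2, 1]) (.leaf 302 1 [3, 1, 3, 3, 1, 2, 2, 1, 2, 2, 1, 3, 1, 2, 2, 1, 2, 2, 1, 2, 1, 2, 1, 3, 1, 3, 3, 4, 5, 4, 6, 4, 5, 4, 6, 4, 5, 4, 6, 6, 6, 4, 5, 4, 1]))) (.node 4912 (.leaf 305 14 [2, 1, 2, 1, 2, 1, 2, 1, 2, 2, 1, 3, 3, 1, 4, 6, 4, 5, 5, 4, 6, 4, 5, 5, 4, 6, 1, 3, 1, 3, 3, 1, 2, 2, 1, 3, 1, 3, 3, 1]) (.node 4913 (.leaf 307 32 [5, 5, 4, 6, 6, 6, 4, 5, 5, 5, 4, 1, 2, 1, 3, 1, 3, 3, 1, 3, 1, 2, 2, 1, 2, 1, 3, 3, 1, 3, 3, 1, 2, 1, 3, 3, 1, 3, 1, 6, 6, 4, 5]) (.leaf 308 37 [4, 6, 1, 2, 2, 1, 2, 2, 1, 3, 1, 3, 1, 2, 1, 3, 1, 2, 1, 3, 1, 3, 1, 2, 1, 2, 1, 3, 3, 1, 4, 6, 4, 5, 5, 4, 6, 6, 6])))))) (.node 4925 (.node 4919 (.node 4916 (.node 4915 (.leaf 317 39 [5, 1, 3, 1, 2, 1, 2, 1, 2, 1, 3, 3, 1, 3, 1, 2, 1, 3, 3, 1, 2, 1, 2, 2, 1, 3, 3, 1, 3, 4, 6, 6, 4, 5, 4, 6, 6, 6, 4, 5]) (.leaf 318 21 [2, 1, 2, 2, 1, 3, 1, 4, 5, 4, 6, 6, 4, 5, 4, 6, 4, 5, 5, 4, 6, 2, 1, 3, 1, 2, 1, 2, 2, 1, 3, 1, 3, 3, 1, 2, 1, 3, 3, 1, 3, 1])) (.node 4917 (.leaf 318 24 [2, 1, 3, 1, 4, 5, 4, 6, 6, 4, 5, 4, 6, 4, 5, 5, 4, 6, 2, 1, 3, 1, 2, 1, 2, 2, 1, 3, 1, 3, 3, 1, 2, 1, 3, 3, 1, 3, 1, 2, 1, 2]) (.node 4918 (.leaf 319 18 [2, 1, 3, 1, 2, 1, 3, 1, 3, 3, 4, 6, 6, 6, 4, 5, 5, 5, 4, 6, 4, 5, 5, 4, 6, 6, 1, 2, 2, 1, 3, 1, 2, 1, 3, 1, 2, 1, 3, 3, 1, 3, 1, 2]) (.leaf 328 24 [3, 1, 3, 1, 6, 6, 4, 5, 4, 6, 4, 5, 4, 6, 6, 6, 4, 2, 1, 3, 1, 2, 1, 2, 1, 3, 3, 1, 2, 2, 1, 3, 1, 3, 3, 1, 3, 1, 3, 3, 1])))) (.node 4922 (.node 4920 (.leaf 329 19 [3, 3, 1, 3, 1, 3, 3, 1, 3, 4, 6, 6, 6, 4, 5, 4, 6, 6, 6, 1, 3, 1, 2, 2, 1, 2, 1, 2, 1, 3, 1, 2, 2, 1, 2, 1, 2, 1]) (.node 4921 (.leaf 333 29 [6, 4, 5, 5, 5, 4, 6, 6, 6, 4, 5, 4, 2, 1, 2, 2, 1, 2, 1, 3, 3, 1, 2, 2, 1, 2, 1, 3, 3, 1, 3, 3, 1, 2, 2, 1, 3, 1, 3, 3, 4]) (.leaf 333 16 [3, 1, 3, 3, 1, 2, 2, 1, 3, 1, 3, 3, 4, 6, 4, 5, 5, 5, 4, 6, 6, 6, 4, 5, 4, 2, 1, 2, 2, 1, 2, 1, 3, 3, 1, 2, 2, 1, 2, 1, 3]))) (.node 4923 (.leaf 334 9 [3, 3, 1, 2, 2, 1, 3, 3, 1, 2, 1, 2, 1, 2, 2, 1, 3, 1, 3, 4, 5, 5, 4, 6, 4, 5, 4, 6, 4, 5, 4, 3, 3, 1, 2, 1, 2, 1, 2, 1]) (.node 4924 (.leaf 335 39 [4, 3, 3, 1, 2, 1, 3, 3, 1, 2, 1, 3, 3, 1, 2, 1, 3, 1, 2, 2, 1, 3, 1, 2, 1, 3, 1, 2, 2, 6, 6, 6, 4, 5, 5, 5, 4, 6, 6, 6]) (.leaf 336 28 [5, 4, 6, 6, 6, 4, 5, 4, 6, 6, 4, 5, 5, 5, 2, 1, 3, 1, 2, 1, 2, 1, 3, 1, 2, 1, 3, 1, 3, 1, 3, 1, 2, 2, 1, 3, 3, 1, 3, 3, 1, 3]))))) (.node 4930 (.node 4927 (.node 4926 (.leaf 339 20 [2, 1, 2, 1, 3, 1, 2, 2, 6, 6, 6, 4, 5, 5, 5, 4, 6, 6, 6, 4, 2, 1, 3, 3, 1, 2, 1, 3, 1, 2, 2, 1, 3, 1, 2, 2, 1, 3, 1, 2]) (.leaf 339 10 [2, 1, 3, 1, 2, 2, 1, 3, 1, 2, 2, 1, 2, 1, 3, 1, 2, 2, 6, 6, 6, 4, 5, 5, 5, 4, 6, 6, 6, 4, 2, 1, 3, 3, 1, 2, 1, 3, 1, 2])) (.node 4928 (.leaf 352 8 [2, 1, 3, 1, 3, 3, 1, 3, 1, 2, 1, 3, 1, 2, 1, 2, 2, 1, 3, 3, 4, 6, 4, 5, 5, 4, 6, 4, 5, 5, 4, 6, 4, 5, 1, 3, 1, 3, 1, 3, 1, 2]) (.node 4929 (.leaf 357 28 [6, 6, 6, 4, 5, 4, 6, 6, 6, 4, 5, 4, 6, 6, 4, 5, 2, 1, 2, 2, 1, 2, 1, 3, 1, 2, 2, 1, 2, 2, 1, 2, 2, 1, 3, 1, 2, 1, 2, 2, 1, 2, 1, 3]) (.leaf 361 25 [2, 2, 1, 6, 6, 4, 5, 5, 4, 6, 4, 5, 5, 5, 4, 6, 6, 6, 4, 2, 1, 3, 1, 3, 3, 1, 2, 2, 1, 2, 1, 2, 2, 1, 2, 2, 1, 2, 1, 3, 1, 2, 2, 1])))) (.node 4933 (.node 4931 (.leaf 391 29 [5, 5, 4, 6, 6, 6, 4, 5, 4, 6, 6, 4, 5, 5, 4, 6, 6, 1, 3, 3, 1, 2, 1, 3, 1, 3, 3, 1, 3, 1, 2, 1, 3, 1, 3, 3, 1, 2, 1, 2, 2, 1, 3, 1, 2, 1]) (.node 4932 (.leaf 392 3 [2, 1, 2, 2, 1, 2, 1, 3, 1, 2, 2, 1, 3, 3, 1, 2, 1, 3, 1, 3, 3, 1, 3, 3, 1, 3, 6, 6, 4, 5, 5, 5, 4, 6, 6, 6, 4, 5, 5, 2, 1, 2]) (.leaf 20 19 [3, 1, 3, 4, 5, 4, 6, 6, 4, 5, 4, 6, 6, 6, 4, 2, 2, 1, 3, 1, 3, 1, 3, 3, 1, 2, 2, 1, 3, 1, 2, 2, 1, 3]))) (.node 4934 (.leaf 26 37 [4, 5, 2, 2, 1, 2, 2, 1, 2, 1, 3, 1, 2, 1, 3, 1, 3, 1, 2, 2, 1, 3, 1, 3, 4, 5, 4, 6, 4, 5, 5, 4, 6, 4, 5, 5, 5, 4, 6]) (.node 4935 (.leaf 28 9 [1, 2, 2, 1, 3, 1, 3, 3, 1, 2, 1, 2, 1, 4, 5, 4, 6, 4, 5, 5, 4, 6, 4, 5, 5, 5, 3, 3, 1, 2, 1, 2, 1, 3, 3]) (.leaf 35 17 [2, 1, 2, 2, 1, 3, 5, 4, 6, 4, 5, 5, 4, 6, 6, 4, 5, 2, 2, 1, 3, 3, 1, 3, 1, 2, 2, 1, 2, 1, 2, 1, 2, 1]))))))) (.node 4958 (.node 4947 (.node 4941 (.node 4938 (.node 4937 (.leaf 38 32 [5, 4, 1, 3, 1, 3, 1, 2, 1, 2, 1, 3, 1, 2, 2, 1, 3, 1, 2, 2, 1, 3, 1, 3, 3, 4, 5, 5, 5, 4, 6, 6, 4, 5]) (.leaf 44 2 [1, 3, 3, 1, 2, 2, 1, 2, 1, 2, 1, 3, 1, 3, 3, 1, 2, 1, 2, 2, 1, 4, 6, 4, 5, 4, 6, 6, 4, 5, 5, 5, 4, 3, 3])) (.node 4939 (.leaf 45 23 [4, 6, 6, 6, 4, 5, 5, 5, 4, 6, 4, 5, 5, 5, 4, 6, 6, 1, 2, 2, 1, 3, 1, 3, 3, 1, 2, 1, 2, 2, 1, 2, 1, 2, 2, 1, 2, 1, 2, 2]) (.node 4940 (.leaf 48 17 [1, 2, 2, 1, 3, 1, 4, 6, 6, 6, 4, 5, 5, 5, 4, 6, 4, 5, 5, 4, 6, 6, 1, 3, 3, 1, 2, 1, 3, 1, 3, 1, 2, 2, 1, 2, 2, 1, 2]) (.leaf 53 6 [2, 2, 1, 2, 1, 2, 2, 1, 3, 1, 3, 1, 2, 1, 3, 3, 1, 3, 5, 4, 5, 5, 5, 4, 6, 6, 4, 5, 4, 1, 2, 2, 1, 2, 1])))) (.node 4944 (.node 4942 (.leaf 68 31 [4, 5, 1, 2, 1, 2, 1, 2, 1, 3, 3, 1, 3, 1, 2, 2, 1, 3, 1, 2, 1, 2, 2, 1, 3, 3, 4, 5, 4, 5, 5, 5, 5]) (.node 4943 (.leaf 68 10 [3, 1, 2, 2, 1, 3, 1, 2, 1, 2, 2, 1, 3, 3, 4, 5, 4, 5, 5, 5, 5, 4, 5, 1, 2, 1, 2, 1, 2, 1, 3, 3, 1]) (.leaf 72 20 [2, 2, 1, 3, 1, 6, 6, 6, 4, 5, 4, 6, 6, 4, 5, 2, 2, 1, 2, 1, 3, 1, 2, 1, 2, 2, 1, 2, 1, 2, 1, 2, 1, 2, 1]))) (.node 4945 (.leaf 79 13 [1, 3, 1, 3, 1, 3, 3, 1, 3, 1, 3, 3, 4, 5, 5, 5, 4, 6, 4, 5, 5, 4, 6, 6, 6, 1, 2, 1, 3, 3, 1, 2, 1, 2, 1, 2, 1, 2]) (.node 4946 (.leaf 80 6 [1, 3, 1, 2, 1, 2, 2, 1, 2, 1, 3, 1, 2, 1, 3, 1, 2, 2, 1, 5, 4, 6, 4, 5, 5, 4, 6, 3, 3, 1, 2, 1, 3]) (.leaf 81 17 [2, 2, 1, 2, 1, 3, 1, 3, 5, 4, 5, 5, 5, 4, 6, 6, 4, 5, 5, 4, 6, 2, 1, 2, 1, 3, 1, 3, 3, 1, 2, 1, 3, 1, 2, 1, 3, 1]))))) (.node 4952 (.node 4949 (.node 4948 (.leaf 88 21 [3, 1, 2, 1, 5, 4, 6, 4, 5, 5, 4, 6, 6, 4, 5, 4, 2, 2, 1, 2, 2, 1, 3, 3, 1, 3, 1, 2, 2, 1, 3, 1, 3, 1, 3, 1, 3]) (.leaf 89 2 [1, 3, 1, 3, 3, 1, 3, 3, 1, 3, 1, 3, 1, 2, 2, 1, 2, 1, 2, 1, 3, 1, 3, 6, 6, 4, 5, 5, 5, 4, 6, 4, 5, 5, 5, 4, 6, 6, 6, 1, 3])) (.node 4950 (.leaf 91 28 [5, 5, 5, 4, 6, 4, 5, 5, 4, 6, 4, 5, 3, 3, 1, 2, 1, 2, 1, 3, 1, 3, 1, 2, 2, 1, 2, 2, 1, 3, 3, 1, 2, 2, 1, 2, 2, 4, 6, 4]) (.node 4951 (.leaf 103 21 [2, 2, 1, 3, 4, 6, 6, 4, 5, 4, 6, 6, 6, 4, 5, 5, 5, 4, 6, 2, 1, 2, 1, 2, 1, 3, 1, 3, 3, 1, 2, 2, 1, 3, 3, 1, 3, 1, 3, 1]) (.leaf 104 11 [1, 2, 2, 1, 3, 3, 1, 3, 1, 2, 2, 1, 2, 1, 6, 6, 4, 5, 4, 6, 4, 5, 5, 4, 6, 4, 1, 3, 1, 2, 1, 2, 1, 3, 1, 3, 3])))) (.node 4955 (.node 4953 (.leaf 111 19 [3, 1, 3, 3, 1, 2, 1, 4, 6, 4, 5, 5, 5, 5, 4, 6, 4, 5, 5, 5, 4, 6, 1, 2, 2, 1, 2, 1, 2, 1, 3, 1, 3, 1, 2, 1, 2, 1, 3, 1, 3]) (.node 4954 (.leaf 117 1 [3, 1, 2, 2, 1, 2, 1, 3, 1, 3, 3, 1, 2, 1, 3, 1, 2, 1, 3, 3, 1, 3, 3, 1, 3, 5, 5, 5, 5, 4, 6, 3]) (.leaf 125 16 [1, 2, 1, 3, 3, 1, 2, 1, 2, 1, 4, 6, 6, 4, 5, 4, 6, 6, 4, 5, 4, 6, 4, 5, 2, 1, 3, 3, 1, 2, 2, 1, 3, 1, 2, 1, 2, 2, 1, 2]))) (.node 4956 (.leaf 129 20 [2, 1, 2, 1, 3, 3, 5, 5, 5, 4, 6, 6, 6, 4, 5, 5, 1, 2, 1, 3, 1, 2, 1, 2, 2, 1, 3, 1, 2, 2, 1, 3, 1, 2, 1, 2]) (.node 4957 (.leaf 130 2 [1, 2, 1, 2, 1, 3, 3, 1, 2, 1, 2, 1, 3, 1, 3, 1, 3, 1, 2, 1, 3, 1, 3, 1, 6, 6, 4, 5, 5, 5, 4, 2, 2]) (.leaf 131 27 [4, 6, 6, 4, 5, 4, 6, 6, 6, 4, 5, 4, 2, 1, 3, 1, 2, 1, 3, 1, 3, 1, 2, 1, 2, 1, 2, 2, 1, 3, 3, 1, 3, 1, 3, 1, 2, 2, 5])))))) (.node 4969 (.node 4963 (.node 4960 (.node 4959 (.leaf 133 27 [5, 5, 4, 6, 4, 5, 5, 4, 6, 4, 5, 5, 2, 1, 2, 1, 2, 2, 1, 2, 1, 3, 1, 2, 1, 2, 1, 2, 2, 1, 2, 1, 2, 2, 1, 2, 1, 3, 4]) (.leaf 135 1 [3, 1, 2, 2, 1, 2, 1, 3, 1, 2, 2, 1, 2, 1, 2, 1, 2, 1, 2, 2, 1, 2, 1, 2, 1, 4, 6, 4, 5, 5, 5, 4, 6, 6, 6, 4, 5, 4, 1])) (.node 4961 (.leaf 137 11 [3, 3, 1, 3, 3, 1, 2, 2, 1, 2, 2, 1, 3, 1, 3, 6, 6, 4, 5, 4, 6, 6, 4, 5, 4, 6, 4, 5, 5, 5, 4, 1, 3, 3, 1, 2, 2, 1, 3, 1, 3, 1]) (.node 4962 (.leaf 138 5 [2, 2, 1, 3, 3, 1, 3, 3, 1, 3, 1, 3, 3, 1, 2, 1, 2, 2, 1, 2, 2, 6, 4, 5, 5, 4, 6, 4, 1, 3, 1, 3, 1]) (.leaf 139 3 [2, 2, 1, 2, 2, 1, 2, 1, 3, 1, 2, 2, 1, 2, 2, 1, 3, 3, 1, 3, 1, 3, 3, 4, 5, 4, 6, 6, 6, 4, 5, 4, 6, 6, 4, 5, 4, 6, 4, 3, 3, 1])))) (.node 4966 (.node 4964 (.leaf 140 3 [3, 1, 3, 1, 3, 3, 1, 3, 1, 2, 2, 1, 2, 1, 3, 1, 3, 3, 1, 2, 2, 1, 3, 5, 4, 5, 5, 5, 4, 6, 4, 5, 5, 4, 6, 4, 5, 4, 6, 1, 2, 1]) (.node 4965 (.leaf 145 1 [1, 3, 3, 1, 2, 2, 1, 3, 1, 3, 1, 2, 1, 3, 3, 1, 3, 3, 1, 3, 1, 3, 1, 2, 1, 5, 4, 5, 5, 5, 4, 6, 4, 5, 4, 6, 2]) (.leaf 145 22 [3, 1, 2, 1, 5, 4, 5, 5, 5, 4, 6, 4, 5, 4, 6, 2, 1, 3, 3, 1, 2, 2, 1, 3, 1, 3, 1, 2, 1, 3, 3, 1, 3, 3, 1, 3, 1]))) (.node 4967 (.leaf 153 27 [6, 6, 6, 4, 5, 5, 5, 4, 5, 1, 3, 1, 3, 1, 2, 2, 1, 2, 1, 2, 1, 2, 2, 1, 2, 1, 2, 2, 1, 2, 1, 3, 3, 1, 3, 4]) (.node 4968 (.leaf 158 14 [2, 1, 3, 1, 3, 3, 1, 3, 1, 2, 1, 2, 1, 6, 4, 5, 5, 5, 4, 6, 4, 5, 4, 6, 6, 4, 5, 1, 2, 2, 1, 2, 1, 2, 1, 2, 1, 3, 1, 3, 1]) (.leaf 161 9 [3, 1, 3, 1, 2, 1, 3, 3, 1, 3, 3, 1, 2, 1, 3, 3, 1, 3, 5, 5, 5, 4, 6, 4, 5, 4, 6, 6, 4, 5, 1, 2, 1, 2, 1, 2, 2, 1, 3]))))) (.node 4974 (.node 4971 (.node 4970 (.leaf 162 17 [2, 1, 2, 1, 2, 1, 3, 1, 2, 2, 5, 4, 5, 5, 5, 4, 6, 4, 5, 5, 4, 6, 4, 5, 1, 2, 2, 1, 2, 2, 1, 3, 1, 3, 1, 3, 1, 2, 2, 1, 2]) (.leaf 166 2 [2, 1, 2, 1, 2, 2, 1, 3, 1, 2, 1, 2, 1, 3, 3, 1, 2, 2, 1, 3, 1, 2, 2, 1, 3, 5, 5, 4, 6, 6, 4, 5, 5, 2, 1])) (.node 4972 (.leaf 168 20 [1, 3, 1, 3, 1, 3, 1, 5, 4, 6, 4, 5, 5, 5, 4, 6, 4, 5, 5, 4, 1, 2, 1, 3, 3, 1, 3, 1, 2, 1, 3, 1, 3, 1, 3, 1, 2, 1, 3, 3]) (.node 4973 (.leaf 171 16 [1, 3, 1, 2, 2, 1, 2, 2, 1, 2, 1, 4, 5, 5, 5, 4, 6, 4, 5, 4, 6, 4, 5, 4, 6, 6, 1, 3, 1, 3, 3, 1, 3, 3, 1, 2, 1, 3, 3, 1, 2, 2]) (.leaf 182 17 [1, 3, 3, 1, 3, 3, 1, 2, 1, 3, 4, 5, 4, 5, 5, 5, 4, 6, 4, 6, 2, 1, 3, 1, 2, 2, 1, 2, 2, 1, 2, 1, 3, 1, 2, 1, 3])))) (.node 4977 (.node 4975 (.leaf 183 43 [4, 2, 2, 1, 2, 1, 2, 1, 3, 3, 1, 2, 1, 3, 1, 2, 1, 3, 1, 2, 2, 1, 3, 1, 3, 1, 3, 3, 4, 5, 5, 4, 6, 4, 5, 4, 6, 4, 5, 4, 6, 6, 4, 5]) (.node 4976 (.leaf 183 14 [2, 1, 3, 1, 2, 2, 1, 3, 1, 3, 1, 3, 3, 4, 5, 5, 4, 6, 4, 5, 4, 6, 4, 5, 4, 6, 6, 4, 5, 4, 2, 2, 1, 2, 1, 2, 1, 3, 3, 1, 2, 1, 3, 1]) (.leaf 184 18 [1, 3, 1, 2, 2, 1, 3, 3, 1, 6, 6, 6, 4, 5, 5, 5, 4, 6, 4, 5, 5, 4, 6, 6, 6, 2, 1, 3, 1, 3, 1, 3, 1, 2, 1, 2, 2, 1, 2, 2, 1, 3, 3]))) (.node 4978 (.leaf 190 3 [2, 1, 2, 2, 1, 2, 2, 1, 3, 1, 2, 2, 1, 2, 1, 2, 1, 3, 1, 3, 1, 2, 1, 3, 4, 5, 5, 4, 6, 4, 5, 5, 4, 6, 4, 5, 4, 6, 1, 3, 1]) (.node 4979 (.leaf 191 7 [3, 1, 3, 1, 2, 1, 2, 1, 3, 3, 1, 3, 1, 3, 1, 3, 1, 3, 1, 3, 6, 4, 5, 5, 5, 4, 6, 4, 5, 5, 5, 4, 6, 6, 6, 2, 2, 1, 3, 3, 1, 3]) (.leaf 203 20 [1, 2, 2, 1, 2, 1, 3, 5, 5, 4, 6, 6, 4, 5, 4, 6, 4, 5, 4, 6, 6, 4, 5, 5, 2, 2, 1, 3, 3, 1, 2, 1, 3, 1, 2, 1, 2, 2, 1, 3, 1, 3, 1, 3])))))))) (.node 5024 (.node 5002 (.node 4991 (.node 4985 (.node 4982 (.node 4981 (.leaf 204 0 [1, 2, 1, 3, 1, 2, 1, 2, 2, 1, 2, 1, 2, 1, 3, 1, 3, 1, 3, 1, 3, 1, 2, 1, 2, 1, 3, 5, 5, 4, 6, 4, 5, 4, 6, 4, 5, 4, 6, 4, 5, 5, 5]) (.leaf 209 19 [1, 2, 1, 3, 1, 3, 1, 3, 4, 5, 5, 4, 6, 4, 5, 5, 4, 6, 4, 5, 5, 2, 1, 2, 1, 3, 3, 1, 2, 1, 2, 2, 1, 2, 1, 2, 2, 1, 2, 2])) (.node 4983 (.leaf 212 18 [1, 3, 1, 3, 1, 3, 1, 3, 1, 6, 4, 6, 6, 6, 4, 5, 4, 6, 6, 6, 4, 5, 2, 1, 3, 1, 2, 1, 3, 1, 2, 1, 3, 1, 3, 1, 3, 1, 2, 2]) (.node 4984 (.leaf 214 10 [1, 2, 1, 2, 1, 3, 3, 1, 3, 3, 1, 2, 1, 3, 1, 2, 1, 6, 4, 5, 5, 5, 4, 6, 6, 6, 4, 5, 5, 5, 1, 3, 1, 3, 3, 1, 2, 1, 3, 3]) (.leaf 214 29 [5, 5, 5, 4, 6, 6, 6, 4, 5, 5, 5, 1, 3, 1, 3, 3, 1, 2, 1, 3, 3, 1, 2, 1, 2, 1, 3, 3, 1, 3, 3, 1, 2, 1, 3, 1, 2, 1, 6, 4])))) (.node 4988 (.node 4986 (.leaf 218 11 [1, 3, 1, 2, 1, 2, 2, 1, 2, 2, 1, 2, 1, 2, 1, 3, 4, 6, 4, 5, 5, 5, 4, 6, 4, 5, 4, 6, 6, 4, 5, 4, 2, 2, 1, 3, 1, 3, 1, 2, 2, 1, 3]) (.node 4987 (.leaf 219 16 [2, 2, 1, 3, 3, 1, 3, 1, 3, 3, 1, 5, 4, 5, 5, 5, 4, 6, 4, 5, 5, 5, 4, 2, 1, 2, 2, 1, 2, 1, 3, 1, 2, 1, 2, 1, 2, 2, 1]) (.leaf 222 7 [2, 1, 3, 1, 3, 1, 2, 2, 1, 3, 1, 2, 1, 3, 3, 1, 2, 1, 3, 1, 4, 5, 5, 5, 5, 4, 6, 4, 5, 5, 4, 6, 6, 4, 1, 2, 1, 3, 3, 1, 2]))) (.node 4989 (.leaf 224 1 [2, 1, 3, 3, 1, 3, 1, 3, 1, 2, 2, 1, 2, 2, 1, 3, 1, 3, 1, 2, 1, 3, 1, 3, 1, 3, 5, 5, 4, 6, 6, 4, 5, 4, 6, 6, 6, 2]) (.node 4990 (.leaf 230 24 [2, 1, 3, 4, 5, 4, 6, 6, 4, 5, 5, 5, 4, 1, 2, 1, 3, 1, 3, 1, 3, 1, 2, 2, 1, 2, 1, 2, 2, 1, 2, 1, 3, 1, 2, 1, 2]) (.leaf 234 17 [1, 3, 1, 2, 1, 3, 3, 1, 3, 3, 5, 5, 4, 6, 4, 5, 4, 6, 4, 5, 4, 6, 6, 4, 5, 4, 2, 1, 2, 1, 2, 2, 1, 3, 1, 2, 1, 3, 1, 2, 1, 3, 3]))))) (.node 4996 (.node 4993 (.node 4992 (.leaf 236 8 [3, 1, 3, 3, 1, 2, 1, 2, 1, 3, 3, 1, 3, 1, 2, 1, 3, 3, 1, 4, 6, 6, 4, 5, 4, 6, 6, 6, 4, 5, 5, 1, 3, 1, 3, 3, 1, 2, 1]) (.leaf 258 27 [3, 6, 4, 5, 5, 5, 5, 4, 6, 4, 5, 5, 5, 4, 6, 2, 1, 3, 3, 1, 3, 1, 2, 1, 2, 1, 2, 1, 2, 1, 2, 1, 3, 1, 3, 3, 1, 3, 1, 3, 1, 3])) (.node 4994 (.leaf 263 1 [3, 1, 3, 3, 1, 3, 1, 3, 1, 3, 1, 2, 2, 1, 2, 1, 3, 1, 2, 1, 2, 1, 2, 2, 1, 2, 1, 4, 5, 5, 5, 4, 6, 6, 4, 5, 5, 4, 6, 3]) (.node 4995 (.leaf 268 24 [2, 1, 2, 2, 4, 6, 4, 5, 5, 5, 4, 6, 4, 5, 4, 6, 6, 4, 5, 4, 1, 3, 3, 1, 3, 1, 3, 3, 1, 2, 1, 3, 3, 1, 2, 1, 3, 3, 1, 2, 1, 2, 1, 2]) (.leaf 268 12 [3, 1, 2, 1, 3, 3, 1, 2, 1, 2, 1, 2, 2, 1, 2, 2, 4, 6, 4, 5, 5, 5, 4, 6, 4, 5, 4, 6, 6, 4, 5, 4, 1, 3, 3, 1, 3, 1, 3, 3, 1, 2, 1, 3])))) (.node 4999 (.node 4997 (.leaf 270 4 [3, 1, 2, 2, 1, 2, 1, 2, 1, 3, 1, 3, 1, 2, 1, 2, 2, 1, 2, 1, 2, 2, 1, 3, 5, 5, 5, 5, 4, 6, 4, 5, 2, 1, 3, 1]) (.node 4998 (.leaf 281 43 [4, 2, 1, 3, 3, 1, 3, 3, 1, 3, 3, 1, 3, 3, 1, 2, 1, 3, 3, 1, 2, 2, 1, 2, 1, 3, 1, 3, 1, 6, 6, 4, 5, 5, 4, 6, 4, 5, 5, 5, 4, 6, 6, 6]) (.leaf 282 13 [3, 1, 3, 3, 1, 2, 1, 3, 3, 1, 2, 1, 3, 1, 3, 6, 6, 6, 4, 5, 5, 5, 4, 6, 1, 2, 1, 2, 1, 3, 3, 1, 2, 1, 3, 3, 1]))) (.node 5000 (.leaf 283 23 [3, 1, 3, 1, 3, 4, 5, 5, 5, 5, 4, 6, 4, 5, 5, 4, 6, 4, 5, 4, 1, 2, 1, 2, 1, 2, 1, 3, 1, 3, 1, 2, 2, 1, 2, 2, 1, 3, 1, 2, 1, 3, 1]) (.node 5001 (.leaf 283 25 [3, 1, 3, 4, 5, 5, 5, 5, 4, 6, 4, 5, 5, 4, 6, 4, 5, 4, 1, 2, 1, 2, 1, 2, 1, 3, 1, 3, 1, 2, 2, 1, 2, 2, 1, 3, 1, 2, 1, 3, 1, 3, 1]) (.leaf 287 3 [1, 3, 1, 3, 1, 3, 3, 1, 2, 1, 2, 1, 2, 1, 3, 1, 3, 3, 1, 2, 1, 3, 1, 2, 2, 4, 6, 4, 5, 5, 4, 6, 6, 4, 5, 4, 6, 6, 6, 4, 5, 2, 1, 3])))))) (.node 5013 (.node 5007 (.node 5004 (.node 5003 (.leaf 293 2 [3, 1, 3, 1, 2, 1, 3, 1, 2, 2, 1, 3, 1, 3, 3, 1, 3, 1, 3, 1, 2, 1, 3, 1, 3, 3, 6, 6, 4, 5, 4, 6, 6, 6, 4, 5, 4, 6, 6, 4, 5, 1, 3]) (.leaf 303 7 [3, 1, 3, 1, 2, 1, 2, 2, 1, 3, 3, 1, 3, 1, 3, 1, 3, 3, 1, 2, 1, 6, 6, 6, 4, 5, 5, 5, 4, 6, 4, 5, 2, 1, 3, 3, 1, 3, 1])) (.node 5005 (.leaf 305 3 [3, 3, 1, 2, 2, 1, 3, 1, 3, 3, 1, 2, 1, 2, 1, 2, 1, 2, 1, 2, 2, 1, 3, 3, 1, 4, 6, 4, 5, 5, 4, 6, 4, 5, 5, 4, 6, 1, 3, 1]) (.node 5006 (.leaf 307 16 [3, 1, 3, 3, 1, 2, 1, 3, 3, 1, 3, 1, 6, 6, 4, 5, 5, 5, 4, 6, 6, 6, 4, 5, 5, 5, 4, 1, 2, 1, 3, 1, 3, 3, 1, 3, 1, 2, 2, 1, 2, 1, 3]) (.leaf 311 18 [2, 2, 1, 3, 3, 1, 2, 1, 2, 2, 5, 4, 5, 5, 5, 4, 6, 4, 5, 5, 4, 2, 1, 3, 1, 2, 1, 3, 1, 2, 1, 3, 3, 1, 2, 2, 1, 2, 1])))) (.node 5010 (.node 5008 (.leaf 315 5 [3, 1, 2, 1, 3, 3, 1, 3, 1, 2, 1, 2, 1, 2, 1, 2, 2, 1, 2, 1, 2, 1, 3, 6, 4, 5, 5, 4, 6, 4, 5, 5, 4, 6, 4, 6, 2, 2, 1, 3, 1]) (.node 5009 (.leaf 320 0 [1, 3, 3, 1, 3, 3, 1, 3, 1, 2, 2, 1, 3, 3, 1, 3, 1, 3, 1, 2, 1, 2, 2, 1, 2, 2, 1, 3, 6, 4, 5, 5, 5, 5, 4, 6, 4, 5, 5, 5, 4, 6]) (.leaf 327 11 [1, 2, 1, 3, 3, 1, 2, 1, 2, 1, 3, 1, 2, 2, 1, 3, 1, 4, 6, 4, 5, 5, 5, 5, 4, 6, 4, 5, 5, 5, 4, 6, 4, 2, 2, 1, 2, 1, 2, 2, 1, 2, 1, 3]))) (.node 5011 (.leaf 330 1 [1, 2, 1, 3, 1, 2, 1, 3, 1, 2, 1, 3, 1, 3, 1, 3, 3, 1, 3, 1, 2, 1, 2, 1, 3, 3, 1, 6, 4, 5, 5, 5, 4, 6, 4, 5, 5, 5, 2]) (.node 5012 (.leaf 331 17 [2, 1, 3, 3, 1, 3, 1, 2, 1, 3, 1, 4, 5, 5, 4, 6, 4, 5, 4, 6, 6, 6, 4, 2, 1, 2, 1, 2, 2, 1, 3, 3, 1, 2, 1, 2, 2, 1, 3, 1]) (.leaf 340 6 [3, 3, 1, 2, 2, 1, 3, 3, 1, 2, 2, 1, 3, 1, 2, 1, 2, 1, 3, 1, 3, 3, 6, 6, 4, 5, 5, 4, 6, 4, 5, 5, 5, 4, 6, 1, 3, 1, 3, 3, 1]))))) (.node 5018 (.node 5015 (.node 5014 (.leaf 341 17 [3, 1, 3, 1, 2, 1, 3, 3, 1, 3, 1, 4, 5, 4, 6, 4, 5, 4, 6, 4, 5, 4, 6, 4, 5, 5, 3, 3, 1, 2, 2, 1, 2, 1, 2, 2, 1, 2, 2, 1, 3, 1, 3]) (.leaf 347 9 [3, 1, 2, 1, 2, 1, 2, 1, 3, 3, 1, 3, 1, 2, 2, 1, 3, 3, 1, 5, 4, 6, 6, 6, 4, 5, 5, 5, 4, 5, 1, 3, 3, 1, 2, 1, 2, 2, 1])) (.node 5016 (.leaf 350 26 [3, 1, 5, 5, 5, 4, 6, 6, 6, 4, 5, 5, 5, 4, 6, 6, 6, 2, 2, 1, 2, 1, 2, 1, 2, 2, 1, 3, 1, 2, 1, 2, 1, 3, 1, 3, 1, 2, 1, 2, 1, 2, 1]) (.node 5017 (.leaf 352 5 [3, 1, 2, 2, 1, 3, 1, 3, 3, 1, 3, 1, 2, 1, 3, 1, 2, 1, 2, 2, 1, 3, 3, 4, 6, 4, 5, 5, 4, 6, 4, 5, 5, 4, 6, 4, 5, 1, 3, 1, 3, 1]) (.leaf 375 8 [3, 1, 2, 2, 1, 2, 2, 1, 3, 1, 3, 3, 1, 3, 3, 1, 2, 1, 3, 1, 4, 5, 4, 5, 5, 5, 4, 6, 4, 5, 4, 6, 4, 5, 4, 6, 6, 2, 2, 1, 3, 1, 2, 2, 1])))) (.node 5021 (.node 5019 (.leaf 378 22 [2, 1, 2, 1, 3, 3, 4, 6, 4, 5, 5, 5, 4, 6, 6, 6, 4, 5, 4, 6, 3, 3, 1, 3, 3, 1, 3, 3, 1, 3, 1, 2, 1, 2, 1, 3, 1, 3, 3, 1, 2, 1]) (.node 5020 (.leaf 382 22 [3, 1, 3, 1, 2, 1, 4, 5, 5, 5, 5, 4, 6, 4, 5, 5, 4, 6, 1, 3, 1, 2, 2, 1, 3, 1, 2, 1, 3, 1, 2, 2, 1, 3, 3, 1, 3, 3, 1, 3]) (.leaf 386 16 [2, 1, 3, 1, 3, 3, 1, 2, 2, 1, 2, 2, 4, 5, 4, 6, 4, 5, 4, 6, 4, 5, 4, 6, 4, 5, 5, 4, 2, 2, 1, 2, 2, 1, 2, 2, 1, 3, 3, 1, 2, 1, 2, 1]))) (.node 5022 (.leaf 393 25 [3, 1, 3, 1, 4, 6, 4, 5, 5, 5, 4, 6, 4, 5, 5, 5, 4, 6, 4, 5, 1, 3, 3, 1, 3, 1, 3, 1, 3, 1, 3, 3, 1, 3, 1, 3, 1, 2, 1, 3, 1, 3, 3, 1, 3]) (.node 5023 (.leaf 20 23 [5, 4, 6, 6, 4, 5, 4, 6, 6, 6, 4, 2, 2, 1, 3, 1, 3, 1, 3, 3, 1, 2, 2, 1, 3, 1, 2, 2, 1, 3, 3, 1, 3, 4]) (.leaf 104 30 [6, 4, 5, 5, 4, 6, 4, 1, 3, 1, 2, 1, 2, 1, 3, 1, 3, 3, 1, 2, 2, 1, 3, 3, 1, 3, 1, 2, 2, 1, 2, 1, 6, 6, 4, 5, 4]))))))) (.node 5046 (.node 5035 (.node 5029 (.node 5026 (.node 5025 (.leaf 171 21 [1, 2, 2, 1, 2, 1, 4, 5, 5, 5, 4, 6, 4, 5, 4, 6, 4, 5, 4, 6, 6, 1, 3, 1, 3, 3, 1, 3, 3, 1, 2, 1, 3, 3, 1, 2, 2, 1, 3, 1, 2, 2]) (.leaf 388 20 [1, 3, 1, 3, 1, 3, 3, 1, 5, 4, 6, 4, 5, 4, 6, 4, 5, 5, 4, 6, 4, 1, 3, 3, 1, 3, 1, 3, 3, 1, 2, 1, 2, 1, 2, 1, 3, 1, 3, 1, 3])) (.node 5027 (.leaf 170 0 [1, 2, 1, 2, 1, 3, 1, 3, 1, 3, 3, 1, 3, 1, 2, 1, 2, 2, 1, 2, 2, 1, 3, 3, 1, 2, 2, 5, 5, 4, 6, 4, 5, 4, 6, 6, 4, 5, 4, 5]) (.node 5028 (.leaf 218 29 [4, 5, 5, 5, 4, 6, 4, 5, 4, 6, 6, 4, 5, 4, 2, 2, 1, 3, 1, 3, 1, 2, 2, 1, 3, 1, 3, 1, 2, 1, 2, 2, 1, 2, 2, 1, 2, 1, 2, 1, 3, 4, 6]) (.leaf 273 30 [5, 5, 4, 6, 4, 5, 5, 5, 4, 6, 6, 1, 3, 3, 1, 2, 1, 3, 1, 2, 1, 3, 1, 2, 1, 2, 2, 1, 2, 1, 2, 1, 2, 2, 1, 2, 1, 2, 2, 5, 5])))) (.node 5032 (.node 5030 (.leaf 301 24 [3, 3, 1, 3, 5, 4, 6, 4, 5, 4, 6, 4, 5, 4, 6, 6, 4, 5, 5, 1, 3, 1, 3, 1, 3, 1, 2, 1, 3, 1, 2, 2, 1, 2, 2, 1, 3, 1, 3, 3, 1, 2, 1]) (.node 5031 (.leaf 327 2 [1, 2, 1, 2, 2, 1, 2, 1, 3, 1, 2, 1, 3, 3, 1, 2, 1, 2, 1, 3, 1, 2, 2, 1, 3, 1, 4, 6, 4, 5, 5, 5, 5, 4, 6, 4, 5, 5, 5, 4, 6, 4, 2, 2]) (.leaf 18 19 [1, 3, 6, 6, 6, 4, 5, 5, 5, 4, 2, 1, 3, 1, 2, 2, 1, 3, 1, 3, 1, 3, 1, 2, 1, 2, 2, 1, 3]))) (.node 5033 (.leaf 32 4 [3, 1, 2, 2, 1, 3, 3, 1, 2, 2, 1, 2, 1, 2, 1, 2, 1, 3, 1, 4, 6, 4, 5, 5, 5, 4, 6, 6, 4, 5, 4, 1, 3, 3, 1]) (.node 5034 (.leaf 53 4 [2, 1, 2, 2, 1, 2, 1, 2, 2, 1, 3, 1, 3, 1, 2, 1, 3, 3, 1, 3, 5, 4, 5, 5, 5, 4, 6, 6, 4, 5, 4, 1, 2, 2, 1]) (.leaf 60 30 [5, 4, 6, 4, 5, 5, 5, 4, 6, 4, 5, 5, 1, 3, 1, 3, 1, 2, 2, 1, 3, 3, 1, 2, 1, 2, 2, 1, 2, 2, 1, 2, 2, 1, 2, 1, 4, 5, 4, 5, 5, 5]))))) (.node 5040 (.node 5037 (.node 5036 (.leaf 100 15 [2, 2, 1, 2, 1, 3, 3, 1, 2, 1, 5, 4, 5, 5, 5, 4, 6, 6, 4, 5, 5, 2, 1, 2, 1, 2, 1, 3, 3, 1, 3, 3, 1, 2, 2, 1]) (.leaf 119 4 [3, 1, 2, 2, 1, 2, 1, 2, 2, 1, 3, 3, 1, 3, 1, 3, 1, 3, 1, 3, 3, 1, 4, 6, 6, 4, 5, 5, 5, 4, 5, 1, 3, 3, 1])) (.node 5038 (.leaf 127 33 [4, 5, 5, 5, 4, 6, 4, 5, 5, 5, 3, 3, 1, 3, 1, 2, 2, 1, 3, 1, 2, 1, 2, 2, 1, 2, 1, 3, 1, 2, 1, 2, 2, 1, 2, 1, 4, 6, 4, 5, 5, 4, 6]) (.node 5039 (.leaf 137 29 [5, 4, 6, 6, 4, 5, 4, 6, 4, 5, 5, 5, 4, 1, 3, 3, 1, 2, 2, 1, 3, 1, 3, 1, 3, 3, 1, 3, 3, 1, 2, 2, 1, 2, 2, 1, 3, 1, 3, 6, 6, 4]) (.leaf 140 39 [5, 4, 6, 1, 2, 1, 3, 1, 3, 1, 3, 3, 1, 3, 1, 2, 2, 1, 2, 1, 3, 1, 3, 3, 1, 2, 2, 1, 3, 5, 4, 5, 5, 5, 4, 6, 4, 5, 5, 4, 6, 4])))) (.node 5043 (.node 5041 (.leaf 150 36 [5, 4, 6, 6, 4, 5, 1, 2, 1, 3, 1, 2, 1, 2, 2, 1, 2, 2, 1, 2, 1, 2, 2, 1, 2, 1, 3, 3, 1, 2, 1, 3, 4, 6, 6, 4, 5, 4, 6, 6, 6, 4]) (.node 5042 (.leaf 154 7 [2, 1, 2, 1, 2, 1, 2, 2, 1, 3, 1, 3, 1, 2, 1, 3, 1, 2, 2, 4, 5, 4, 5, 5, 5, 4, 6, 4, 5, 5, 5, 4, 6, 6, 6, 2, 1, 2, 2, 1, 3, 1]) (.leaf 163 28 [6, 6, 4, 5, 5, 4, 6, 4, 5, 5, 5, 4, 6, 4, 5, 3, 3, 1, 3, 3, 1, 3, 1, 2, 1, 2, 1, 2, 2, 1, 3, 1, 3, 1, 2, 1, 2, 1, 3, 3, 1, 3, 4]))) (.node 5044 (.leaf 171 19 [2, 2, 1, 2, 2, 1, 2, 1, 4, 5, 5, 5, 4, 6, 4, 5, 4, 6, 4, 5, 4, 6, 6, 1, 3, 1, 3, 3, 1, 3, 3, 1, 2, 1, 3, 3, 1, 2, 2, 1, 3, 1]) (.node 5045 (.leaf 175 27 [6, 6, 4, 5, 5, 5, 4, 6, 6, 6, 4, 5, 5, 1, 3, 1, 3, 1, 2, 2, 1, 3, 1, 2, 1, 3, 1, 3, 3, 1, 3, 1, 3, 1, 2, 1, 3, 1, 2, 2]) (.leaf 193 14 [1, 2, 1, 2, 1, 3, 1, 3, 3, 1, 2, 2, 1, 4, 6, 4, 5, 4, 6, 6, 4, 5, 5, 5, 4, 1, 2, 1, 3, 3, 1, 3, 3, 1, 3, 1, 2, 1, 2])))))) (.node 5057 (.node 5051 (.node 5048 (.node 5047 (.leaf 193 27 [4, 6, 4, 5, 4, 6, 6, 4, 5, 5, 5, 4, 1, 2, 1, 3, 3, 1, 3, 3, 1, 3, 1, 2, 1, 2, 1, 2, 1, 2, 1, 3, 1, 3, 3, 1, 2, 2, 1]) (.leaf 194 38 [6, 6, 6, 4, 5, 1, 3, 1, 2, 1, 2, 2, 1, 3, 1, 3, 1, 2, 1, 3, 3, 1, 2, 1, 2, 1, 3, 3, 1, 3, 1, 3, 5, 4, 6, 4, 5, 4, 6, 6, 4, 5, 4])) (.node 5049 (.leaf 196 12 [2, 2, 1, 3, 1, 2, 1, 2, 2, 1, 2, 1, 2, 1, 3, 5, 4, 5, 5, 5, 4, 6, 4, 5, 5, 4, 6, 3, 3, 1, 2, 1, 3, 1, 2, 1, 3, 3, 1]) (.node 5050 (.leaf 196 16 [1, 2, 1, 2, 2, 1, 2, 1, 2, 1, 3, 5, 4, 5, 5, 5, 4, 6, 4, 5, 5, 4, 6, 3, 3, 1, 2, 1, 3, 1, 2, 1, 3, 3, 1, 2, 2, 1, 3]) (.leaf 200 17 [1, 2, 1, 3, 3, 1, 3, 3, 1, 3, 5, 4, 6, 4, 5, 5, 5, 4, 6, 4, 5, 5, 4, 1, 2, 2, 1, 3, 1, 3, 1, 2, 2, 1, 2, 1, 2, 2, 1, 2])))) (.node 5054 (.node 5052 (.leaf 202 8 [2, 2, 1, 2, 2, 1, 3, 3, 1, 2, 1, 2, 2, 1, 2, 1, 2, 2, 1, 5, 5, 5, 5, 4, 6, 4, 5, 5, 5, 4, 6, 4, 5, 5, 5, 1, 3, 1, 2, 2, 1, 2, 1]) (.node 5053 (.leaf 204 42 [5, 1, 2, 1, 3, 1, 2, 1, 2, 2, 1, 2, 1, 2, 1, 3, 1, 3, 1, 3, 1, 3, 1, 2, 1, 2, 1, 3, 5, 5, 4, 6, 4, 5, 4, 6, 4, 5, 4, 6, 4, 5, 5]) (.leaf 207 27 [4, 6, 4, 5, 5, 4, 6, 4, 5, 5, 5, 4, 6, 4, 5, 5, 5, 2, 2, 1, 2, 1, 3, 1, 2, 1, 2, 1, 3, 1, 2, 2, 1, 3, 3, 1, 3, 1, 3, 1, 2, 1, 2, 1]))) (.node 5055 (.leaf 211 3 [2, 1, 3, 3, 1, 3, 1, 2, 1, 2, 2, 1, 2, 2, 1, 2, 2, 1, 2, 1, 2, 1, 3, 1, 5, 5, 4, 6, 4, 5, 5, 4, 6, 4, 5, 4, 6, 4, 5, 1, 3, 1]) (.node 5056 (.leaf 214 24 [1, 2, 1, 6, 4, 5, 5, 5, 4, 6, 6, 6, 4, 5, 5, 5, 1, 3, 1, 3, 3, 1, 2, 1, 3, 3, 1, 2, 1, 2, 1, 3, 3, 1, 3, 3, 1, 2, 1, 3]) (.leaf 214 31 [5, 4, 6, 6, 6, 4, 5, 5, 5, 1, 3, 1, 3, 3, 1, 2, 1, 3, 3, 1, 2, 1, 2, 1, 3, 3, 1, 3, 3, 1, 2, 1, 3, 1, 2, 1, 6, 4, 5, 5]))))) (.node 5062 (.node 5059 (.node 5058 (.leaf 217 27 [4, 5, 5, 5, 4, 6, 4, 5, 4, 6, 4, 5, 4, 6, 4, 5, 1, 2, 1, 3, 1, 2, 2, 1, 3, 1, 3, 3, 1, 2, 1, 3, 1, 3, 1, 3, 1, 3, 1, 2, 1, 2, 2]) (.leaf 220 4 [1, 3, 3, 1, 2, 1, 2, 2, 1, 2, 1, 2, 1, 2, 1, 2, 2, 1, 2, 1, 3, 1, 3, 4, 6, 4, 5, 5, 5, 4, 6, 4, 5, 5, 4, 6, 6, 4, 5, 3, 3, 1, 2])) (.node 5060 (.leaf 221 17 [2, 2, 1, 3, 1, 2, 2, 1, 3, 1, 4, 6, 4, 5, 5, 5, 4, 6, 6, 6, 4, 5, 5, 2, 1, 2, 1, 2, 1, 3, 3, 1, 2, 1, 3, 1, 2, 1, 3, 1]) (.node 5061 (.leaf 231 11 [1, 3, 1, 2, 1, 2, 1, 2, 2, 1, 3, 3, 1, 3, 1, 3, 4, 5, 5, 5, 4, 6, 4, 5, 4, 6, 6, 4, 5, 5, 3, 3, 1, 3, 1, 2, 2, 1, 2, 1, 2]) (.leaf 232 18 [1, 2, 2, 1, 3, 1, 3, 3, 1, 6, 6, 4, 5, 5, 5, 4, 6, 6, 6, 4, 5, 5, 5, 1, 3, 1, 3, 3, 1, 2, 1, 3, 1, 2, 2, 1, 2, 1, 3, 1, 2])))) (.node 5065 (.node 5063 (.leaf 234 27 [5, 5, 4, 6, 4, 5, 4, 6, 4, 5, 4, 6, 6, 4, 5, 4, 2, 1, 2, 1, 2, 2, 1, 3, 1, 2, 1, 3, 1, 2, 1, 3, 3, 1, 3, 1, 2, 1, 3, 3, 1, 3, 3]) (.node 5064 (.leaf 234 25 [3, 3, 5, 5, 4, 6, 4, 5, 4, 6, 4, 5, 4, 6, 6, 4, 5, 4, 2, 1, 2, 1, 2, 2, 1, 3, 1, 2, 1, 3, 1, 2, 1, 3, 3, 1, 3, 1, 2, 1, 3, 3, 1]) (.leaf 245 40 [4, 2, 2, 1, 3, 3, 1, 2, 2, 1, 3, 1, 2, 2, 1, 3, 1, 3, 1, 2, 1, 2, 2, 1, 2, 1, 3, 3, 5, 5, 4, 6, 6, 4, 5, 4, 6, 4, 5, 4, 6]))) (.node 5066 (.leaf 247 30 [4, 6, 6, 6, 4, 5, 4, 6, 6, 4, 5, 4, 1, 2, 2, 1, 2, 2, 1, 3, 1, 2, 2, 1, 2, 2, 1, 2, 2, 1, 2, 1, 2, 1, 3, 1, 3, 3, 1, 6, 4, 5]) (.node 5067 (.leaf 248 28 [5, 5, 5, 4, 6, 4, 5, 5, 5, 4, 6, 4, 5, 5, 4, 2, 2, 1, 3, 3, 1, 2, 1, 2, 1, 3, 3, 1, 2, 1, 3, 3, 1, 2, 1, 2, 2, 1, 2, 1, 2, 1, 5]) (.leaf 251 12 [1, 2, 2, 1, 2, 1, 3, 3, 1, 2, 1, 2, 1, 3, 1, 5, 5, 4, 6, 4, 5, 5, 5, 4, 6, 4, 5, 5, 4, 6, 6, 2, 1, 2, 1, 2, 1, 3, 1, 2, 1, 3, 3]))))))))) (.node 5155 (.node 5111 (.node 5089 (.node 5078 (.node 5073 (.node 5070 (.node 5069 (.leaf 252 21 [3, 1, 3, 1, 3, 1, 4, 5, 5, 5, 4, 6, 6, 4, 5, 4, 6, 4, 5, 5, 5, 4, 6, 1, 2, 1, 2, 1, 2, 2, 1, 3, 3, 1, 2, 2, 1, 3, 3, 1, 2, 2, 1, 3]) (.leaf 258 17 [3, 1, 3, 3, 1, 3, 1, 3, 1, 3, 3, 6, 4, 5, 5, 5, 5, 4, 6, 4, 5, 5, 5, 4, 6, 2, 1, 3, 3, 1, 3, 1, 2, 1, 2, 1, 2, 1, 2, 1, 2, 1])) (.node 5071 (.leaf 258 10 [1, 2, 1, 2, 1, 2, 1, 3, 1, 3, 3, 1, 3, 1, 3, 1, 3, 3, 6, 4, 5, 5, 5, 5, 4, 6, 4, 5, 5, 5, 4, 6, 2, 1, 3, 3, 1, 3, 1, 2, 1, 2]) (.node 5072 (.leaf 263 14 [1, 2, 1, 3, 1, 2, 1, 2, 1, 2, 2, 1, 2, 1, 4, 5, 5, 5, 4, 6, 6, 4, 5, 5, 4, 6, 3, 3, 1, 3, 3, 1, 3, 1, 3, 1, 3, 1, 2, 2]) (.leaf 271 6 [1, 2, 1, 3, 1, 2, 1, 2, 1, 3, 1, 2, 1, 2, 2, 1, 3, 1, 2, 1, 3, 1, 4, 5, 4, 6, 4, 5, 4, 6, 4, 5, 4, 6, 6, 4, 5, 4, 2, 2, 1, 2, 1, 2])))) (.node 5075 (.node 5074 (.leaf 274 1 [2, 1, 2, 1, 2, 1, 2, 1, 3, 1, 2, 1, 2, 1, 2, 1, 3, 1, 3, 1, 2, 1, 2, 2, 1, 2, 1, 4, 5, 5, 4, 6, 6, 4, 5, 4, 6, 6, 6, 4, 5, 5, 5, 4, 1]) (.leaf 280 33 [6, 4, 5, 5, 4, 6, 4, 5, 5, 5, 2, 1, 3, 3, 1, 2, 2, 1, 2, 1, 2, 1, 3, 1, 3, 1, 2, 1, 3, 1, 2, 2, 1, 3, 1, 2, 1, 3, 6, 4, 5, 4, 6])) (.node 5076 (.leaf 280 29 [4, 5, 4, 6, 6, 4, 5, 5, 4, 6, 4, 5, 5, 5, 2, 1, 3, 3, 1, 2, 2, 1, 2, 1, 2, 1, 3, 1, 3, 1, 2, 1, 3, 1, 2, 2, 1, 3, 1, 2, 1, 3, 6]) (.node 5077 (.leaf 280 25 [2, 1, 3, 6, 4, 5, 4, 6, 6, 4, 5, 5, 4, 6, 4, 5, 5, 5, 2, 1, 3, 3, 1, 2, 2, 1, 2, 1, 2, 1, 3, 1, 3, 1, 2, 1, 3, 1, 2, 2, 1, 3, 1]) (.leaf 281 42 [6, 4, 2, 1, 3, 3, 1, 3, 3, 1, 3, 3, 1, 3, 3, 1, 2, 1, 3, 3, 1, 2, 2, 1, 2, 1, 3, 1, 3, 1, 6, 6, 4, 5, 5, 4, 6, 4, 5, 5, 5, 4, 6, 6]))))) (.node 5083 (.node 5080 (.node 5079 (.leaf 283 16 [1, 3, 1, 2, 1, 3, 1, 3, 1, 3, 1, 3, 4, 5, 5, 5, 5, 4, 6, 4, 5, 5, 4, 6, 4, 5, 4, 1, 2, 1, 2, 1, 2, 1, 3, 1, 3, 1, 2, 2, 1, 2, 2]) (.leaf 283 8 [1, 3, 1, 2, 2, 1, 2, 2, 1, 3, 1, 2, 1, 3, 1, 3, 1, 3, 1, 3, 4, 5, 5, 5, 5, 4, 6, 4, 5, 5, 4, 6, 4, 5, 4, 1, 2, 1, 2, 1, 2, 1, 3])) (.node 5081 (.leaf 283 19 [2, 1, 3, 1, 3, 1, 3, 1, 3, 4, 5, 5, 5, 5, 4, 6, 4, 5, 5, 4, 6, 4, 5, 4, 1, 2, 1, 2, 1, 2, 1, 3, 1, 3, 1, 2, 2, 1, 2, 2, 1, 3, 1]) (.node 5082 (.leaf 285 40 [4, 5, 4, 6, 6, 1, 3, 1, 3, 3, 1, 3, 1, 2, 1, 2, 2, 1, 2, 2, 1, 3, 3, 1, 2, 2, 1, 3, 1, 2, 1, 3, 1, 4, 5, 5, 5, 4, 6, 4, 5, 5, 4, 6, 6]) (.leaf 285 22 [3, 1, 2, 1, 3, 1, 4, 5, 5, 5, 4, 6, 4, 5, 5, 4, 6, 6, 4, 5, 4, 6, 6, 1, 3, 1, 3, 3, 1, 3, 1, 2, 1, 2, 2, 1, 2, 2, 1, 3, 3, 1, 2, 2, 1])))) (.node 5086 (.node 5084 (.leaf 286 6 [3, 1, 2, 1, 2, 1, 2, 1, 2, 1, 3, 3, 1, 3, 3, 1, 3, 1, 3, 1, 3, 1, 5, 4, 6, 4, 5, 4, 6, 4, 5, 4, 6, 4, 5, 4, 2, 2, 1, 3, 3, 1]) (.node 5085 (.leaf 287 41 [6, 4, 5, 2, 1, 3, 1, 3, 1, 3, 1, 3, 3, 1, 2, 1, 2, 1, 2, 1, 3, 1, 3, 3, 1, 2, 1, 3, 1, 2, 2, 4, 6, 4, 5, 5, 4, 6, 6, 4, 5, 4, 6, 6]) (.leaf 287 16 [1, 3, 1, 3, 3, 1, 2, 1, 3, 1, 2, 2, 4, 6, 4, 5, 5, 4, 6, 6, 4, 5, 4, 6, 6, 6, 4, 5, 2, 1, 3, 1, 3, 1, 3, 1, 3, 3, 1, 2, 1, 2, 1, 2]))) (.node 5087 (.leaf 287 21 [1, 2, 1, 3, 1, 2, 2, 4, 6, 4, 5, 5, 4, 6, 6, 4, 5, 4, 6, 6, 6, 4, 5, 2, 1, 3, 1, 3, 1, 3, 1, 3, 3, 1, 2, 1, 2, 1, 2, 1, 3, 1, 3, 3]) (.node 5088 (.leaf 291 19 [2, 1, 3, 1, 3, 3, 1, 2, 1, 4, 6, 4, 6, 6, 6, 4, 5, 4, 6, 6, 4, 5, 4, 5, 3, 3, 1, 3, 3, 1, 3, 1, 3, 3, 1, 3, 3, 1, 3, 1, 2, 2, 1]) (.leaf 292 11 [3, 1, 3, 1, 3, 1, 2, 2, 1, 3, 1, 2, 1, 3, 3, 1, 3, 5, 5, 4, 6, 4, 5, 5, 5, 4, 6, 6, 6, 4, 5, 5, 5, 1, 2, 1, 3, 1, 2, 2, 1, 2, 1, 3])))))) (.node 5100 (.node 5094 (.node 5091 (.node 5090 (.leaf 292 5 [2, 2, 1, 2, 1, 3, 3, 1, 3, 1, 3, 1, 2, 2, 1, 3, 1, 2, 1, 3, 3, 1, 3, 5, 5, 4, 6, 4, 5, 5, 5, 4, 6, 6, 6, 4, 5, 5, 5, 1, 2, 1, 3, 1]) (.leaf 293 9 [1, 2, 2, 1, 3, 1, 3, 3, 1, 3, 1, 3, 1, 2, 1, 3, 1, 3, 3, 6, 6, 4, 5, 4, 6, 6, 6, 4, 5, 4, 6, 6, 4, 5, 1, 3, 3, 1, 3, 1, 2, 1, 3])) (.node 5092 (.leaf 298 22 [1, 2, 1, 3, 3, 1, 4, 5, 5, 5, 4, 6, 6, 4, 5, 1, 3, 3, 1, 3, 1, 3, 3, 1, 3, 3, 1, 2, 1, 3, 3, 1, 2, 1, 3, 1, 3]) (.node 5093 (.leaf 299 10 [2, 2, 1, 2, 2, 1, 3, 1, 2, 1, 3, 1, 2, 1, 2, 1, 2, 2, 6, 6, 4, 5, 4, 6, 4, 5, 5, 5, 4, 5, 1, 3, 1, 2, 1, 3, 1, 3, 3, 1]) (.leaf 300 3 [3, 3, 1, 2, 2, 1, 2, 1, 3, 3, 1, 2, 1, 3, 3, 1, 3, 1, 2, 1, 3, 3, 1, 3, 1, 5, 5, 5, 4, 6, 6, 6, 4, 5, 4, 6, 6, 4, 5, 5, 1, 3, 1])))) (.node 5097 (.node 5095 (.leaf 303 19 [3, 1, 3, 1, 3, 3, 1, 2, 1, 6, 6, 6, 4, 5, 5, 5, 4, 6, 4, 5, 2, 1, 3, 3, 1, 3, 1, 3, 1, 3, 1, 2, 1, 2, 2, 1, 3, 3, 1]) (.node 5096 (.leaf 306 37 [4, 6, 6, 4, 5, 5, 1, 2, 1, 2, 1, 3, 3, 1, 2, 1, 2, 1, 2, 1, 2, 1, 2, 1, 2, 1, 2, 1, 3, 1, 2, 2, 1, 3, 5, 5, 5, 5, 4, 6, 4, 5, 5]) (.leaf 309 6 [3, 1, 2, 1, 2, 2, 1, 2, 1, 2, 2, 1, 3, 3, 1, 2, 2, 1, 3, 3, 1, 3, 6, 4, 5, 4, 6, 4, 5, 4, 6, 6, 6, 4, 6, 3, 3, 1, 2, 2, 1]))) (.node 5098 (.leaf 310 17 [1, 2, 1, 3, 3, 1, 3, 1, 2, 2, 1, 5, 4, 5, 5, 5, 4, 6, 4, 5, 4, 6, 6, 4, 5, 2, 1, 3, 1, 3, 1, 2, 1, 2, 1, 3, 1, 3, 1, 2, 1, 2]) (.node 5099 (.leaf 311 12 [1, 2, 2, 1, 2, 1, 2, 2, 1, 3, 3, 1, 2, 1, 2, 2, 5, 4, 5, 5, 5, 4, 6, 4, 5, 5, 4, 2, 1, 3, 1, 2, 1, 3, 1, 2, 1, 3, 3]) (.leaf 312 27 [3, 5, 4, 6, 4, 5, 4, 6, 4, 5, 5, 4, 6, 4, 2, 1, 2, 1, 3, 3, 1, 3, 3, 1, 3, 1, 2, 2, 1, 2, 1, 2, 1, 2, 2, 1, 3, 1, 2, 2, 1]))))) (.node 5105 (.node 5102 (.node 5101 (.leaf 313 5 [1, 3, 1, 2, 2, 1, 3, 3, 1, 3, 1, 3, 3, 1, 3, 1, 2, 2, 1, 3, 1, 3, 1, 5, 5, 5, 4, 6, 4, 5, 5, 4, 6, 6, 4, 5, 3, 3, 1, 2, 2]) (.leaf 317 25 [3, 1, 3, 4, 6, 6, 4, 5, 4, 6, 6, 6, 4, 5, 5, 1, 3, 1, 2, 1, 2, 1, 2, 1, 3, 3, 1, 3, 1, 2, 1, 3, 3, 1, 2, 1, 2, 2, 1, 3])) (.node 5103 (.leaf 318 9 [3, 1, 3, 3, 1, 2, 1, 3, 3, 1, 3, 1, 2, 1, 2, 2, 1, 3, 1, 4, 5, 4, 6, 6, 4, 5, 4, 6, 4, 5, 5, 4, 6, 2, 1, 3, 1, 2, 1, 2, 2, 1]) (.node 5104 (.leaf 319 27 [3, 4, 6, 6, 6, 4, 5, 5, 5, 4, 6, 4, 5, 5, 4, 6, 6, 1, 2, 2, 1, 3, 1, 2, 1, 3, 1, 2, 1, 3, 3, 1, 3, 1, 2, 2, 1, 3, 1, 2, 1, 3, 1, 3]) (.leaf 323 7 [3, 1, 3, 3, 1, 3, 1, 2, 1, 3, 1, 2, 1, 3, 1, 3, 1, 3, 1, 3, 3, 6, 6, 4, 5, 4, 6, 4, 5, 4, 6, 4, 5, 4, 6, 1, 3, 3, 1, 2, 1, 3])))) (.node 5108 (.node 5106 (.leaf 324 20 [2, 1, 2, 1, 2, 1, 2, 2, 5, 5, 5, 5, 4, 6, 4, 5, 5, 5, 4, 2, 2, 1, 2, 2, 1, 2, 1, 2, 1, 2, 2, 1, 3, 1, 3, 1, 3, 1, 2]) (.node 5107 (.leaf 334 23 [2, 1, 3, 1, 3, 4, 5, 5, 4, 6, 4, 5, 4, 6, 4, 5, 4, 3, 3, 1, 2, 1, 2, 1, 2, 1, 3, 3, 1, 2, 2, 1, 3, 3, 1, 2, 1, 2, 1, 2]) (.leaf 337 23 [3, 3, 1, 3, 1, 5, 5, 4, 6, 4, 5, 4, 6, 4, 5, 5, 4, 6, 4, 5, 3, 3, 1, 2, 2, 1, 2, 1, 3, 1, 2, 2, 1, 2, 1, 2, 1, 2, 2, 1, 3, 3, 1]))) (.node 5109 (.leaf 343 19 [3, 1, 3, 3, 1, 3, 3, 1, 3, 6, 6, 6, 4, 5, 5, 5, 4, 6, 6, 6, 4, 5, 5, 5, 1, 2, 1, 2, 2, 1, 3, 3, 1, 2, 1, 2, 1, 2, 2, 1, 2, 1, 3]) (.node 5110 (.leaf 343 20 [1, 3, 3, 1, 3, 3, 1, 3, 6, 6, 6, 4, 5, 5, 5, 4, 6, 6, 6, 4, 5, 5, 5, 1, 2, 1, 2, 2, 1, 3, 3, 1, 2, 1, 2, 1, 2, 2, 1, 2, 1, 3, 3]) (.leaf 350 41 [6, 6, 2, 2, 1, 2, 1, 2, 1, 2, 2, 1, 3, 1, 2, 1, 2, 1, 3, 1, 3, 1, 2, 1, 2, 1, 2, 1, 3, 1, 5, 5, 5, 4, 6, 6, 6, 4, 5, 5, 5, 4, 6]))))))) (.node 5133 (.node 5122 (.node 5116 (.node 5113 (.node 5112 (.leaf 351 10 [1, 3, 1, 2, 1, 3, 3, 1, 3, 3, 1, 2, 1, 2, 2, 1, 3, 1, 5, 5, 5, 4, 6, 4, 5, 4, 6, 4, 5, 4, 2, 2, 1, 3, 3, 1, 3, 3, 1, 2]) (.leaf 357 20 [2, 1, 2, 2, 1, 2, 1, 3, 6, 6, 6, 4, 5, 4, 6, 6, 6, 4, 5, 4, 6, 6, 4, 5, 2, 1, 2, 2, 1, 2, 1, 3, 1, 2, 2, 1, 2, 2, 1, 2, 2, 1, 3, 1])) (.node 5114 (.leaf 363 23 [2, 1, 3, 1, 3, 4, 6, 6, 4, 5, 4, 6, 4, 5, 4, 6, 4, 5, 4, 6, 4, 1, 3, 1, 3, 3, 1, 2, 2, 1, 2, 2, 1, 3, 3, 1, 3, 3, 1, 3, 1, 3, 3, 1]) (.node 5115 (.leaf 368 3 [3, 3, 1, 3, 3, 1, 2, 1, 3, 3, 1, 2, 2, 1, 3, 3, 1, 3, 1, 2, 1, 2, 1, 2, 2, 4, 5, 5, 5, 4, 6, 6, 6, 4, 5, 5, 5, 4, 6, 2, 2, 1]) (.leaf 373 14 [3, 1, 2, 2, 1, 2, 2, 1, 3, 3, 1, 3, 3, 1, 4, 6, 6, 6, 4, 5, 5, 5, 4, 6, 4, 5, 5, 5, 4, 1, 3, 3, 1, 3, 1, 3, 1, 3, 1, 2, 1, 2, 1])))) (.node 5119 (.node 5117 (.leaf 373 11 [1, 2, 1, 3, 1, 2, 2, 1, 2, 2, 1, 3, 3, 1, 3, 3, 1, 4, 6, 6, 6, 4, 5, 5, 5, 4, 6, 4, 5, 5, 5, 4, 1, 3, 3, 1, 3, 1, 3, 1, 3, 1, 2]) (.node 5118 (.leaf 374 8 [2, 1, 3, 1, 2, 1, 2, 2, 1, 3, 3, 1, 3, 3, 1, 2, 2, 1, 3, 1, 4, 5, 4, 6, 6, 4, 5, 4, 6, 4, 5, 4, 6, 6, 4, 5, 2, 1, 3, 1, 2, 1, 2, 1]) (.leaf 377 13 [1, 2, 1, 2, 2, 1, 2, 1, 3, 1, 2, 1, 2, 2, 1, 5, 4, 6, 6, 4, 5, 4, 6, 4, 5, 5, 4, 6, 6, 1, 2, 2, 1, 3, 1, 2, 1, 3, 3, 1, 3, 3]))) (.node 5120 (.leaf 377 11 [3, 3, 1, 2, 1, 2, 2, 1, 2, 1, 3, 1, 2, 1, 2, 2, 1, 5, 4, 6, 6, 4, 5, 4, 6, 4, 5, 5, 4, 6, 6, 1, 2, 2, 1, 3, 1, 2, 1, 3, 3, 1]) (.node 5121 (.leaf 381 20 [2, 1, 2, 1, 3, 1, 3, 3, 4, 5, 5, 4, 6, 4, 5, 5, 4, 6, 6, 4, 2, 2, 1, 2, 1, 2, 1, 3, 1, 3, 3, 1, 3, 1, 2, 1, 3, 3, 1, 2]) (.leaf 382 20 [1, 3, 3, 1, 3, 1, 2, 1, 4, 5, 5, 5, 5, 4, 6, 4, 5, 5, 4, 6, 1, 3, 1, 2, 2, 1, 3, 1, 2, 1, 3, 1, 2, 2, 1, 3, 3, 1, 3, 3]))))) (.node 5127 (.node 5124 (.node 5123 (.leaf 383 6 [2, 1, 2, 2, 1, 3, 1, 2, 2, 1, 2, 1, 2, 1, 2, 1, 2, 1, 2, 1, 2, 1, 6, 4, 5, 5, 5, 5, 4, 6, 6, 6, 4, 5, 4, 6, 3, 3, 1, 2, 2, 1]) (.leaf 384 11 [1, 2, 1, 3, 1, 2, 1, 2, 1, 3, 3, 1, 3, 1, 2, 2, 1, 6, 6, 6, 4, 5, 5, 5, 4, 6, 4, 2, 1, 3, 1, 2, 1, 3, 1, 2, 1, 3])) (.node 5125 (.leaf 386 10 [3, 1, 2, 1, 2, 1, 2, 1, 3, 1, 3, 3, 1, 2, 2, 1, 2, 2, 4, 5, 4, 6, 4, 5, 4, 6, 4, 5, 4, 6, 4, 5, 5, 4, 2, 2, 1, 2, 2, 1, 2, 2, 1, 3]) (.node 5126 (.leaf 391 2 [3, 1, 2, 1, 3, 1, 3, 3, 1, 3, 1, 2, 1, 3, 1, 3, 3, 1, 2, 1, 2, 2, 1, 3, 1, 2, 1, 5, 5, 4, 6, 6, 6, 4, 5, 4, 6, 6, 4, 5, 5, 4, 6, 6, 1, 3]) (.leaf 392 13 [2, 1, 3, 3, 1, 2, 1, 3, 1, 3, 3, 1, 3, 3, 1, 3, 6, 6, 4, 5, 5, 5, 4, 6, 6, 6, 4, 5, 5, 2, 1, 2, 2, 1, 2, 2, 1, 2, 1, 3, 1, 2])))) (.node 5130 (.node 5128 (.leaf 395 18 [2, 1, 2, 1, 2, 2, 1, 2, 1, 3, 3, 6, 6, 6, 4, 5, 5, 5, 4, 6, 4, 5, 5, 4, 6, 4, 1, 3, 1, 3, 1, 2, 1, 3, 3, 1, 3, 1, 3, 3, 1, 2, 1, 2]) (.node 5129 (.leaf 396 27 [2, 2, 4, 5, 5, 5, 4, 6, 4, 5, 5, 5, 4, 6, 4, 5, 5, 4, 6, 4, 1, 2, 1, 2, 1, 2, 1, 3, 1, 2, 1, 2, 1, 3, 1, 3, 1, 2, 1, 3, 3, 1, 2, 2, 1, 3, 1]) (.leaf 11 18 [4, 6, 4, 5, 5, 5, 4, 6, 4, 5, 5, 4, 6, 6, 4, 5, 2, 2, 1, 3, 1, 2, 1, 2, 2, 1, 2, 2, 1, 2, 2, 1, 5, 5]))) (.node 5131 (.leaf 12 6 [2, 1, 2, 2, 1, 3, 3, 1, 2, 1, 3, 4, 6, 6, 4, 5, 4, 6, 6, 6, 4, 5, 4, 6, 6, 3, 3, 1, 2, 1, 2]) (.node 5132 (.leaf 12 15 [1, 3, 4, 6, 6, 4, 5, 4, 6, 6, 6, 4, 5, 4, 6, 6, 3, 3, 1, 2, 1, 2, 2, 1, 2, 2, 1, 3, 3, 1, 2]) (.leaf 16 15 [1, 2, 2, 1, 6, 4, 5, 4, 6, 6, 4, 5, 4, 6, 4, 5, 4, 6, 6, 1, 2, 1, 3, 1, 2, 1, 3, 1, 2, 2, 1, 2, 1, 2])))))) (.node 5144 (.node 5138 (.node 5135 (.node 5134 (.leaf 20 20 [1, 3, 4, 5, 4, 6, 6, 4, 5, 4, 6, 6, 6, 4, 2, 2, 1, 3, 1, 3, 1, 3, 3, 1, 2, 2, 1, 3, 1, 2, 2, 1, 3, 3]) (.leaf 29 20 [2, 1, 4, 5, 4, 6, 6, 4, 5, 4, 6, 4, 5, 4, 6, 6, 4, 1, 3, 1, 2, 1, 3, 3, 1, 2, 1, 3, 1, 2, 2, 1, 3, 1, 3, 3, 1])) (.node 5136 (.leaf 48 5 [1, 3, 1, 3, 1, 2, 2, 1, 2, 2, 1, 2, 1, 2, 2, 1, 3, 1, 4, 6, 6, 6, 4, 5, 5, 5, 4, 6, 4, 5, 5, 4, 6, 6, 1, 3, 3, 1, 2]) (.node 5137 (.leaf 48 9 [1, 2, 2, 1, 2, 2, 1, 2, 1, 2, 2, 1, 3, 1, 4, 6, 6, 6, 4, 5, 5, 5, 4, 6, 4, 5, 5, 4, 6, 6, 1, 3, 3, 1, 2, 1, 3, 1, 3]) (.leaf 67 10 [3, 1, 2, 1, 2, 1, 3, 3, 1, 3, 3, 1, 3, 3, 4, 6, 6, 6, 4, 5, 4, 6, 6, 6, 4, 5, 4, 6, 6, 4, 5, 4, 1, 2, 1, 3, 3, 1, 3, 1, 3, 1])))) (.node 5141 (.node 5139 (.leaf 73 13 [3, 1, 3, 3, 1, 2, 1, 3, 3, 1, 3, 3, 4, 6, 6, 6, 4, 5, 4, 6, 6, 6, 4, 5, 4, 6, 6, 4, 2, 2, 1, 2, 1, 3, 3, 1, 3, 3, 1, 3, 1]) (.node 5140 (.leaf 73 7 [1, 3, 3, 1, 3, 1, 3, 1, 3, 3, 1, 2, 1, 3, 3, 1, 3, 3, 4, 6, 6, 6, 4, 5, 4, 6, 6, 6, 4, 5, 4, 6, 6, 4, 2, 2, 1, 2, 1, 3, 3]) (.leaf 76 9 [3, 3, 1, 2, 2, 1, 3, 1, 2, 2, 1, 2, 2, 1, 2, 2, 6, 4, 5, 4, 6, 6, 4, 5, 5, 4, 6, 1, 2, 1, 3, 1, 2, 1, 2, 1]))) (.node 5142 (.leaf 78 3 [3, 1, 3, 1, 2, 2, 1, 2, 2, 1, 2, 1, 2, 2, 1, 3, 1, 2, 1, 2, 2, 1, 5, 5, 4, 6, 6, 4, 5, 4, 6, 6, 6, 4, 5, 5, 5, 4, 2, 2, 1]) (.node 5143 (.leaf 89 5 [3, 3, 1, 3, 3, 1, 3, 1, 3, 1, 2, 2, 1, 2, 1, 2, 1, 3, 1, 3, 6, 6, 4, 5, 5, 5, 4, 6, 4, 5, 5, 5, 4, 6, 6, 6, 1, 3, 1, 3, 1]) (.leaf 90 9 [2, 1, 2, 1, 2, 2, 1, 3, 1, 3, 1, 2, 1, 2, 2, 1, 6, 6, 4, 5, 4, 6, 6, 4, 5, 5, 4, 6, 4, 5, 1, 2, 2, 1, 2, 1, 3, 1, 2]))))) (.node 5149 (.node 5146 (.node 5145 (.leaf 91 7 [3, 1, 3, 1, 2, 2, 1, 2, 2, 1, 3, 3, 1, 2, 2, 1, 2, 2, 4, 6, 4, 5, 5, 5, 4, 6, 4, 5, 5, 4, 6, 4, 5, 3, 3, 1, 2, 1, 2, 1]) (.leaf 91 21 [2, 1, 2, 2, 4, 6, 4, 5, 5, 5, 4, 6, 4, 5, 5, 4, 6, 4, 5, 3, 3, 1, 2, 1, 2, 1, 3, 1, 3, 1, 2, 2, 1, 2, 2, 1, 3, 3, 1, 2])) (.node 5147 (.leaf 93 10 [3, 1, 2, 1, 2, 1, 2, 1, 3, 3, 1, 2, 1, 2, 2, 5, 5, 5, 4, 6, 4, 5, 4, 6, 4, 5, 4, 6, 6, 6, 2, 1, 2, 2, 1, 2, 1, 3, 3, 1]) (.node 5148 (.leaf 93 11 [1, 2, 1, 2, 1, 2, 1, 3, 3, 1, 2, 1, 2, 2, 5, 5, 5, 4, 6, 4, 5, 4, 6, 4, 5, 4, 6, 6, 6, 2, 1, 2, 2, 1, 2, 1, 3, 3, 1, 3]) (.leaf 98 1 [3, 1, 3, 3, 1, 3, 3, 1, 3, 1, 2, 2, 1, 3, 1, 3, 3, 1, 2, 1, 2, 1, 3, 1, 6, 6, 4, 5, 4, 6, 6, 6, 4, 5, 4, 6, 6, 4, 3])))) (.node 5152 (.node 5150 (.leaf 106 14 [3, 1, 3, 1, 3, 1, 2, 2, 1, 2, 2, 5, 4, 6, 6, 6, 6, 4, 2, 1, 3, 3, 1, 3, 1, 2, 1, 2, 2, 1, 2, 1]) (.node 5151 (.leaf 110 7 [2, 1, 3, 1, 2, 2, 1, 2, 1, 2, 2, 1, 2, 1, 3, 1, 3, 1, 5, 5, 5, 5, 4, 6, 6, 6, 4, 5, 4, 6, 2, 2, 1, 2, 1, 2, 1]) (.leaf 112 10 [3, 1, 2, 2, 1, 3, 1, 2, 1, 2, 1, 2, 2, 1, 3, 3, 4, 6, 6, 4, 5, 4, 6, 6, 4, 5, 5, 4, 6, 4, 1, 2, 2, 1, 2, 1, 2, 1, 3, 1]))) (.node 5153 (.leaf 132 3 [3, 1, 2, 1, 2, 1, 2, 2, 1, 2, 1, 3, 1, 2, 1, 2, 1, 2, 1, 2, 1, 3, 1, 6, 6, 4, 5, 4, 6, 4, 5, 4, 6, 4, 1, 3, 1]) (.node 5154 (.leaf 135 8 [3, 1, 2, 2, 1, 2, 1, 2, 1, 2, 1, 2, 2, 1, 2, 1, 2, 1, 4, 6, 4, 5, 5, 5, 4, 6, 6, 6, 4, 5, 4, 1, 3, 1, 2, 2, 1, 2, 1]) (.leaf 136 18 [2, 2, 1, 3, 3, 1, 3, 3, 4, 5, 4, 6, 6, 4, 5, 5, 4, 6, 4, 5, 5, 5, 4, 6, 6, 2, 1, 2, 1, 3, 1, 2, 1, 3, 3, 1, 2, 1, 2, 1, 2, 2, 1])))))))) (.node 5199 (.node 5177 (.node 5166 (.node 5160 (.node 5157 (.node 5156 (.leaf 139 16 [2, 2, 1, 3, 3, 1, 3, 1, 3, 3, 4, 5, 4, 6, 6, 6, 4, 5, 4, 6, 6, 4, 5, 4, 6, 4, 3, 3, 1, 2, 2, 1, 2, 2, 1, 2, 1, 3, 1, 2, 2, 1]) (.leaf 140 4 [1, 3, 1, 3, 3, 1, 3, 1, 2, 2, 1, 2, 1, 3, 1, 3, 3, 1, 2, 2, 1, 3, 5, 4, 5, 5, 5, 4, 6, 4, 5, 5, 4, 6, 4, 5, 4, 6, 1, 2, 1, 3])) (.node 5158 (.leaf 146 9 [3, 1, 2, 1, 2, 1, 3, 3, 1, 3, 3, 1, 2, 2, 1, 3, 3, 5, 5, 5, 4, 6, 4, 5, 4, 6, 4, 5, 4, 6, 6, 6, 1, 3, 3, 1, 2, 2, 1, 3, 1]) (.node 5159 (.leaf 153 3 [3, 1, 2, 2, 1, 2, 1, 2, 1, 2, 2, 1, 2, 1, 2, 2, 1, 2, 1, 3, 3, 1, 3, 4, 6, 6, 6, 4, 5, 5, 5, 4, 5, 1, 3, 1]) (.leaf 156 11 [2, 1, 2, 2, 1, 3, 1, 3, 1, 2, 1, 3, 3, 1, 3, 3, 5, 5, 4, 6, 6, 6, 4, 5, 4, 6, 6, 4, 5, 5, 4, 6, 4, 1, 2, 1, 2, 1, 3, 3, 1, 3, 3, 1])))) (.node 5163 (.node 5161 (.leaf 158 22 [1, 2, 1, 2, 1, 6, 4, 5, 5, 5, 4, 6, 4, 5, 4, 6, 6, 4, 5, 1, 2, 2, 1, 2, 1, 2, 1, 2, 1, 3, 1, 3, 1, 2, 1, 3, 1, 3, 3, 1, 3]) (.node 5162 (.leaf 159 12 [2, 1, 2, 2, 1, 2, 2, 1, 3, 3, 1, 3, 1, 3, 1, 4, 5, 4, 5, 5, 5, 4, 6, 4, 5, 4, 6, 6, 3, 3, 1, 3, 1, 3, 1, 3, 3, 1, 3, 1]) (.leaf 162 7 [3, 1, 3, 1, 3, 1, 2, 2, 1, 2, 2, 1, 2, 1, 2, 1, 3, 1, 2, 2, 5, 4, 5, 5, 5, 4, 6, 4, 5, 5, 4, 6, 4, 5, 1, 2, 2, 1, 2, 2, 1]))) (.node 5164 (.leaf 164 7 [1, 2, 2, 1, 3, 3, 1, 3, 1, 3, 1, 2, 1, 2, 2, 1, 3, 1, 2, 1, 6, 6, 4, 5, 4, 6, 6, 6, 4, 5, 4, 6, 6, 4, 5, 4, 3, 3, 1, 3, 3, 1, 2]) (.node 5165 (.leaf 170 10 [3, 1, 3, 1, 2, 1, 2, 2, 1, 2, 2, 1, 3, 3, 1, 2, 2, 5, 5, 4, 6, 4, 5, 4, 6, 6, 4, 5, 4, 5, 1, 2, 1, 2, 1, 3, 1, 3, 1, 3]) (.leaf 190 17 [1, 2, 1, 3, 1, 3, 1, 2, 1, 3, 4, 5, 5, 4, 6, 4, 5, 5, 4, 6, 4, 5, 4, 6, 1, 3, 1, 2, 1, 2, 2, 1, 2, 2, 1, 3, 1, 2, 2, 1, 2]))))) (.node 5171 (.node 5168 (.node 5167 (.leaf 205 14 [1, 2, 2, 1, 2, 2, 1, 3, 1, 2, 1, 2, 1, 4, 6, 4, 5, 4, 6, 4, 5, 4, 6, 4, 5, 5, 4, 6, 4, 2, 1, 2, 1, 3, 3, 1, 2, 1, 3, 3, 1, 2, 2]) (.leaf 210 14 [2, 1, 2, 1, 3, 1, 2, 1, 3, 3, 1, 2, 1, 6, 4, 5, 4, 6, 4, 5, 4, 6, 6, 4, 5, 4, 1, 2, 2, 1, 3, 1, 2, 2, 1, 3, 1, 2, 2, 1])) (.node 5169 (.leaf 214 7 [1, 3, 3, 1, 2, 1, 2, 1, 3, 3, 1, 3, 3, 1, 2, 1, 3, 1, 2, 1, 6, 4, 5, 5, 5, 4, 6, 6, 6, 4, 5, 5, 5, 1, 3, 1, 3, 3, 1, 2]) (.node 5170 (.leaf 220 9 [1, 2, 2, 1, 2, 1, 2, 1, 2, 1, 2, 2, 1, 2, 1, 3, 1, 3, 4, 6, 4, 5, 5, 5, 4, 6, 4, 5, 5, 4, 6, 6, 4, 5, 3, 3, 1, 2, 1, 3, 3, 1, 2]) (.leaf 220 11 [2, 1, 2, 1, 2, 1, 2, 1, 2, 2, 1, 2, 1, 3, 1, 3, 4, 6, 4, 5, 5, 5, 4, 6, 4, 5, 5, 4, 6, 6, 4, 5, 3, 3, 1, 2, 1, 3, 3, 1, 2, 1, 2])))) (.node 5174 (.node 5172 (.leaf 242 12 [3, 1, 3, 3, 1, 3, 1, 3, 3, 1, 3, 1, 2, 1, 3, 5, 5, 5, 4, 6, 6, 6, 4, 5, 5, 5, 4, 6, 6, 1, 3, 3, 1, 2, 1, 2, 2, 1, 3, 3, 1]) (.node 5173 (.leaf 242 9 [3, 3, 1, 3, 1, 3, 3, 1, 3, 1, 3, 3, 1, 3, 1, 2, 1, 3, 5, 5, 5, 4, 6, 6, 6, 4, 5, 5, 5, 4, 6, 6, 1, 3, 3, 1, 2, 1, 2, 2, 1]) (.leaf 250 11 [2, 1, 2, 1, 3, 1, 2, 2, 1, 3, 1, 3, 1, 3, 3, 1, 6, 4, 6, 6, 6, 4, 5, 4, 6, 6, 6, 4, 5, 4, 3, 3, 1, 3, 1, 2, 1, 2, 1, 2, 1]))) (.node 5175 (.leaf 264 9 [3, 1, 2, 1, 2, 1, 2, 1, 3, 1, 2, 2, 1, 3, 1, 2, 1, 2, 2, 4, 6, 4, 5, 5, 5, 4, 6, 4, 5, 5, 4, 6, 2, 1, 3, 1, 3, 1, 2, 2, 1]) (.node 5176 (.leaf 264 20 [2, 1, 3, 1, 2, 1, 2, 2, 4, 6, 4, 5, 5, 5, 4, 6, 4, 5, 5, 4, 6, 2, 1, 3, 1, 3, 1, 2, 2, 1, 3, 1, 2, 1, 2, 1, 2, 1, 3, 1, 2]) (.leaf 271 18 [1, 2, 2, 1, 3, 1, 2, 1, 3, 1, 4, 5, 4, 6, 4, 5, 4, 6, 4, 5, 4, 6, 6, 4, 5, 4, 2, 2, 1, 2, 1, 2, 1, 2, 1, 3, 1, 2, 1, 2, 1, 3, 1, 2])))))) (.node 5188 (.node 5182 (.node 5179 (.node 5178 (.leaf 276 12 [2, 2, 1, 2, 2, 1, 2, 2, 1, 3, 1, 3, 3, 1, 3, 1, 6, 6, 6, 4, 5, 5, 5, 4, 6, 6, 6, 4, 5, 5, 5, 1, 2, 1, 2, 2, 1, 3, 3, 1, 2, 2, 1]) (.leaf 280 6 [2, 1, 2, 1, 2, 1, 3, 1, 3, 1, 2, 1, 3, 1, 2, 2, 1, 3, 1, 2, 1, 3, 6, 4, 5, 4, 6, 6, 4, 5, 5, 4, 6, 4, 5, 5, 5, 2, 1, 3, 3, 1, 2])) (.node 5180 (.leaf 285 8 [2, 1, 2, 2, 1, 2, 2, 1, 3, 3, 1, 2, 2, 1, 3, 1, 2, 1, 3, 1, 4, 5, 5, 5, 4, 6, 4, 5, 5, 4, 6, 6, 4, 5, 4, 6, 6, 1, 3, 1, 3, 3, 1, 3, 1]) (.node 5181 (.leaf 285 18 [1, 2, 2, 1, 3, 1, 2, 1, 3, 1, 4, 5, 5, 5, 4, 6, 4, 5, 5, 4, 6, 6, 4, 5, 4, 6, 6, 1, 3, 1, 3, 3, 1, 3, 1, 2, 1, 2, 2, 1, 2, 2, 1, 3, 3]) (.leaf 292 10 [3, 3, 1, 3, 1, 3, 1, 2, 2, 1, 3, 1, 2, 1, 3, 3, 1, 3, 5, 5, 4, 6, 4, 5, 5, 5, 4, 6, 6, 6, 4, 5, 5, 5, 1, 2, 1, 3, 1, 2, 2, 1, 2, 1])))) (.node 5185 (.node 5183 (.leaf 293 10 [2, 2, 1, 3, 1, 3, 3, 1, 3, 1, 3, 1, 2, 1, 3, 1, 3, 3, 6, 6, 4, 5, 4, 6, 6, 6, 4, 5, 4, 6, 6, 4, 5, 1, 3, 3, 1, 3, 1, 2, 1, 3, 1]) (.node 5184 (.leaf 300 21 [2, 1, 3, 3, 1, 3, 1, 5, 5, 5, 4, 6, 6, 6, 4, 5, 4, 6, 6, 4, 5, 5, 1, 3, 1, 3, 3, 1, 2, 2, 1, 2, 1, 3, 3, 1, 2, 1, 3, 3, 1, 3, 1]) (.leaf 300 22 [1, 3, 3, 1, 3, 1, 5, 5, 5, 4, 6, 6, 6, 4, 5, 4, 6, 6, 4, 5, 5, 1, 3, 1, 3, 3, 1, 2, 2, 1, 2, 1, 3, 3, 1, 2, 1, 3, 3, 1, 3, 1, 2]))) (.node 5186 (.leaf 302 19 [1, 2, 1, 2, 1, 3, 1, 3, 3, 4, 5, 4, 6, 4, 5, 4, 6, 4, 5, 4, 6, 6, 6, 4, 5, 4, 1, 3, 1, 3, 3, 1, 2, 2, 1, 2, 2, 1, 3, 1, 2, 2, 1, 2, 2]) (.node 5187 (.leaf 304 25 [3, 1, 3, 6, 4, 5, 5, 5, 4, 6, 4, 5, 4, 6, 6, 4, 5, 4, 2, 1, 2, 1, 2, 2, 1, 3, 1, 3, 3, 1, 2, 2, 1, 3, 1, 2, 1, 3, 1, 2, 1, 3, 1]) (.leaf 306 20 [2, 1, 3, 1, 2, 2, 1, 3, 5, 5, 5, 5, 4, 6, 4, 5, 5, 4, 6, 6, 4, 5, 5, 1, 2, 1, 2, 1, 3, 3, 1, 2, 1, 2, 1, 2, 1, 2, 1, 2, 1, 2, 1]))))) (.node 5193 (.node 5190 (.node 5189 (.leaf 309 32 [6, 4, 5, 4, 6, 6, 6, 4, 6, 3, 3, 1, 2, 2, 1, 3, 1, 2, 1, 2, 2, 1, 2, 1, 2, 2, 1, 3, 3, 1, 2, 2, 1, 3, 3, 1, 3, 6, 4, 5, 4]) (.leaf 313 16 [3, 3, 1, 3, 1, 2, 2, 1, 3, 1, 3, 1, 5, 5, 5, 4, 6, 4, 5, 5, 4, 6, 6, 4, 5, 3, 3, 1, 2, 2, 1, 3, 1, 2, 2, 1, 3, 3, 1, 3, 1])) (.node 5191 (.leaf 314 20 [2, 1, 3, 1, 2, 1, 2, 1, 4, 5, 5, 5, 4, 6, 6, 6, 4, 5, 4, 6, 6, 6, 4, 5, 1, 3, 3, 1, 2, 1, 3, 1, 2, 1, 2, 1, 3, 1, 3, 1, 2, 2, 1, 2]) (.node 5192 (.leaf 315 7 [2, 1, 3, 3, 1, 3, 1, 2, 1, 2, 1, 2, 1, 2, 2, 1, 2, 1, 2, 1, 3, 6, 4, 5, 5, 4, 6, 4, 5, 5, 4, 6, 4, 6, 2, 2, 1, 3, 1, 3, 1]) (.leaf 315 19 [1, 2, 2, 1, 2, 1, 2, 1, 3, 6, 4, 5, 5, 4, 6, 4, 5, 5, 4, 6, 4, 6, 2, 2, 1, 3, 1, 3, 1, 2, 1, 3, 3, 1, 3, 1, 2, 1, 2, 1, 2])))) (.node 5196 (.node 5194 (.leaf 318 23 [2, 2, 1, 3, 1, 4, 5, 4, 6, 6, 4, 5, 4, 6, 4, 5, 5, 4, 6, 2, 1, 3, 1, 2, 1, 2, 2, 1, 3, 1, 3, 3, 1, 2, 1, 3, 3, 1, 3, 1, 2, 1]) (.node 5195 (.leaf 318 15 [1, 3, 3, 1, 3, 1, 2, 1, 2, 2, 1, 3, 1, 4, 5, 4, 6, 6, 4, 5, 4, 6, 4, 5, 5, 4, 6, 2, 1, 3, 1, 2, 1, 2, 2, 1, 3, 1, 3, 3, 1, 2]) (.leaf 319 30 [6, 6, 4, 5, 5, 5, 4, 6, 4, 5, 5, 4, 6, 6, 1, 2, 2, 1, 3, 1, 2, 1, 3, 1, 2, 1, 3, 3, 1, 3, 1, 2, 2, 1, 3, 1, 2, 1, 3, 1, 3, 3, 4, 6]))) (.node 5197 (.leaf 326 9 [1, 2, 1, 2, 2, 1, 2, 1, 3, 3, 1, 3, 1, 2, 1, 3, 1, 3, 1, 5, 5, 4, 6, 6, 6, 4, 5, 4, 6, 6, 6, 4, 5, 5, 5, 2, 1, 2, 1, 2, 1, 2, 1, 3]) (.node 5198 (.leaf 329 12 [2, 2, 1, 2, 1, 2, 1, 3, 3, 1, 3, 1, 3, 3, 1, 3, 4, 6, 6, 6, 4, 5, 4, 6, 6, 6, 1, 3, 1, 2, 2, 1, 2, 1, 2, 1, 3, 1]) (.leaf 333 15 [3, 3, 1, 3, 3, 1, 2, 2, 1, 3, 1, 3, 3, 4, 6, 4, 5, 5, 5, 4, 6, 6, 6, 4, 5, 4, 2, 1, 2, 2, 1, 2, 1, 3, 3, 1, 2, 2, 1, 2, 1]))))))) (.node 5221 (.node 5210 (.node 5204 (.node 5201 (.node 5200 (.leaf 336 20 [1, 3, 3, 1, 3, 3, 1, 3, 5, 4, 6, 6, 6, 4, 5, 4, 6, 6, 4, 5, 5, 5, 2, 1, 3, 1, 2, 1, 2, 1, 3, 1, 2, 1, 3, 1, 3, 1, 3, 1, 2, 2]) (.leaf 343 12 [1, 2, 2, 1, 2, 1, 3, 3, 1, 3, 3, 1, 3, 3, 1, 3, 6, 6, 6, 4, 5, 5, 5, 4, 6, 6, 6, 4, 5, 5, 5, 1, 2, 1, 2, 2, 1, 3, 3, 1, 2, 1, 2])) (.node 5202 (.leaf 344 3 [3, 3, 1, 2, 1, 3, 3, 1, 3, 3, 1, 2, 1, 2, 1, 3, 1, 3, 3, 1, 3, 3, 1, 3, 3, 4, 6, 6, 4, 5, 5, 4, 6, 6, 2, 2, 1]) (.node 5203 (.leaf 350 6 [1, 2, 2, 1, 3, 1, 2, 1, 2, 1, 3, 1, 3, 1, 2, 1, 2, 1, 2, 1, 3, 1, 5, 5, 5, 4, 6, 6, 6, 4, 5, 5, 5, 4, 6, 6, 6, 2, 2, 1, 2, 1, 2]) (.leaf 350 20 [2, 1, 2, 1, 2, 1, 3, 1, 5, 5, 5, 4, 6, 6, 6, 4, 5, 5, 5, 4, 6, 6, 6, 2, 2, 1, 2, 1, 2, 1, 2, 2, 1, 3, 1, 2, 1, 2, 1, 3, 1, 3, 1])))) (.node 5207 (.node 5205 (.leaf 353 15 [2, 1, 2, 2, 1, 2, 2, 1, 2, 1, 2, 2, 1, 5, 4, 5, 5, 5, 4, 6, 4, 5, 5, 4, 6, 4, 5, 4, 6, 6, 6, 2, 1, 2, 2, 1, 3, 1, 3, 3, 1, 3, 1, 2, 1, 2]) (.node 5206 (.leaf 357 9 [2, 2, 1, 2, 2, 1, 2, 2, 1, 3, 1, 2, 1, 2, 2, 1, 2, 1, 3, 6, 6, 6, 4, 5, 4, 6, 6, 6, 4, 5, 4, 6, 6, 4, 5, 2, 1, 2, 2, 1, 2, 1, 3, 1]) (.leaf 359 10 [1, 2, 1, 2, 1, 2, 1, 3, 1, 3, 3, 1, 2, 2, 1, 2, 1, 3, 6, 6, 6, 4, 5, 4, 6, 6, 4, 5, 4, 6, 4, 5, 3, 3, 1, 3, 1, 2, 1, 3, 1, 2]))) (.node 5208 (.leaf 363 16 [3, 1, 3, 1, 3, 3, 1, 2, 1, 3, 1, 3, 4, 6, 6, 4, 5, 4, 6, 4, 5, 4, 6, 4, 5, 4, 6, 4, 1, 3, 1, 3, 3, 1, 2, 2, 1, 2, 2, 1, 3, 3, 1, 3]) (.node 5209 (.leaf 363 20 [3, 3, 1, 2, 1, 3, 1, 3, 4, 6, 6, 4, 5, 4, 6, 4, 5, 4, 6, 4, 5, 4, 6, 4, 1, 3, 1, 3, 3, 1, 2, 2, 1, 2, 2, 1, 3, 3, 1, 3, 3, 1, 3, 1]) (.leaf 365 16 [2, 2, 1, 2, 2, 1, 3, 1, 3, 1, 3, 1, 5, 4, 5, 5, 5, 5, 4, 6, 6, 6, 4, 5, 4, 2, 2, 1, 2, 1, 2, 2, 1, 2, 2, 1, 2, 1, 2, 2, 1]))))) (.node 5215 (.node 5212 (.node 5211 (.leaf 371 20 [2, 1, 2, 1, 3, 1, 2, 1, 5, 4, 6, 6, 4, 5, 4, 6, 4, 5, 5, 4, 3, 3, 1, 2, 1, 3, 3, 1, 2, 1, 2, 1, 3, 1, 3, 1, 3, 1, 3, 1]) (.leaf 372 17 [3, 1, 2, 1, 3, 1, 3, 3, 1, 2, 1, 6, 4, 6, 6, 6, 4, 6, 1, 2, 2, 1, 3, 3, 1, 2, 1, 3, 3, 1, 3, 1, 2, 1, 3])) (.node 5213 (.leaf 393 15 [3, 1, 2, 1, 3, 1, 3, 3, 1, 3, 3, 1, 3, 1, 4, 6, 4, 5, 5, 5, 4, 6, 4, 5, 5, 5, 4, 6, 4, 5, 1, 3, 3, 1, 3, 1, 3, 1, 3, 1, 3, 3, 1, 3, 1]) (.node 5214 (.leaf 394 8 [2, 2, 1, 2, 2, 1, 2, 1, 2, 2, 1, 3, 1, 3, 1, 3, 1, 3, 3, 1, 3, 5, 4, 5, 5, 5, 4, 6, 4, 5, 5, 5, 4, 6, 4, 5, 2, 2, 1, 3, 1, 2, 2, 1]) (.leaf 17 14 [3, 1, 3, 1, 2, 2, 1, 4, 5, 5, 4, 6, 6, 4, 5, 4, 6, 6, 6, 4, 5, 5, 1, 2, 1, 3, 3, 1, 2, 2, 1, 2, 1, 3, 1, 3])))) (.node 5218 (.node 5216 (.leaf 33 17 [2, 1, 3, 1, 3, 3, 4, 6, 6, 4, 5, 4, 6, 6, 6, 4, 5, 4, 6, 2, 2, 1, 3, 1, 3, 1, 3, 1, 3, 1, 2, 1, 2, 1, 3, 1]) (.node 5217 (.leaf 51 8 [2, 2, 1, 3, 1, 2, 1, 3, 1, 3, 1, 3, 3, 1, 2, 2, 5, 4, 6, 6, 6, 6, 4, 6, 1, 2, 1, 3, 1, 3, 3, 1]) (.leaf 61 20 [3, 1, 2, 2, 4, 6, 6, 6, 4, 5, 4, 6, 6, 6, 4, 5, 4, 6, 2, 1, 3, 1, 3, 3, 1, 2, 2, 1, 3, 1, 2, 1, 2, 1, 2, 2, 1, 3]))) (.node 5219 (.leaf 64 20 [3, 1, 3, 3, 4, 6, 4, 5, 5, 4, 6, 6, 6, 4, 5, 4, 2, 2, 1, 2, 1, 2, 1, 3, 1, 2, 1, 2, 2, 1, 3, 3, 1, 2, 1, 3]) (.node 5220 (.leaf 67 17 [3, 1, 3, 3, 1, 3, 3, 4, 6, 6, 6, 4, 5, 4, 6, 6, 6, 4, 5, 4, 6, 6, 4, 5, 4, 1, 2, 1, 3, 3, 1, 3, 1, 3, 1, 3, 1, 2, 1, 2, 1, 3]) (.leaf 73 9 [3, 1, 3, 1, 3, 1, 3, 3, 1, 2, 1, 3, 3, 1, 3, 3, 4, 6, 6, 6, 4, 5, 4, 6, 6, 6, 4, 5, 4, 6, 6, 4, 2, 2, 1, 2, 1, 3, 3, 1, 3])))))) (.node 5232 (.node 5226 (.node 5223 (.node 5222 (.leaf 79 14 [3, 1, 3, 1, 3, 3, 1, 3, 1, 3, 3, 4, 5, 5, 5, 4, 6, 4, 5, 5, 4, 6, 6, 6, 1, 2, 1, 3, 3, 1, 2, 1, 2, 1, 2, 1, 2, 1]) (.leaf 85 18 [3, 1, 2, 2, 1, 2, 1, 6, 6, 6, 4, 5, 4, 6, 6, 6, 4, 5, 4, 6, 6, 6, 2, 2, 1, 2, 1, 3, 1, 3, 1, 3, 1, 3, 1, 3, 1, 2, 1, 3])) (.node 5224 (.leaf 89 13 [3, 1, 2, 2, 1, 2, 1, 2, 1, 3, 1, 3, 6, 6, 4, 5, 5, 5, 4, 6, 4, 5, 5, 5, 4, 6, 6, 6, 1, 3, 1, 3, 1, 3, 3, 1, 3, 3, 1, 3, 1]) (.node 5225 (.leaf 92 8 [2, 1, 2, 1, 2, 1, 3, 1, 2, 2, 1, 2, 1, 3, 1, 3, 3, 6, 4, 6, 6, 6, 6, 4, 2, 1, 2, 1, 3, 1, 2, 1]) (.leaf 98 11 [2, 2, 1, 3, 1, 3, 3, 1, 2, 1, 2, 1, 3, 1, 6, 6, 4, 5, 4, 6, 6, 6, 4, 5, 4, 6, 6, 4, 3, 3, 1, 3, 3, 1, 3, 3, 1, 3, 1])))) (.node 5229 (.node 5227 (.leaf 120 6 [3, 1, 3, 1, 3, 1, 2, 1, 3, 1, 3, 1, 3, 1, 3, 3, 1, 2, 1, 3, 4, 6, 4, 6, 6, 6, 4, 5, 5, 1, 3, 1, 3, 1, 3]) (.node 5228 (.leaf 125 8 [3, 1, 2, 1, 2, 2, 1, 2, 1, 2, 1, 3, 3, 1, 2, 1, 2, 1, 4, 6, 6, 4, 5, 4, 6, 6, 4, 5, 4, 6, 4, 5, 2, 1, 3, 3, 1, 2, 2, 1]) (.leaf 129 18 [1, 2, 2, 1, 2, 1, 3, 3, 5, 5, 5, 4, 6, 6, 6, 4, 5, 5, 1, 2, 1, 3, 1, 2, 1, 2, 2, 1, 3, 1, 2, 2, 1, 3, 1, 2]))) (.node 5230 (.leaf 132 14 [3, 1, 2, 1, 2, 1, 2, 1, 2, 1, 3, 1, 6, 6, 4, 5, 4, 6, 4, 5, 4, 6, 4, 1, 3, 1, 3, 1, 2, 1, 2, 1, 2, 2, 1, 2, 1]) (.node 5231 (.leaf 139 14 [2, 1, 2, 2, 1, 3, 3, 1, 3, 1, 3, 3, 4, 5, 4, 6, 6, 6, 4, 5, 4, 6, 6, 4, 5, 4, 6, 4, 3, 3, 1, 2, 2, 1, 2, 2, 1, 2, 1, 3, 1, 2]) (.leaf 139 13 [2, 2, 1, 2, 2, 1, 3, 3, 1, 3, 1, 3, 3, 4, 5, 4, 6, 6, 6, 4, 5, 4, 6, 6, 4, 5, 4, 6, 4, 3, 3, 1, 2, 2, 1, 2, 2, 1, 2, 1, 3, 1]))))) (.node 5237 (.node 5234 (.node 5233 (.leaf 155 17 [1, 2, 1, 3, 3, 1, 3, 1, 2, 1, 6, 4, 5, 5, 4, 6, 4, 5, 5, 5, 4, 6, 4, 5, 5, 4, 1, 2, 1, 3, 1, 2, 2, 1, 3, 1, 2, 2, 1, 2, 2, 1, 3]) (.leaf 157 5 [1, 2, 2, 1, 2, 1, 2, 2, 1, 2, 1, 3, 1, 3, 1, 2, 1, 3, 3, 1, 2, 1, 4, 6, 6, 6, 4, 5, 4, 6, 6, 6, 4, 6, 1, 2, 2, 1, 3])) (.node 5235 (.leaf 177 16 [3, 1, 2, 2, 1, 2, 1, 2, 1, 3, 1, 5, 5, 4, 6, 6, 6, 4, 5, 4, 6, 6, 4, 5, 5, 4, 6, 4, 1, 3, 3, 1, 3, 1, 3, 1, 2, 1, 2, 1, 2, 1, 3, 1]) (.node 5236 (.leaf 184 6 [3, 1, 2, 1, 2, 2, 1, 2, 2, 1, 3, 3, 1, 3, 1, 2, 2, 1, 3, 3, 1, 6, 6, 6, 4, 5, 5, 5, 4, 6, 4, 5, 5, 4, 6, 6, 6, 2, 1, 3, 1, 3, 1]) (.leaf 184 22 [2, 1, 3, 3, 1, 6, 6, 6, 4, 5, 5, 5, 4, 6, 4, 5, 5, 4, 6, 6, 6, 2, 1, 3, 1, 3, 1, 3, 1, 2, 1, 2, 2, 1, 2, 2, 1, 3, 3, 1, 3, 1, 2])))) (.node 5240 (.node 5238 (.leaf 184 10 [2, 2, 1, 2, 2, 1, 3, 3, 1, 3, 1, 2, 2, 1, 3, 3, 1, 6, 6, 6, 4, 5, 5, 5, 4, 6, 4, 5, 5, 4, 6, 6, 6, 2, 1, 3, 1, 3, 1, 3, 1, 2, 1]) (.node 5239 (.leaf 188 19 [2, 1, 2, 1, 2, 2, 1, 3, 4, 5, 4, 6, 4, 5, 4, 6, 4, 5, 4, 6, 4, 5, 4, 6, 2, 1, 3, 3, 1, 3, 1, 3, 1, 3, 3, 1, 3, 1, 2, 1, 2, 2, 1]) (.leaf 199 20 [3, 1, 2, 2, 1, 2, 1, 5, 4, 6, 6, 6, 4, 5, 5, 5, 4, 6, 2, 2, 1, 2, 1, 3, 1, 3, 1, 2, 2, 1, 3, 1, 2, 2, 1, 2, 2, 1]))) (.node 5241 (.leaf 203 8 [3, 1, 2, 1, 2, 2, 1, 3, 1, 3, 1, 3, 1, 2, 2, 1, 2, 1, 3, 5, 5, 4, 6, 6, 4, 5, 4, 6, 4, 5, 4, 6, 6, 4, 5, 5, 2, 2, 1, 3, 3, 1, 2, 1]) (.node 5242 (.leaf 203 11 [1, 2, 2, 1, 3, 1, 3, 1, 3, 1, 2, 2, 1, 2, 1, 3, 5, 5, 4, 6, 6, 4, 5, 4, 6, 4, 5, 4, 6, 6, 4, 5, 5, 2, 2, 1, 3, 3, 1, 2, 1, 3, 1, 2]) (.leaf 207 16 [3, 3, 1, 3, 1, 3, 1, 2, 1, 2, 1, 4, 6, 4, 5, 5, 4, 6, 4, 5, 5, 5, 4, 6, 4, 5, 5, 5, 2, 2, 1, 2, 1, 3, 1, 2, 1, 2, 1, 3, 1, 2, 2, 1])))))))))) (.node 5418 (.node 5330 (.node 5286 (.node 5264 (.node 5253 (.node 5248 (.node 5245 (.node 5244 (.leaf 212 17 [2, 1, 3, 1, 3, 1, 3, 1, 3, 1, 6, 4, 6, 6, 6, 4, 5, 4, 6, 6, 6, 4, 5, 2, 1, 3, 1, 2, 1, 3, 1, 2, 1, 3, 1, 3, 1, 3, 1, 2]) (.leaf 218 10 [3, 1, 3, 1, 2, 1, 2, 2, 1, 2, 2, 1, 2, 1, 2, 1, 3, 4, 6, 4, 5, 5, 5, 4, 6, 4, 5, 4, 6, 6, 4, 5, 4, 2, 2, 1, 3, 1, 3, 1, 2, 2, 1])) (.node 5246 (.leaf 225 5 [1, 2, 2, 1, 3, 3, 1, 2, 2, 1, 3, 1, 2, 1, 3, 1, 2, 1, 3, 1, 3, 3, 4, 6, 4, 5, 4, 6, 4, 5, 4, 6, 4, 5, 4, 6, 1, 2, 2, 1, 3]) (.node 5247 (.leaf 233 16 [1, 2, 1, 2, 1, 2, 2, 1, 2, 1, 3, 5, 4, 6, 6, 4, 5, 4, 6, 6, 2, 1, 2, 1, 3, 1, 3, 1, 2, 1, 3, 1, 2, 1, 2, 2]) (.leaf 234 18 [3, 1, 2, 1, 3, 3, 1, 3, 3, 5, 5, 4, 6, 4, 5, 4, 6, 4, 5, 4, 6, 6, 4, 5, 4, 2, 1, 2, 1, 2, 2, 1, 3, 1, 2, 1, 3, 1, 2, 1, 3, 3, 1])))) (.node 5250 (.node 5249 (.leaf 235 18 [2, 1, 3, 1, 3, 1, 2, 1, 3, 4, 6, 6, 6, 4, 5, 5, 5, 4, 5, 2, 2, 1, 3, 1, 3, 1, 2, 1, 2, 1, 2, 1, 2, 1, 3, 1, 2]) (.leaf 236 6 [2, 1, 3, 1, 3, 3, 1, 2, 1, 2, 1, 3, 3, 1, 3, 1, 2, 1, 3, 3, 1, 4, 6, 6, 4, 5, 4, 6, 6, 6, 4, 5, 5, 1, 3, 1, 3, 3, 1])) (.node 5251 (.leaf 239 23 [3, 1, 2, 1, 5, 4, 6, 4, 5, 4, 6, 4, 5, 4, 6, 4, 5, 4, 6, 1, 3, 1, 2, 1, 2, 2, 1, 2, 1, 2, 1, 2, 1, 3, 1, 3, 1, 3, 1, 3, 3, 1]) (.node 5252 (.leaf 240 9 [1, 3, 3, 1, 2, 1, 3, 1, 3, 1, 3, 1, 2, 2, 1, 3, 1, 3, 6, 6, 4, 5, 5, 4, 6, 4, 5, 4, 6, 6, 4, 5, 5, 5, 2, 2, 1, 2, 1, 2, 2, 1, 3]) (.leaf 249 17 [3, 3, 1, 3, 3, 1, 2, 1, 2, 1, 6, 4, 5, 4, 6, 6, 4, 5, 4, 6, 6, 4, 1, 2, 2, 1, 2, 2, 1, 2, 2, 1, 2, 1, 2, 1, 2, 2, 1]))))) (.node 5258 (.node 5255 (.node 5254 (.leaf 262 16 [3, 1, 2, 1, 2, 1, 2, 2, 1, 2, 1, 3, 5, 4, 6, 6, 4, 5, 4, 6, 4, 2, 1, 3, 3, 1, 3, 3, 1, 2, 2, 1, 3, 3, 1, 3, 1]) (.leaf 268 5 [1, 3, 3, 1, 2, 1, 3, 3, 1, 2, 1, 3, 3, 1, 2, 1, 2, 1, 2, 2, 1, 2, 2, 4, 6, 4, 5, 5, 5, 4, 6, 4, 5, 4, 6, 6, 4, 5, 4, 1, 3, 3, 1, 3])) (.node 5256 (.leaf 272 9 [3, 3, 1, 2, 1, 2, 1, 3, 3, 1, 2, 1, 2, 2, 1, 2, 1, 3, 3, 5, 5, 4, 6, 6, 4, 5, 4, 6, 6, 6, 4, 5, 5, 5, 3, 3, 1, 3, 3, 1, 3, 3, 1]) (.node 5257 (.leaf 275 12 [2, 1, 2, 2, 1, 2, 2, 1, 2, 2, 1, 3, 1, 2, 1, 3, 4, 5, 4, 6, 4, 5, 4, 6, 6, 6, 4, 6, 3, 3, 1, 3, 3, 1, 2, 1, 3, 1, 2, 1]) (.leaf 300 18 [1, 3, 1, 2, 1, 3, 3, 1, 3, 1, 5, 5, 5, 4, 6, 6, 6, 4, 5, 4, 6, 6, 4, 5, 5, 1, 3, 1, 3, 3, 1, 2, 2, 1, 2, 1, 3, 3, 1, 2, 1, 3, 3])))) (.node 5261 (.node 5259 (.leaf 300 8 [1, 2, 1, 3, 3, 1, 2, 1, 3, 3, 1, 3, 1, 2, 1, 3, 3, 1, 3, 1, 5, 5, 5, 4, 6, 6, 6, 4, 5, 4, 6, 6, 4, 5, 5, 1, 3, 1, 3, 3, 1, 2, 2]) (.node 5260 (.leaf 301 6 [1, 2, 1, 3, 1, 2, 2, 1, 2, 2, 1, 3, 1, 3, 3, 1, 2, 1, 3, 3, 1, 3, 5, 4, 6, 4, 5, 4, 6, 4, 5, 4, 6, 6, 4, 5, 5, 1, 3, 1, 3, 1, 3]) (.leaf 304 23 [3, 1, 3, 1, 3, 6, 4, 5, 5, 5, 4, 6, 4, 5, 4, 6, 6, 4, 5, 4, 2, 1, 2, 1, 2, 2, 1, 3, 1, 3, 3, 1, 2, 2, 1, 3, 1, 2, 1, 3, 1, 2, 1]))) (.node 5262 (.leaf 307 11 [2, 1, 2, 1, 3, 3, 1, 3, 3, 1, 2, 1, 3, 3, 1, 3, 1, 6, 6, 4, 5, 5, 5, 4, 6, 6, 6, 4, 5, 5, 5, 4, 1, 2, 1, 3, 1, 3, 3, 1, 3, 1, 2]) (.node 5263 (.leaf 315 17 [1, 2, 1, 2, 2, 1, 2, 1, 2, 1, 3, 6, 4, 5, 5, 4, 6, 4, 5, 5, 4, 6, 4, 6, 2, 2, 1, 3, 1, 3, 1, 2, 1, 3, 3, 1, 3, 1, 2, 1, 2]) (.leaf 318 16 [3, 3, 1, 3, 1, 2, 1, 2, 2, 1, 3, 1, 4, 5, 4, 6, 6, 4, 5, 4, 6, 4, 5, 5, 4, 6, 2, 1, 3, 1, 2, 1, 2, 2, 1, 3, 1, 3, 3, 1, 2, 1])))))) (.node 5275 (.node 5269 (.node 5266 (.node 5265 (.leaf 327 14 [3, 3, 1, 2, 1, 2, 1, 3, 1, 2, 2, 1, 3, 1, 4, 6, 4, 5, 5, 5, 5, 4, 6, 4, 5, 5, 5, 4, 6, 4, 2, 2, 1, 2, 1, 2, 2, 1, 2, 1, 3, 1, 2, 1]) (.leaf 328 9 [3, 1, 2, 2, 1, 3, 1, 3, 3, 1, 3, 1, 3, 3, 1, 3, 1, 3, 1, 6, 6, 4, 5, 4, 6, 4, 5, 4, 6, 6, 6, 4, 2, 1, 3, 1, 2, 1, 2, 1, 3])) (.node 5267 (.leaf 374 9 [1, 3, 1, 2, 1, 2, 2, 1, 3, 3, 1, 3, 3, 1, 2, 2, 1, 3, 1, 4, 5, 4, 6, 6, 4, 5, 4, 6, 4, 5, 4, 6, 6, 4, 5, 2, 1, 3, 1, 2, 1, 2, 1, 2]) (.node 5268 (.leaf 386 9 [3, 3, 1, 2, 1, 2, 1, 2, 1, 3, 1, 3, 3, 1, 2, 2, 1, 2, 2, 4, 5, 4, 6, 4, 5, 4, 6, 4, 5, 4, 6, 4, 5, 5, 4, 2, 2, 1, 2, 2, 1, 2, 2, 1]) (.leaf 392 22 [3, 3, 1, 3, 3, 1, 3, 6, 6, 4, 5, 5, 5, 4, 6, 6, 6, 4, 5, 5, 2, 1, 2, 2, 1, 2, 2, 1, 2, 1, 3, 1, 2, 2, 1, 3, 3, 1, 2, 1, 3, 1])))) (.node 5272 (.node 5270 (.leaf 394 5 [2, 2, 1, 2, 2, 1, 2, 2, 1, 2, 1, 2, 2, 1, 3, 1, 3, 1, 3, 1, 3, 3, 1, 3, 5, 4, 5, 5, 5, 4, 6, 4, 5, 5, 5, 4, 6, 4, 5, 2, 2, 1, 3, 1]) (.node 5271 (.leaf 14 10 [2, 1, 2, 2, 1, 2, 1, 2, 2, 5, 4, 5, 5, 5, 5, 4, 6, 4, 5, 5, 5, 4, 6, 6, 1, 3, 3, 1, 2, 2, 1, 2, 1, 2]) (.leaf 14 6 [1, 2, 1, 2, 2, 1, 2, 2, 1, 2, 1, 2, 2, 5, 4, 5, 5, 5, 5, 4, 6, 4, 5, 5, 5, 4, 6, 6, 1, 3, 3, 1, 2, 2]))) (.node 5273 (.leaf 27 14 [1, 2, 2, 1, 2, 1, 2, 2, 4, 6, 4, 5, 5, 4, 6, 4, 5, 5, 4, 1, 2, 1, 2, 2, 1, 3, 3, 1, 3, 1, 2, 1, 3]) (.node 5274 (.leaf 28 11 [2, 1, 3, 1, 3, 3, 1, 2, 1, 2, 1, 4, 5, 4, 6, 4, 5, 5, 4, 6, 4, 5, 5, 5, 3, 3, 1, 2, 1, 2, 1, 3, 3, 1, 2]) (.leaf 37 7 [1, 3, 1, 2, 1, 3, 3, 1, 3, 1, 3, 3, 1, 2, 1, 3, 5, 5, 4, 6, 4, 5, 4, 6, 4, 5, 4, 6, 4, 5, 4, 6, 3, 3, 1, 2, 1, 3, 3]))))) (.node 5280 (.node 5277 (.node 5276 (.leaf 39 5 [2, 1, 2, 2, 1, 3, 1, 2, 1, 3, 3, 1, 3, 3, 1, 2, 2, 1, 4, 5, 5, 4, 6, 4, 5, 5, 4, 6, 6, 4, 5, 5, 1, 3, 3, 1, 2]) (.leaf 43 8 [2, 1, 3, 1, 3, 3, 1, 2, 2, 1, 2, 1, 3, 1, 3, 4, 5, 5, 4, 6, 6, 4, 5, 4, 6, 6, 6, 4, 5, 5, 5, 4, 2, 2, 1, 2, 1, 3, 1, 2])) (.node 5278 (.leaf 48 6 [3, 1, 3, 1, 2, 2, 1, 2, 2, 1, 2, 1, 2, 2, 1, 3, 1, 4, 6, 6, 6, 4, 5, 5, 5, 4, 6, 4, 5, 5, 4, 6, 6, 1, 3, 3, 1, 2, 1]) (.node 5279 (.leaf 49 9 [1, 3, 3, 1, 3, 1, 3, 1, 2, 1, 2, 1, 2, 1, 3, 5, 5, 4, 6, 4, 5, 4, 6, 4, 5, 4, 6, 4, 2, 1, 2, 1, 3, 3, 1, 2, 2]) (.leaf 58 16 [3, 1, 3, 3, 1, 3, 3, 1, 4, 6, 4, 5, 5, 5, 4, 6, 6, 4, 1, 3, 1, 3, 1, 2, 1, 3, 3, 1, 2, 2, 1, 2, 2, 1])))) (.node 5283 (.node 5281 (.leaf 62 6 [3, 1, 2, 2, 1, 2, 1, 2, 2, 1, 2, 1, 3, 1, 3, 1, 3, 1, 4, 5, 4, 6, 6, 4, 5, 4, 6, 4, 5, 4, 6, 6, 4, 2, 1, 3, 3, 1, 3]) (.node 5282 (.leaf 66 15 [1, 3, 3, 1, 2, 2, 1, 2, 2, 5, 5, 4, 6, 4, 5, 4, 6, 6, 4, 5, 5, 1, 3, 3, 1, 2, 1, 3, 1, 3, 3, 1, 2, 2, 1, 2]) (.leaf 67 14 [2, 1, 3, 3, 1, 3, 3, 1, 3, 3, 4, 6, 6, 6, 4, 5, 4, 6, 6, 6, 4, 5, 4, 6, 6, 4, 5, 4, 1, 2, 1, 3, 3, 1, 3, 1, 3, 1, 3, 1, 2, 1]))) (.node 5284 (.leaf 67 7 [1, 3, 1, 3, 1, 2, 1, 2, 1, 3, 3, 1, 3, 3, 1, 3, 3, 4, 6, 6, 6, 4, 5, 4, 6, 6, 6, 4, 5, 4, 6, 6, 4, 5, 4, 1, 2, 1, 3, 3, 1, 3]) (.node 5285 (.leaf 68 16 [1, 2, 1, 2, 2, 1, 3, 3, 4, 5, 4, 5, 5, 5, 5, 4, 5, 1, 2, 1, 2, 1, 2, 1, 3, 3, 1, 3, 1, 2, 2, 1, 3]) (.leaf 69 5 [3, 1, 3, 3, 1, 2, 2, 1, 2, 1, 3, 1, 3, 1, 3, 3, 1, 3, 3, 5, 5, 4, 6, 4, 5, 4, 6, 4, 5, 4, 6, 6, 4, 5, 4, 3, 3, 1, 2, 1]))))))) (.node 5308 (.node 5297 (.node 5291 (.node 5288 (.node 5287 (.leaf 75 9 [1, 3, 3, 1, 2, 2, 1, 3, 3, 1, 2, 1, 2, 1, 3, 3, 6, 6, 4, 5, 5, 5, 4, 6, 4, 5, 5, 5, 4, 1, 2, 1, 3, 1, 2, 1, 3, 3]) (.leaf 85 9 [3, 1, 3, 1, 3, 1, 2, 1, 3, 3, 1, 2, 2, 1, 2, 1, 6, 6, 6, 4, 5, 4, 6, 6, 6, 4, 5, 4, 6, 6, 6, 2, 2, 1, 2, 1, 3, 1, 3, 1])) (.node 5289 (.leaf 87 10 [3, 3, 1, 3, 1, 2, 2, 1, 2, 1, 3, 1, 2, 2, 1, 5, 5, 4, 6, 4, 5, 5, 5, 4, 6, 4, 5, 5, 5, 1, 3, 3, 1, 2, 2, 1, 2, 2, 1]) (.node 5290 (.leaf 114 13 [3, 1, 2, 1, 2, 1, 2, 1, 2, 1, 2, 2, 1, 4, 5, 4, 6, 6, 4, 5, 4, 6, 4, 5, 5, 5, 4, 6, 4, 1, 3, 3, 1, 3, 3, 1, 2, 1, 3, 1, 3, 1]) (.leaf 148 8 [3, 3, 1, 2, 1, 2, 2, 1, 2, 1, 3, 1, 2, 1, 3, 1, 2, 2, 4, 5, 5, 5, 5, 4, 6, 6, 6, 4, 5, 4, 6, 6, 6, 4, 2, 1, 3, 3, 1, 2, 2, 1])))) (.node 5294 (.node 5292 (.leaf 154 9 [2, 1, 2, 1, 2, 2, 1, 3, 1, 3, 1, 2, 1, 3, 1, 2, 2, 4, 5, 4, 5, 5, 5, 4, 6, 4, 5, 5, 5, 4, 6, 6, 6, 2, 1, 2, 2, 1, 3, 1, 2, 1]) (.node 5293 (.leaf 173 19 [1, 2, 2, 1, 2, 1, 3, 1, 5, 4, 6, 4, 5, 4, 6, 4, 5, 4, 6, 4, 5, 4, 6, 6, 2, 1, 2, 2, 1, 2, 1, 2, 2, 1, 3, 1, 2, 2, 1, 3, 1, 3, 3]) (.leaf 184 19 [3, 1, 2, 2, 1, 3, 3, 1, 6, 6, 6, 4, 5, 5, 5, 4, 6, 4, 5, 5, 4, 6, 6, 6, 2, 1, 3, 1, 3, 1, 3, 1, 2, 1, 2, 2, 1, 2, 2, 1, 3, 3, 1]))) (.node 5295 (.leaf 190 14 [2, 1, 2, 1, 2, 1, 3, 1, 3, 1, 2, 1, 3, 4, 5, 5, 4, 6, 4, 5, 5, 4, 6, 4, 5, 4, 6, 1, 3, 1, 2, 1, 2, 2, 1, 2, 2, 1, 3, 1, 2]) (.node 5296 (.leaf 190 18 [2, 1, 3, 1, 3, 1, 2, 1, 3, 4, 5, 5, 4, 6, 4, 5, 5, 4, 6, 4, 5, 4, 6, 1, 3, 1, 2, 1, 2, 2, 1, 2, 2, 1, 3, 1, 2, 2, 1, 2, 1]) (.leaf 204 18 [3, 1, 3, 1, 2, 1, 2, 1, 3, 5, 5, 4, 6, 4, 5, 4, 6, 4, 5, 4, 6, 4, 5, 5, 5, 1, 2, 1, 3, 1, 2, 1, 2, 2, 1, 2, 1, 2, 1, 3, 1, 3, 1]))))) (.node 5302 (.node 5299 (.node 5298 (.leaf 208 20 [2, 1, 2, 1, 3, 1, 3, 5, 5, 4, 6, 4, 5, 5, 4, 6, 4, 5, 5, 5, 4, 5, 3, 3, 1, 3, 3, 1, 3, 1, 3, 3, 1, 2, 2, 1, 2, 2, 1, 2, 1, 2]) (.leaf 218 19 [2, 2, 1, 2, 1, 2, 1, 3, 4, 6, 4, 5, 5, 5, 4, 6, 4, 5, 4, 6, 6, 4, 5, 4, 2, 2, 1, 3, 1, 3, 1, 2, 2, 1, 3, 1, 3, 1, 2, 1, 2, 2, 1])) (.node 5300 (.leaf 220 17 [2, 1, 2, 2, 1, 2, 1, 3, 1, 3, 4, 6, 4, 5, 5, 5, 4, 6, 4, 5, 5, 4, 6, 6, 4, 5, 3, 3, 1, 2, 1, 3, 3, 1, 2, 1, 2, 2, 1, 2, 1, 2, 1]) (.node 5301 (.leaf 222 21 [3, 1, 2, 1, 3, 1, 4, 5, 5, 5, 5, 4, 6, 4, 5, 5, 4, 6, 6, 4, 1, 2, 1, 3, 3, 1, 2, 2, 1, 3, 1, 3, 1, 2, 2, 1, 3, 1, 2, 1, 3]) (.leaf 223 6 [3, 1, 3, 3, 1, 3, 1, 2, 1, 2, 2, 1, 2, 2, 1, 2, 2, 1, 3, 1, 3, 4, 5, 5, 4, 6, 4, 5, 5, 5, 4, 6, 4, 5, 5, 4, 2, 1, 3, 1, 3, 1])))) (.node 5305 (.node 5303 (.leaf 229 15 [3, 1, 2, 1, 2, 1, 2, 2, 1, 2, 2, 1, 4, 6, 6, 4, 5, 4, 6, 4, 5, 5, 4, 6, 4, 5, 5, 5, 2, 1, 2, 2, 1, 2, 1, 3, 1, 3, 1, 2, 1, 2, 1]) (.node 5304 (.leaf 232 14 [1, 3, 1, 2, 1, 2, 2, 1, 3, 1, 3, 3, 1, 6, 6, 4, 5, 5, 5, 4, 6, 6, 6, 4, 5, 5, 5, 1, 3, 1, 3, 3, 1, 2, 1, 3, 1, 2, 2, 1, 2]) (.leaf 240 12 [1, 2, 1, 3, 1, 3, 1, 3, 1, 2, 2, 1, 3, 1, 3, 6, 6, 4, 5, 5, 4, 6, 4, 5, 4, 6, 6, 4, 5, 5, 5, 2, 2, 1, 2, 1, 2, 2, 1, 3, 1, 3, 3]))) (.node 5306 (.leaf 242 19 [3, 3, 1, 3, 1, 2, 1, 3, 5, 5, 5, 4, 6, 6, 6, 4, 5, 5, 5, 4, 6, 6, 1, 3, 3, 1, 2, 1, 2, 2, 1, 3, 3, 1, 3, 1, 3, 3, 1, 3, 1]) (.node 5307 (.leaf 243 10 [2, 2, 1, 2, 1, 2, 2, 1, 2, 1, 3, 3, 1, 2, 1, 2, 1, 4, 6, 4, 5, 5, 5, 4, 6, 4, 5, 5, 4, 6, 2, 2, 1, 2, 1, 3, 1, 3, 3, 1]) (.leaf 253 20 [3, 3, 1, 2, 1, 3, 1, 6, 6, 4, 5, 5, 4, 6, 4, 5, 5, 5, 4, 6, 2, 1, 3, 1, 3, 3, 1, 2, 1, 3, 1, 2, 1, 2, 2, 1, 2, 1, 3, 1])))))) (.node 5319 (.node 5313 (.node 5310 (.node 5309 (.leaf 258 21 [1, 3, 1, 3, 1, 3, 3, 6, 4, 5, 5, 5, 5, 4, 6, 4, 5, 5, 5, 4, 6, 2, 1, 3, 3, 1, 3, 1, 2, 1, 2, 1, 2, 1, 2, 1, 2, 1, 3, 1, 3, 3]) (.leaf 261 5 [2, 2, 1, 2, 1, 2, 1, 2, 1, 2, 1, 2, 2, 1, 2, 1, 3, 1, 2, 1, 2, 1, 3, 4, 6, 4, 5, 5, 5, 4, 6, 6, 6, 4, 6, 1, 3, 1, 3, 1])) (.node 5311 (.leaf 263 10 [3, 1, 2, 2, 1, 2, 1, 3, 1, 2, 1, 2, 1, 2, 2, 1, 2, 1, 4, 5, 5, 5, 4, 6, 6, 4, 5, 5, 4, 6, 3, 3, 1, 3, 3, 1, 3, 1, 3, 1]) (.node 5312 (.leaf 274 16 [1, 3, 1, 3, 1, 2, 1, 2, 2, 1, 2, 1, 4, 5, 5, 4, 6, 6, 4, 5, 4, 6, 6, 6, 4, 5, 5, 5, 4, 1, 2, 1, 2, 1, 2, 1, 2, 1, 3, 1, 2, 1, 2, 1, 2]) (.leaf 287 11 [2, 1, 2, 1, 2, 1, 3, 1, 3, 3, 1, 2, 1, 3, 1, 2, 2, 4, 6, 4, 5, 5, 4, 6, 6, 4, 5, 4, 6, 6, 6, 4, 5, 2, 1, 3, 1, 3, 1, 3, 1, 3, 3, 1])))) (.node 5316 (.node 5314 (.leaf 311 10 [3, 3, 1, 2, 2, 1, 2, 1, 2, 2, 1, 3, 3, 1, 2, 1, 2, 2, 5, 4, 5, 5, 5, 4, 6, 4, 5, 5, 4, 2, 1, 3, 1, 2, 1, 3, 1, 2, 1]) (.node 5315 (.leaf 316 12 [3, 1, 2, 1, 3, 1, 2, 1, 2, 2, 1, 3, 3, 1, 2, 2, 6, 4, 5, 5, 4, 6, 4, 5, 5, 4, 6, 4, 5, 4, 2, 1, 3, 3, 1, 2, 1, 2, 2, 1, 2, 1]) (.leaf 321 20 [2, 1, 2, 1, 3, 1, 2, 1, 4, 6, 4, 5, 4, 6, 6, 4, 5, 4, 6, 6, 6, 4, 6, 2, 1, 3, 1, 2, 2, 1, 2, 1, 3, 3, 1, 2, 1, 2, 1, 3, 1, 3, 1]))) (.node 5317 (.leaf 326 15 [2, 1, 3, 3, 1, 3, 1, 2, 1, 3, 1, 3, 1, 5, 5, 4, 6, 6, 6, 4, 5, 4, 6, 6, 6, 4, 5, 5, 5, 2, 1, 2, 1, 2, 1, 2, 1, 3, 1, 2, 1, 2, 2, 1]) (.node 5318 (.leaf 344 18 [3, 1, 3, 3, 1, 3, 3, 1, 3, 3, 4, 6, 6, 4, 5, 5, 4, 6, 6, 2, 2, 1, 3, 3, 1, 2, 1, 3, 3, 1, 3, 3, 1, 2, 1, 2, 1]) (.leaf 365 6 [2, 1, 2, 2, 1, 2, 1, 2, 2, 1, 2, 2, 1, 2, 2, 1, 3, 1, 3, 1, 3, 1, 5, 4, 5, 5, 5, 5, 4, 6, 6, 6, 4, 5, 4, 2, 2, 1, 2, 1, 2]))))) (.node 5324 (.node 5321 (.node 5320 (.leaf 368 10 [1, 3, 3, 1, 2, 2, 1, 3, 3, 1, 3, 1, 2, 1, 2, 1, 2, 2, 4, 5, 5, 5, 4, 6, 6, 6, 4, 5, 5, 5, 4, 6, 2, 2, 1, 3, 3, 1, 3, 3, 1, 2]) (.leaf 382 15 [3, 3, 1, 3, 3, 1, 3, 3, 1, 3, 1, 2, 1, 4, 5, 5, 5, 5, 4, 6, 4, 5, 5, 4, 6, 1, 3, 1, 2, 2, 1, 3, 1, 2, 1, 3, 1, 2, 2, 1])) (.node 5322 (.leaf 45 7 [3, 1, 2, 1, 2, 2, 1, 2, 1, 2, 2, 1, 2, 1, 2, 2, 4, 6, 6, 6, 4, 5, 5, 5, 4, 6, 4, 5, 5, 5, 4, 6, 6, 1, 2, 2, 1, 3, 1, 3]) (.node 5323 (.leaf 69 18 [1, 3, 3, 1, 3, 3, 5, 5, 4, 6, 4, 5, 4, 6, 4, 5, 4, 6, 6, 4, 5, 4, 3, 3, 1, 2, 1, 3, 1, 3, 3, 1, 2, 2, 1, 2, 1, 3, 1, 3]) (.leaf 72 9 [2, 2, 1, 2, 1, 2, 1, 2, 1, 2, 1, 2, 2, 1, 3, 1, 6, 6, 6, 4, 5, 4, 6, 6, 4, 5, 2, 2, 1, 2, 1, 3, 1, 2, 1])))) (.node 5327 (.node 5325 (.leaf 78 16 [2, 1, 3, 1, 2, 1, 2, 2, 1, 5, 5, 4, 6, 6, 4, 5, 4, 6, 6, 6, 4, 5, 5, 5, 4, 2, 2, 1, 3, 1, 3, 1, 2, 2, 1, 2, 2, 1, 2, 1, 2]) (.node 5326 (.leaf 82 15 [2, 1, 2, 1, 3, 1, 3, 3, 1, 3, 6, 4, 5, 5, 5, 5, 4, 6, 4, 5, 5, 4, 6, 6, 4, 5, 2, 2, 1, 2, 2, 1, 2, 1, 2, 1, 2, 1, 2, 2, 1]) (.leaf 85 13 [3, 1, 2, 1, 3, 3, 1, 2, 2, 1, 2, 1, 6, 6, 6, 4, 5, 4, 6, 6, 6, 4, 5, 4, 6, 6, 6, 2, 2, 1, 2, 1, 3, 1, 3, 1, 3, 1, 3, 1]))) (.node 5328 (.leaf 108 16 [3, 3, 1, 3, 1, 2, 1, 2, 2, 4, 5, 4, 6, 4, 5, 5, 4, 6, 4, 5, 5, 5, 4, 2, 2, 1, 3, 1, 3, 3, 1, 2, 2, 1, 2, 2, 1, 2, 1]) (.node 5329 (.leaf 123 7 [1, 2, 1, 2, 2, 1, 3, 1, 2, 1, 3, 1, 2, 2, 1, 2, 1, 3, 1, 5, 4, 6, 4, 5, 4, 6, 6, 4, 5, 4, 6, 6, 6, 4, 6, 2, 2, 1, 3, 1, 3, 3]) (.leaf 131 14 [2, 2, 1, 3, 3, 1, 3, 1, 3, 1, 2, 2, 5, 4, 6, 6, 4, 5, 4, 6, 6, 6, 4, 5, 4, 2, 1, 3, 1, 2, 1, 3, 1, 3, 1, 2, 1, 2, 1])))))))) (.node 5374 (.node 5352 (.node 5341 (.node 5335 (.node 5332 (.node 5331 (.leaf 137 17 [2, 2, 1, 2, 2, 1, 3, 1, 3, 6, 6, 4, 5, 4, 6, 6, 4, 5, 4, 6, 4, 5, 5, 5, 4, 1, 3, 3, 1, 2, 2, 1, 3, 1, 3, 1, 3, 3, 1, 3, 3, 1]) (.leaf 152 17 [1, 2, 1, 2, 1, 2, 2, 1, 3, 5, 5, 5, 4, 6, 4, 5, 4, 6, 4, 5, 4, 6, 4, 5, 5, 1, 2, 2, 1, 3, 1, 3, 1, 2, 1, 3, 3, 1, 2, 1, 3, 3])) (.node 5333 (.leaf 164 8 [2, 2, 1, 3, 3, 1, 3, 1, 3, 1, 2, 1, 2, 2, 1, 3, 1, 2, 1, 6, 6, 4, 5, 4, 6, 6, 6, 4, 5, 4, 6, 6, 4, 5, 4, 3, 3, 1, 3, 3, 1, 2, 1]) (.node 5334 (.leaf 171 22 [2, 2, 1, 2, 1, 4, 5, 5, 5, 4, 6, 4, 5, 4, 6, 4, 5, 4, 6, 6, 1, 3, 1, 3, 3, 1, 3, 3, 1, 2, 1, 3, 3, 1, 2, 2, 1, 3, 1, 2, 2, 1]) (.leaf 172 16 [2, 1, 2, 1, 2, 2, 1, 3, 3, 1, 3, 4, 6, 6, 4, 5, 4, 6, 4, 1, 3, 3, 1, 3, 1, 2, 1, 2, 2, 1, 2, 1, 2, 2, 1])))) (.node 5338 (.node 5336 (.leaf 183 19 [2, 1, 3, 1, 3, 1, 3, 3, 4, 5, 5, 4, 6, 4, 5, 4, 6, 4, 5, 4, 6, 6, 4, 5, 4, 2, 2, 1, 2, 1, 2, 1, 3, 3, 1, 2, 1, 3, 1, 2, 1, 3, 1, 2]) (.node 5337 (.leaf 188 17 [2, 1, 2, 1, 2, 1, 2, 2, 1, 3, 4, 5, 4, 6, 4, 5, 4, 6, 4, 5, 4, 6, 4, 5, 4, 6, 2, 1, 3, 3, 1, 3, 1, 3, 1, 3, 3, 1, 3, 1, 2, 1, 2]) (.leaf 195 18 [1, 2, 1, 2, 1, 2, 1, 2, 1, 6, 4, 5, 4, 6, 6, 4, 5, 4, 6, 4, 5, 1, 2, 1, 3, 1, 2, 2, 1, 2, 1, 3, 1, 3, 1, 3, 3, 1, 3]))) (.node 5339 (.leaf 217 10 [3, 3, 1, 2, 1, 3, 1, 3, 1, 3, 1, 3, 1, 2, 1, 2, 2, 4, 5, 5, 5, 4, 6, 4, 5, 4, 6, 4, 5, 4, 6, 4, 5, 1, 2, 1, 3, 1, 2, 2, 1, 3, 1]) (.node 5340 (.leaf 232 10 [2, 2, 1, 2, 1, 3, 1, 2, 1, 2, 2, 1, 3, 1, 3, 3, 1, 6, 6, 4, 5, 5, 5, 4, 6, 6, 6, 4, 5, 5, 5, 1, 3, 1, 3, 3, 1, 2, 1, 3, 1]) (.leaf 234 20 [2, 1, 3, 3, 1, 3, 3, 5, 5, 4, 6, 4, 5, 4, 6, 4, 5, 4, 6, 6, 4, 5, 4, 2, 1, 2, 1, 2, 2, 1, 3, 1, 2, 1, 3, 1, 2, 1, 3, 3, 1, 3, 1]))))) (.node 5346 (.node 5343 (.node 5342 (.leaf 278 15 [2, 1, 2, 1, 2, 1, 2, 2, 1, 2, 1, 3, 1, 4, 5, 4, 6, 6, 6, 4, 5, 4, 6, 6, 4, 5, 4, 6, 4, 5, 2, 1, 3, 1, 2, 1, 3, 3, 1, 3, 1, 3, 1, 2, 1]) (.leaf 287 20 [3, 1, 2, 1, 3, 1, 2, 2, 4, 6, 4, 5, 5, 4, 6, 6, 4, 5, 4, 6, 6, 6, 4, 5, 2, 1, 3, 1, 3, 1, 3, 1, 3, 3, 1, 2, 1, 2, 1, 2, 1, 3, 1, 3])) (.node 5344 (.leaf 293 15 [3, 3, 1, 3, 1, 3, 1, 2, 1, 3, 1, 3, 3, 6, 6, 4, 5, 4, 6, 6, 6, 4, 5, 4, 6, 6, 4, 5, 1, 3, 3, 1, 3, 1, 2, 1, 3, 1, 2, 2, 1, 3, 1]) (.node 5345 (.leaf 297 19 [1, 2, 1, 2, 1, 3, 3, 1, 3, 4, 6, 6, 4, 5, 4, 6, 6, 6, 4, 5, 4, 6, 6, 4, 5, 5, 1, 3, 3, 1, 2, 2, 1, 3, 1, 2, 1, 2, 1, 3, 1, 2, 1, 3, 3]) (.leaf 344 12 [3, 1, 2, 1, 2, 1, 3, 1, 3, 3, 1, 3, 3, 1, 3, 3, 4, 6, 6, 4, 5, 5, 4, 6, 6, 2, 2, 1, 3, 3, 1, 2, 1, 3, 3, 1, 3])))) (.node 5349 (.node 5347 (.leaf 355 22 [1, 2, 1, 3, 3, 1, 5, 4, 6, 6, 4, 5, 4, 6, 6, 6, 4, 5, 4, 6, 2, 1, 3, 3, 1, 2, 1, 3, 3, 1, 2, 1, 2, 2, 1, 2, 2, 1, 2, 1, 3, 3]) (.node 5348 (.leaf 23 12 [3, 3, 1, 2, 1, 3, 1, 2, 1, 3, 4, 5, 4, 5, 5, 5, 4, 6, 4, 5, 1, 2, 1, 3, 1, 3, 3, 1, 3, 1, 2, 1]) (.leaf 24 16 [1, 3, 3, 1, 3, 1, 5, 5, 5, 5, 4, 6, 4, 5, 5, 1, 2, 1, 3, 1, 3, 3, 1, 3, 3, 1, 3, 1, 2, 1, 2]))) (.node 5350 (.leaf 25 7 [3, 1, 2, 1, 2, 2, 1, 3, 1, 2, 1, 2, 1, 2, 2, 4, 5, 4, 6, 4, 5, 4, 6, 4, 5, 4, 6, 6, 6, 4, 2, 2, 1, 2, 2, 1, 3]) (.node 5351 (.leaf 45 6 [3, 3, 1, 2, 1, 2, 2, 1, 2, 1, 2, 2, 1, 2, 1, 2, 2, 4, 6, 6, 6, 4, 5, 5, 5, 4, 6, 4, 5, 5, 5, 4, 6, 6, 1, 2, 2, 1, 3, 1]) (.leaf 58 8 [3, 1, 2, 2, 1, 2, 2, 1, 3, 1, 3, 3, 1, 3, 3, 1, 4, 6, 4, 5, 5, 5, 4, 6, 6, 4, 1, 3, 1, 3, 1, 2, 1, 3])))))) (.node 5363 (.node 5357 (.node 5354 (.node 5353 (.leaf 66 11 [2, 2, 1, 2, 1, 3, 3, 1, 2, 2, 1, 2, 2, 5, 5, 4, 6, 4, 5, 4, 6, 6, 4, 5, 5, 1, 3, 3, 1, 2, 1, 3, 1, 3, 3, 1]) (.leaf 80 7 [3, 1, 2, 1, 2, 2, 1, 2, 1, 3, 1, 2, 1, 3, 1, 2, 2, 1, 5, 4, 6, 4, 5, 5, 4, 6, 3, 3, 1, 2, 1, 3, 1])) (.node 5355 (.leaf 118 7 [2, 1, 2, 2, 1, 2, 1, 2, 1, 3, 1, 3, 3, 1, 3, 1, 2, 1, 3, 4, 5, 4, 6, 4, 5, 5, 4, 6, 4, 5, 5, 4, 6, 1, 3, 3, 1, 2, 1, 2]) (.node 5356 (.leaf 136 16 [2, 1, 2, 2, 1, 3, 3, 1, 3, 3, 4, 5, 4, 6, 6, 4, 5, 5, 4, 6, 4, 5, 5, 5, 4, 6, 6, 2, 1, 2, 1, 3, 1, 2, 1, 3, 3, 1, 2, 1, 2, 1, 2]) (.leaf 137 9 [3, 1, 3, 3, 1, 3, 3, 1, 2, 2, 1, 2, 2, 1, 3, 1, 3, 6, 6, 4, 5, 4, 6, 6, 4, 5, 4, 6, 4, 5, 5, 5, 4, 1, 3, 3, 1, 2, 2, 1, 3, 1])))) (.node 5360 (.node 5358 (.leaf 141 11 [1, 2, 1, 2, 1, 3, 1, 2, 1, 2, 1, 3, 3, 1, 3, 5, 5, 4, 6, 4, 5, 4, 6, 4, 5, 4, 6, 4, 5, 4, 2, 2, 1, 2, 1, 3, 3, 1, 3, 1, 3]) (.node 5359 (.leaf 165 18 [1, 2, 1, 2, 2, 1, 2, 2, 1, 4, 5, 5, 4, 6, 4, 5, 5, 4, 6, 4, 5, 4, 6, 6, 2, 1, 3, 1, 3, 1, 3, 3, 1, 3, 1, 3, 3, 1, 2, 1, 2, 2]) (.leaf 178 18 [2, 1, 3, 1, 3, 3, 1, 3, 1, 5, 5, 5, 4, 6, 4, 5, 5, 4, 6, 4, 5, 5, 5, 4, 5, 1, 3, 3, 1, 2, 1, 3, 3, 1, 2, 1, 2, 2, 1, 2, 1, 2, 1]))) (.node 5361 (.leaf 187 10 [1, 3, 3, 1, 3, 1, 3, 3, 1, 2, 2, 1, 2, 1, 3, 3, 1, 5, 5, 5, 4, 6, 6, 6, 4, 5, 4, 6, 6, 6, 4, 5, 3, 3, 1, 2, 2, 1, 2, 2, 1, 3]) (.node 5362 (.leaf 198 16 [2, 2, 1, 3, 1, 3, 1, 3, 3, 1, 3, 6, 6, 4, 5, 5, 4, 6, 4, 5, 5, 5, 4, 1, 2, 2, 1, 2, 1, 3, 3, 1, 2, 2, 1, 2, 1, 3, 1]) (.leaf 209 14 [2, 2, 1, 2, 2, 1, 2, 1, 3, 1, 3, 1, 3, 4, 5, 5, 4, 6, 4, 5, 5, 4, 6, 4, 5, 5, 2, 1, 2, 1, 3, 3, 1, 2, 1, 2, 2, 1, 2, 1]))))) (.node 5368 (.node 5365 (.node 5364 (.leaf 211 18 [2, 2, 1, 2, 1, 2, 1, 3, 1, 5, 5, 4, 6, 4, 5, 5, 4, 6, 4, 5, 4, 6, 4, 5, 1, 3, 1, 2, 1, 3, 3, 1, 3, 1, 2, 1, 2, 2, 1, 2, 2, 1]) (.leaf 274 12 [1, 2, 1, 2, 1, 3, 1, 3, 1, 2, 1, 2, 2, 1, 2, 1, 4, 5, 5, 4, 6, 6, 4, 5, 4, 6, 6, 6, 4, 5, 5, 5, 4, 1, 2, 1, 2, 1, 2, 1, 2, 1, 3, 1, 2])) (.node 5366 (.leaf 285 17 [3, 1, 2, 2, 1, 3, 1, 2, 1, 3, 1, 4, 5, 5, 5, 4, 6, 4, 5, 5, 4, 6, 6, 4, 5, 4, 6, 6, 1, 3, 1, 3, 3, 1, 3, 1, 2, 1, 2, 2, 1, 2, 2, 1, 3]) (.node 5367 (.leaf 288 16 [2, 2, 1, 3, 3, 1, 3, 3, 1, 3, 1, 3, 4, 6, 4, 5, 4, 6, 4, 5, 4, 6, 4, 5, 4, 6, 4, 5, 3, 3, 1, 2, 1, 3, 1, 3, 3, 1, 2, 1, 3, 1, 3, 1]) (.leaf 315 16 [2, 1, 2, 1, 2, 2, 1, 2, 1, 2, 1, 3, 6, 4, 5, 5, 4, 6, 4, 5, 5, 4, 6, 4, 6, 2, 2, 1, 3, 1, 3, 1, 2, 1, 3, 3, 1, 3, 1, 2, 1])))) (.node 5371 (.node 5369 (.leaf 334 16 [3, 1, 2, 1, 2, 1, 2, 2, 1, 3, 1, 3, 4, 5, 5, 4, 6, 4, 5, 4, 6, 4, 5, 4, 3, 3, 1, 2, 1, 2, 1, 2, 1, 3, 3, 1, 2, 2, 1, 3]) (.node 5370 (.leaf 337 4 [2, 1, 2, 1, 3, 1, 2, 2, 1, 2, 1, 2, 1, 2, 2, 1, 3, 3, 1, 3, 3, 1, 3, 1, 5, 5, 4, 6, 4, 5, 4, 6, 4, 5, 5, 4, 6, 4, 5, 3, 3, 1, 2]) (.leaf 347 22 [2, 2, 1, 3, 3, 1, 5, 4, 6, 6, 6, 4, 5, 5, 5, 4, 5, 1, 3, 3, 1, 2, 1, 2, 2, 1, 3, 1, 2, 1, 2, 1, 2, 1, 3, 3, 1, 3, 1]))) (.node 5372 (.leaf 349 9 [1, 2, 2, 1, 2, 2, 1, 2, 1, 2, 2, 1, 3, 1, 2, 2, 1, 3, 1, 5, 4, 5, 5, 5, 4, 6, 4, 5, 4, 6, 4, 5, 4, 6, 4, 1, 2, 1, 3, 1, 3, 3, 1, 2]) (.node 5373 (.leaf 378 17 [3, 3, 1, 2, 1, 2, 1, 2, 1, 3, 3, 4, 6, 4, 5, 5, 5, 4, 6, 6, 6, 4, 5, 4, 6, 3, 3, 1, 3, 3, 1, 3, 3, 1, 3, 1, 2, 1, 2, 1, 3, 1]) (.leaf 381 18 [1, 2, 2, 1, 2, 1, 3, 1, 3, 3, 4, 5, 5, 4, 6, 4, 5, 5, 4, 6, 6, 4, 2, 2, 1, 2, 1, 2, 1, 3, 1, 3, 3, 1, 3, 1, 2, 1, 3, 3]))))))) (.node 5396 (.node 5385 (.node 5379 (.node 5376 (.node 5375 (.leaf 383 17 [1, 2, 1, 2, 1, 2, 1, 2, 1, 2, 1, 6, 4, 5, 5, 5, 5, 4, 6, 6, 6, 4, 5, 4, 6, 3, 3, 1, 2, 2, 1, 2, 1, 2, 2, 1, 3, 1, 2, 2, 1, 2]) (.leaf 16 25 [4, 5, 4, 6, 4, 5, 4, 6, 6, 1, 2, 1, 3, 1, 2, 1, 3, 1, 2, 2, 1, 2, 1, 2, 1, 2, 2, 1, 6, 4, 5, 4, 6, 6])) (.node 5377 (.leaf 22 24 [4, 6, 4, 5, 4, 3, 3, 1, 2, 1, 2, 1, 2, 1, 2, 2, 1, 3, 1, 2, 2, 1, 2, 2, 1, 3, 1, 5, 5]) (.node 5378 (.leaf 27 24 [4, 5, 5, 4, 6, 4, 5, 5, 4, 1, 2, 1, 2, 2, 1, 3, 3, 1, 3, 1, 2, 1, 3, 1, 2, 2, 1, 2, 1, 2, 2, 4, 6]) (.leaf 30 32 [4, 6, 6, 6, 4, 5, 2, 2, 1, 2, 1, 3, 3, 1, 3, 1, 2, 1, 3, 3, 1, 2, 1, 3, 3, 1, 2, 1, 4, 5, 5, 5, 4, 6, 6, 6, 4, 5])))) (.node 5382 (.node 5380 (.leaf 35 12 [1, 2, 1, 2, 1, 2, 1, 2, 2, 1, 3, 5, 4, 6, 4, 5, 5, 4, 6, 6, 4, 5, 2, 2, 1, 3, 3, 1, 3, 1, 2, 2, 1, 2]) (.node 5381 (.leaf 37 23 [5, 5, 4, 6, 4, 5, 4, 6, 4, 5, 4, 6, 4, 5, 4, 6, 3, 3, 1, 2, 1, 3, 3, 1, 3, 1, 2, 1, 3, 3, 1, 3, 1, 3, 3, 1, 2, 1, 3]) (.leaf 42 37 [5, 2, 1, 2, 1, 2, 1, 2, 2, 1, 2, 2, 1, 3, 3, 1, 3, 3, 1, 3, 1, 3, 1, 3, 6, 4, 5, 4, 6, 4, 5, 4, 6, 4, 5, 4, 6, 4]))) (.node 5383 (.leaf 54 34 [5, 4, 6, 4, 1, 2, 2, 1, 3, 3, 1, 2, 1, 2, 1, 2, 2, 1, 2, 1, 3, 1, 2, 1, 2, 1, 3, 3, 5, 5, 4, 6, 4, 5, 4, 6, 4, 5]) (.node 5384 (.leaf 65 24 [6, 6, 4, 5, 5, 4, 6, 4, 5, 4, 6, 4, 5, 5, 5, 2, 2, 1, 3, 3, 1, 2, 1, 2, 1, 2, 1, 2, 1, 2, 1, 2, 1, 2, 1, 3, 1, 2, 1]) (.leaf 69 38 [5, 4, 3, 3, 1, 2, 1, 3, 1, 3, 3, 1, 2, 2, 1, 2, 1, 3, 1, 3, 1, 3, 3, 1, 3, 3, 5, 5, 4, 6, 4, 5, 4, 6, 4, 5, 4, 6, 6, 4]))))) (.node 5390 (.node 5387 (.node 5386 (.leaf 73 25 [4, 6, 6, 6, 4, 5, 4, 6, 6, 6, 4, 5, 4, 6, 6, 4, 2, 2, 1, 2, 1, 3, 3, 1, 3, 3, 1, 3, 1, 3, 1, 3, 3, 1, 2, 1, 3, 3, 1, 3, 3]) (.leaf 78 33 [6, 6, 6, 4, 5, 5, 5, 4, 2, 2, 1, 3, 1, 3, 1, 2, 2, 1, 2, 2, 1, 2, 1, 2, 2, 1, 3, 1, 2, 1, 2, 2, 1, 5, 5, 4, 6, 6, 4, 5, 4])) (.node 5388 (.leaf 81 14 [1, 3, 1, 2, 2, 1, 2, 1, 3, 1, 3, 5, 4, 5, 5, 5, 4, 6, 6, 4, 5, 5, 4, 6, 2, 1, 2, 1, 3, 1, 3, 3, 1, 2, 1, 3, 1, 2]) (.node 5389 (.leaf 84 33 [6, 6, 4, 2, 2, 1, 3, 3, 1, 2, 2, 1, 3, 1, 2, 1, 3, 1, 3, 1, 2, 1, 2, 2, 1, 2, 1, 3, 5, 4, 5, 5, 5, 5, 4, 6]) (.leaf 85 19 [1, 2, 2, 1, 2, 1, 6, 6, 6, 4, 5, 4, 6, 6, 6, 4, 5, 4, 6, 6, 6, 2, 2, 1, 2, 1, 3, 1, 3, 1, 3, 1, 3, 1, 3, 1, 2, 1, 3, 3])))) (.node 5393 (.node 5391 (.leaf 87 14 [1, 2, 2, 1, 2, 1, 3, 1, 2, 2, 1, 5, 5, 4, 6, 4, 5, 5, 5, 4, 6, 4, 5, 5, 5, 1, 3, 3, 1, 2, 2, 1, 2, 2, 1, 3, 3, 1, 3]) (.node 5392 (.leaf 102 38 [6, 6, 2, 1, 3, 3, 1, 3, 1, 2, 1, 2, 1, 3, 1, 2, 1, 3, 1, 3, 1, 2, 1, 2, 2, 1, 3, 5, 5, 4, 6, 4, 5, 5, 4, 6, 6, 4, 5, 4]) (.leaf 105 25 [4, 6, 6, 4, 5, 4, 6, 4, 5, 4, 6, 4, 5, 5, 4, 3, 3, 1, 2, 1, 3, 1, 2, 1, 2, 1, 2, 1, 3, 1, 3, 1, 3, 1, 2, 1, 3, 1, 2, 2]))) (.node 5394 (.leaf 118 26 [4, 5, 4, 6, 4, 5, 5, 4, 6, 4, 5, 5, 4, 6, 1, 3, 3, 1, 2, 1, 2, 2, 1, 2, 2, 1, 2, 1, 2, 1, 3, 1, 3, 3, 1, 3, 1, 2, 1, 3]) (.node 5395 (.leaf 123 28 [6, 4, 5, 4, 6, 6, 4, 5, 4, 6, 6, 6, 4, 6, 2, 2, 1, 3, 1, 3, 3, 1, 2, 1, 2, 2, 1, 3, 1, 2, 1, 3, 1, 2, 2, 1, 2, 1, 3, 1, 5, 4]) (.leaf 125 28 [6, 4, 5, 4, 6, 6, 4, 5, 4, 6, 4, 5, 2, 1, 3, 3, 1, 2, 2, 1, 3, 1, 2, 1, 2, 2, 1, 2, 1, 2, 1, 3, 3, 1, 2, 1, 2, 1, 4, 6])))))) (.node 5407 (.node 5401 (.node 5398 (.node 5397 (.leaf 129 34 [5, 5, 1, 2, 1, 3, 1, 2, 1, 2, 2, 1, 3, 1, 2, 2, 1, 3, 1, 2, 1, 2, 2, 1, 2, 1, 3, 3, 5, 5, 5, 4, 6, 6, 6, 4]) (.leaf 129 27 [5, 5, 4, 6, 6, 6, 4, 5, 5, 1, 2, 1, 3, 1, 2, 1, 2, 2, 1, 3, 1, 2, 2, 1, 3, 1, 2, 1, 2, 2, 1, 2, 1, 3, 3, 5])) (.node 5399 (.leaf 134 3 [2, 1, 3, 1, 3, 3, 1, 3, 1, 2, 1, 3, 1, 2, 1, 3, 3, 1, 2, 2, 1, 2, 2, 5, 4, 6, 4, 5, 4, 6, 4, 5, 4, 6, 4, 1, 2, 1]) (.node 5400 (.leaf 139 26 [4, 5, 4, 6, 6, 6, 4, 5, 4, 6, 6, 4, 5, 4, 6, 4, 3, 3, 1, 2, 2, 1, 2, 2, 1, 2, 1, 3, 1, 2, 2, 1, 2, 2, 1, 3, 3, 1, 3, 1, 3, 3]) (.leaf 150 26 [4, 6, 6, 4, 5, 4, 6, 6, 6, 4, 5, 4, 6, 6, 4, 5, 1, 2, 1, 3, 1, 2, 1, 2, 2, 1, 2, 2, 1, 2, 1, 2, 2, 1, 2, 1, 3, 3, 1, 2, 1, 3])))) (.node 5404 (.node 5402 (.leaf 153 24 [1, 3, 4, 6, 6, 6, 4, 5, 5, 5, 4, 5, 1, 3, 1, 3, 1, 2, 2, 1, 2, 1, 2, 1, 2, 2, 1, 2, 1, 2, 2, 1, 2, 1, 3, 3]) (.node 5403 (.leaf 154 40 [6, 6, 2, 1, 2, 2, 1, 3, 1, 2, 1, 2, 1, 2, 1, 2, 2, 1, 3, 1, 3, 1, 2, 1, 3, 1, 2, 2, 4, 5, 4, 5, 5, 5, 4, 6, 4, 5, 5, 5, 4, 6]) (.leaf 156 37 [6, 4, 5, 5, 4, 6, 4, 1, 2, 1, 2, 1, 3, 3, 1, 3, 3, 1, 2, 1, 2, 2, 1, 3, 1, 3, 1, 2, 1, 3, 3, 1, 3, 3, 5, 5, 4, 6, 6, 6, 4, 5, 4, 6]))) (.node 5405 (.leaf 162 27 [5, 4, 5, 5, 5, 4, 6, 4, 5, 5, 4, 6, 4, 5, 1, 2, 2, 1, 2, 2, 1, 3, 1, 3, 1, 3, 1, 2, 2, 1, 2, 2, 1, 2, 1, 2, 1, 3, 1, 2, 2]) (.node 5406 (.leaf 163 19 [2, 1, 2, 1, 3, 3, 1, 3, 4, 6, 6, 4, 5, 5, 4, 6, 4, 5, 5, 5, 4, 6, 4, 5, 3, 3, 1, 3, 3, 1, 3, 1, 2, 1, 2, 1, 2, 2, 1, 3, 1, 3, 1]) (.leaf 165 27 [4, 5, 5, 4, 6, 4, 5, 5, 4, 6, 4, 5, 4, 6, 6, 2, 1, 3, 1, 3, 1, 3, 3, 1, 3, 1, 3, 3, 1, 2, 1, 2, 2, 1, 2, 1, 2, 2, 1, 2, 2, 1]))))) (.node 5412 (.node 5409 (.node 5408 (.leaf 173 12 [2, 2, 1, 3, 1, 3, 3, 1, 2, 2, 1, 2, 1, 3, 1, 5, 4, 6, 4, 5, 4, 6, 4, 5, 4, 6, 4, 5, 4, 6, 6, 2, 1, 2, 2, 1, 2, 1, 2, 2, 1, 3, 1]) (.leaf 187 39 [6, 4, 5, 3, 3, 1, 2, 2, 1, 2, 2, 1, 3, 1, 3, 3, 1, 3, 1, 3, 3, 1, 2, 2, 1, 2, 1, 3, 3, 1, 5, 5, 5, 4, 6, 6, 6, 4, 5, 4, 6, 6])) (.node 5410 (.leaf 200 7 [1, 2, 2, 1, 2, 1, 2, 2, 1, 2, 1, 2, 1, 3, 3, 1, 3, 3, 1, 3, 5, 4, 6, 4, 5, 5, 5, 4, 6, 4, 5, 5, 4, 1, 2, 2, 1, 3, 1, 3]) (.node 5411 (.leaf 202 42 [5, 1, 3, 1, 2, 2, 1, 2, 1, 2, 2, 1, 2, 2, 1, 3, 3, 1, 2, 1, 2, 2, 1, 2, 1, 2, 2, 1, 5, 5, 5, 5, 4, 6, 4, 5, 5, 5, 4, 6, 4, 5, 5]) (.leaf 202 28 [5, 5, 5, 4, 6, 4, 5, 5, 5, 4, 6, 4, 5, 5, 5, 1, 3, 1, 2, 2, 1, 2, 1, 2, 2, 1, 2, 2, 1, 3, 3, 1, 2, 1, 2, 2, 1, 2, 1, 2, 2, 1, 5])))) (.node 5415 (.node 5413 (.leaf 204 41 [5, 5, 1, 2, 1, 3, 1, 2, 1, 2, 2, 1, 2, 1, 2, 1, 3, 1, 3, 1, 3, 1, 3, 1, 2, 1, 2, 1, 3, 5, 5, 4, 6, 4, 5, 4, 6, 4, 5, 4, 6, 4, 5]) (.node 5414 (.leaf 216 11 [3, 1, 2, 2, 1, 3, 1, 3, 1, 2, 1, 3, 3, 1, 3, 1, 6, 4, 5, 5, 4, 6, 2, 2, 1, 2, 1, 3, 3, 1, 3, 1, 3]) (.leaf 218 5 [3, 1, 2, 2, 1, 3, 1, 3, 1, 2, 1, 2, 2, 1, 2, 2, 1, 2, 1, 2, 1, 3, 4, 6, 4, 5, 5, 5, 4, 6, 4, 5, 4, 6, 6, 4, 5, 4, 2, 2, 1, 3, 1]))) (.node 5416 (.leaf 218 30 [5, 5, 5, 4, 6, 4, 5, 4, 6, 6, 4, 5, 4, 2, 2, 1, 3, 1, 3, 1, 2, 2, 1, 3, 1, 3, 1, 2, 1, 2, 2, 1, 2, 2, 1, 2, 1, 2, 1, 3, 4, 6, 4]) (.node 5417 (.leaf 223 10 [1, 3, 1, 2, 1, 2, 2, 1, 2, 2, 1, 2, 2, 1, 3, 1, 3, 4, 5, 5, 4, 6, 4, 5, 5, 5, 4, 6, 4, 5, 5, 4, 2, 1, 3, 1, 3, 1, 3, 1, 3, 3]) (.leaf 229 22 [2, 1, 2, 2, 1, 4, 6, 6, 4, 5, 4, 6, 4, 5, 5, 4, 6, 4, 5, 5, 5, 2, 1, 2, 2, 1, 2, 1, 3, 1, 3, 1, 2, 1, 2, 1, 3, 1, 2, 1, 2, 1, 2]))))))))) (.node 5505 (.node 5461 (.node 5439 (.node 5428 (.node 5423 (.node 5420 (.node 5419 (.leaf 229 29 [6, 4, 5, 4, 6, 4, 5, 5, 4, 6, 4, 5, 5, 5, 2, 1, 2, 2, 1, 2, 1, 3, 1, 3, 1, 2, 1, 2, 1, 3, 1, 2, 1, 2, 1, 2, 2, 1, 2, 2, 1, 4, 6]) (.leaf 252 27 [4, 5, 5, 5, 4, 6, 6, 4, 5, 4, 6, 4, 5, 5, 5, 4, 6, 1, 2, 1, 2, 1, 2, 2, 1, 3, 3, 1, 2, 2, 1, 3, 3, 1, 2, 2, 1, 3, 3, 1, 3, 1, 3, 1])) (.node 5421 (.leaf 256 9 [3, 1, 2, 1, 2, 2, 1, 2, 2, 1, 3, 1, 2, 1, 2, 1, 3, 1, 4, 5, 5, 4, 6, 4, 5, 4, 6, 4, 5, 4, 1, 2, 2, 1, 3, 1, 3, 1, 3]) (.node 5422 (.leaf 263 16 [1, 3, 1, 2, 1, 2, 1, 2, 2, 1, 2, 1, 4, 5, 5, 5, 4, 6, 6, 4, 5, 5, 4, 6, 3, 3, 1, 3, 3, 1, 3, 1, 3, 1, 3, 1, 2, 2, 1, 2]) (.leaf 264 2 [3, 1, 3, 1, 2, 2, 1, 3, 1, 2, 1, 2, 1, 2, 1, 3, 1, 2, 2, 1, 3, 1, 2, 1, 2, 2, 4, 6, 4, 5, 5, 5, 4, 6, 4, 5, 5, 4, 6, 2, 1])))) (.node 5425 (.node 5424 (.leaf 264 29 [6, 4, 5, 5, 5, 4, 6, 4, 5, 5, 4, 6, 2, 1, 3, 1, 3, 1, 2, 2, 1, 3, 1, 2, 1, 2, 1, 2, 1, 3, 1, 2, 2, 1, 3, 1, 2, 1, 2, 2, 4]) (.leaf 269 11 [3, 1, 2, 1, 2, 2, 1, 3, 1, 2, 1, 3, 3, 1, 2, 1, 3, 5, 5, 4, 6, 6, 4, 5, 4, 6, 4, 5, 5, 4, 6, 4, 2, 1, 3, 1, 2, 1, 2, 2, 1, 3, 1])) (.node 5426 (.leaf 279 43 [6, 1, 3, 1, 3, 1, 2, 2, 1, 2, 2, 1, 3, 1, 2, 1, 2, 2, 1, 2, 1, 2, 1, 3, 1, 2, 1, 3, 1, 5, 5, 4, 6, 6, 6, 4, 5, 4, 6, 6, 6, 4, 5, 4]) (.node 5427 (.leaf 283 36 [5, 5, 4, 6, 4, 5, 4, 1, 2, 1, 2, 1, 2, 1, 3, 1, 3, 1, 2, 2, 1, 2, 2, 1, 3, 1, 2, 1, 3, 1, 3, 1, 3, 1, 3, 4, 5, 5, 5, 5, 4, 6, 4]) (.leaf 283 3 [2, 1, 2, 1, 3, 1, 3, 1, 2, 2, 1, 2, 2, 1, 3, 1, 2, 1, 3, 1, 3, 1, 3, 1, 3, 4, 5, 5, 5, 5, 4, 6, 4, 5, 5, 4, 6, 4, 5, 4, 1, 2, 1]))))) (.node 5433 (.node 5430 (.node 5429 (.leaf 300 16 [3, 3, 1, 3, 1, 2, 1, 3, 3, 1, 3, 1, 5, 5, 5, 4, 6, 6, 6, 4, 5, 4, 6, 6, 4, 5, 5, 1, 3, 1, 3, 3, 1, 2, 2, 1, 2, 1, 3, 3, 1, 2, 1]) (.leaf 327 4 [1, 2, 2, 1, 2, 1, 3, 1, 2, 1, 3, 3, 1, 2, 1, 2, 1, 3, 1, 2, 2, 1, 3, 1, 4, 6, 4, 5, 5, 5, 5, 4, 6, 4, 5, 5, 5, 4, 6, 4, 2, 2, 1, 2])) (.node 5431 (.leaf 331 39 [4, 2, 1, 2, 1, 2, 2, 1, 3, 3, 1, 2, 1, 2, 2, 1, 3, 1, 2, 1, 3, 3, 1, 3, 1, 2, 1, 3, 1, 4, 5, 5, 4, 6, 4, 5, 4, 6, 6, 6]) (.node 5432 (.leaf 360 10 [1, 3, 3, 1, 2, 2, 1, 3, 1, 2, 2, 1, 2, 1, 3, 3, 1, 3, 6, 4, 5, 4, 6, 6, 4, 5, 4, 6, 6, 6, 4, 5, 4, 6, 2, 1, 2, 1, 2, 1, 3, 3, 1, 3]) (.leaf 361 5 [3, 1, 2, 2, 1, 2, 1, 2, 2, 1, 2, 2, 1, 2, 1, 3, 1, 2, 2, 1, 2, 2, 1, 6, 6, 4, 5, 5, 4, 6, 4, 5, 5, 5, 4, 6, 6, 6, 4, 2, 1, 3, 1, 3])))) (.node 5436 (.node 5434 (.leaf 363 17 [1, 3, 1, 3, 3, 1, 2, 1, 3, 1, 3, 4, 6, 6, 4, 5, 4, 6, 4, 5, 4, 6, 4, 5, 4, 6, 4, 1, 3, 1, 3, 3, 1, 2, 2, 1, 2, 2, 1, 3, 3, 1, 3, 3]) (.node 5435 (.leaf 383 9 [2, 1, 3, 1, 2, 2, 1, 2, 1, 2, 1, 2, 1, 2, 1, 2, 1, 2, 1, 6, 4, 5, 5, 5, 5, 4, 6, 6, 6, 4, 5, 4, 6, 3, 3, 1, 2, 2, 1, 2, 1, 2]) (.leaf 392 15 [3, 3, 1, 2, 1, 3, 1, 3, 3, 1, 3, 3, 1, 3, 6, 6, 4, 5, 5, 5, 4, 6, 6, 6, 4, 5, 5, 2, 1, 2, 2, 1, 2, 2, 1, 2, 1, 3, 1, 2, 2, 1]))) (.node 5437 (.leaf 396 19 [3, 3, 1, 2, 2, 1, 3, 1, 2, 2, 4, 5, 5, 5, 4, 6, 4, 5, 5, 5, 4, 6, 4, 5, 5, 4, 6, 4, 1, 2, 1, 2, 1, 2, 1, 3, 1, 2, 1, 2, 1, 3, 1, 3, 1, 2, 1]) (.node 5438 (.leaf 39 20 [2, 2, 1, 4, 5, 5, 4, 6, 4, 5, 5, 4, 6, 6, 4, 5, 5, 1, 3, 3, 1, 2, 2, 1, 2, 2, 1, 3, 1, 2, 1, 3, 3, 1, 3, 3, 1]) (.leaf 61 16 [2, 2, 1, 3, 3, 1, 2, 2, 4, 6, 6, 6, 4, 5, 4, 6, 6, 6, 4, 5, 4, 6, 2, 1, 3, 1, 3, 3, 1, 2, 2, 1, 3, 1, 2, 1, 2, 1])))))) (.node 5450 (.node 5444 (.node 5441 (.node 5440 (.leaf 62 12 [1, 2, 2, 1, 2, 1, 3, 1, 3, 1, 3, 1, 4, 5, 4, 6, 6, 4, 5, 4, 6, 4, 5, 4, 6, 6, 4, 2, 1, 3, 3, 1, 3, 3, 1, 2, 2, 1, 2]) (.leaf 79 15 [1, 3, 1, 3, 3, 1, 3, 1, 3, 3, 4, 5, 5, 5, 4, 6, 4, 5, 5, 4, 6, 6, 6, 1, 2, 1, 3, 3, 1, 2, 1, 2, 1, 2, 1, 2, 1, 3])) (.node 5442 (.leaf 103 14 [3, 3, 1, 3, 1, 3, 1, 2, 2, 1, 3, 4, 6, 6, 4, 5, 4, 6, 6, 6, 4, 5, 5, 5, 4, 6, 2, 1, 2, 1, 2, 1, 3, 1, 3, 3, 1, 2, 2, 1]) (.node 5443 (.leaf 120 4 [1, 3, 3, 1, 3, 1, 3, 1, 2, 1, 3, 1, 3, 1, 3, 1, 3, 3, 1, 2, 1, 3, 4, 6, 4, 6, 6, 6, 4, 5, 5, 1, 3, 1, 3]) (.leaf 126 5 [2, 2, 1, 3, 3, 1, 2, 1, 3, 1, 2, 1, 2, 1, 2, 1, 3, 3, 1, 3, 1, 6, 4, 5, 5, 4, 6, 4, 5, 5, 4, 6, 1, 3, 1, 2, 1])))) (.node 5447 (.node 5445 (.leaf 137 15 [3, 1, 2, 2, 1, 2, 2, 1, 3, 1, 3, 6, 6, 4, 5, 4, 6, 6, 4, 5, 4, 6, 4, 5, 5, 5, 4, 1, 3, 3, 1, 2, 2, 1, 3, 1, 3, 1, 3, 3, 1, 3]) (.node 5446 (.leaf 139 4 [2, 1, 2, 2, 1, 2, 1, 3, 1, 2, 2, 1, 2, 2, 1, 3, 3, 1, 3, 1, 3, 3, 4, 5, 4, 6, 6, 6, 4, 5, 4, 6, 6, 4, 5, 4, 6, 4, 3, 3, 1, 2]) (.leaf 152 9 [1, 3, 3, 1, 2, 1, 3, 3, 1, 2, 1, 2, 1, 2, 2, 1, 3, 5, 5, 5, 4, 6, 4, 5, 4, 6, 4, 5, 4, 6, 4, 5, 5, 1, 2, 2, 1, 3, 1, 3, 1, 2]))) (.node 5448 (.leaf 179 17 [2, 2, 1, 3, 3, 1, 3, 1, 2, 1, 5, 4, 5, 5, 5, 4, 6, 6, 6, 4, 3, 3, 1, 2, 1, 2, 1, 3, 1, 2, 1, 2, 2, 1, 3, 3, 1]) (.node 5449 (.leaf 228 6 [1, 2, 1, 2, 1, 3, 1, 2, 1, 2, 1, 2, 1, 2, 1, 2, 2, 1, 2, 1, 3, 6, 4, 6, 6, 6, 4, 5, 4, 6, 6, 4, 5, 4, 5, 1, 3, 3, 1, 3, 3]) (.leaf 243 16 [2, 1, 2, 1, 3, 3, 1, 2, 1, 2, 1, 4, 6, 4, 5, 5, 5, 4, 6, 4, 5, 5, 4, 6, 2, 2, 1, 2, 1, 3, 1, 3, 3, 1, 2, 2, 1, 2, 1, 2]))))) (.node 5455 (.node 5452 (.node 5451 (.leaf 254 3 [3, 1, 3, 1, 2, 1, 3, 1, 2, 1, 2, 1, 2, 1, 2, 2, 1, 3, 1, 3, 3, 1, 2, 2, 4, 5, 5, 5, 4, 6, 4, 5, 4, 6, 6, 4, 5, 5, 5, 3, 3, 1]) (.leaf 268 23 [2, 2, 1, 2, 2, 4, 6, 4, 5, 5, 5, 4, 6, 4, 5, 4, 6, 6, 4, 5, 4, 1, 3, 3, 1, 3, 1, 3, 3, 1, 2, 1, 3, 3, 1, 2, 1, 3, 3, 1, 2, 1, 2, 1])) (.node 5453 (.leaf 279 15 [2, 2, 1, 2, 1, 2, 1, 3, 1, 2, 1, 3, 1, 5, 5, 4, 6, 6, 6, 4, 5, 4, 6, 6, 6, 4, 5, 4, 6, 1, 3, 1, 3, 1, 2, 2, 1, 2, 2, 1, 3, 1, 2, 1]) (.node 5454 (.leaf 284 20 [2, 1, 3, 3, 1, 3, 1, 3, 4, 6, 4, 5, 5, 5, 4, 6, 6, 1, 3, 1, 3, 1, 2, 1, 3, 1, 2, 2, 1, 3, 1, 2, 2, 1, 3, 3, 1]) (.leaf 319 3 [1, 3, 1, 2, 1, 3, 1, 2, 1, 3, 3, 1, 3, 1, 2, 2, 1, 3, 1, 2, 1, 3, 1, 3, 3, 4, 6, 6, 6, 4, 5, 5, 5, 4, 6, 4, 5, 5, 4, 6, 6, 1, 2, 2])))) (.node 5458 (.node 5456 (.leaf 320 21 [2, 2, 1, 2, 2, 1, 3, 6, 4, 5, 5, 5, 5, 4, 6, 4, 5, 5, 5, 4, 6, 1, 3, 3, 1, 3, 3, 1, 3, 1, 2, 2, 1, 3, 3, 1, 3, 1, 3, 1, 2, 1]) (.node 5457 (.leaf 339 6 [1, 3, 1, 2, 2, 1, 3, 1, 2, 2, 1, 3, 1, 2, 2, 1, 2, 1, 3, 1, 2, 2, 6, 6, 6, 4, 5, 5, 5, 4, 6, 6, 6, 4, 2, 1, 3, 3, 1, 2]) (.leaf 353 7 [3, 3, 1, 3, 1, 2, 1, 2, 2, 1, 2, 2, 1, 2, 2, 1, 2, 1, 2, 2, 1, 5, 4, 5, 5, 5, 4, 6, 4, 5, 5, 4, 6, 4, 5, 4, 6, 6, 6, 2, 1, 2, 2, 1, 3, 1]))) (.node 5459 (.leaf 355 27 [1, 5, 4, 6, 6, 4, 5, 4, 6, 6, 6, 4, 5, 4, 6, 2, 1, 3, 3, 1, 2, 1, 3, 3, 1, 2, 1, 2, 2, 1, 2, 2, 1, 2, 1, 3, 3, 1, 2, 1, 3, 3]) (.node 5460 (.leaf 356 8 [3, 1, 2, 1, 3, 3, 1, 3, 3, 1, 2, 1, 3, 1, 3, 1, 2, 1, 2, 2, 6, 4, 5, 4, 6, 4, 5, 4, 6, 6, 6, 1, 2, 2, 1, 3, 1, 3, 1]) (.leaf 391 20 [2, 1, 2, 2, 1, 3, 1, 2, 1, 5, 5, 4, 6, 6, 6, 4, 5, 4, 6, 6, 4, 5, 5, 4, 6, 6, 1, 3, 3, 1, 2, 1, 3, 1, 3, 3, 1, 3, 1, 2, 1, 3, 1, 3, 3, 1]))))))) (.node 5483 (.node 5472 (.node 5466 (.node 5463 (.node 5462 (.leaf 395 8 [3, 1, 3, 1, 3, 3, 1, 2, 1, 2, 2, 1, 2, 1, 2, 2, 1, 2, 1, 3, 3, 6, 6, 6, 4, 5, 5, 5, 4, 6, 4, 5, 5, 4, 6, 4, 1, 3, 1, 3, 1, 2, 1, 3]) (.leaf 13 20 [4, 5, 4, 6, 6, 4, 5, 4, 5, 1, 3, 3, 1, 2, 1, 2, 1, 2, 1, 2, 2, 1, 3, 3, 1, 2, 1, 4, 6])) (.node 5464 (.leaf 44 34 [4, 3, 3, 1, 3, 3, 1, 2, 2, 1, 2, 1, 2, 1, 3, 1, 3, 3, 1, 2, 1, 2, 2, 1, 4, 6, 4, 5, 4, 6, 6, 4, 5, 5, 5]) (.node 5465 (.leaf 49 33 [5, 4, 6, 4, 2, 1, 2, 1, 3, 3, 1, 2, 2, 1, 3, 3, 1, 3, 1, 3, 1, 2, 1, 2, 1, 2, 1, 3, 5, 5, 4, 6, 4, 5, 4, 6, 4]) (.leaf 88 33 [6, 4, 5, 4, 2, 2, 1, 2, 2, 1, 3, 3, 1, 3, 1, 2, 2, 1, 3, 1, 3, 1, 3, 1, 3, 3, 1, 2, 1, 5, 4, 6, 4, 5, 5, 4, 6])))) (.node 5469 (.node 5467 (.leaf 88 35 [5, 4, 2, 2, 1, 2, 2, 1, 3, 3, 1, 3, 1, 2, 2, 1, 3, 1, 3, 1, 3, 1, 3, 3, 1, 2, 1, 5, 4, 6, 4, 5, 5, 4, 6, 6, 4]) (.node 5468 (.leaf 190 40 [6, 1, 3, 1, 2, 1, 2, 2, 1, 2, 2, 1, 3, 1, 2, 2, 1, 2, 1, 2, 1, 3, 1, 3, 1, 2, 1, 3, 4, 5, 5, 4, 6, 4, 5, 5, 4, 6, 4, 5, 4]) (.leaf 198 33 [6, 4, 5, 5, 5, 4, 1, 2, 2, 1, 2, 1, 3, 3, 1, 2, 2, 1, 2, 1, 3, 1, 2, 2, 1, 3, 1, 3, 1, 3, 3, 1, 3, 6, 6, 4, 5, 5, 4]))) (.node 5470 (.leaf 222 27 [4, 5, 5, 5, 5, 4, 6, 4, 5, 5, 4, 6, 6, 4, 1, 2, 1, 3, 3, 1, 2, 2, 1, 3, 1, 3, 1, 2, 2, 1, 3, 1, 2, 1, 3, 3, 1, 2, 1, 3, 1]) (.node 5471 (.leaf 235 34 [5, 4, 5, 2, 2, 1, 3, 1, 3, 1, 2, 1, 2, 1, 2, 1, 2, 1, 3, 1, 2, 2, 1, 3, 1, 3, 1, 2, 1, 3, 4, 6, 6, 6, 4, 5, 5]) (.leaf 245 27 [5, 5, 4, 6, 6, 4, 5, 4, 6, 4, 5, 4, 6, 4, 2, 2, 1, 3, 3, 1, 2, 2, 1, 3, 1, 2, 2, 1, 3, 1, 3, 1, 2, 1, 2, 2, 1, 2, 1, 3, 3]))))) (.node 5477 (.node 5474 (.node 5473 (.leaf 246 27 [6, 6, 6, 4, 5, 4, 6, 6, 4, 5, 4, 6, 4, 1, 2, 1, 2, 2, 1, 2, 2, 1, 2, 1, 2, 1, 2, 1, 3, 3, 1, 3, 1, 3, 3, 1, 3, 1, 3, 3]) (.leaf 259 9 [1, 3, 1, 2, 2, 1, 2, 1, 3, 3, 1, 3, 1, 3, 1, 3, 1, 2, 1, 6, 4, 5, 4, 6, 6, 6, 4, 6, 1, 2, 1, 2, 1, 2, 2, 1, 3])) (.node 5475 (.leaf 280 28 [6, 4, 5, 4, 6, 6, 4, 5, 5, 4, 6, 4, 5, 5, 5, 2, 1, 3, 3, 1, 2, 2, 1, 2, 1, 2, 1, 3, 1, 3, 1, 2, 1, 3, 1, 2, 2, 1, 3, 1, 2, 1, 3]) (.node 5476 (.leaf 288 28 [4, 6, 4, 5, 4, 6, 4, 5, 4, 6, 4, 5, 4, 6, 4, 5, 3, 3, 1, 2, 1, 3, 1, 3, 3, 1, 2, 1, 3, 1, 3, 1, 2, 2, 1, 3, 3, 1, 3, 3, 1, 3, 1, 3]) (.leaf 289 29 [4, 6, 6, 6, 6, 4, 5, 4, 1, 3, 1, 3, 1, 3, 3, 1, 3, 1, 2, 1, 2, 2, 1, 3, 1, 2, 1, 2, 2, 1, 3, 3, 1, 3, 1, 3, 6])))) (.node 5480 (.node 5478 (.leaf 301 28 [5, 4, 6, 4, 5, 4, 6, 4, 5, 4, 6, 6, 4, 5, 5, 1, 3, 1, 3, 1, 3, 1, 2, 1, 3, 1, 2, 2, 1, 2, 2, 1, 3, 1, 3, 3, 1, 2, 1, 3, 3, 1, 3]) (.node 5479 (.leaf 323 32 [4, 6, 4, 5, 4, 6, 4, 5, 4, 6, 1, 3, 3, 1, 2, 1, 3, 3, 1, 3, 3, 1, 3, 1, 2, 1, 3, 1, 2, 1, 3, 1, 3, 1, 3, 1, 3, 3, 6, 6, 4, 5]) (.leaf 328 20 [1, 3, 3, 1, 3, 1, 3, 1, 6, 6, 4, 5, 4, 6, 4, 5, 4, 6, 6, 6, 4, 2, 1, 3, 1, 2, 1, 2, 1, 3, 3, 1, 2, 2, 1, 3, 1, 3, 3, 1, 3]))) (.node 5481 (.leaf 331 30 [5, 4, 6, 4, 5, 4, 6, 6, 6, 4, 2, 1, 2, 1, 2, 2, 1, 3, 3, 1, 2, 1, 2, 2, 1, 3, 1, 2, 1, 3, 3, 1, 3, 1, 2, 1, 3, 1, 4, 5]) (.node 5482 (.leaf 332 0 [2, 2, 1, 3, 1, 2, 1, 3, 1, 3, 1, 3, 1, 2, 2, 1, 3, 1, 3, 1, 2, 1, 3, 1, 2, 1, 2, 2, 4, 6, 4, 5, 4, 6, 4, 5, 4, 6, 6, 6, 4, 5, 4]) (.leaf 332 42 [4, 2, 2, 1, 3, 1, 2, 1, 3, 1, 3, 1, 3, 1, 2, 2, 1, 3, 1, 3, 1, 2, 1, 3, 1, 2, 1, 2, 2, 4, 6, 4, 5, 4, 6, 4, 5, 4, 6, 6, 6, 4, 5])))))) (.node 5494 (.node 5488 (.node 5485 (.node 5484 (.leaf 332 29 [6, 4, 5, 4, 6, 4, 5, 4, 6, 6, 6, 4, 5, 4, 2, 2, 1, 3, 1, 2, 1, 3, 1, 3, 1, 3, 1, 2, 2, 1, 3, 1, 3, 1, 2, 1, 3, 1, 2, 1, 2, 2, 4]) (.leaf 334 7 [2, 1, 3, 3, 1, 2, 2, 1, 3, 3, 1, 2, 1, 2, 1, 2, 2, 1, 3, 1, 3, 4, 5, 5, 4, 6, 4, 5, 4, 6, 4, 5, 4, 3, 3, 1, 2, 1, 2, 1])) (.node 5486 (.leaf 337 42 [5, 3, 3, 1, 2, 2, 1, 2, 1, 3, 1, 2, 2, 1, 2, 1, 2, 1, 2, 2, 1, 3, 3, 1, 3, 3, 1, 3, 1, 5, 5, 4, 6, 4, 5, 4, 6, 4, 5, 5, 4, 6, 4]) (.node 5487 (.leaf 341 1 [3, 1, 2, 2, 1, 2, 1, 2, 2, 1, 2, 2, 1, 3, 1, 3, 3, 1, 3, 1, 2, 1, 3, 3, 1, 3, 1, 4, 5, 4, 6, 4, 5, 4, 6, 4, 5, 4, 6, 4, 5, 5, 3]) (.leaf 355 29 [4, 6, 6, 4, 5, 4, 6, 6, 6, 4, 5, 4, 6, 2, 1, 3, 3, 1, 2, 1, 3, 3, 1, 2, 1, 2, 2, 1, 2, 2, 1, 2, 1, 3, 3, 1, 2, 1, 3, 3, 1, 5])))) (.node 5491 (.node 5489 (.leaf 356 18 [2, 1, 3, 1, 3, 1, 2, 1, 2, 2, 6, 4, 5, 4, 6, 4, 5, 4, 6, 6, 6, 1, 2, 2, 1, 3, 1, 3, 1, 3, 1, 2, 1, 3, 3, 1, 3, 3, 1]) (.node 5490 (.leaf 363 6 [2, 2, 1, 2, 2, 1, 3, 3, 1, 3, 3, 1, 3, 1, 3, 3, 1, 2, 1, 3, 1, 3, 4, 6, 6, 4, 5, 4, 6, 4, 5, 4, 6, 4, 5, 4, 6, 4, 1, 3, 1, 3, 3, 1]) (.leaf 378 41 [6, 3, 3, 1, 3, 3, 1, 3, 3, 1, 3, 1, 2, 1, 2, 1, 3, 1, 3, 3, 1, 2, 1, 2, 1, 2, 1, 3, 3, 4, 6, 4, 5, 5, 5, 4, 6, 6, 6, 4, 5, 4]))) (.node 5492 (.leaf 56 26 [5, 5, 4, 6, 4, 5, 5, 5, 4, 6, 6, 6, 4, 5, 2, 1, 2, 1, 2, 1, 3, 1, 3, 1, 2, 1, 3, 1, 3, 1, 3, 1, 3, 1, 2, 1, 3, 1, 4, 5]) (.node 5493 (.leaf 62 22 [3, 1, 4, 5, 4, 6, 6, 4, 5, 4, 6, 4, 5, 4, 6, 6, 4, 2, 1, 3, 3, 1, 3, 3, 1, 2, 2, 1, 2, 1, 2, 2, 1, 2, 1, 3, 1, 3, 1]) (.leaf 63 26 [4, 5, 5, 5, 4, 6, 4, 5, 5, 4, 6, 4, 5, 1, 3, 1, 3, 1, 3, 1, 2, 2, 1, 2, 1, 2, 2, 1, 3, 1, 3, 1, 3, 3, 1, 3, 3, 4, 5]))))) (.node 5499 (.node 5496 (.node 5495 (.leaf 79 21 [3, 1, 3, 3, 4, 5, 5, 5, 4, 6, 4, 5, 5, 4, 6, 6, 6, 1, 2, 1, 3, 3, 1, 2, 1, 2, 1, 2, 1, 2, 1, 3, 1, 3, 1, 3, 3, 1]) (.leaf 84 35 [4, 2, 2, 1, 3, 3, 1, 2, 2, 1, 3, 1, 2, 1, 3, 1, 3, 1, 2, 1, 2, 2, 1, 2, 1, 3, 5, 4, 5, 5, 5, 5, 4, 6, 6, 6])) (.node 5497 (.leaf 97 14 [1, 3, 3, 1, 3, 1, 2, 1, 2, 1, 3, 4, 6, 4, 5, 5, 4, 6, 6, 4, 5, 4, 6, 6, 6, 4, 6, 2, 1, 3, 1, 3, 1, 2, 1, 2, 2, 1, 3, 1, 2]) (.node 5498 (.leaf 97 20 [2, 1, 2, 1, 3, 4, 6, 4, 5, 5, 4, 6, 6, 4, 5, 4, 6, 6, 6, 4, 6, 2, 1, 3, 1, 3, 1, 2, 1, 2, 2, 1, 3, 1, 2, 1, 3, 3, 1, 3, 1]) (.leaf 103 9 [3, 1, 2, 2, 1, 3, 3, 1, 3, 1, 3, 1, 2, 2, 1, 3, 4, 6, 6, 4, 5, 4, 6, 6, 6, 4, 5, 5, 5, 4, 6, 2, 1, 2, 1, 2, 1, 3, 1, 3])))) (.node 5502 (.node 5500 (.leaf 117 22 [3, 3, 1, 3, 5, 5, 5, 5, 4, 6, 3, 3, 1, 2, 2, 1, 2, 1, 3, 1, 3, 3, 1, 2, 1, 3, 1, 2, 1, 3, 3, 1]) (.node 5501 (.leaf 141 20 [2, 1, 3, 3, 1, 3, 5, 5, 4, 6, 4, 5, 4, 6, 4, 5, 4, 6, 4, 5, 4, 2, 2, 1, 2, 1, 3, 3, 1, 3, 1, 3, 1, 2, 1, 2, 1, 3, 1, 2, 1]) (.leaf 145 15 [3, 1, 3, 3, 1, 3, 1, 3, 1, 2, 1, 5, 4, 5, 5, 5, 4, 6, 4, 5, 4, 6, 2, 1, 3, 3, 1, 2, 2, 1, 3, 1, 3, 1, 2, 1, 3]))) (.node 5503 (.leaf 197 3 [3, 1, 3, 3, 1, 2, 1, 2, 1, 3, 1, 3, 1, 3, 3, 1, 2, 1, 3, 3, 1, 3, 3, 1, 4, 6, 4, 5, 5, 4, 6, 4, 5, 4, 6, 4, 5, 5, 1, 2, 1]) (.node 5504 (.leaf 205 20 [1, 3, 1, 2, 1, 2, 1, 4, 6, 4, 5, 4, 6, 4, 5, 4, 6, 4, 5, 5, 4, 6, 4, 2, 1, 2, 1, 3, 3, 1, 2, 1, 3, 3, 1, 2, 2, 1, 2, 2, 1, 2, 2]) (.leaf 208 8 [3, 3, 1, 2, 2, 1, 2, 2, 1, 2, 1, 2, 2, 1, 2, 1, 3, 1, 3, 5, 5, 4, 6, 4, 5, 5, 4, 6, 4, 5, 5, 5, 4, 5, 3, 3, 1, 3, 3, 1, 3, 1])))))))) (.node 5549 (.node 5527 (.node 5516 (.node 5510 (.node 5507 (.node 5506 (.leaf 242 38 [4, 6, 6, 1, 3, 3, 1, 2, 1, 2, 2, 1, 3, 3, 1, 3, 1, 3, 3, 1, 3, 1, 3, 3, 1, 3, 1, 2, 1, 3, 5, 5, 5, 4, 6, 6, 6, 4, 5, 5, 5]) (.leaf 310 21 [3, 1, 3, 1, 2, 2, 1, 5, 4, 5, 5, 5, 4, 6, 4, 5, 4, 6, 6, 4, 5, 2, 1, 3, 1, 3, 1, 2, 1, 2, 1, 3, 1, 3, 1, 2, 1, 2, 1, 2, 1, 3])) (.node 5508 (.leaf 317 7 [2, 1, 3, 3, 1, 3, 1, 2, 1, 3, 3, 1, 2, 1, 2, 2, 1, 3, 3, 1, 3, 4, 6, 6, 4, 5, 4, 6, 6, 6, 4, 5, 5, 1, 3, 1, 2, 1, 2, 1]) (.node 5509 (.leaf 320 15 [3, 1, 3, 1, 2, 1, 2, 2, 1, 2, 2, 1, 3, 6, 4, 5, 5, 5, 5, 4, 6, 4, 5, 5, 5, 4, 6, 1, 3, 3, 1, 3, 3, 1, 3, 1, 2, 2, 1, 3, 3, 1]) (.leaf 333 40 [4, 2, 1, 2, 2, 1, 2, 1, 3, 3, 1, 2, 2, 1, 2, 1, 3, 3, 1, 3, 3, 1, 2, 2, 1, 3, 1, 3, 3, 4, 6, 4, 5, 5, 5, 4, 6, 6, 6, 4, 5])))) (.node 5513 (.node 5511 (.leaf 345 13 [1, 2, 1, 2, 1, 2, 1, 2, 1, 3, 3, 1, 3, 1, 3, 6, 4, 5, 5, 5, 5, 4, 6, 6, 6, 4, 6, 2, 1, 2, 1, 2, 1, 3, 1, 3, 1, 3, 1, 3]) (.node 5512 (.leaf 363 18 [3, 1, 3, 3, 1, 2, 1, 3, 1, 3, 4, 6, 6, 4, 5, 4, 6, 4, 5, 4, 6, 4, 5, 4, 6, 4, 1, 3, 1, 3, 3, 1, 2, 2, 1, 2, 2, 1, 3, 3, 1, 3, 3, 1]) (.leaf 365 21 [1, 3, 1, 3, 1, 3, 1, 5, 4, 5, 5, 5, 5, 4, 6, 6, 6, 4, 5, 4, 2, 2, 1, 2, 1, 2, 2, 1, 2, 2, 1, 2, 1, 2, 2, 1, 2, 2, 1, 2, 2]))) (.node 5514 (.leaf 377 5 [1, 2, 1, 3, 3, 1, 3, 3, 1, 2, 1, 2, 2, 1, 2, 1, 3, 1, 2, 1, 2, 2, 1, 5, 4, 6, 6, 4, 5, 4, 6, 4, 5, 5, 4, 6, 6, 1, 2, 2, 1, 3]) (.node 5515 (.leaf 386 8 [1, 3, 3, 1, 2, 1, 2, 1, 2, 1, 3, 1, 3, 3, 1, 2, 2, 1, 2, 2, 4, 5, 4, 6, 4, 5, 4, 6, 4, 5, 4, 6, 4, 5, 5, 4, 2, 2, 1, 2, 2, 1, 2, 2]) (.leaf 32 28 [5, 4, 6, 6, 4, 5, 4, 1, 3, 3, 1, 3, 1, 2, 2, 1, 3, 3, 1, 2, 2, 1, 2, 1, 2, 1, 2, 1, 3, 1, 4, 6, 4, 5, 5]))))) (.node 5521 (.node 5518 (.node 5517 (.leaf 40 26 [4, 5, 4, 6, 4, 5, 5, 4, 3, 3, 1, 2, 1, 3, 3, 1, 2, 1, 3, 1, 2, 1, 3, 3, 1, 3, 1, 2, 2, 1, 3, 5, 4, 6]) (.leaf 63 28 [5, 5, 4, 6, 4, 5, 5, 4, 6, 4, 5, 1, 3, 1, 3, 1, 3, 1, 2, 2, 1, 2, 1, 2, 2, 1, 3, 1, 3, 1, 3, 3, 1, 3, 3, 4, 5, 4, 5])) (.node 5519 (.leaf 135 33 [6, 6, 6, 4, 5, 4, 1, 3, 1, 2, 2, 1, 2, 1, 3, 1, 2, 2, 1, 2, 1, 2, 1, 2, 1, 2, 2, 1, 2, 1, 2, 1, 4, 6, 4, 5, 5, 5, 4]) (.node 5520 (.leaf 144 38 [6, 4, 3, 3, 1, 3, 1, 2, 1, 3, 3, 1, 2, 2, 1, 3, 3, 1, 3, 1, 2, 1, 2, 1, 3, 1, 3, 1, 5, 4, 6, 4, 5, 5, 4, 6, 4, 5, 4, 6]) (.leaf 205 40 [4, 6, 4, 2, 1, 2, 1, 3, 3, 1, 2, 1, 3, 3, 1, 2, 2, 1, 2, 2, 1, 2, 2, 1, 3, 1, 2, 1, 2, 1, 4, 6, 4, 5, 4, 6, 4, 5, 4, 6, 4, 5, 5])))) (.node 5524 (.node 5522 (.leaf 205 28 [6, 4, 5, 4, 6, 4, 5, 4, 6, 4, 5, 5, 4, 6, 4, 2, 1, 2, 1, 3, 3, 1, 2, 1, 3, 3, 1, 2, 2, 1, 2, 2, 1, 2, 2, 1, 3, 1, 2, 1, 2, 1, 4]) (.node 5523 (.leaf 220 40 [6, 4, 5, 3, 3, 1, 2, 1, 3, 3, 1, 2, 1, 2, 2, 1, 2, 1, 2, 1, 2, 1, 2, 2, 1, 2, 1, 3, 1, 3, 4, 6, 4, 5, 5, 5, 4, 6, 4, 5, 5, 4, 6]) (.leaf 236 3 [3, 3, 1, 2, 1, 3, 1, 3, 3, 1, 2, 1, 2, 1, 3, 3, 1, 3, 1, 2, 1, 3, 3, 1, 4, 6, 6, 4, 5, 4, 6, 6, 6, 4, 5, 5, 1, 3, 1]))) (.node 5525 (.leaf 239 27 [5, 4, 6, 4, 5, 4, 6, 4, 5, 4, 6, 4, 5, 4, 6, 1, 3, 1, 2, 1, 2, 2, 1, 2, 1, 2, 1, 2, 1, 3, 1, 3, 1, 3, 1, 3, 3, 1, 3, 1, 2, 1]) (.node 5526 (.leaf 319 28 [4, 6, 6, 6, 4, 5, 5, 5, 4, 6, 4, 5, 5, 4, 6, 6, 1, 2, 2, 1, 3, 1, 2, 1, 3, 1, 2, 1, 3, 3, 1, 3, 1, 2, 2, 1, 3, 1, 2, 1, 3, 1, 3, 3]) (.leaf 323 8 [1, 3, 3, 1, 3, 1, 2, 1, 3, 1, 2, 1, 3, 1, 3, 1, 3, 1, 3, 3, 6, 6, 4, 5, 4, 6, 4, 5, 4, 6, 4, 5, 4, 6, 1, 3, 3, 1, 2, 1, 3, 3])))))) (.node 5538 (.node 5532 (.node 5529 (.node 5528 (.leaf 328 40 [4, 2, 1, 3, 1, 2, 1, 2, 1, 3, 3, 1, 2, 2, 1, 3, 1, 3, 3, 1, 3, 1, 3, 3, 1, 3, 1, 3, 1, 6, 6, 4, 5, 4, 6, 4, 5, 4, 6, 6, 6]) (.leaf 332 41 [5, 4, 2, 2, 1, 3, 1, 2, 1, 3, 1, 3, 1, 3, 1, 2, 2, 1, 3, 1, 3, 1, 2, 1, 3, 1, 2, 1, 2, 2, 4, 6, 4, 5, 4, 6, 4, 5, 4, 6, 6, 6, 4])) (.node 5530 (.leaf 335 15 [3, 1, 2, 2, 1, 3, 1, 2, 1, 3, 1, 2, 2, 6, 6, 6, 4, 5, 5, 5, 4, 6, 6, 6, 4, 3, 3, 1, 2, 1, 3, 3, 1, 2, 1, 3, 3, 1, 2, 1]) (.node 5531 (.leaf 54 1 [2, 2, 1, 3, 3, 1, 2, 1, 2, 1, 2, 2, 1, 2, 1, 3, 1, 2, 1, 2, 1, 3, 3, 5, 5, 4, 6, 4, 5, 4, 6, 4, 5, 5, 4, 6, 4, 1]) (.leaf 128 10 [1, 3, 1, 2, 1, 3, 1, 2, 1, 3, 3, 1, 2, 1, 2, 2, 5, 4, 5, 5, 5, 4, 6, 4, 5, 5, 5, 4, 6, 4, 5, 2, 1, 3, 3, 1, 2, 1, 2, 1, 2])))) (.node 5535 (.node 5533 (.leaf 171 41 [6, 1, 3, 1, 3, 3, 1, 3, 3, 1, 2, 1, 3, 3, 1, 2, 2, 1, 3, 1, 2, 2, 1, 2, 2, 1, 2, 1, 4, 5, 5, 5, 4, 6, 4, 5, 4, 6, 4, 5, 4, 6]) (.node 5534 (.leaf 173 11 [1, 2, 2, 1, 3, 1, 3, 3, 1, 2, 2, 1, 2, 1, 3, 1, 5, 4, 6, 4, 5, 4, 6, 4, 5, 4, 6, 4, 5, 4, 6, 6, 2, 1, 2, 2, 1, 2, 1, 2, 2, 1, 3]) (.leaf 225 3 [1, 3, 1, 2, 2, 1, 3, 3, 1, 2, 2, 1, 3, 1, 2, 1, 3, 1, 2, 1, 3, 1, 3, 3, 4, 6, 4, 5, 4, 6, 4, 5, 4, 6, 4, 5, 4, 6, 1, 2, 2]))) (.node 5536 (.leaf 253 14 [2, 1, 2, 1, 3, 1, 3, 3, 1, 2, 1, 3, 1, 6, 6, 4, 5, 5, 4, 6, 4, 5, 5, 5, 4, 6, 2, 1, 3, 1, 3, 3, 1, 2, 1, 3, 1, 2, 1, 2]) (.node 5537 (.leaf 271 12 [1, 2, 1, 3, 1, 2, 1, 2, 2, 1, 3, 1, 2, 1, 3, 1, 4, 5, 4, 6, 4, 5, 4, 6, 4, 5, 4, 6, 6, 4, 5, 4, 2, 2, 1, 2, 1, 2, 1, 2, 1, 3, 1, 2]) (.leaf 285 20 [2, 1, 3, 1, 2, 1, 3, 1, 4, 5, 5, 5, 4, 6, 4, 5, 5, 4, 6, 6, 4, 5, 4, 6, 6, 1, 3, 1, 3, 3, 1, 3, 1, 2, 1, 2, 2, 1, 2, 2, 1, 3, 3, 1, 2]))))) (.node 5543 (.node 5540 (.node 5539 (.leaf 373 6 [3, 1, 3, 1, 2, 1, 2, 1, 3, 1, 2, 2, 1, 2, 2, 1, 3, 3, 1, 3, 3, 1, 4, 6, 6, 6, 4, 5, 5, 5, 4, 6, 4, 5, 5, 5, 4, 1, 3, 3, 1, 3, 1]) (.leaf 19 26 [6, 4, 5, 5, 5, 4, 6, 4, 5, 5, 1, 3, 1, 2, 1, 2, 1, 3, 1, 2, 1, 3, 1, 2, 1, 3, 1, 3, 1, 2, 1, 4, 5, 4, 6, 6])) (.node 5541 (.leaf 19 24 [6, 6, 6, 4, 5, 5, 5, 4, 6, 4, 5, 5, 1, 3, 1, 2, 1, 2, 1, 3, 1, 2, 1, 3, 1, 2, 1, 3, 1, 3, 1, 2, 1, 4, 5, 4]) (.node 5542 (.leaf 23 22 [4, 5, 4, 5, 5, 5, 4, 6, 4, 5, 1, 2, 1, 3, 1, 3, 3, 1, 3, 1, 2, 1, 3, 3, 1, 2, 1, 3, 1, 2, 1, 3]) (.leaf 30 34 [6, 6, 4, 5, 2, 2, 1, 2, 1, 3, 3, 1, 3, 1, 2, 1, 3, 3, 1, 2, 1, 3, 3, 1, 2, 1, 4, 5, 5, 5, 4, 6, 6, 6, 4, 5, 4, 6])))) (.node 5546 (.node 5544 (.leaf 35 32 [4, 5, 2, 2, 1, 3, 3, 1, 3, 1, 2, 2, 1, 2, 1, 2, 1, 2, 1, 2, 1, 2, 2, 1, 3, 5, 4, 6, 4, 5, 5, 4, 6, 6]) (.node 5545 (.leaf 55 35 [6, 6, 2, 1, 2, 1, 3, 3, 1, 2, 1, 3, 1, 3, 1, 2, 1, 2, 1, 3, 1, 3, 3, 1, 2, 2, 4, 6, 6, 4, 5, 4, 6, 6, 4, 5, 4]) (.leaf 61 24 [4, 6, 6, 6, 4, 5, 4, 6, 6, 6, 4, 5, 4, 6, 2, 1, 3, 1, 3, 3, 1, 2, 2, 1, 3, 1, 2, 1, 2, 1, 2, 2, 1, 3, 3, 1, 2, 2]))) (.node 5547 (.leaf 63 31 [6, 4, 5, 5, 4, 6, 4, 5, 1, 3, 1, 3, 1, 3, 1, 2, 2, 1, 2, 1, 2, 2, 1, 3, 1, 3, 1, 3, 3, 1, 3, 3, 4, 5, 4, 5, 5, 5, 4]) (.node 5548 (.leaf 78 25 [5, 5, 4, 6, 6, 4, 5, 4, 6, 6, 6, 4, 5, 5, 5, 4, 2, 2, 1, 3, 1, 3, 1, 2, 2, 1, 2, 2, 1, 2, 1, 2, 2, 1, 3, 1, 2, 1, 2, 2, 1]) (.leaf 81 27 [5, 5, 5, 4, 6, 6, 4, 5, 5, 4, 6, 2, 1, 2, 1, 3, 1, 3, 3, 1, 2, 1, 3, 1, 2, 1, 3, 1, 2, 2, 1, 2, 1, 3, 1, 3, 5, 4]))))))) (.node 5571 (.node 5560 (.node 5554 (.node 5551 (.node 5550 (.leaf 82 32 [6, 4, 5, 5, 4, 6, 6, 4, 5, 2, 2, 1, 2, 2, 1, 2, 1, 2, 1, 2, 1, 2, 2, 1, 2, 1, 2, 1, 3, 1, 3, 3, 1, 3, 6, 4, 5, 5, 5, 5, 4]) (.leaf 108 25 [4, 5, 4, 6, 4, 5, 5, 4, 6, 4, 5, 5, 5, 4, 2, 2, 1, 3, 1, 3, 3, 1, 2, 2, 1, 2, 2, 1, 2, 1, 3, 3, 1, 3, 1, 2, 1, 2, 2])) (.node 5552 (.leaf 134 28 [6, 4, 5, 4, 6, 4, 5, 4, 6, 4, 1, 2, 1, 2, 1, 3, 1, 3, 3, 1, 3, 1, 2, 1, 3, 1, 2, 1, 3, 3, 1, 2, 2, 1, 2, 2, 5, 4]) (.node 5553 (.leaf 155 16 [3, 1, 2, 1, 3, 3, 1, 3, 1, 2, 1, 6, 4, 5, 5, 4, 6, 4, 5, 5, 5, 4, 6, 4, 5, 5, 4, 1, 2, 1, 3, 1, 2, 2, 1, 3, 1, 2, 2, 1, 2, 2, 1]) (.leaf 158 29 [5, 5, 5, 4, 6, 4, 5, 4, 6, 6, 4, 5, 1, 2, 2, 1, 2, 1, 2, 1, 2, 1, 3, 1, 3, 1, 2, 1, 3, 1, 3, 3, 1, 3, 1, 2, 1, 2, 1, 6, 4])))) (.node 5557 (.node 5555 (.leaf 161 8 [3, 3, 1, 3, 1, 2, 1, 3, 3, 1, 3, 3, 1, 2, 1, 3, 3, 1, 3, 5, 5, 5, 4, 6, 4, 5, 4, 6, 6, 4, 5, 1, 2, 1, 2, 1, 2, 2, 1]) (.node 5556 (.leaf 164 18 [2, 1, 2, 2, 1, 3, 1, 2, 1, 6, 6, 4, 5, 4, 6, 6, 6, 4, 5, 4, 6, 6, 4, 5, 4, 3, 3, 1, 3, 3, 1, 2, 1, 2, 2, 1, 3, 3, 1, 3, 1, 3, 1]) (.leaf 200 6 [3, 1, 2, 2, 1, 2, 1, 2, 2, 1, 2, 1, 2, 1, 3, 3, 1, 3, 3, 1, 3, 5, 4, 6, 4, 5, 5, 5, 4, 6, 4, 5, 5, 4, 1, 2, 2, 1, 3, 1]))) (.node 5558 (.leaf 224 37 [6, 2, 2, 1, 3, 3, 1, 3, 1, 3, 1, 2, 2, 1, 2, 2, 1, 3, 1, 3, 1, 2, 1, 3, 1, 3, 1, 3, 5, 5, 4, 6, 6, 4, 5, 4, 6, 6]) (.node 5559 (.leaf 315 20 [2, 2, 1, 2, 1, 2, 1, 3, 6, 4, 5, 5, 4, 6, 4, 5, 5, 4, 6, 4, 6, 2, 2, 1, 3, 1, 3, 1, 2, 1, 3, 3, 1, 3, 1, 2, 1, 2, 1, 2, 1]) (.leaf 341 8 [2, 2, 1, 2, 2, 1, 3, 1, 3, 3, 1, 3, 1, 2, 1, 3, 3, 1, 3, 1, 4, 5, 4, 6, 4, 5, 4, 6, 4, 5, 4, 6, 4, 5, 5, 3, 3, 1, 2, 2, 1, 2, 1]))))) (.node 5565 (.node 5562 (.node 5561 (.leaf 375 0 [2, 2, 1, 3, 1, 2, 2, 1, 3, 1, 2, 2, 1, 2, 2, 1, 3, 1, 3, 3, 1, 3, 3, 1, 2, 1, 3, 1, 4, 5, 4, 5, 5, 5, 4, 6, 4, 5, 4, 6, 4, 5, 4, 6, 6]) (.leaf 382 10 [3, 1, 2, 2, 1, 3, 3, 1, 3, 3, 1, 3, 3, 1, 3, 1, 2, 1, 4, 5, 5, 5, 5, 4, 6, 4, 5, 5, 4, 6, 1, 3, 1, 2, 2, 1, 3, 1, 2, 1])) (.node 5563 (.leaf 396 45 [6, 4, 1, 2, 1, 2, 1, 2, 1, 3, 1, 2, 1, 2, 1, 3, 1, 3, 1, 2, 1, 3, 3, 1, 2, 2, 1, 3, 1, 2, 2, 4, 5, 5, 5, 4, 6, 4, 5, 5, 5, 4, 6, 4, 5, 5, 4]) (.node 5564 (.leaf 41 17 [3, 1, 2, 2, 1, 3, 5, 4, 6, 6, 4, 5, 4, 6, 6, 6, 4, 5, 4, 6, 6, 4, 5, 5, 1, 2, 2, 1, 2, 2, 1, 2, 1, 3, 1, 2, 1, 3, 1, 2, 1]) (.leaf 78 14 [1, 2, 2, 1, 3, 1, 2, 1, 2, 2, 1, 5, 5, 4, 6, 6, 4, 5, 4, 6, 6, 6, 4, 5, 5, 5, 4, 2, 2, 1, 3, 1, 3, 1, 2, 2, 1, 2, 2, 1, 2])))) (.node 5568 (.node 5566 (.leaf 140 26 [5, 4, 5, 5, 5, 4, 6, 4, 5, 5, 4, 6, 4, 5, 4, 6, 1, 2, 1, 3, 1, 3, 1, 3, 3, 1, 3, 1, 2, 2, 1, 2, 1, 3, 1, 3, 3, 1, 2, 2, 1, 3]) (.node 5567 (.leaf 204 23 [1, 2, 1, 3, 5, 5, 4, 6, 4, 5, 4, 6, 4, 5, 4, 6, 4, 5, 5, 5, 1, 2, 1, 3, 1, 2, 1, 2, 2, 1, 2, 1, 2, 1, 3, 1, 3, 1, 3, 1, 3, 1, 2]) (.leaf 210 17 [1, 3, 1, 2, 1, 3, 3, 1, 2, 1, 6, 4, 5, 4, 6, 4, 5, 4, 6, 6, 4, 5, 4, 1, 2, 2, 1, 3, 1, 2, 2, 1, 3, 1, 2, 2, 1, 2, 1, 2]))) (.node 5569 (.leaf 214 9 [3, 1, 2, 1, 2, 1, 3, 3, 1, 3, 3, 1, 2, 1, 3, 1, 2, 1, 6, 4, 5, 5, 5, 4, 6, 6, 6, 4, 5, 5, 5, 1, 3, 1, 3, 3, 1, 2, 1, 3]) (.node 5570 (.leaf 232 9 [1, 2, 2, 1, 2, 1, 3, 1, 2, 1, 2, 2, 1, 3, 1, 3, 3, 1, 6, 6, 4, 5, 5, 5, 4, 6, 6, 6, 4, 5, 5, 5, 1, 3, 1, 3, 3, 1, 2, 1, 3]) (.leaf 342 12 [2, 2, 1, 3, 1, 2, 2, 1, 2, 1, 3, 1, 3, 1, 2, 2, 4, 6, 4, 5, 4, 6, 4, 5, 4, 6, 6, 6, 4, 6, 2, 1, 3, 3, 1, 3, 3, 1, 2, 1, 2, 1])))))) (.node 5582 (.node 5576 (.node 5573 (.node 5572 (.leaf 34 23 [4, 5, 5, 5, 4, 6, 4, 5, 4, 2, 2, 1, 2, 2, 1, 3, 1, 3, 1, 2, 1, 2, 1, 2, 2, 1, 2, 1, 3, 1, 2, 2]) (.leaf 193 28 [6, 4, 5, 4, 6, 6, 4, 5, 5, 5, 4, 1, 2, 1, 3, 3, 1, 3, 3, 1, 3, 1, 2, 1, 2, 1, 2, 1, 2, 1, 3, 1, 3, 3, 1, 2, 2, 1, 4])) (.node 5574 (.leaf 351 17 [1, 3, 3, 1, 2, 1, 2, 2, 1, 3, 1, 5, 5, 5, 4, 6, 4, 5, 4, 6, 4, 5, 4, 2, 2, 1, 3, 3, 1, 3, 3, 1, 2, 1, 3, 1, 2, 1, 3, 3]) (.node 5575 (.leaf 169 29 [4, 5, 5, 4, 6, 4, 5, 5, 2, 2, 1, 3, 1, 3, 1, 2, 2, 1, 2, 1, 3, 1, 2, 1, 2, 1, 3, 1, 3, 3, 1, 2, 1, 3, 3, 4, 6]) (.leaf 134 27 [4, 6, 4, 5, 4, 6, 4, 5, 4, 6, 4, 1, 2, 1, 2, 1, 3, 1, 3, 3, 1, 3, 1, 2, 1, 3, 1, 2, 1, 3, 3, 1, 2, 2, 1, 2, 2, 5])))) (.node 5579 (.node 5577 (.leaf 244 31 [5, 5, 4, 6, 4, 5, 5, 4, 6, 4, 1, 2, 2, 1, 2, 1, 2, 1, 2, 1, 3, 1, 2, 2, 1, 3, 3, 1, 3, 1, 3, 1, 2, 1, 2, 1, 3, 5, 4, 6, 4]) (.node 5578 (.leaf 285 44 [6, 1, 3, 1, 3, 3, 1, 3, 1, 2, 1, 2, 2, 1, 2, 2, 1, 3, 3, 1, 2, 2, 1, 3, 1, 2, 1, 3, 1, 4, 5, 5, 5, 4, 6, 4, 5, 5, 4, 6, 6, 4, 5, 4, 6]) (.leaf 16 26 [5, 4, 6, 4, 5, 4, 6, 6, 1, 2, 1, 3, 1, 2, 1, 3, 1, 2, 2, 1, 2, 1, 2, 1, 2, 2, 1, 6, 4, 5, 4, 6, 6, 4]))) (.node 5580 (.leaf 33 26 [4, 5, 4, 6, 6, 6, 4, 5, 4, 6, 2, 2, 1, 3, 1, 3, 1, 3, 1, 3, 1, 2, 1, 2, 1, 3, 1, 2, 1, 3, 1, 3, 3, 4, 6, 6]) (.node 5581 (.leaf 79 36 [6, 6, 1, 2, 1, 3, 3, 1, 2, 1, 2, 1, 2, 1, 2, 1, 3, 1, 3, 1, 3, 3, 1, 3, 1, 3, 3, 4, 5, 5, 5, 4, 6, 4, 5, 5, 4, 6]) (.leaf 154 18 [3, 1, 2, 1, 3, 1, 2, 2, 4, 5, 4, 5, 5, 5, 4, 6, 4, 5, 5, 5, 4, 6, 6, 6, 2, 1, 2, 2, 1, 3, 1, 2, 1, 2, 1, 2, 1, 2, 2, 1, 3, 1]))))) (.node 5587 (.node 5584 (.node 5583 (.leaf 377 16 [2, 2, 1, 2, 1, 3, 1, 2, 1, 2, 2, 1, 5, 4, 6, 6, 4, 5, 4, 6, 4, 5, 5, 4, 6, 6, 1, 2, 2, 1, 3, 1, 2, 1, 3, 3, 1, 3, 3, 1, 2, 1]) (.leaf 377 40 [6, 6, 1, 2, 2, 1, 3, 1, 2, 1, 3, 3, 1, 3, 3, 1, 2, 1, 2, 2, 1, 2, 1, 3, 1, 2, 1, 2, 2, 1, 5, 4, 6, 6, 4, 5, 4, 6, 4, 5, 5, 4])) (.node 5585 (.leaf 35 30 [6, 6, 4, 5, 2, 2, 1, 3, 3, 1, 3, 1, 2, 2, 1, 2, 1, 2, 1, 2, 1, 2, 1, 2, 2, 1, 3, 5, 4, 6, 4, 5, 5, 4]) (.node 5586 (.leaf 54 27 [6, 4, 5, 4, 6, 4, 5, 5, 4, 6, 4, 1, 2, 2, 1, 3, 3, 1, 2, 1, 2, 1, 2, 2, 1, 2, 1, 3, 1, 2, 1, 2, 1, 3, 3, 5, 5, 4]) (.leaf 131 28 [6, 6, 4, 5, 4, 6, 6, 6, 4, 5, 4, 2, 1, 3, 1, 2, 1, 3, 1, 3, 1, 2, 1, 2, 1, 2, 2, 1, 3, 3, 1, 3, 1, 3, 1, 2, 2, 5, 4])))) (.node 5590 (.node 5588 (.leaf 161 37 [4, 5, 1, 2, 1, 2, 1, 2, 2, 1, 3, 3, 1, 3, 1, 2, 1, 3, 3, 1, 3, 3, 1, 2, 1, 3, 3, 1, 3, 5, 5, 5, 4, 6, 4, 5, 4, 6, 6]) (.node 5589 (.leaf 164 42 [4, 3, 3, 1, 3, 3, 1, 2, 1, 2, 2, 1, 3, 3, 1, 3, 1, 3, 1, 2, 1, 2, 2, 1, 3, 1, 2, 1, 6, 6, 4, 5, 4, 6, 6, 6, 4, 5, 4, 6, 6, 4, 5]) (.leaf 83 31 [5, 4, 6, 1, 2, 1, 2, 1, 3, 1, 3, 1, 3, 3, 1, 2, 1, 2, 1, 3, 1, 2, 1, 2, 1, 2, 2, 1, 6, 6, 6, 4, 5, 5]))) (.node 5591 (.leaf 135 35 [6, 4, 5, 4, 1, 3, 1, 2, 2, 1, 2, 1, 3, 1, 2, 2, 1, 2, 1, 2, 1, 2, 1, 2, 2, 1, 2, 1, 2, 1, 4, 6, 4, 5, 5, 5, 4, 6, 6]) (.node 5592 (.leaf 25 23 [5, 4, 6, 4, 5, 4, 6, 4, 5, 4, 6, 6, 6, 4, 2, 2, 1, 2, 2, 1, 3, 3, 1, 2, 1, 2, 2, 1, 3, 1, 2, 1, 2, 1, 2, 2, 4]) (.leaf 254 5 [3, 1, 2, 1, 3, 1, 2, 1, 2, 1, 2, 1, 2, 2, 1, 3, 1, 3, 3, 1, 2, 2, 4, 5, 5, 5, 4, 6, 4, 5, 4, 6, 6, 4, 5, 5, 5, 3, 3, 1, 3, 1]))))))))))))))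


end Cfsg.Agent.Lib.Helper3.J3b.L1
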