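import Cfsg.Agent.Lib.Helper3.J3b.L2D
import Cfsg.Agent.Lib.Helper3.J3b.Net

set_option autoImplicit false
set_option maxRecDepth 100000

namespace Cfsg.Agent.Lib.Helper3.J3b.L2

open Cfsg.Agent.Lib.Helper11 Cfsg.Agent.Lib.Helper3

set_option maxHeartbeats 0
set_option Elab.async false

noncomputable def fc (i : ℕ) : ℕ := (Bool.rec (fc0_0 i) (fc0_1 i) (Nat.ble 16 i))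
noncomputable def sc (i : ℕ) : ℕ := (Bool.rec (sc0_0 i) (sc0_1 i) (Nat.ble 16 i))
noncomputable def nc (i : ℕ) : ℕ := (nc0_0 i)
noncomputable def cc (i : ℕ) : ℕ := (Bool.rec (Bool.rec (cc0_0 i) (cc0_1 i) (Nat.ble 16 i)) (Bool.rec (cc0_2 i) (Bool.rec (cc0_3 i) (cc0_4 i) (Nat.ble 64 i)) (Nat.ble 48 i)) (Nat.ble 32 i))

def isH (l : ℕ) : Bool := decide (l ∈ [])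
def gens : List ℕ := [4, 5]
def hl : List ℕ := []
def dl : List (List ℕ × ℕ) := [([5], 6)]
def BR_0 : List (List ℕ) := [[], [5, 5, 5, 5, 5, 5, 5, 5, 5], [6, 6, 6, 6, 6, 6, 6, 6, 6], [4, 5, 4, 5, 4, 5, 4, 5], [4, 6, 4, 6, 4, 6, 4, 6], [4, 5, 5, 4, 5, 5, 4, 5, 5], [4, 6, 6, 4, 6, 6, 4, 6, 6], [4, 5, 4, 6, 4, 5, 4, 6, 4, 5, 4, 6, 4, 5, 4, 6, 4, 5, 4, 6, 4, 5, 4, 6, 4, 5, 4, 6, 4, 5, 4, 6]]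
def BR_1 : List (List ℕ) := [[4, 5, 5, 5, 4, 5, 5, 5, 4, 5, 5, 5, 4, 5, 5, 5, 4, 5, 5, 5, 4, 5, 5, 5, 4, 5, 5, 5, 4, 5, 5, 5, 4, 5, 5, 5], [4, 6, 6, 6, 4, 6, 6, 6, 4, 6, 6, 6, 4, 6, 6, 6, 4, 6, 6, 6, 4, 6, 6, 6, 4, 6, 6, 6, 4, 6, 6, 6, 4, 6, 6, 6]]
def BR : List (List ℕ) := BR_0 ++ BR_1
set_option maxRecDepth 10000000 in
noncomputable def rt : RT := (.node 46 (.node 23 (.node 11 (.node 5 (.node 2 (.node 1 (.leaf 0 0 []) (.leaf 3 4 [4, 5, 4, 5, 4, 5, 4, 5])) (.node 3 (.leaf 4 4 [4, 6, 4, 6, 4, 6, 4, 6]) (.node 4 (.leaf 5 4 [5, 5, 4, 5, 5, 4, 5, 5, 4]) (.leaf 6 4 [6, 6, 4, 6, 6, 4, 6, 6, 4])))) (.node 8 (.node 6 (.leaf 7 16 [4, 5, 4, 6, 4, 5, 4, 6, 4, 5, 4, 6, 4, 5, 4, 6, 4, 5, 4, 6, 4, 5, 4, 6,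 4, 5, 4, 6, 4, 5, 4, 6]) (.node 7 (.leaf 7 18 [4, 6, 4, 5, 4, 6, 4, 5, 4, 6, 4, 5, 4, 6, 4, 5, 4, 6, 4, 5, 4, 6, 4, 5, 4, 6, 4, 5, 4, 6, 4, 5]) (.leaf 1 4 [5, 5, 5, 5, 5, 5, 5, 5, 5]))) (.node 9 (.leaf 5 6 [4, 5, 5, 4, 5, 5, 4, 5, 5]) (.node 10 (.leaf 4 3 [6, 4, 6, 4, 6, 4, 6, 4]) (.leaf 7 17 [5, 4, 6, 4, 5, 4, 6, 4, 5, 4, 6, 4, 5, 4, 6, 4, 5, 4, 6, 4, 5, 4, 6, 4, 5, 4, 6, 4, 5, 4, 6, 4]))))) (.node 17 (.node 14 (.node 12 (.leaf 3 3 [5, 4, 5, 4, 5, 4, 5, 4]) (.node 13 (.leaf 5 5 [5, 4, 5, 5, 4, 5, 5, 4, 5]) (.leaf 1 5 [5, 5, 5, 5, 5, 5, 5, 5, 5]))) (.node 15 (.leaf 6 5 [6, 4, 6, 6, 4, 6, 6, 4, 6]) (.node 16 (.leaf 1 3 [5, 5, 5, 5, 5, 5, 5, 5, 5]) (.leaf 5 3 [4, 5, 5, 4, 5, 5, 4, 5, 5])))) (.node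 20 (.node 18 (.leaf 7 22 [4, 6, 4, 5, 4, 6, 4, 5, 4, 6, 4, 5, 4, 6, 4, 5, 4, 6, 4, 5, 4, 6, 4, 5, 4, 6, 4, 5, 4, 6, 4, 5]) (.node 19 (.leaf 9 8 [4, 6, 6, 6, 4, 6, 6, 6, 4, 6, 6, 6, 4, 6, 6, 6, 4, 6, 6, 6, 4, 6, 6, 6, 4, 6, 6, 6, 4, 6, 6, 6, 4, 6, 6, 6]) (.leaf 6 3 [4, 6, 6, 4, 6, 6, 4, 6, 6]))) (.node 21 (.leaf 7 12 [4, 5, 4, 6, 4, 5, 4, 6, 4, 5, 4, 6, 4, 5, 4, 6, 4, 5, 4, 6, 4, 5, 4, 6, 4, 5, 4, 6, 4, 5, 4, 6]) (.node 22 (.leaf 4 2 [4, 6, 4, 6, 4, 6, 4, 6]) (.leaf 7 11 [6, 4, 5, 4, 6, 4, 5, 4, 6, 4, 5, 4, 6, 4, 5, 4, 6, 4, 5, 4, 6, 4, 5, 4, 6, 4, 5, 4, 6, 4, 5, 4])))))) (.node 34 (.node 28 (.node 25 (.node 24 (.leaf 7 10 [4, 6, 4, 5, 4, 6, 4, 5, 4, 6, 4, 5, 4, 6, 4, 5, 4, 6, 4, 5, 4, 6, 4, 5,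 4, 6, 4, 5, 4, 6, 4, 5]) (.leaf 8 8 [4, 5, 5, 5, 4, 5, 5, 5, 4, 5, 5, 5, 4, 5, 5, 5, 4, 5, 5, 5, 4, 5, 5, 5, 4, 5, 5, 5, 4, 5, 5, 5, 4, 5, 5, 5])) (.node 26 (.leaf 7 8 [4, 5, 4, 6, 4, 5, 4, 6, 4, 5, 4, 6, 4, 5, 4, 6, 4, 5, 4, 6, 4, 5, 4, 6, 4, 5, 4, 6, 4, 5, 4, 6]) (.node 27 (.leaf 7 19 [6, 4, 5, 4, 6, 4, 5, 4, 6, 4, 5, 4, 6, 4, 5, 4, 6, 4, 5, 4, 6, 4, 5, 4, 6, 4, 5, 4, 6, 4, 5, 4]) (.leaf 2 3 [6, 6, 6, 6, 6, 6, 6, 6, 6])))) (.node 31 (.node 29 (.leaf 8 4 [4, 5, 5, 5, 4, 5, 5, 5, 4, 5, 5, 5, 4, 5, 5, 5, 4, 5, 5, 5, 4, 5, 5, 5, 4, 5, 5, 5, 4, 5, 5, 5, 4, 5, 5, 5]) (.node 30 (.leaf 9 4 [4, 6, 6, 6, 4, 6, 6, 6, 4, 6, 6, 6, 4, 6, 6, 6, 4, 6, 6, 6, 4, 6, 6, 6, 4, 6, 6, 6, 4, 6, 6, 6, 4, 6, 6, 6]) (.leaf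 6 6 [4, 6, 6, 4, 6, 6, 4, 6, 6]))) (.node 32 (.leaf 8 10 [5, 5, 4, 5, 5, 5, 4, 5, 5, 5, 4, 5, 5, 5, 4, 5, 5, 5, 4, 5, 5, 5, 4, 5, 5, 5, 4, 5, 5, 5, 4, 5, 5, 5, 4, 5]) (.node 33 (.leaf 9 12 [4, 6, 6, 6, 4, 6, 6, 6, 4, 6, 6, 6, 4, 6, 6, 6, 4, 6, 6, 6, 4, 6, 6, 6, 4, 6, 6, 6, 4, 6, 6, 6, 4, 6, 6, 6]) (.leaf 8 12 [4, 5, 5, 5, 4, 5, 5, 5, 4, 5, 5, 5, 4, 5, 5, 5, 4, 5, 5, 5, 4, 5, 5, 5, 4, 5, 5, 5, 4, 5, 5, 5, 4, 5, 5, 5]))))) (.node 40 (.node 37 (.node 35 (.leaf 9 29 [6, 6, 6, 4, 6, 6, 6, 4, 6, 6, 6, 4, 6, 6, 6, 4, 6, 6, 6, 4, 6, 6, 6, 4, 6, 6, 6, 4, 6, 6, 6, 4, 6, 6, 6, 4]) (.node 36 (.leaf 9 7 [6, 4, 6, 6, 6, 4, 6, 6, 6, 4, 6, 6, 6, 4, 6, 6, 6, 4, 6, 6, 6, 4, 6, 6, 6, 4, 6, 6, 6, 4, 6, 6, 6, 4, 6,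 6]) (.leaf 7 6 [4, 6, 4, 5, 4, 6, 4, 5, 4, 6, 4, 5, 4, 6, 4, 5, 4, 6, 4, 5, 4, 6, 4, 5, 4, 6, 4, 5, 4, 6, 4, 5]))) (.node 38 (.leaf 8 7 [5, 4, 5, 5, 5, 4, 5, 5, 5, 4, 5, 5, 5, 4, 5, 5, 5, 4, 5, 5, 5, 4, 5, 5, 5, 4, 5, 5, 5, 4, 5, 5, 5, 4, 5, 5]) (.node 39 (.leaf 7 7 [6, 4, 5, 4, 6, 4, 5, 4, 6, 4, 5, 4, 6, 4, 5, 4, 6, 4, 5, 4, 6, 4, 5, 4, 6, 4, 5, 4, 6, 4, 5, 4]) (.leaf 9 9 [6, 6, 6, 4, 6, 6, 6, 4, 6, 6, 6, 4, 6, 6, 6, 4, 6, 6, 6, 4, 6, 6, 6, 4, 6, 6, 6, 4, 6, 6, 6, 4, 6, 6, 6, 4])))) (.node 43 (.node 41 (.leaf 9 6 [6, 6, 4, 6, 6, 6, 4, 6, 6, 6, 4, 6, 6, 6, 4, 6, 6, 6, 4, 6, 6, 6, 4, 6, 6, 6, 4, 6, 6, 6, 4, 6, 6, 6, 4, 6]) (.node 42 (.leaf 8 5 [5, 5, 5, 4, 5, 5, 5, 4, 5, 5, 5, 4, 5, 5, 5, 4, 5,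 5, 5, 4, 5, 5, 5, 4, 5, 5, 5, 4, 5, 5, 5, 4, 5, 5, 5, 4]) (.leaf 7 9 [5, 4, 6, 4, 5, 4, 6, 4, 5, 4, 6, 4, 5, 4, 6, 4, 5, 4, 6, 4, 5, 4, 6, 4, 5, 4, 6, 4, 5, 4, 6, 4]))) (.node 44 (.leaf 9 3 [6, 4, 6, 6, 6, 4, 6, 6, 6, 4, 6, 6, 6, 4, 6, 6, 6, 4, 6, 6, 6, 4, 6, 6, 6, 4, 6, 6, 6, 4, 6, 6, 6, 4, 6, 6]) (.node 45 (.leaf 8 32 [4, 5, 5, 5, 4, 5, 5, 5, 4, 5, 5, 5, 4, 5, 5, 5, 4, 5, 5, 5, 4, 5, 5, 5, 4, 5, 5, 5, 4, 5, 5, 5, 4, 5, 5, 5]) (.leaf 8 19 [5, 4, 5, 5, 5, 4, 5, 5, 5, 4, 5, 5, 5, 4, 5, 5, 5, 4, 5, 5, 5, 4, 5, 5, 5, 4, 5, 5, 5, 4, 5, 5, 5, 4, 5, 5]))))))) (.node 69 (.node 57 (.node 51 (.node 48 (.node 47 (.leaf 7 14 [4, 6, 4, 5, 4, 6, 4, 5, 4, 6, 4, 5, 4, 6, 4, 5, 4, 6, 4, 5, 4, 6, 4, 5, 4, 6, 4,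 5, 4, 6, 4, 5]) (.leaf 7 3 [6, 4, 5, 4, 6, 4, 5, 4, 6, 4, 5, 4, 6, 4, 5, 4, 6, 4, 5, 4, 6, 4, 5, 4, 6, 4, 5, 4, 6, 4, 5, 4])) (.node 49 (.leaf 8 24 [4, 5, 5, 5, 4, 5, 5, 5, 4, 5, 5, 5, 4, 5, 5, 5, 4, 5, 5, 5, 4, 5, 5, 5, 4, 5, 5, 5, 4, 5, 5, 5, 4, 5, 5, 5]) (.node 50 (.leaf 9 25 [6, 6, 6, 4, 6, 6, 6, 4, 6, 6, 6, 4, 6, 6, 6, 4, 6, 6, 6, 4, 6, 6, 6, 4, 6, 6, 6, 4, 6, 6, 6, 4, 6, 6, 6, 4]) (.leaf 8 25 [5, 5, 5, 4, 5, 5, 5, 4, 5, 5, 5, 4, 5, 5, 5, 4, 5, 5, 5, 4, 5, 5, 5, 4, 5, 5, 5, 4, 5, 5, 5, 4, 5, 5, 5, 4])))) (.node 54 (.node 52 (.leaf 7 13 [5, 4, 6, 4, 5, 4, 6, 4, 5, 4, 6, 4, 5, 4, 6, 4, 5, 4, 6, 4, 5, 4, 6, 4, 5, 4, 6, 4, 5, 4, 6, 4]) (.node 53 (.leaf 7 4 [4, 5, 4, 6, 4, 5, 4, 6, 4, 5, 4, 6,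 4, 5, 4, 6, 4, 5, 4, 6, 4, 5, 4, 6, 4, 5, 4, 6, 4, 5, 4, 6]) (.leaf 7 5 [5, 4, 6, 4, 5, 4, 6, 4, 5, 4, 6, 4, 5, 4, 6, 4, 5, 4, 6, 4, 5, 4, 6, 4, 5, 4, 6, 4, 5, 4, 6, 4]))) (.node 55 (.leaf 8 17 [5, 5, 5, 4, 5, 5, 5, 4, 5, 5, 5, 4, 5, 5, 5, 4, 5, 5, 5, 4, 5, 5, 5, 4, 5, 5, 5, 4, 5, 5, 5, 4, 5, 5, 5, 4]) (.node 56 (.leaf 8 6 [5, 5, 4, 5, 5, 5, 4, 5, 5, 5, 4, 5, 5, 5, 4, 5, 5, 5, 4, 5, 5, 5, 4, 5, 5, 5, 4, 5, 5, 5, 4, 5, 5, 5, 4, 5]) (.leaf 9 10 [6, 6, 4, 6, 6, 6, 4, 6, 6, 6, 4, 6, 6, 6, 4, 6, 6, 6, 4, 6, 6, 6, 4, 6, 6, 6, 4, 6, 6, 6, 4, 6, 6, 6, 4, 6]))))) (.node 63 (.node 60 (.node 58 (.leaf 8 33 [5, 5, 5, 4, 5, 5, 5, 4, 5, 5, 5, 4, 5, 5, 5, 4, 5, 5, 5, 4, 5, 5, 5, 4, 5, 5, 5, 4, 5, 5, 5, 4, 5,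 5, 5, 4]) (.node 59 (.leaf 8 20 [4, 5, 5, 5, 4, 5, 5, 5, 4, 5, 5, 5, 4, 5, 5, 5, 4, 5, 5, 5, 4, 5, 5, 5, 4, 5, 5, 5, 4, 5, 5, 5, 4, 5, 5, 5]) (.leaf 8 23 [5, 4, 5, 5, 5, 4, 5, 5, 5, 4, 5, 5, 5, 4, 5, 5, 5, 4, 5, 5, 5, 4, 5, 5, 5, 4, 5, 5, 5, 4, 5, 5, 5, 4, 5, 5]))) (.node 61 (.leaf 8 11 [5, 4, 5, 5, 5, 4, 5, 5, 5, 4, 5, 5, 5, 4, 5, 5, 5, 4, 5, 5, 5, 4, 5, 5, 5, 4, 5, 5, 5, 4, 5, 5, 5, 4, 5, 5]) (.node 62 (.leaf 8 9 [5, 5, 5, 4, 5, 5, 5, 4, 5, 5, 5, 4, 5, 5, 5, 4, 5, 5, 5, 4, 5, 5, 5, 4, 5, 5, 5, 4, 5, 5, 5, 4, 5, 5, 5, 4]) (.leaf 5 2 [5, 4, 5, 5, 4, 5, 5, 4, 5])))) (.node 66 (.node 64 (.leaf 8 26 [5, 5, 4, 5, 5, 5, 4, 5, 5, 5, 4, 5, 5, 5, 4, 5, 5, 5, 4, 5, 5, 5, 4, 5, 5, 5, 4, 5, 5, 5, 4, 5, 5,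 5, 4, 5]) (.node 65 (.leaf 6 2 [6, 4, 6, 6, 4, 6, 6, 4, 6]) (.leaf 9 26 [6, 6, 4, 6, 6, 6, 4, 6, 6, 6, 4, 6, 6, 6, 4, 6, 6, 6, 4, 6, 6, 6, 4, 6, 6, 6, 4, 6, 6, 6, 4, 6, 6, 6, 4, 6]))) (.node 67 (.leaf 7 21 [5, 4, 6, 4, 5, 4, 6, 4, 5, 4, 6, 4, 5, 4, 6, 4, 5, 4, 6, 4, 5, 4, 6, 4, 5, 4, 6, 4, 5, 4, 6, 4]) (.node 68 (.leaf 1 6 [5, 5, 5, 5, 5, 5, 5, 5, 5]) (.leaf 2 4 [6, 6, 6, 6, 6, 6, 6, 6, 6])))))) (.node 81 (.node 75 (.node 72 (.node 70 (.leaf 8 18 [5, 5, 4, 5, 5, 5, 4, 5, 5, 5, 4, 5, 5, 5, 4, 5, 5, 5, 4, 5, 5, 5, 4, 5, 5, 5, 4, 5, 5, 5, 4, 5, 5, 5, 4, 5]) (.node 71 (.leaf 9 11 [6, 4, 6, 6, 6, 4, 6, 6, 6, 4, 6, 6, 6, 4, 6, 6, 6, 4, 6, 6, 6, 4, 6, 6, 6, 4, 6, 6, 6, 4, 6, 6, 6, 4, 6, 6]) (.leaf 9 19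 [6, 4, 6, 6, 6, 4, 6, 6, 6, 4, 6, 6, 6, 4, 6, 6, 6, 4, 6, 6, 6, 4, 6, 6, 6, 4, 6, 6, 6, 4, 6, 6, 6, 4, 6, 6]))) (.node 73 (.leaf 7 26 [4, 6, 4, 5, 4, 6, 4, 5, 4, 6, 4, 5, 4, 6, 4, 5, 4, 6, 4, 5, 4, 6, 4, 5, 4, 6, 4, 5, 4, 6, 4, 5]) (.node 74 (.leaf 9 14 [6, 6, 4, 6, 6, 6, 4, 6, 6, 6, 4, 6, 6, 6, 4, 6, 6, 6, 4, 6, 6, 6, 4, 6, 6, 6, 4, 6, 6, 6, 4, 6, 6, 6, 4, 6]) (.leaf 8 3 [5, 4, 5, 5, 5, 4, 5, 5, 5, 4, 5, 5, 5, 4, 5, 5, 5, 4, 5, 5, 5, 4, 5, 5, 5, 4, 5, 5, 5, 4, 5, 5, 5, 4, 5, 5])))) (.node 78 (.node 76 (.leaf 7 23 [6, 4, 5, 4, 6, 4, 5, 4, 6, 4, 5, 4, 6, 4, 5, 4, 6, 4, 5, 4, 6, 4, 5, 4, 6, 4, 5, 4, 6, 4, 5, 4]) (.node 77 (.leaf 9 5 [6, 6, 6, 4, 6, 6, 6, 4, 6, 6, 6, 4, 6, 6, 6, 4, 6, 6, 6, 4, 6,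 6, 6, 4, 6, 6, 6, 4, 6, 6, 6, 4, 6, 6, 6, 4]) (.leaf 8 21 [5, 5, 5, 4, 5, 5, 5, 4, 5, 5, 5, 4, 5, 5, 5, 4, 5, 5, 5, 4, 5, 5, 5, 4, 5, 5, 5, 4, 5, 5, 5, 4, 5, 5, 5, 4]))) (.node 79 (.leaf 1 2 [5, 5, 5, 5, 5, 5, 5, 5, 5]) (.node 80 (.leaf 9 24 [4, 6, 6, 6, 4, 6, 6, 6, 4, 6, 6, 6, 4, 6, 6, 6, 4, 6, 6, 6, 4, 6, 6, 6, 4, 6, 6, 6, 4, 6, 6, 6, 4, 6, 6, 6]) (.leaf 8 22 [5, 5, 4, 5, 5, 5, 4, 5, 5, 5, 4, 5, 5, 5, 4, 5, 5, 5, 4, 5, 5, 5, 4, 5, 5, 5, 4, 5, 5, 5, 4, 5, 5, 5, 4, 5]))))) (.node 87 (.node 84 (.node 82 (.leaf 9 15 [6, 4, 6, 6, 6, 4, 6, 6, 6, 4, 6, 6, 6, 4, 6, 6, 6, 4, 6, 6, 6, 4, 6, 6, 6, 4, 6, 6, 6, 4, 6, 6, 6, 4, 6, 6]) (.node 83 (.leaf 7 29 [5, 4, 6, 4, 5, 4, 6, 4, 5, 4, 6, 4, 5, 4, 6, 4, 5,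 4, 6, 4, 5, 4, 6, 4, 5, 4, 6, 4, 5, 4, 6, 4]) (.leaf 8 30 [5, 5, 4, 5, 5, 5, 4, 5, 5, 5, 4, 5, 5, 5, 4, 5, 5, 5, 4, 5, 5, 5, 4, 5, 5, 5, 4, 5, 5, 5, 4, 5, 5, 5, 4, 5]))) (.node 85 (.leaf 7 24 [4, 5, 4, 6, 4, 5, 4, 6, 4, 5, 4, 6, 4, 5, 4, 6, 4, 5, 4, 6, 4, 5, 4, 6, 4, 5, 4, 6, 4, 5, 4, 6]) (.node 86 (.leaf 8 13 [5, 5, 5, 4, 5, 5, 5, 4, 5, 5, 5, 4, 5, 5, 5, 4, 5, 5, 5, 4, 5, 5, 5, 4, 5, 5, 5, 4, 5, 5, 5, 4, 5, 5, 5, 4]) (.leaf 9 31 [6, 4, 6, 6, 6, 4, 6, 6, 6, 4, 6, 6, 6, 4, 6, 6, 6, 4, 6, 6, 6, 4, 6, 6, 6, 4, 6, 6, 6, 4, 6, 6, 6, 4, 6, 6])))) (.node 90 (.node 88 (.leaf 8 15 [5, 4, 5, 5, 5, 4, 5, 5, 5, 4, 5, 5, 5, 4, 5, 5, 5, 4, 5, 5, 5, 4, 5, 5, 5, 4, 5, 5, 5, 4, 5, 5, 5, 4, 5, 5]) (.node 89 (.leaf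 8 16 [4, 5, 5, 5, 4, 5, 5, 5, 4, 5, 5, 5, 4, 5, 5, 5, 4, 5, 5, 5, 4, 5, 5, 5, 4, 5, 5, 5, 4, 5, 5, 5, 4, 5, 5, 5]) (.leaf 7 15 [6, 4, 5, 4, 6, 4, 5, 4, 6, 4, 5, 4, 6, 4, 5, 4, 6, 4, 5, 4, 6, 4, 5, 4, 6, 4, 5, 4, 6, 4, 5, 4]))) (.node 91 (.leaf 9 22 [6, 6, 4, 6, 6, 6, 4, 6, 6, 6, 4, 6, 6, 6, 4, 6, 6, 6, 4, 6, 6, 6, 4, 6, 6, 6, 4, 6, 6, 6, 4, 6, 6, 6, 4, 6]) (.node 92 (.leaf 8 35 [5, 4, 5, 5, 5, 4, 5, 5, 5, 4, 5, 5, 5, 4, 5, 5, 5, 4, 5, 5, 5, 4, 5, 5, 5, 4, 5, 5, 5, 4, 5, 5, 5, 4, 5, 5]) (.leaf 7 25 [5, 4, 6, 4, 5, 4, 6, 4, 5, 4, 6, 4, 5, 4, 6, 4, 5, 4, 6, 4, 5, 4, 6, 4, 5, 4, 6, 4, 5, 4, 6, 4]))))))))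

theorem b0 : allR (guardB 29 (blk fc sc rt.get Cfsg.Agent.Lib.Helper3.J3b.INV isH)) 5 0 = true := by decide +kernel
theorem c0 : allR (guardB 77 (cblk fc nc cc 7424 2448 79228162514264337593543950336 gens)) 5 0 = true := by decide +kernel
theorem c1 : allR (guardB 77 (cblk fc nc cc 7424 2448 79228162514264337593543950336 gens)) 5 32 = true := by decide +kernel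
theorem c2 : allR (guardB 77 (cblk fc nc cc 7424 2448 79228162514264337593543950336 gens)) 5 64 = true := by decide +kernel
theorem c3 : allR (guardB 77 (cblk fc nc cc 7424 2448 79228162514264337593543950336 gens)) 5 96 = true := by decide +kernel

theorem chkAll : ∀ j < 29, blk fc sc rt.get Cfsg.Agent.Lib.Helper3.J3b.INV isH j = true :=
  guardB_spec (D := 5) b0 (by norm_num)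

theorem clAll : ∀ jb < 77, cblk fc nc cc (256 * 29) 2448 79228162514264337593543950336 gens jb = true :=
  guardB_spec (D := 7) (allR_join (allR_join c0 c1 (by norm_num)) (allR_join c2 c3 (by norm_num)) (by norm_num)) (by norm_num)

theorem hid_0 : BR_0.all (wordId (ntOf Cfsg.Agent.Lib.Helper3.J3b.ntl) 15) = true := by decide +kernel
theorem hid_1 : BR_1.all (wordId (ntOf Cfsg.Agent.Lib.Helper3.J3b.ntl) 15) = true := by decide +kernel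
theorem hid : BR.all (wordId (ntOf Cfsg.Agent.Lib.Helper3.J3b.ntl) 15) = true := by
  simp only [BR, List.all_append, hid_0, hid_1, Bool.and_self]

theorem card_eq : Nat.card (lgrp (vL Cfsg.Agent.Lib.Helper3.J3b.ntl Cfsg.Agent.Lib.Helper3.J3b.deg) gens) = 2448 * Nat.card (lgrp (vL Cfsg.Agent.Lib.Helper3.J3b.ntl Cfsg.Agent.Lib.Helper3.J3b.deg) hl) :=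
  Cfsg.Agent.Lib.Helper3.J3b.setup.level gens hl dl BR (by decide +kernel) (by decide +kernel) hid (by decide +kernel)
    (by decide +kernel) rt (by decide +kernel) isH (fun l h => of_decide_eq_true h) fc sc nc cc 29 77 2448 79228162514264337593543950336
    (by norm_num) (by norm_num) (by decide +kernel) (by decide) chkAll clAll
    1 1 20 (by norm_num [Cfsg.Agent.Lib.Helper3.J3b.deg]) (by norm_num [Cfsg.Agent.Lib.Helper3.J3b.deg]) (by decide +kernel) (by decide +kernel)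

theorem ub {M : Type*} [Group M] (w : ℕ → M) (h0 : w 0 = 1) (hinv : ∀ l, w (invL Cfsg.Agent.Lib.Helper3.J3b.INV l) = (w l)⁻¹)
    (hBR : ∀ r ∈ BR, (r.map w).prod = 1)
    (hdlr : ∀ r ∈ dl.map (fun p => p.1 ++ [p.2]), (r.map w).prod = 1) (N : ℕ) (hN : Bd w hl N) :
    Bd w gens (2448 * N) :=
  level_bd w Cfsg.Agent.Lib.Helper3.J3b.INV h0 hinv gens hl dl BR (by decide +kernel) hdlr hBR (by decide +kernel) (by decide +kernel)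
    rt (by decide +kernel) isH (fun l h => of_decide_eq_true h) fc sc nc cc 29 77 2448 79228162514264337593543950336
    (by norm_num) (by norm_num) (by decide +kernel) (by decide) chkAll clAll N hN

end Cfsg.Agent.Lib.Helper3.J3b.L2
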