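import Cfsg.Agent.Lib.Helper3.J3b.MatC0
import Cfsg.Agent.Lib.Helper3.J3b.MatC1
import Cfsg.Agent.Lib.Helper3.J3b.MatC2
import Cfsg.Agent.Lib.Helper3.J3b.MatC3
import Cfsg.Agent.Lib.Helper3.J3b.MatC4
import Cfsg.Agent.Lib.Helper3.J3b.MatC5
import Cfsg.Agent.Lib.Helper3.J3b.MatC6
import Cfsg.Agent.Lib.Helper3.J3b.MatC7

set_option autoImplicit false
set_option maxRecDepth 100000

namespace Cfsg.Agent.Lib.Helper3.J3b

open Cfsg.Agent.Lib.Helper11 Cfsg.Agent.Lib.Helper3 Matrix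

set_option maxHeartbeats 0
set_option Elab.async false

theorem chk1 : genChkR [AL] pt (fun i => F4.dec (tb2 CS1 2 i)) MS1 0 20520 :=
  (genChkR_append _ _ _ _ 0 20007 513 (genChkR_append _ _ _ _ 0 19494 513 (genChkR_append _ _ _ _ 0 18981 513 (genChkR_append _ _ _ _ 0 18468 513 (genChkR_append _ _ _ _ 0 17955 513 (genChkR_append _ _ _ _ 0 17442 513 (genChkR_append _ _ _ _ 0 16929 513 (genChkR_append _ _ _ _ 0 16416 513 (genChkR_append _ _ _ _ 0 15903 513 (genChkR_append _ _ _ _ 0 15390 513 (genChkR_append _ _ _ _ 0 14877 513 (genChkR_append _ _ _ _ 0 14364 513 (genChkR_append _ _ _ _ 0 13851 513 (genChkR_append _ _ _ _ 0 13338 513 (genChkR_append _ _ _ _ 0 12825 513 (genChkR_append _ _ _ _ 0 12312 513 (genChkR_append _ _ _ _ 0 11799 513 (genChkR_append _ _ _ _ 0 11286 513 (genChkR_append _ _ _ _ 0 10773 513 (genChkR_append _ _ _ _ 0 10260 513 (genChkR_append _ _ _ _ 0 9747 513 (genChkR_append _ _ _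 _ 0 9234 513 (genChkR_append _ _ _ _ 0 8721 513 (genChkR_append _ _ _ _ 0 8208 513 (genChkR_append _ _ _ _ 0 7695 513 (genChkR_append _ _ _ _ 0 7182 513 (genChkR_append _ _ _ _ 0 6669 513 (genChkR_append _ _ _ _ 0 6156 513 (genChkR_append _ _ _ _ 0 5643 513 (genChkR_append _ _ _ _ 0 5130 513 (genChkR_append _ _ _ _ 0 4617 513 (genChkR_append _ _ _ _ 0 4104 513 (genChkR_append _ _ _ _ 0 3591 513 (genChkR_append _ _ _ _ 0 3078 513 (genChkR_append _ _ _ _ 0 2565 513 (genChkR_append _ _ _ _ 0 2052 513 (genChkR_append _ _ _ _ 0 1539 513 (genChkR_append _ _ _ _ 0 1026 513 (genChkR_append _ _ _ _ 0 513 513 chk1_0 chk1_1) chk1_2) chk1_3) chk1_4) chk1_5) chk1_6) chk1_7) chk1_8) chk1_9) chk1_10) chk1_11) chk1_12) chk1_13) chk1_14) chk1_15) chk1_16) chk1_17) chk1_18) chk1_19) chk1_20) chk1_21) chk1_22) chk1_23) chk1_24) chk1_25) chk1_26) chk1_27) chk1_28) chk1_29) chk1_30) chk1_31) chk1_32) chk1_33) chk1_34) chk1_35)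 chk1_36) chk1_37) chk1_38) chk1_39)

theorem chk2 : genChkR [BL] pt (fun i => F4.dec (tb2 CS2 2 i)) MS2 0 20520 :=
  (genChkR_append _ _ _ _ 0 20007 513 (genChkR_append _ _ _ _ 0 19494 513 (genChkR_append _ _ _ _ 0 18981 513 (genChkR_append _ _ _ _ 0 18468 513 (genChkR_append _ _ _ _ 0 17955 513 (genChkR_append _ _ _ _ 0 17442 513 (genChkR_append _ _ _ _ 0 16929 513 (genChkR_append _ _ _ _ 0 16416 513 (genChkR_append _ _ _ _ 0 15903 513 (genChkR_append _ _ _ _ 0 15390 513 (genChkR_append _ _ _ _ 0 14877 513 (genChkR_append _ _ _ _ 0 14364 513 (genChkR_append _ _ _ _ 0 13851 513 (genChkR_append _ _ _ _ 0 13338 513 (genChkR_append _ _ _ _ 0 12825 513 (genChkR_append _ _ _ _ 0 12312 513 (genChkR_append _ _ _ _ 0 11799 513 (genChkR_append _ _ _ _ 0 11286 513 (genChkR_append _ _ _ _ 0 10773 513 (genChkR_append _ _ _ _ 0 10260 513 (genChkR_append _ _ _ _ 0 9747 513 (genChkR_append _ _ _ _ 0 9234 513 (genChkR_append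 _ _ _ _ 0 8721 513 (genChkR_append _ _ _ _ 0 8208 513 (genChkR_append _ _ _ _ 0 7695 513 (genChkR_append _ _ _ _ 0 7182 513 (genChkR_append _ _ _ _ 0 6669 513 (genChkR_append _ _ _ _ 0 6156 513 (genChkR_append _ _ _ _ 0 5643 513 (genChkR_append _ _ _ _ 0 5130 513 (genChkR_append _ _ _ _ 0 4617 513 (genChkR_append _ _ _ _ 0 4104 513 (genChkR_append _ _ _ _ 0 3591 513 (genChkR_append _ _ _ _ 0 3078 513 (genChkR_append _ _ _ _ 0 2565 513 (genChkR_append _ _ _ _ 0 2052 513 (genChkR_append _ _ _ _ 0 1539 513 (genChkR_append _ _ _ _ 0 1026 513 (genChkR_append _ _ _ _ 0 513 513 chk2_0 chk2_1) chk2_2) chk2_3) chk2_4) chk2_5) chk2_6) chk2_7) chk2_8) chk2_9) chk2_10) chk2_11) chk2_12) chk2_13) chk2_14) chk2_15) chk2_16) chk2_17) chk2_18) chk2_19) chk2_20) chk2_21) chk2_22) chk2_23) chk2_24) chk2_25) chk2_26) chk2_27) chk2_28) chk2_29) chk2_30) chk2_31) chk2_32) chk2_33) chk2_34) chk2_35) chk2_36) chk2_37) chk2_38)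 chk2_39)

end Cfsg.Agent.Lib.Helper3.J3b
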